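import Mathlib

set_option autoImplicit false

namespace Cfsg.Agent.Lib.helper17

variable {G : Type*} [Group G]

/-- the conjugate subgroup `g K g⁻¹` -/
abbrev cj (g : G) (K : Subgroup G) : Subgroup G := K.map (MulAut.conj g).toMonoidHom

theorem mem_cj {g x : G} {K : Subgroup G} : x ∈ cj g K ↔ g⁻¹ * x * g ∈ K := by
  constructor
  · rintro ⟨y, hy, rfl⟩
    simpa [mul_assoc] using hy
  · intro h
    exact ⟨g⁻¹ * x * g, h, by simp [mul_assoc]⟩

theorem conj_mem_cj {g x : G} {K : Subgroup G} (hx : x ∈ K) : g * x * g⁻¹ ∈ cj g K :=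
  ⟨x, hx, by simp⟩

theorem conj_mem_cj_iff {g x : G} {K : Subgroup G} : g * x * g⁻¹ ∈ cj g K ↔ x ∈ K := by
  rw [mem_cj]; simp [mul_assoc]

theorem cj_mul (g h : G) (K : Subgroup G) : cj (g * h) K = cj g (cj h K) := by
  ext x
  simp only [mem_cj]
  simp [mul_assoc]

theorem cj_one (K : Subgroup G) : cj 1 K = K := by
  ext x; simp [mem_cj]

theorem cj_inv_cj (g : G) (K : Subgroup G) : cj g⁻¹ (cj g K) = K := by
  rw [← cj_mul]; simp [cj_one]

theorem cj_cj_inv (g : G) (K : Subgroup G) : cj g (cj g⁻¹ K) = K := by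
  rw [← cj_mul]; simp [cj_one]

theorem cj_mono {g : G} {K L : Subgroup G} (h : K ≤ L) : cj g K ≤ cj g L :=
  Subgroup.map_mono h

theorem cj_le_iff {g : G} {K L : Subgroup G} : cj g K ≤ L ↔ K ≤ cj g⁻¹ L := by
  constructor
  · intro h
    have := cj_mono (g := g⁻¹) h
    rwa [cj_inv_cj] at this
  · intro h
    have := cj_mono (g := g) h
    rwa [cj_cj_inv] at this

theorem cj_eq_self_of_mem {g : G} {K : Subgroup G} (hg : g ∈ K) : cj g K = K := by
  ext x
  rw [mem_cj]
  constructor
  · intro h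
    have := K.mul_mem (K.mul_mem hg h) (K.inv_mem hg)
    simpa [mul_assoc] using this
  · intro h
    exact K.mul_mem (K.mul_mem (K.inv_mem hg) h) hg

theorem cj_eq_self_iff {g : G} {K : Subgroup G} :
    cj g K = K ↔ g ∈ Subgroup.normalizer (K : Set G) := by
  rw [Subgroup.mem_normalizer_iff]
  constructor
  · intro h x
    rw [← conj_mem_cj_iff (g := g) (K := K), h]
  · intro h
    ext x
    rw [mem_cj, h (g⁻¹ * x * g)]
    simp [mul_assoc]

theorem card_cj (g : G) (K : Subgroup G) : Nat.card (cj g K) = Nat.card K :=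
  Subgroup.card_map_of_injective (MulAut.conj g).injective

theorem cj_eq_bot_iff {g : G} {K : Subgroup G} : cj g K = ⊥ ↔ K = ⊥ :=
  (Subgroup.map_eq_bot_iff_of_injective K (MulAut.conj g).injective)

theorem isPGroup_cj {p : ℕ} {g : G} {K : Subgroup G} (h : IsPGroup p K) : IsPGroup p (cj g K) :=
  h.map _

theorem normalizer_cj (g : G) (K : Subgroup G) :
    Subgroup.normalizer ((cj g K : Subgroup G) : Set G) = cj g (Subgroup.normalizer (K : Set G)) := by
  ext x
  rw [mem_cj, ← cj_eq_self_iff, ← cj_eq_self_iff, cj_mul, cj_mul]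
  constructor
  · intro h
    rw [h, cj_inv_cj]
  · intro h
    have := congrArg (cj g) h
    rwa [cj_cj_inv] at this

theorem centralizer_conj (g x : G) :
    Subgroup.centralizer ({g * x * g⁻¹} : Set G) = cj g (Subgroup.centralizer ({x} : Set G)) := by
  ext y
  rw [mem_cj, Subgroup.mem_centralizer_iff, Subgroup.mem_centralizer_iff]
  simp only [Set.mem_singleton_iff, forall_eq]
  constructor
  · intro h
    calc x * (g⁻¹ * y * g) = g⁻¹ * ((g * x * g⁻¹) * y) * g := by group
      _ = g⁻¹ * (y * (g * x * g⁻¹)) * g := by rw [h]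
      _ = g⁻¹ * y * g * x := by group
  · intro h
    calc g * x * g⁻¹ * y = g * (x * (g⁻¹ * y * g)) * g⁻¹ := by group
      _ = g * ((g⁻¹ * y * g) * x) * g⁻¹ := by rw [h]
      _ = y * (g * x * g⁻¹) := by group

theorem centralizer_cj (g : G) (K : Subgroup G) :
    Subgroup.centralizer ((cj g K : Subgroup G) : Set G) = cj g (Subgroup.centralizer (K : Set G)) := by
  ext y
  rw [mem_cj, Subgroup.mem_centralizer_iff, Subgroup.mem_centralizer_iff]
  constructor
  · intro h k hk
    have := h (g * k * g⁻¹) (conj_mem_cj hk)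
    calc k * (g⁻¹ * y * g) = g⁻¹ * ((g * k * g⁻¹) * y) * g := by group
      _ = g⁻¹ * (y * (g * k * g⁻¹)) * g := by rw [this]
      _ = g⁻¹ * y * g * k := by group
  · intro h k hk
    have hk' : g⁻¹ * k * g ∈ K := mem_cj.mp hk
    have := h _ hk'
    calc k * y = g * ((g⁻¹ * k * g) * (g⁻¹ * y * g)) * g⁻¹ := by group
      _ = g * ((g⁻¹ * y * g) * (g⁻¹ * k * g)) * g⁻¹ := by rw [this]
      _ = y * k := by group

theorem orderOf_conj' (g x : G) : orderOf (g * x * g⁻¹) = orderOf x := by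
  have : g * x * g⁻¹ = (MulAut.conj g) x := by simp
  rw [this, MulEquiv.orderOf_eq]

end Cfsg.Agent.Lib.helper17
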