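import Mathlib
import Cfsg.Prelude.Def_EvenType
import Cfsg.Agent.Lib.helper17.Conj

set_option autoImplicit false

namespace Cfsg.Agent.Lib.helper17

variable {G : Type*} [Group G]

/-- a nontrivial finite `p`-subgroup contains an element of order `p` -/
theorem exists_orderOf_eq_prime_of_ne_bot [Finite G] {p : ℕ} [Fact p.Prime] {Q : Subgroup G}
    (hQ : IsPGroup p Q) (hne : Q ≠ ⊥) : ∃ x ∈ Q, orderOf x = p := by
  have hcard : p ∣ Nat.card Q := by
    rcases hQ.card_eq_or_dvd with h | h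
    · exact absurd (Subgroup.card_eq_one.mp h) hne
    · exact h
  obtain ⟨x, hx⟩ := exists_prime_orderOf_dvd_card' p hcard
  exact ⟨x, x.2, by rw [← hx, Subgroup.orderOf_coe]⟩

/-- a finite subgroup of order divisible by `p` contains an element of order `p` -/
theorem exists_orderOf_eq_prime_of_dvd_card [Finite G] {p : ℕ} [Fact p.Prime] {Q : Subgroup G}
    (hcard : p ∣ Nat.card Q) : ∃ x ∈ Q, orderOf x = p := by
  obtain ⟨x, hx⟩ := exists_prime_orderOf_dvd_card' p hcard
  exact ⟨x, x.2, by rw [← hx, Subgroup.orderOf_coe]⟩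

theorem not_pRankLE_zero_iff [Finite G] {p : ℕ} [Fact p.Prime] {Q : Subgroup G} (hQ : IsPGroup p Q) :
    ¬ Cfsg.PRankLE p 0 Q ↔ Q ≠ ⊥ := by
  have hp : p.Prime := Fact.out
  constructor
  · intro h hbot
    apply h
    intro A _ _
    subst hbot
    have : Subsingleton (⊥ : Subgroup G) := inferInstance
    have : Nat.card A = 1 := by
      rw [Nat.card_eq_one_iff_unique]
      exact ⟨⟨fun a b => Subtype.ext (Subsingleton.elim _ _)⟩, ⟨1⟩⟩
    rw [this, pow_zero]
  · intro hne h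
    obtain ⟨x, hxQ, hx⟩ := exists_orderOf_eq_prime_of_ne_bot hQ hne
    let y : Q := ⟨x, hxQ⟩
    have hy : orderOf y = p := by rw [← hx]; exact Subgroup.orderOf_mk x hxQ
    have h1 := h (Subgroup.zpowers y) inferInstance (by
      rintro a ⟨k, rfl⟩
      rw [← zpow_natCast, ← zpow_mul, mul_comm, zpow_mul, zpow_natCast, ← hy, pow_orderOf_eq_one, one_zpow])
    rw [Nat.card_zpowers, hy, pow_zero] at h1
    exact absurd h1 (not_le.mpr hp.one_lt)

/-- unfolding of `Γ_{P,1}(G) ≤ Y` for a `p`-group `P` -/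
theorem kGeneratedCore_one_le_iff [Finite G] {p : ℕ} [Fact p.Prime] {P Y : Subgroup G} (hP : IsPGroup p P) :
    Cfsg.kGeneratedCore p 1 P ≤ Y ↔
      ∀ Q : Subgroup G, Q ≤ P → Q ≠ ⊥ → Subgroup.normalizer (Q : Set G) ≤ Y := by
  unfold Cfsg.kGeneratedCore
  rw [iSup_le_iff]
  constructor
  · intro h Q hQP hQ
    exact h ⟨Q, hQP, (not_pRankLE_zero_iff (hP.to_le hQP)).mpr hQ⟩
  · rintro h ⟨Q, hQP, hQ⟩
    exact h Q hQP ((not_pRankLE_zero_iff (hP.to_le hQP)).mp hQ)

/-- a `p`-subgroup of `Y` is `Y`-conjugate into a given Sylow `p`-subgroup of `Y` -/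
theorem exists_conj_le_sylow_of_le [Finite G] {p : ℕ} [Fact p.Prime] (Y : Subgroup G) (S : Sylow p Y)
    (A : Subgroup G) (hA : IsPGroup p A) (hAY : A ≤ Y) :
    ∃ m ∈ Y, cj m A ≤ (S : Subgroup Y).map Y.subtype := by
  have hA' : IsPGroup p (A.subgroupOf Y) := hA.comap_subtype
  obtain ⟨Q, hQ⟩ := hA'.exists_le_sylow
  obtain ⟨m, hm⟩ := MulAction.exists_smul_eq Y Q S
  refine ⟨m, m.2, ?_⟩
  intro x hx
  rw [mem_cj] at hx
  have hxY : x ∈ Y := by
    have h1 : (m : G)⁻¹ * x * m ∈ Y := hAY hx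
    have h2 := Y.mul_mem (Y.mul_mem m.2 h1) (Y.inv_mem m.2)
    simpa [mul_assoc] using h2
  refine ⟨⟨x, hxY⟩, ?_, rfl⟩
  rw [← hm]
  show (⟨x, hxY⟩ : Y) ∈ ((m • Q : Sylow p Y) : Subgroup Y)
  rw [Sylow.coe_subgroup_smul, Subgroup.mem_pointwise_smul_iff_inv_smul_mem]
  apply hQ
  show ((MulAut.conj m)⁻¹ • (⟨x, hxY⟩ : Y) : Y).1 ∈ A
  simpa [MulAut.smul_def, mul_assoc] using hx

/-- element version -/
theorem exists_conj_mem_sylow_of_mem [Finite G] {p : ℕ} [Fact p.Prime] (Y : Subgroup G) (S : Sylow p Y)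
    (x : G) (hxY : x ∈ Y) (hx : ∃ k : ℕ, orderOf x = p ^ k) :
    ∃ m ∈ Y, m * x * m⁻¹ ∈ (S : Subgroup Y).map Y.subtype := by
  have hA : IsPGroup p (Subgroup.zpowers x) := by
    obtain ⟨k, hk⟩ := hx
    apply IsPGroup.of_card (n := k)
    rw [Nat.card_zpowers, hk]
  obtain ⟨m, hm, hle⟩ := exists_conj_le_sylow_of_le Y S (Subgroup.zpowers x) hA
    (by rw [Subgroup.zpowers_le]; exact hxY)
  exact ⟨m, hm, hle (conj_mem_cj (Subgroup.mem_zpowers x))⟩


theorem centralizer_le_normalizer_zpowers (x : G) :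
    Subgroup.centralizer ({x} : Set G) ≤ Subgroup.normalizer ((Subgroup.zpowers x : Subgroup G) : Set G) := by
  intro c hc
  rw [Subgroup.mem_normalizer_iff]
  have hcx : c * x * c⁻¹ = x := by
    have := (Subgroup.mem_centralizer_iff.mp hc) x rfl
    rw [← this]; group
  intro y
  constructor
  · rintro ⟨k, rfl⟩
    refine ⟨k, ?_⟩
    rw [← conj_zpow, hcx]
  · intro hy
    obtain ⟨k, hk⟩ := hy
    refine ⟨k, ?_⟩
    have : y = c⁻¹ * (c * y * c⁻¹) * c := by group
    rw [this, ← hk]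
    have hcx' : c⁻¹ * x * c = x := by
      calc c⁻¹ * x * c = c⁻¹ * (c * x * c⁻¹) * c := by rw [hcx]
        _ = x := by group
    calc x ^ k = (c⁻¹ * x * c) ^ k := by rw [hcx']
      _ = c⁻¹ * x ^ k * c := by
        have := conj_zpow (a := c⁻¹) (b := x) (i := k)
        simpa using this

/-- the fusion form of strong `p`-embedding -/
def SPEFusion (p : ℕ) (Y : Subgroup G) : Prop :=
  ∀ x ∈ Y, orderOf x = p → ∀ g : G, g * x * g⁻¹ ∈ Y → g ∈ Y

/-- the normalizer form of strong `p`-embedding -/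
def SPENormalizers (p : ℕ) (Y : Subgroup G) : Prop :=
  ∀ A : Subgroup G, A ≤ Y → IsPGroup p A → A ≠ ⊥ → Subgroup.normalizer (A : Set G) ≤ Y

theorem SPEFusion.normalizers [Finite G] {p : ℕ} [Fact p.Prime] {Y : Subgroup G} (h : SPEFusion p Y) :
    SPENormalizers p Y := by
  intro A hAY hA hne g hg
  obtain ⟨x, hxA, hx⟩ := exists_orderOf_eq_prime_of_ne_bot hA hne
  exact h x (hAY hxA) hx g (hAY ((Subgroup.mem_normalizer_iff.mp hg x).mp hxA))

theorem normalizers_of_spe [Finite G] {p : ℕ} [Fact p.Prime] {Y : Subgroup G}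
    (h : Cfsg.IsStronglyPEmbedded p Y) : p ∣ Nat.card Y ∧ SPENormalizers p Y := by
  obtain ⟨hdiv, _, P, hP⟩ := h
  rw [kGeneratedCore_one_le_iff P.isPGroup'] at hP
  have hPne : (P : Subgroup G) ≠ ⊥ := P.ne_bot_of_dvd_card hdiv
  have hPY : (P : Subgroup G) ≤ Y := Subgroup.le_normalizer.trans (hP P le_rfl hPne)
  refine ⟨?_, ?_⟩
  · exact (P.dvd_card_of_dvd_card hdiv).trans (Subgroup.card_dvd_of_le hPY)
  · intro A hAY hA hAne
    obtain ⟨m, hm, hle⟩ := exists_conj_le_sylow_of_le Y (P.subtype hPY) A hA hAY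
    have : ((P.subtype hPY : Sylow p Y) : Subgroup Y).map Y.subtype = P := by
      rw [Sylow.coe_subtype, Subgroup.map_subgroupOf_eq_of_le hPY]
    rw [this] at hle
    have h1 := hP (cj m A) hle (by rwa [Ne, cj_eq_bot_iff])
    rw [normalizer_cj] at h1
    have := cj_le_iff.mp h1
    rwa [cj_eq_self_of_mem (Y.inv_mem hm)] at this

/-- the core argument: centralizers of elements of order `p` of a Sylow `p`-subgroup `S` of `Y` and the normalizer of `S`
lie in `Y`; then `Y` controls fusion of its elements of order `p` in the strong sense. -/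
theorem fusion_of_centralizers [Finite G] {p : ℕ} [Fact p.Prime] {Y : Subgroup G} (S : Sylow p Y)
    (hC : ∀ x ∈ (S : Subgroup Y).map Y.subtype, orderOf x = p → Subgroup.centralizer ({x} : Set G) ≤ Y)
    (hN : Subgroup.normalizer (((S : Subgroup Y).map Y.subtype : Subgroup G) : Set G) ≤ Y) :
    SPEFusion p Y := by
  set SG : Subgroup G := (S : Subgroup Y).map Y.subtype with hSG
  have hSGY : SG ≤ Y := Subgroup.map_subtype_le _
  have hSGp : IsPGroup p SG := S.isPGroup'.map _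
  by_cases hbot : SG = ⊥
  · intro x _ _ g _
    apply hN
    rw [hbot, Subgroup.mem_normalizer_iff]
    intro h
    simp [Subgroup.mem_bot]
  -- Step A
  have hCY : ∀ x ∈ Y, orderOf x = p → Subgroup.centralizer ({x} : Set G) ≤ Y := by
    intro x hxY hx
    obtain ⟨m, hm, hmem⟩ := exists_conj_mem_sylow_of_mem Y S x hxY ⟨1, by simp [hx]⟩
    have h1 := hC _ hmem (by rw [orderOf_conj', hx])
    rw [centralizer_conj] at h1
    have := cj_le_iff.mp h1
    rwa [cj_eq_self_of_mem (Y.inv_mem hm)] at this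
  -- a central element of order p
  obtain ⟨z, hzS, hz, hzc⟩ : ∃ z ∈ SG, orderOf z = p ∧ ∀ s ∈ SG, s * z = z * s := by
    haveI : Nontrivial SG := (Subgroup.nontrivial_iff_ne_bot SG).mpr hbot
    haveI : Nontrivial (Subgroup.center SG) := hSGp.center_nontrivial
    have hcne : Subgroup.center SG ≠ ⊥ := (Subgroup.nontrivial_iff_ne_bot _).mp inferInstance
    have hcp : IsPGroup p (Subgroup.center SG) := hSGp.to_subgroup _
    obtain ⟨z', hz'c, hz'⟩ := exists_orderOf_eq_prime_of_ne_bot hcp hcne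
    refine ⟨(z' : G), z'.2, by rw [Subgroup.orderOf_coe, hz'], ?_⟩
    intro s hs
    have := (Subgroup.mem_center_iff.mp hz'c) ⟨s, hs⟩
    exact congrArg Subtype.val this
  -- Step B
  have hB : ∀ g : G, g * z * g⁻¹ ∈ Y → g ∈ Y := by
    intro g hg
    have h1 : Subgroup.centralizer ({g * z * g⁻¹} : Set G) ≤ Y :=
      hCY _ hg (by rw [orderOf_conj', hz])
    have h2 : cj g SG ≤ Subgroup.centralizer ({g * z * g⁻¹} : Set G) := by
      rw [centralizer_conj]
      apply cj_mono
      intro s hs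
      rw [Subgroup.mem_centralizer_iff]
      intro y hy
      rw [Set.mem_singleton_iff] at hy
      subst hy
      exact (hzc s hs).symm
    have h3 : cj g SG ≤ Y := h2.trans h1
    obtain ⟨m, hm, hle⟩ := exists_conj_le_sylow_of_le Y S (cj g SG) (isPGroup_cj hSGp) h3
    rw [← cj_mul] at hle
    have heq : cj (m * g) SG = SG := by
      apply Subgroup.eq_of_le_of_card_ge hle
      rw [card_cj]
    have h4 : m * g ∈ Y := hN (cj_eq_self_iff.mp heq)
    have : g = m⁻¹ * (m * g) := by group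
    rw [this]
    exact Y.mul_mem (Y.inv_mem hm) h4
  -- Step C
  intro x hxY hx g hg
  obtain ⟨m, hm, hmem⟩ := exists_conj_mem_sylow_of_mem Y S x hxY ⟨1, by simp [hx]⟩
  have hzc' : z ∈ Subgroup.centralizer ({m * x * m⁻¹} : Set G) := by
    rw [Subgroup.mem_centralizer_iff]
    intro y hy
    rw [Set.mem_singleton_iff] at hy
    subst hy
    exact hzc _ hmem
  have h1 : (g * m⁻¹) * z * (g * m⁻¹)⁻¹ ∈
      Subgroup.centralizer ({(g * m⁻¹) * (m * x * m⁻¹) * (g * m⁻¹)⁻¹} : Set G) := by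
    rw [centralizer_conj]
    exact conj_mem_cj hzc'
  have h2 : (g * m⁻¹) * (m * x * m⁻¹) * (g * m⁻¹)⁻¹ = g * x * g⁻¹ := by group
  rw [h2] at h1
  have h3 := hCY _ hg (by rw [orderOf_conj', hx]) h1
  have h4 := hB _ h3
  have : g = (g * m⁻¹) * m := by group
  rw [this]
  exact Y.mul_mem h4 hm

theorem SPENormalizers.fusion [Finite G] {p : ℕ} [Fact p.Prime] {Y : Subgroup G}
    (h : SPENormalizers p Y) : SPEFusion p Y := by
  by_cases hdiv : p ∣ Nat.card Y
  · have S : Sylow p Y := default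
    have hSGY : (S : Subgroup Y).map Y.subtype ≤ Y := Subgroup.map_subtype_le _
    have hSGp : IsPGroup p ((S : Subgroup Y).map Y.subtype) := S.isPGroup'.map _
    have hSne : (S : Subgroup Y).map Y.subtype ≠ ⊥ := by
      rw [Ne, Subgroup.map_eq_bot_iff_of_injective _ Y.subtype_injective]
      exact S.ne_bot_of_dvd_card hdiv
    apply fusion_of_centralizers S
    · intro x hx hxp
      have hzne : Subgroup.zpowers x ≠ ⊥ := by
        rw [Ne, Subgroup.zpowers_eq_bot]
        rintro rfl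
        rw [orderOf_one] at hxp
        exact (Fact.out : p.Prime).one_lt.ne hxp
      have hzp : IsPGroup p (Subgroup.zpowers x) := by
        apply IsPGroup.of_card (n := 1)
        rw [Nat.card_zpowers, hxp, pow_one]
      have hzY : Subgroup.zpowers x ≤ Y := by
        rw [Subgroup.zpowers_le]; exact hSGY hx
      exact le_trans (centralizer_le_normalizer_zpowers x) (h _ hzY hzp hzne)
    · exact h _ hSGY hSGp hSne
  · intro x hxY hx
    exfalso
    apply hdiv
    have := orderOf_dvd_natCard (⟨x, hxY⟩ : Y)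
    rw [Subgroup.orderOf_mk, hx] at this
    exact this

/-- from the normalizer form back to the definition -/
theorem spe_of_normalizers [Finite G] {p : ℕ} [Fact p.Prime] {Y : Subgroup G}
    (hdiv : p ∣ Nat.card Y) (hne : Y ≠ ⊤) (h : SPENormalizers p Y) :
    Cfsg.IsStronglyPEmbedded p Y := by
  have S : Sylow p Y := default
  set SG : Subgroup G := (S : Subgroup Y).map Y.subtype with hSG
  have hSGY : SG ≤ Y := Subgroup.map_subtype_le _
  have hSGp : IsPGroup p SG := S.isPGroup'.map _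
  have hSne : SG ≠ ⊥ := by
    rw [Ne, Subgroup.map_eq_bot_iff_of_injective _ Y.subtype_injective]
    exact S.ne_bot_of_dvd_card hdiv
  have hN : Subgroup.normalizer (SG : Set G) ≤ Y := h _ hSGY hSGp hSne
  -- SG is a Sylow subgroup of G
  have hidx : ¬ p ∣ SG.index := by
    obtain ⟨n, hn⟩ := IsPGroup.exists_card_eq hSGp
    have hmod := Sylow.card_quotient_normalizer_modEq_card_quotient hn
    rw [← Subgroup.index_eq_card, ← Subgroup.index_eq_card] at hmod
    have h1 : (Subgroup.comap (Subgroup.normalizer (SG : Set G)).subtype SG).index =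
        SG.relIndex (Subgroup.normalizer (SG : Set G)) := rfl
    rw [h1] at hmod
    intro hdvd
    have h2 : p ∣ SG.relIndex (Subgroup.normalizer (SG : Set G)) := (hmod.dvd_iff dvd_rfl).mpr hdvd
    have h3 : SG.relIndex (Subgroup.normalizer (SG : Set G)) ∣ SG.relIndex Y := by
      rw [← Subgroup.relIndex_mul_relIndex SG _ Y Subgroup.le_normalizer hN]
      exact dvd_mul_right _ _
    have h4 : SG.relIndex Y = (S : Subgroup Y).index := by
      show (SG.subgroupOf Y).index = _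
      congr 1
      rw [hSG]
      exact Subgroup.comap_map_eq_self_of_injective Y.subtype_injective _
    rw [h4] at h3
    exact S.not_dvd_index (h2.trans h3)
  refine ⟨hdiv.trans (Subgroup.card_subgroup_dvd_card Y), hne, hSGp.toSylow hidx, ?_⟩
  rw [IsPGroup.toSylow_coe, kGeneratedCore_one_le_iff hSGp]
  intro Q hQ hQne
  exact h Q (hQ.trans hSGY) (hSGp.to_le hQ) hQne

theorem spe_iff_normalizers [Finite G] {p : ℕ} [Fact p.Prime] {Y : Subgroup G} :
    Cfsg.IsStronglyPEmbedded p Y ↔ p ∣ Nat.card Y ∧ Y ≠ ⊤ ∧ SPENormalizers p Y :=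
  ⟨fun h => ⟨(normalizers_of_spe h).1, h.2.1, (normalizers_of_spe h).2⟩,
    fun h => spe_of_normalizers h.1 h.2.1 h.2.2⟩

theorem spe_iff_fusion [Finite G] {p : ℕ} [Fact p.Prime] {Y : Subgroup G} :
    Cfsg.IsStronglyPEmbedded p Y ↔ p ∣ Nat.card Y ∧ Y ≠ ⊤ ∧ SPEFusion p Y := by
  rw [spe_iff_normalizers]
  exact ⟨fun h => ⟨h.1, h.2.1, h.2.2.fusion⟩, fun h => ⟨h.1, h.2.1, h.2.2.normalizers⟩⟩

end Cfsg.Agent.Lib.helper17
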