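import Mathlib
import Cfsg.Prelude.Def_EvenType
import Cfsg.Agent.Lib.helper17.SPE

set_option autoImplicit false

namespace Cfsg.Agent.Lib.helper17

variable {G : Type*} [Group G]

/-- a nontrivial finite `p`-subgroup has a central element of order `p` -/
theorem exists_central_orderOf_eq_prime [Finite G] {p : ℕ} [Fact p.Prime] {P : Subgroup G}
    (hP : IsPGroup p P) (hne : P ≠ ⊥) : ∃ z ∈ P, orderOf z = p ∧ ∀ s ∈ P, s * z = z * s := by
  haveI : Nontrivial P := (Subgroup.nontrivial_iff_ne_bot P).mpr hne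
  haveI : Nontrivial (Subgroup.center P) := hP.center_nontrivial
  have hcne : Subgroup.center P ≠ ⊥ := (Subgroup.nontrivial_iff_ne_bot _).mp inferInstance
  have hcp : IsPGroup p (Subgroup.center P) := hP.to_subgroup _
  obtain ⟨z', hz'c, hz'⟩ := exists_orderOf_eq_prime_of_ne_bot hcp hcne
  refine ⟨(z' : G), z'.2, by rw [Subgroup.orderOf_coe, hz'], ?_⟩
  intro s hs
  have := (Subgroup.mem_center_iff.mp hz'c) ⟨s, hs⟩
  exact congrArg Subtype.val this

/-- the centralizer form of strong `p`-embedding -/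
def SPECentralizers (p : ℕ) (Y : Subgroup G) : Prop :=
  ∀ a ∈ Y, orderOf a = p → Subgroup.centralizer ({a} : Set G) ≤ Y

theorem SPENormalizers.centralizers {p : ℕ} [Fact p.Prime] {Y : Subgroup G}
    (h : SPENormalizers p Y) : SPECentralizers p Y := by
  intro x hxY hxp
  have hzne : Subgroup.zpowers x ≠ ⊥ := by
    rw [Ne, Subgroup.zpowers_eq_bot]
    rintro rfl
    rw [orderOf_one] at hxp
    exact (Fact.out : p.Prime).one_lt.ne hxp
  have hzp : IsPGroup p (Subgroup.zpowers x) := by
    apply IsPGroup.of_card (n := 1)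
    rw [Nat.card_zpowers, hxp, pow_one]
  have hzY : Subgroup.zpowers x ≤ Y := by
    rw [Subgroup.zpowers_le]; exact hxY
  exact le_trans (centralizer_le_normalizer_zpowers x) (h _ hzY hzp hzne)

/-- commuting chain: in a `p`-subgroup `P` meeting `Y` in an element of order `p`, all elements of order `p` lie in `Y` -/
theorem SPECentralizers.mem_of_mem_pgroup [Finite G] {p : ℕ} [Fact p.Prime] {Y : Subgroup G}
    (hC : SPECentralizers p Y) (P : Subgroup G) (hP : IsPGroup p P) {x : G} (hxP : x ∈ P) (hxY : x ∈ Y)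
    (hx : orderOf x = p) {w : G} (hwP : w ∈ P) (hw : orderOf w = p) : w ∈ Y := by
  have hne : P ≠ ⊥ := by
    intro h
    rw [h, Subgroup.mem_bot] at hxP
    rw [hxP, orderOf_one] at hx
    exact (Fact.out : p.Prime).one_lt.ne hx
  obtain ⟨z, hzP, hz, hzc⟩ := exists_central_orderOf_eq_prime hP hne
  have hzY : z ∈ Y := by
    apply hC x hxY hx
    rw [Subgroup.mem_centralizer_iff]
    intro y hy
    rw [Set.mem_singleton_iff] at hy
    subst hy
    exact hzc _ hxP
  apply hC z hzY hz
  rw [Subgroup.mem_centralizer_iff]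
  intro y hy
  rw [Set.mem_singleton_iff] at hy
  subst hy
  exact (hzc _ hwP).symm

/-- all `p`-elements version: in a `p`-subgroup `P` meeting `Y` in an element of order `p`, `P ≤ Y` -/
theorem SPECentralizers.le_of_mem_pgroup [Finite G] {p : ℕ} [Fact p.Prime] {Y : Subgroup G}
    (hC : SPECentralizers p Y) (P : Subgroup G) (hP : IsPGroup p P) {x : G} (hxP : x ∈ P) (hxY : x ∈ Y)
    (hx : orderOf x = p) : P ≤ Y := by
  have hne : P ≠ ⊥ := by
    intro h
    rw [h, Subgroup.mem_bot] at hxP
    rw [hxP, orderOf_one] at hx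
    exact (Fact.out : p.Prime).one_lt.ne hx
  obtain ⟨z, hzP, hz, hzc⟩ := exists_central_orderOf_eq_prime hP hne
  have hzY : z ∈ Y := by
    apply hC x hxY hx
    rw [Subgroup.mem_centralizer_iff]
    intro y hy
    rw [Set.mem_singleton_iff] at hy
    subst hy
    exact hzc _ hxP
  intro w hwP
  apply hC z hzY hz
  rw [Subgroup.mem_centralizer_iff]
  intro y hy
  rw [Set.mem_singleton_iff] at hy
  subst hy
  exact (hzc _ hwP).symm

end Cfsg.Agent.Lib.helper17
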