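import Mathlib
import Cfsg.Prelude.Def_CaseTheorems

set_option autoImplicit false

namespace Cfsg.Agent.Lib.helper17

variable {G : Type*} [Group G]

theorem pCore_isPGroup (p : ℕ) (G : Type*) [Group G] : IsPGroup p (Cfsg.pCore p G) := by
  unfold Cfsg.pCore
  exact Sylow.sSup_of_normal _ (fun H hH => hH.2) (fun H hH => hH.1)

theorem le_pCore {p : ℕ} {N : Subgroup G} (hN : N.Normal) (hp : IsPGroup p N) : N ≤ Cfsg.pCore p G := by
  unfold Cfsg.pCore
  exact le_sSup ⟨hN, hp⟩

theorem le_pPrimeCore {p : ℕ} {N : Subgroup G} (hN : N.Normal) (hp : (Nat.card N).Coprime p) :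
    N ≤ Cfsg.pPrimeCore p G := by
  unfold Cfsg.pPrimeCore
  exact le_sSup ⟨hN, hp⟩

theorem card_sup_dvd_of_normal [Finite G] (H K : Subgroup G) [K.Normal] :
    Nat.card (H ⊔ K : Subgroup G) ∣ Nat.card H * Nat.card K := by
  have h1 : (K.subgroupOf (H ⊔ K)).index * Nat.card (K.subgroupOf (H ⊔ K)) = Nat.card (H ⊔ K : Subgroup G) :=
    Subgroup.index_mul_card _
  have h2 : Nat.card (K.subgroupOf (H ⊔ K)) = Nat.card K :=
    Nat.card_congr (Subgroup.subgroupOfEquivOfLe (le_sup_right : K ≤ H ⊔ K)).toEquiv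
  have h3 : (K.subgroupOf (H ⊔ K)).index = K.relIndex H := Subgroup.relIndex_sup_right H K
  rw [← h1, h2, h3]
  exact Nat.mul_dvd_mul_right (Subgroup.relIndex_dvd_card K H) _

theorem pPrimeCore_coprime [Finite G] (p : ℕ) : (Nat.card (Cfsg.pPrimeCore p G)).Coprime p := by
  unfold Cfsg.pPrimeCore
  set 𝒮 : Set (Subgroup G) := {N : Subgroup G | N.Normal ∧ (Nat.card N).Coprime p} with h𝒮
  have hfin : 𝒮.Finite := Set.toFinite 𝒮
  have key : (hfin.toFinset.sup id).Normal ∧ (Nat.card (hfin.toFinset.sup id : Subgroup G)).Coprime p := by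
    apply Finset.sup_induction (p := fun N : Subgroup G => N.Normal ∧ (Nat.card N).Coprime p)
    · refine ⟨inferInstance, ?_⟩
      simp
    · rintro A ⟨hA, hAc⟩ B ⟨hB, hBc⟩
      haveI := hA
      haveI := hB
      refine ⟨inferInstance, ?_⟩
      exact Nat.Coprime.coprime_dvd_left (card_sup_dvd_of_normal A B) (Nat.Coprime.mul_left hAc hBc)
    · intro N hN
      exact (Set.Finite.mem_toFinset hfin).mp hN
  rw [Finset.sup_id_eq_sSup, Set.Finite.coe_toFinset] at key
  exact key.2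

end Cfsg.Agent.Lib.helper17
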