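import Mathlib
import Cfsg.Prelude.Def_LocalStructure

set_option autoImplicit false

namespace Cfsg.Agent.Lib.helper17

variable {G : Type*} [Group G]

/-- If `G ⧸ N` is a `p`-group then `O^p(G) ≤ N`. -/
theorem pResidual_le_of_isPGroup_quotient {p : ℕ} [Fact p.Prime] (N : Subgroup G) [N.Normal]
    (h : IsPGroup p (G ⧸ N)) : Cfsg.pResidual p G ≤ N := by
  unfold Cfsg.pResidual
  rw [Subgroup.closure_le]
  intro g hg
  have hg' : Nat.Coprime (orderOf g) p := hg
  obtain ⟨k, hk⟩ := h (QuotientGroup.mk' N g)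
  have h1 : (QuotientGroup.mk' N g) ^ (orderOf g) = 1 := by
    rw [← map_pow, pow_orderOf_eq_one, map_one]
  have h2 : orderOf (QuotientGroup.mk' N g) ∣ Nat.gcd (orderOf g) (p ^ k) :=
    Nat.dvd_gcd (orderOf_dvd_of_pow_eq_one h1) (orderOf_dvd_of_pow_eq_one hk)
  have h3 : Nat.gcd (orderOf g) (p ^ k) = 1 := Nat.Coprime.pow_right k hg'
  rw [h3, Nat.dvd_one, orderOf_eq_one_iff] at h2
  have : g ∈ (QuotientGroup.mk' N).ker := h2
  rwa [QuotientGroup.ker_mk'] at this

/-- If `N ⊔ P = ⊤` with `N` normal and `P` a `p`-group, then `G ⧸ N` is a `p`-group. -/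
theorem isPGroup_quotient_of_sup_eq_top {p : ℕ} (N : Subgroup G) [N.Normal] (P : Subgroup G)
    (hP : IsPGroup p P) (h : N ⊔ P = ⊤) : IsPGroup p (G ⧸ N) := by
  have hmap : P.map (QuotientGroup.mk' N) = ⊤ := by
    have h1 : (N ⊔ P).map (QuotientGroup.mk' N) = ⊤ := by
      rw [h, ← MonoidHom.range_eq_map]
      exact MonoidHom.range_eq_top.mpr (QuotientGroup.mk'_surjective N)
    rw [Subgroup.map_sup] at h1
    have h2 : N.map (QuotientGroup.mk' N) = ⊥ := by
      rw [← le_bot_iff, Subgroup.map_le_iff_le_comap]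
      intro x hx
      rw [Subgroup.mem_comap, Subgroup.mem_bot]
      exact (QuotientGroup.eq_one_iff x).mpr hx
    rwa [h2, bot_sup_eq] at h1
  have hPm : IsPGroup p (P.map (QuotientGroup.mk' N)) := hP.map _
  rw [hmap] at hPm
  exact IsPGroup.of_equiv hPm Subgroup.topEquiv

theorem pResidual_le_of_sup_eq_top {p : ℕ} [Fact p.Prime] (N : Subgroup G) [N.Normal]
    (P : Subgroup G) (hP : IsPGroup p P) (h : N ⊔ P = ⊤) : Cfsg.pResidual p G ≤ N :=
  pResidual_le_of_isPGroup_quotient N (isPGroup_quotient_of_sup_eq_top N P hP h)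

/-- In a finite group every proper subgroup lies in a maximal subgroup. -/
theorem exists_coatom_ge [Finite G] {K : Subgroup G} (hK : K ≠ ⊤) :
    ∃ M : Subgroup G, IsCoatom M ∧ K ≤ M := by
  rcases eq_top_or_exists_le_coatom K with h | ⟨M, hM, hKM⟩
  · exact absurd h hK
  · exact ⟨M, hM, hKM⟩

end Cfsg.Agent.Lib.helper17
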