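import Mathlib
import Cfsg.Prelude.Def_EvenType
import Cfsg.Agent.Lib.helper17.SPE2

set_option autoImplicit false

namespace Cfsg.Agent.Lib.helper17

variable {G : Type*} [Group G]

/-- under the normalizer form, a Sylow `p`-subgroup of `Y` has index in `G` prime to `p` -/
theorem SPENormalizers.sylow_map_not_dvd_index [Finite G] {p : ℕ} [Fact p.Prime] {Y : Subgroup G}
    (h : SPENormalizers p Y) (hdiv : p ∣ Nat.card Y) (S : Sylow p Y) :
    ¬ p ∣ ((S : Subgroup Y).map Y.subtype).index := by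
  set SG : Subgroup G := (S : Subgroup Y).map Y.subtype with hSG
  have hSGY : SG ≤ Y := Subgroup.map_subtype_le _
  have hSGp : IsPGroup p SG := S.isPGroup'.map _
  have hSne : SG ≠ ⊥ := by
    rw [Ne, Subgroup.map_eq_bot_iff_of_injective _ Y.subtype_injective]
    exact S.ne_bot_of_dvd_card hdiv
  have hN : Subgroup.normalizer (SG : Set G) ≤ Y := h _ hSGY hSGp hSne
  obtain ⟨n, hn⟩ := IsPGroup.exists_card_eq hSGp
  have hmod := Sylow.card_quotient_normalizer_modEq_card_quotient hn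
  rw [← Subgroup.index_eq_card, ← Subgroup.index_eq_card] at hmod
  have h1 : (Subgroup.comap (Subgroup.normalizer (SG : Set G)).subtype SG).index =
      SG.relIndex (Subgroup.normalizer (SG : Set G)) := rfl
  rw [h1] at hmod
  intro hdvd
  have h2 : p ∣ SG.relIndex (Subgroup.normalizer (SG : Set G)) := (hmod.dvd_iff dvd_rfl).mpr hdvd
  have h3 : SG.relIndex (Subgroup.normalizer (SG : Set G)) ∣ SG.relIndex Y := by
    rw [← Subgroup.relIndex_mul_relIndex SG _ Y Subgroup.le_normalizer hN]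
    exact dvd_mul_right _ _
  have h4 : SG.relIndex Y = (S : Subgroup Y).index := by
    show (SG.subgroupOf Y).index = _
    congr 1
    rw [hSG]
    exact Subgroup.comap_map_eq_self_of_injective Y.subtype_injective _
  rw [h4] at h3
  exact S.not_dvd_index (h2.trans h3)

/-- fusion form for arbitrary nontrivial `p`-elements -/
theorem SPEFusion.of_pElement [Finite G] {p : ℕ} [Fact p.Prime] {Y : Subgroup G} (hF : SPEFusion p Y)
    {x : G} (hxY : x ∈ Y) (hx1 : x ≠ 1) (hx : ∃ k : ℕ, orderOf x = p ^ k) {g : G}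
    (hg : g * x * g⁻¹ ∈ Y) : g ∈ Y := by
  have hzp : IsPGroup p (Subgroup.zpowers x) := by
    obtain ⟨k, hk⟩ := hx
    apply IsPGroup.of_card (n := k)
    rw [Nat.card_zpowers, hk]
  have hzne : Subgroup.zpowers x ≠ ⊥ := by
    rw [Ne, Subgroup.zpowers_eq_bot]; exact hx1
  obtain ⟨y, hy, hyp⟩ := exists_orderOf_eq_prime_of_ne_bot hzp hzne
  obtain ⟨k, rfl⟩ := Subgroup.mem_zpowers_iff.mp hy
  apply hF (x ^ k) (Y.zpow_mem hxY k) hyp g
  rw [← conj_zpow]
  exact Y.zpow_mem hg k

/-- strong `p`-embedding is inherited by `H ⊓ X` in `H` -/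
theorem SPEFusion.subgroupOf [Finite G] {p : ℕ} [Fact p.Prime] {X : Subgroup G} (hF : SPEFusion p X)
    (H : Subgroup G) (hHX : ¬ H ≤ X) (hdiv : p ∣ Nat.card ↥(H ⊓ X)) :
    Cfsg.IsStronglyPEmbedded p ((H ⊓ X).subgroupOf H) := by
  rw [spe_iff_fusion]
  refine ⟨?_, ?_, ?_⟩
  · have : Nat.card ((H ⊓ X).subgroupOf H) = Nat.card ↥(H ⊓ X) :=
      Nat.card_congr (Subgroup.subgroupOfEquivOfLe (inf_le_left : H ⊓ X ≤ H)).toEquiv
    rw [this]; exact hdiv
  · rw [Ne, Subgroup.subgroupOf_eq_top]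
    intro h
    exact hHX (h.trans inf_le_right)
  · intro x hx hxp g hg
    have hxX : (x : G) ∈ X := (Subgroup.mem_subgroupOf.mp hx).2
    have hgX : (g : G) * (x : G) * (g : G)⁻¹ ∈ X := (Subgroup.mem_subgroupOf.mp hg).2
    have h1 : orderOf (x : G) = p := by rw [Subgroup.orderOf_coe, hxp]
    have := hF (x : G) hxX h1 (g : G) hgX
    exact Subgroup.mem_subgroupOf.mpr ⟨g.2, this⟩

/-- the closure of a conjugation-invariant set is normal -/
theorem closure_normal_of_conj_invariant (s : Set G) (hs : ∀ g : G, ∀ x ∈ s, g * x * g⁻¹ ∈ s) :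
    (Subgroup.closure s).Normal := by
  constructor
  intro n hn g
  have h1 : g * n * g⁻¹ ∈ (Subgroup.closure s).map (MulAut.conj g).toMonoidHom := conj_mem_cj hn
  rw [MonoidHom.map_closure] at h1
  refine (Subgroup.closure_mono ?_) h1
  rintro _ ⟨x, hx, rfl⟩
  simpa using hs g x hx

end Cfsg.Agent.Lib.helper17
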