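import Mathlib

set_option autoImplicit false

namespace Cfsg.Agent.Lib.helper17

variable {G : Type*} [Group G]

theorem relIndex_eq_relIndex_sup_of_normal [Finite G] (T N : Subgroup G) [N.Normal] :
    T.relIndex N = T.relIndex (T ⊔ N) := by
  have a1 : (⊥ : Subgroup G).relIndex (T ⊓ N) * (T ⊓ N).relIndex T = (⊥ : Subgroup G).relIndex T :=
    Subgroup.relIndex_mul_relIndex _ _ _ bot_le inf_le_left
  have a2 : (⊥ : Subgroup G).relIndex (T ⊓ N) * (T ⊓ N).relIndex N = (⊥ : Subgroup G).relIndex N :=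
    Subgroup.relIndex_mul_relIndex _ _ _ bot_le inf_le_right
  have a3 : (⊥ : Subgroup G).relIndex T * T.relIndex (T ⊔ N) = (⊥ : Subgroup G).relIndex (T ⊔ N) :=
    Subgroup.relIndex_mul_relIndex _ _ _ bot_le le_sup_left
  have a4 : (⊥ : Subgroup G).relIndex N * N.relIndex (T ⊔ N) = (⊥ : Subgroup G).relIndex (T ⊔ N) :=
    Subgroup.relIndex_mul_relIndex _ _ _ bot_le le_sup_right
  rw [Subgroup.inf_relIndex_left] at a1
  rw [Subgroup.inf_relIndex_right] at a2
  rw [Subgroup.relIndex_sup_right] at a4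
  have hpos : 0 < (⊥ : Subgroup G).relIndex (T ⊓ N) * N.relIndex T := by
    rw [a1, Subgroup.relIndex_bot_left]
    exact Nat.card_pos
  have : (⊥ : Subgroup G).relIndex (T ⊓ N) * N.relIndex T * T.relIndex N =
      (⊥ : Subgroup G).relIndex (T ⊓ N) * N.relIndex T * T.relIndex (T ⊔ N) := by
    calc (⊥ : Subgroup G).relIndex (T ⊓ N) * N.relIndex T * T.relIndex N
        = ((⊥ : Subgroup G).relIndex (T ⊓ N) * T.relIndex N) * N.relIndex T := by ring
      _ = (⊥ : Subgroup G).relIndex (T ⊔ N) := by rw [a2, a4]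
      _ = (⊥ : Subgroup G).relIndex (T ⊓ N) * N.relIndex T * T.relIndex (T ⊔ N) := by rw [a1, a3]
  exact Nat.eq_of_mul_eq_mul_left hpos this

theorem not_dvd_relIndex_of_normal [Finite G] {p : ℕ} [Fact p.Prime] (T : Sylow p G) (N : Subgroup G) [N.Normal] :
    ¬ p ∣ (T : Subgroup G).relIndex N := by
  rw [relIndex_eq_relIndex_sup_of_normal]
  intro h
  exact T.not_dvd_index (h.trans (Subgroup.relIndex_dvd_index_of_le le_sup_left))

/-- `T ∩ N` is a Sylow `p`-subgroup of the normal subgroup `N`. -/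
noncomputable def sylowInfNormal [Finite G] {p : ℕ} [Fact p.Prime] (T : Sylow p G) (N : Subgroup G) [N.Normal] :
    Sylow p N :=
  IsPGroup.toSylow (P := (T : Subgroup G).subgroupOf N)
    (T.isPGroup'.comap_subtype) (not_dvd_relIndex_of_normal T N)

theorem sylowInfNormal_coe [Finite G] {p : ℕ} [Fact p.Prime] (T : Sylow p G) (N : Subgroup G) [N.Normal] :
    ((sylowInfNormal T N : Sylow p N) : Subgroup N) = (T : Subgroup G).subgroupOf N := rfl

theorem sylowInfNormal_map [Finite G] {p : ℕ} [Fact p.Prime] (T : Sylow p G) (N : Subgroup G) [N.Normal] :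
    ((sylowInfNormal T N : Sylow p N) : Subgroup N).map N.subtype = (T : Subgroup G) ⊓ N := by
  rw [sylowInfNormal_coe, Subgroup.subgroupOf_map_subtype]

/-- If a Sylow `p`-subgroup is normal then all Sylow `p`-subgroups are normal. -/
theorem sylow_normal_of_normal [Finite G] {p : ℕ} [Fact p.Prime] (S : Sylow p G)
    (hS : (S : Subgroup G).Normal) (P : Sylow p G) : (P : Subgroup G).Normal := by
  have := Sylow.unique_of_normal S hS
  rw [Subsingleton.elim P S]
  exact hS

end Cfsg.Agent.Lib.helper17
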