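import Mathlib
import Cfsg.Prelude.Def_LocalStructure
import Cfsg.Agent.Lib.helper17.Conj
import Cfsg.Agent.Lib.helper17.Cores
import Cfsg.Agent.Lib.helper17.Residual
import Cfsg.Agent.Lib.helper17.SylowNormal
import Cfsg.Agent.Lib.helper17.SPE3

set_option autoImplicit false

namespace Cfsg.Agent.Lib.helper17

variable {G : Type*} [Group G]

theorem sSup_normal_of_forall {S : Set (Subgroup G)} (h : ∀ N ∈ S, N.Normal) :
    (sSup S).Normal := by
  rw [sSup_eq_iSup']
  have : ∀ i : S, (i : Subgroup G).Normal := fun i => h i i.2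
  infer_instance

theorem pCore_normal (p : ℕ) (G : Type*) [Group G] : (Cfsg.pCore p G).Normal := by
  unfold Cfsg.pCore
  exact sSup_normal_of_forall (fun N hN => hN.1)

theorem pResidual_normal (p : ℕ) (G : Type*) [Group G] : (Cfsg.pResidual p G).Normal := by
  unfold Cfsg.pResidual
  apply closure_normal_of_conj_invariant
  intro g x hx
  have hx' : Nat.Coprime (orderOf x) p := hx
  change Nat.Coprime (orderOf (g * x * g⁻¹)) p
  rwa [orderOf_conj']

theorem mem_pResidual_of_coprime {p : ℕ} {g : G} (h : Nat.Coprime (orderOf g) p) :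
    g ∈ Cfsg.pResidual p G := by
  unfold Cfsg.pResidual
  exact Subgroup.subset_closure h

/-- `G ⧸ O^p(G)` is a `p`-group for finite `G`. -/
theorem isPGroup_quotient_pResidual [Finite G] (p : ℕ) [hp : Fact p.Prime]
    [(Cfsg.pResidual p G).Normal] : IsPGroup p (G ⧸ Cfsg.pResidual p G) := by
  intro x
  obtain ⟨g, rfl⟩ := QuotientGroup.mk_surjective x
  have hpos : 0 < orderOf g := orderOf_pos g
  obtain ⟨k, m, hm, hkm⟩ := Nat.exists_eq_pow_mul_and_not_dvd hpos.ne' p hp.out.ne_one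
  refine ⟨k, ?_⟩
  have h1 : orderOf (g ^ (p ^ k)) = m := by
    rw [orderOf_pow' g (pow_ne_zero k hp.out.ne_zero), hkm, Nat.gcd_eq_right (dvd_mul_right _ _),
      Nat.mul_div_cancel_left _ (pow_pos hp.out.pos k)]
  have h2 : g ^ (p ^ k) ∈ Cfsg.pResidual p G := by
    apply mem_pResidual_of_coprime
    rw [h1]
    exact ((Nat.Prime.coprime_iff_not_dvd hp.out).mpr hm).symm
  rw [← QuotientGroup.mk_pow]
  exact (QuotientGroup.eq_one_iff _).mpr h2

/-- `O^p(G) T = G` for a Sylow `p`-subgroup `T`. -/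
theorem pResidual_sup_sylow [Finite G] {p : ℕ} [hp : Fact p.Prime] (T : Sylow p G) :
    Cfsg.pResidual p G ⊔ (T : Subgroup G) = ⊤ := by
  have := pResidual_normal p G
  have hq : IsPGroup p (G ⧸ Cfsg.pResidual p G) := isPGroup_quotient_pResidual p
  obtain ⟨n, hn⟩ := IsPGroup.iff_card.mp hq
  rw [← Subgroup.index_eq_card] at hn
  have h1 : (Cfsg.pResidual p G ⊔ (T : Subgroup G)).index ∣ p ^ n := by
    rw [← hn]
    exact Subgroup.index_dvd_of_le le_sup_left
  have h2 : (Cfsg.pResidual p G ⊔ (T : Subgroup G)).index ∣ (T : Subgroup G).index :=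
    Subgroup.index_dvd_of_le le_sup_right
  obtain ⟨j, -, hj⟩ := (Nat.dvd_prime_pow hp.out).mp h1
  rcases Nat.eq_zero_or_pos j with h0 | hpos
  · rw [h0, pow_zero] at hj
    exact Subgroup.index_eq_one.mp hj
  · exfalso
    apply T.not_dvd_index
    refine dvd_trans ?_ h2
    rw [hj]
    exact dvd_pow_self p hpos.ne'

/-- In a normal `p`-closed subgroup, every `p`-subgroup lies in `O_p(G)`. -/
theorem le_pCore_of_isPClosed_normal [Finite G] {p : ℕ} [Fact p.Prime] (N : Subgroup G) [N.Normal]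
    (hN : Cfsg.IsPClosed p ↥N) {P : Subgroup G} (hPN : P ≤ N) (hP : IsPGroup p P) :
    P ≤ Cfsg.pCore p G := by
  obtain ⟨S, hS⟩ := IsPGroup.exists_le_sylow (hP.comap_subtype (K := N) : IsPGroup p (P.subgroupOf N))
  have hSn : (S : Subgroup N).Normal := hN S
  have hSc : (S : Subgroup N).Characteristic := Sylow.characteristic_of_normal S hSn
  have hmapn : ((S : Subgroup N).map N.subtype).Normal := ConjAct.normal_of_characteristic_of_normal
  have h1 : P ≤ (S : Subgroup N).map N.subtype := by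
    intro x hx
    exact ⟨⟨x, hPN hx⟩, hS (Subgroup.mem_subgroupOf.mpr hx), rfl⟩
  exact h1.trans (le_pCore hmapn (S.isPGroup'.map _))

/-- If a Sylow `p`-subgroup lies in `O_p(G)` then `G` is `p`-closed. -/
theorem isPClosed_of_sylow_le_pCore [Finite G] {p : ℕ} [Fact p.Prime] (T : Sylow p G)
    (h : (T : Subgroup G) ≤ Cfsg.pCore p G) : Cfsg.IsPClosed p G := by
  have h1 : Cfsg.pCore p G = T := T.3 (pCore_isPGroup p G) h
  have h2 : (T : Subgroup G).Normal := h1 ▸ pCore_normal p G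
  exact sylow_normal_of_normal T h2

theorem le_normalizer_commutator {K A B : Subgroup G} (hA : K ≤ Subgroup.normalizer (A : Set G))
    (hB : K ≤ Subgroup.normalizer (B : Set G)) : K ≤ Subgroup.normalizer ((⁅A, B⁆ : Subgroup G) : Set G) := by
  intro k hk
  rw [← cj_eq_self_iff]
  unfold cj
  rw [Subgroup.map_commutator]
  have h1 : cj k A = A := cj_eq_self_iff.mpr (hA hk)
  have h2 : cj k B = B := cj_eq_self_iff.mpr (hB hk)
  unfold cj at h1 h2
  rw [h1, h2]

theorem le_normalizer_sup {K A B : Subgroup G} (hA : K ≤ Subgroup.normalizer (A : Set G))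
    (hB : K ≤ Subgroup.normalizer (B : Set G)) : K ≤ Subgroup.normalizer ((A ⊔ B : Subgroup G) : Set G) := by
  intro k hk
  rw [← cj_eq_self_iff]
  unfold cj
  rw [Subgroup.map_sup]
  have h1 : cj k A = A := cj_eq_self_iff.mpr (hA hk)
  have h2 : cj k B = B := cj_eq_self_iff.mpr (hB hk)
  unfold cj at h1 h2
  rw [h1, h2]

/-- A `p'`-element of `Q ⊔ P`, with `Q` normal and `P` a `p`-group, lies in `Q`. -/
theorem mem_of_mem_sup_of_coprime {p : ℕ} [Fact p.Prime] (Q : Subgroup G) [Q.Normal] (P : Subgroup G)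
    (hP : IsPGroup p P) {g : G} (hg : g ∈ Q ⊔ P) (hcop : Nat.Coprime (orderOf g) p) : g ∈ Q := by
  have h1 : QuotientGroup.mk' Q g ∈ P.map (QuotientGroup.mk' Q) := by
    have h2 : QuotientGroup.mk' Q g ∈ (Q ⊔ P).map (QuotientGroup.mk' Q) := Subgroup.mem_map_of_mem _ hg
    rw [Subgroup.map_sup] at h2
    have h3 : Q.map (QuotientGroup.mk' Q) = ⊥ := by
      rw [← le_bot_iff, Subgroup.map_le_iff_le_comap]
      intro x hx
      rw [Subgroup.mem_comap, Subgroup.mem_bot]
      exact (QuotientGroup.eq_one_iff x).mpr hx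
    rwa [h3, bot_sup_eq] at h2
  obtain ⟨y, hy, hyg⟩ := h1
  obtain ⟨k, hk⟩ := hP ⟨y, hy⟩
  have hk' : y ^ (p ^ k) = 1 := by
    have := congrArg Subtype.val hk
    simpa using this
  have h4 : (QuotientGroup.mk' Q g) ^ (p ^ k) = 1 := by
    rw [← hyg, ← map_pow, hk', map_one]
  have h5 : (QuotientGroup.mk' Q g) ^ (orderOf g) = 1 := by
    rw [← map_pow, pow_orderOf_eq_one, map_one]
  have h6 : orderOf (QuotientGroup.mk' Q g) ∣ Nat.gcd (orderOf g) (p ^ k) :=
    Nat.dvd_gcd (orderOf_dvd_of_pow_eq_one h5) (orderOf_dvd_of_pow_eq_one h4)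
  have h7 : Nat.gcd (orderOf g) (p ^ k) = 1 := Nat.Coprime.pow_right k hcop
  rw [h7, Nat.dvd_one, orderOf_eq_one_iff] at h6
  have : g ∈ (QuotientGroup.mk' Q).ker := h6
  rwa [QuotientGroup.ker_mk'] at this

end Cfsg.Agent.Lib.helper17
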