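import Mathlib

set_option autoImplicit false

namespace Cfsg.Agent.Lib.helper17

variable {G : Type*} [Group G]

/-- a maximal `p`-subgroup of `K` containing the `p`-subgroup `E` (a Sylow `p`-subgroup of `K`, viewed in `G`) -/
theorem exists_max_pSubgroup {p : ℕ} [Fact p.Prime] (K E : Subgroup G) (hEK : E ≤ K) (hE : IsPGroup p E) :
    ∃ R : Subgroup G, E ≤ R ∧ R ≤ K ∧ IsPGroup p R ∧
      (∀ R' : Subgroup G, R ≤ R' → R' ≤ K → IsPGroup p R' → R' = R) ∧
      ∃ Q : Sylow p K, R = (Q : Subgroup K).map K.subtype := by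
  have hE' : IsPGroup p (E.subgroupOf K) := hE.comap_subtype
  obtain ⟨Q, hQ⟩ := hE'.exists_le_sylow
  refine ⟨(Q : Subgroup K).map K.subtype, ?_, Subgroup.map_subtype_le _, Q.isPGroup'.map _, ?_, Q, rfl⟩
  · intro e he
    exact ⟨⟨e, hEK he⟩, hQ he, rfl⟩
  · intro R' hRR' hR'K hR'
    have h1 : IsPGroup p (R'.subgroupOf K) := hR'.comap_subtype
    have h2 : (Q : Subgroup K) ≤ R'.subgroupOf K := by
      intro q hq
      exact hRR' ⟨q, hq, rfl⟩
    have h3 := Q.is_maximal' h1 h2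
    rw [← h3, Subgroup.map_subgroupOf_eq_of_le hR'K]

/-- normalizers grow in finite `p`-groups -/
theorem exists_mem_normalizer_not_mem [Finite G] {p : ℕ} [Fact p.Prime] {P R : Subgroup G}
    (hP : IsPGroup p P) (hRP : R < P) :
    ∃ n ∈ P, n ∈ Subgroup.normalizer (R : Set G) ∧ n ∉ R := by
  haveI : Group.IsNilpotent P := hP.isNilpotent
  have hnc : NormalizerCondition P := Group.normalizerCondition_of_isNilpotent
  have hlt : R.subgroupOf P < ⊤ := by
    rw [lt_top_iff_ne_top, Ne, Subgroup.subgroupOf_eq_top]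
    exact not_le_of_gt hRP
  have h1 := hnc _ hlt
  obtain ⟨n', hn', hn'R⟩ := SetLike.exists_of_lt h1
  refine ⟨(n' : G), n'.2, ?_, fun h => hn'R h⟩
  have key : ∀ m : P, m ∈ Subgroup.normalizer ((R.subgroupOf P : Subgroup P) : Set P) →
      ∀ r ∈ R, (m : G) * r * (m : G)⁻¹ ∈ R := by
    intro m hm r hr
    have := (Subgroup.mem_normalizer_iff.mp hm ⟨r, hRP.le hr⟩).mp hr
    exact this
  rw [Subgroup.mem_normalizer_iff]
  intro r
  constructor
  · exact key n' hn' r
  · intro h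
    have := key n'⁻¹ (Subgroup.inv_mem _ hn') _ h
    simpa [mul_assoc] using this

/-- a normal `p`-subgroup of `K` lies in every maximal `p`-subgroup of `K` -/
theorem le_of_max_pSubgroup {p : ℕ} {K R Q : Subgroup G} (hRK : R ≤ K) (hR : IsPGroup p R)
    (hmax : ∀ R' : Subgroup G, R ≤ R' → R' ≤ K → IsPGroup p R' → R' = R)
    (hQK : Q ≤ K) (hQ : IsPGroup p Q) (hQn : K ≤ Subgroup.normalizer (Q : Set G)) : Q ≤ R := by
  have h1 : IsPGroup p (R ⊔ Q : Subgroup G) := hR.to_sup_of_normal_right' hQ (hRK.trans hQn)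
  have h2 := hmax (R ⊔ Q) le_sup_left (sup_le hRK hQK) h1
  rw [← h2]
  exact le_sup_right

end Cfsg.Agent.Lib.helper17
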