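import Mathlib
import Cfsg.Prelude.Def_LocalStructure
import Cfsg.Agent.Lib.helper17.Conj
import Cfsg.Agent.Lib.helper17.SPE
import Cfsg.Agent.Lib.helper17.PSub

set_option autoImplicit false

namespace Cfsg.Agent.Lib.helper17

variable {G : Type*} [Group G]

theorem sylow_smul_coe_eq_cj {p : ℕ} (h : G) (T : Sylow p G) :
    ((h • T : Sylow p G) : Subgroup G) = cj h (T : Subgroup G) := by
  ext x
  rw [Sylow.coe_subgroup_smul, Subgroup.mem_pointwise_smul_iff_inv_smul_mem, mem_cj]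
  simp [MulAut.smul_def, mul_assoc]

theorem cj_injective (g : G) {A B : Subgroup G} (h : cj g A = cj g B) : A = B := by
  have := congrArg (cj g⁻¹) h
  rwa [cj_inv_cj, cj_inv_cj] at this

/-- every `p`-subgroup lies in a conjugate of a given Sylow `p`-subgroup -/
theorem exists_le_cj_sylow [Finite G] {p : ℕ} [Fact p.Prime] (T : Sylow p G) {R : Subgroup G}
    (hR : IsPGroup p R) : ∃ h : G, R ≤ cj h (T : Subgroup G) := by
  obtain ⟨S, hS⟩ := hR.exists_le_sylow
  obtain ⟨h, hh⟩ := MulAction.exists_smul_eq G T S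
  refine ⟨h, ?_⟩
  rw [← sylow_smul_coe_eq_cj, hh]
  exact hS

/-- The strong form of weak closure: `Q` is the only conjugate of itself in any `p`-subgroup
containing it. -/
def WCStrong (p : ℕ) (Q : Subgroup G) : Prop :=
  ∀ R : Subgroup G, IsPGroup p R → Q ≤ R → ∀ g : G, cj g Q ≤ R → cj g Q = Q

theorem isWeaklyClosedSubgroup_iff_cj {p : ℕ} {Q : Subgroup G} :
    Cfsg.IsWeaklyClosedSubgroup p Q ↔
      ∃ T : Sylow p G, Q ≤ (T : Subgroup G) ∧ ∀ g : G, cj g Q ≤ (T : Subgroup G) → cj g Q = Q :=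
  Iff.rfl

theorem WCStrong.isWeaklyClosedSubgroup {p : ℕ} {Q : Subgroup G} (hQ : IsPGroup p Q)
    (h : WCStrong p Q) : Cfsg.IsWeaklyClosedSubgroup p Q := by
  obtain ⟨T, hT⟩ := hQ.exists_le_sylow
  exact ⟨T, hT, fun g hg => h T T.isPGroup' hT g hg⟩

theorem wcStrong_of_isWeaklyClosedSubgroup [Finite G] {p : ℕ} [Fact p.Prime] {Q : Subgroup G}
    (h : Cfsg.IsWeaklyClosedSubgroup p Q) : WCStrong p Q := by
  obtain ⟨T, hQT, hT⟩ := isWeaklyClosedSubgroup_iff_cj.mp h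
  intro R hR hQR g hg
  obtain ⟨a, ha⟩ := exists_le_cj_sylow T hR
  have h1 : cj a⁻¹ Q = Q := by
    apply hT
    rw [cj_le_iff, inv_inv]
    exact hQR.trans ha
  have h2 : cj (a⁻¹ * g) Q = Q := by
    apply hT
    rw [cj_mul, cj_le_iff, inv_inv]
    exact hg.trans ha
  rw [cj_mul] at h2
  exact cj_injective a⁻¹ (h2.trans h1.symm)

theorem wcStrong_iff [Finite G] {p : ℕ} [Fact p.Prime] {Q : Subgroup G} (hQ : IsPGroup p Q) :
    Cfsg.IsWeaklyClosedSubgroup p Q ↔ WCStrong p Q :=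
  ⟨wcStrong_of_isWeaklyClosedSubgroup, fun h => h.isWeaklyClosedSubgroup hQ⟩

/-- Under `WCStrong`, normalizers of `p`-overgroups normalize `Q`. -/
theorem WCStrong.normalizer_le {p : ℕ} {Q : Subgroup G} (h : WCStrong p Q) {R : Subgroup G}
    (hR : IsPGroup p R) (hQR : Q ≤ R) :
    Subgroup.normalizer (R : Set G) ≤ Subgroup.normalizer (Q : Set G) := by
  intro x hx
  rw [← cj_eq_self_iff]
  apply h R hR hQR
  rw [← cj_eq_self_iff.mpr hx]
  exact cj_mono hQR

/-- Two Sylow `p`-subgroups of `G` inside `M` are conjugate by an element of `M`. -/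
theorem sylow_conj_in_subgroup [Finite G] {p : ℕ} [Fact p.Prime] (S S' : Sylow p G) (M : Subgroup G)
    (hS : (S : Subgroup G) ≤ M) (hS' : (S' : Subgroup G) ≤ M) :
    ∃ m ∈ M, cj m (S' : Subgroup G) = (S : Subgroup G) := by
  obtain ⟨m, hm, hle⟩ := exists_conj_le_sylow_of_le M (S.subtype hS) (S' : Subgroup G) S'.isPGroup' hS'
  refine ⟨m, hm, ?_⟩
  rw [Sylow.coe_subtype, Subgroup.subgroupOf_map_subtype] at hle
  have h1 : cj m (S' : Subgroup G) ≤ (S : Subgroup G) := hle.trans inf_le_left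
  rw [cj_le_iff] at h1
  have h2 := S'.3 (isPGroup_cj S.isPGroup') h1
  rw [← h2, cj_cj_inv]

/-- The normalizer characterization implies the strong form. -/
theorem wcStrong_of_normalizer_le [Finite G] {p : ℕ} [Fact p.Prime] {Q : Subgroup G}
    (h : ∀ R : Subgroup G, IsPGroup p R → Q ≤ R →
      Subgroup.normalizer (R : Set G) ≤ Subgroup.normalizer (Q : Set G)) : WCStrong p Q := by
  intro R hR hQR g hg
  obtain ⟨S, hS⟩ := hR.exists_le_sylow
  have hQS : Q ≤ (S : Subgroup G) := hQR.trans hS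
  have hgS : cj g Q ≤ (S : Subgroup G) := hg.trans hS
  -- `N(S) ≤ N(Q)` and `N(S) ≤ N(cj g Q)`
  have hN1 : Subgroup.normalizer ((S : Subgroup G) : Set G) ≤ Subgroup.normalizer (Q : Set G) :=
    h S S.isPGroup' hQS
  have hN2 : Subgroup.normalizer ((S : Subgroup G) : Set G) ≤ Subgroup.normalizer (cj g Q : Set G) := by
    have h3 : Q ≤ cj g⁻¹ (S : Subgroup G) := cj_le_iff.mp hgS
    have h4 := h _ (isPGroup_cj S.isPGroup') h3
    rw [normalizer_cj] at h4
    have h5 := cj_mono (g := g) h4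
    rwa [cj_cj_inv, ← normalizer_cj] at h5
  have hN3 : Subgroup.normalizer ((cj g (S : Subgroup G) : Subgroup G) : Set G) ≤
      Subgroup.normalizer (cj g Q : Set G) := by
    rw [normalizer_cj, normalizer_cj]
    exact cj_mono hN1
  have hS1 : (S : Subgroup G) ≤ Subgroup.normalizer (cj g Q : Set G) :=
    Subgroup.le_normalizer.trans hN2
  have hS2 : ((g • S : Sylow p G) : Subgroup G) ≤ Subgroup.normalizer (cj g Q : Set G) := by
    rw [sylow_smul_coe_eq_cj]
    exact Subgroup.le_normalizer.trans hN3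
  obtain ⟨n, hn, hconj⟩ := sylow_conj_in_subgroup S (g • S) _ hS1 hS2
  rw [sylow_smul_coe_eq_cj, ← cj_mul] at hconj
  have hng : n * g ∈ Subgroup.normalizer (Q : Set G) := hN1 (cj_eq_self_iff.mp hconj)
  have h6 : cj (n * g) Q = Q := cj_eq_self_iff.mpr hng
  have h7 : cj n (cj g Q) = cj g Q := cj_eq_self_iff.mpr hn
  rw [cj_mul, h7] at h6
  exact h6

theorem card_lt_card_of_lt [Finite G] {A B : Subgroup G} (h : A < B) : Nat.card A < Nat.card B :=
  lt_of_not_ge fun hge => h.ne (Subgroup.eq_of_le_of_card_ge h.le hge)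

/-- Under `WCStrong`, `Q = P` for every conjugate `P` of `Q` with `[Q, P] ≤ Q ∩ P`. -/
theorem WCStrong.eq_of_commutator_le {p : ℕ} [Fact p.Prime] {Q : Subgroup G} (hQ : IsPGroup p Q)
    (h : WCStrong p Q) (g : G) (hc : ⁅Q, cj g Q⁆ ≤ Q ⊓ cj g Q) : cj g Q = Q := by
  have h1 : Q ≤ Subgroup.normalizer (cj g Q : Set G) :=
    Subgroup.le_normalizer_iff_commutator_le_right.mpr (hc.trans inf_le_right)
  have h2 : IsPGroup p (Q ⊔ cj g Q : Subgroup G) :=
    hQ.to_sup_of_normal_right' (isPGroup_cj hQ) h1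
  exact h _ h2 le_sup_left g le_sup_right

theorem unique_conj_of_commutator [Finite G] {p : ℕ} [Fact p.Prime] {Q : Subgroup G}
    (hA : ∀ g : G, ⁅Q, cj g Q⁆ ≤ Q ⊓ cj g Q → cj g Q = Q) :
    ∀ n : ℕ, ∀ R : Subgroup G, Nat.card R = n → IsPGroup p R → ∀ g₁ g₂ : G,
      cj g₁ Q ≤ R → cj g₂ Q ≤ R → cj g₁ Q = cj g₂ Q := by
  intro n
  induction n using Nat.strong_induction_on with
  | _ n ih =>
    intro R hcard hR g₁ g₂ h1 h2
    have hnorm : ∀ g : G, cj g Q ≤ R → R ≤ Subgroup.normalizer (cj g Q : Set G) := by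
      intro g hg
      by_contra hnot
      have hlt : R ⊓ Subgroup.normalizer (cj g Q : Set G) < R := by
        refine lt_of_le_of_ne inf_le_left ?_
        intro heq
        apply hnot
        rw [← heq]
        exact inf_le_right
      obtain ⟨x, hxR, hxN, hxn⟩ := exists_mem_normalizer_not_mem hR hlt
      have hcl : Nat.card (R ⊓ Subgroup.normalizer (cj g Q : Set G) : Subgroup G) < n := by
        rw [← hcard]
        exact card_lt_card_of_lt hlt
      have hQ' : cj g Q ≤ R ⊓ Subgroup.normalizer (cj g Q : Set G) := le_inf hg Subgroup.le_normalizer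
      have hxQ' : cj (x * g) Q ≤ R ⊓ Subgroup.normalizer (cj g Q : Set G) := by
        rw [cj_mul, ← cj_eq_self_iff.mpr hxN]
        exact cj_mono hQ'
      have := ih _ hcl _ rfl (hR.to_le inf_le_left) (x * g) g hxQ' hQ'
      rw [cj_mul] at this
      exact hxn ⟨hxR, cj_eq_self_iff.mp this⟩
    have hn1 := hnorm g₁ h1
    have hn2 := hnorm g₂ h2
    have hc : ⁅cj g₁ Q, cj g₂ Q⁆ ≤ cj g₁ Q ⊓ cj g₂ Q := by
      apply le_inf
      · exact Subgroup.le_normalizer_iff_commutator_le_left.mp (h2.trans hn1)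
      · exact Subgroup.le_normalizer_iff_commutator_le_right.mp (h1.trans hn2)
    have hc' : ⁅Q, cj (g₁⁻¹ * g₂) Q⁆ ≤ Q ⊓ cj (g₁⁻¹ * g₂) Q := by
      have h3 := cj_mono (g := g₁⁻¹) hc
      have h4 : cj g₁⁻¹ ⁅cj g₁ Q, cj g₂ Q⁆ = ⁅Q, cj (g₁⁻¹ * g₂) Q⁆ := by
        have : cj g₁⁻¹ ⁅cj g₁ Q, cj g₂ Q⁆ = ⁅cj g₁⁻¹ (cj g₁ Q), cj g₁⁻¹ (cj g₂ Q)⁆ := by
          unfold cj
          rw [Subgroup.map_commutator]
        rw [this, cj_inv_cj, ← cj_mul]
      rw [h4] at h3
      refine h3.trans ?_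
      apply le_inf
      · have := cj_mono (g := g₁⁻¹) (inf_le_left : cj g₁ Q ⊓ cj g₂ Q ≤ cj g₁ Q)
        rwa [cj_inv_cj] at this
      · have := cj_mono (g := g₁⁻¹) (inf_le_right : cj g₁ Q ⊓ cj g₂ Q ≤ cj g₂ Q)
        rwa [← cj_mul] at this
    have h5 := hA _ hc'
    have h6 := congrArg (cj g₁) h5
    rw [← cj_mul, mul_inv_cancel_left] at h6
    exact h6.symm

theorem wcStrong_of_commutator [Finite G] {p : ℕ} [Fact p.Prime] {Q : Subgroup G}
    (hA : ∀ g : G, ⁅Q, cj g Q⁆ ≤ Q ⊓ cj g Q → cj g Q = Q) : WCStrong p Q := by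
  intro R hR hQR g hg
  have := unique_conj_of_commutator hA _ R rfl hR g 1 hg (by rw [cj_one]; exact hQR)
  rwa [cj_one] at this

end Cfsg.Agent.Lib.helper17
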