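import Mathlib
import Cfsg.Prelude.Def_LocalStructure
import Cfsg.Agent.Lib.helper17.WC
import Cfsg.Agent.Lib.helper17.PIrr

set_option autoImplicit false

namespace Cfsg.Agent.Lib.helper17

variable {G : Type*} [Group G]

theorem cj_map {G' : Type*} [Group G'] (f : G →* G') (g : G) (A : Subgroup G) :
    (cj g A).map f = cj (f g) (A.map f) := by
  unfold cj
  rw [Subgroup.map_map, Subgroup.map_map]
  congr 1
  ext x
  simp

theorem cj_subgroupOf_map {K Q : Subgroup G} (hQK : Q ≤ K) (k : K) :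
    (cj k (Q.subgroupOf K)).map K.subtype = cj (k : G) Q := by
  rw [cj_map, Subgroup.subgroupOf_map_subtype, inf_of_le_left hQK]
  rfl

theorem WCStrong.subgroupOf {p : ℕ} {Q K : Subgroup G} (h : WCStrong p Q) (hQK : Q ≤ K) :
    WCStrong p (Q.subgroupOf K) := by
  intro R hR hQR k hk
  have h1 : Q ≤ R.map K.subtype := by
    intro x hx
    exact ⟨⟨x, hQK hx⟩, hQR (Subgroup.mem_subgroupOf.mpr hx), rfl⟩
  have h2 : cj (k : G) Q ≤ R.map K.subtype := by
    rw [← cj_subgroupOf_map hQK]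
    exact Subgroup.map_mono hk
  have h3 := h _ (hR.map _) h1 (k : G) h2
  apply Subgroup.map_injective (Subgroup.subtype_injective K)
  rw [cj_subgroupOf_map hQK, h3, Subgroup.subgroupOf_map_subtype, inf_of_le_left hQK]

/-- Every `G`-conjugate of `Q` inside `K` is a `K`-conjugate. -/
theorem WCStrong.conj_in_subgroup [Finite G] {p : ℕ} [Fact p.Prime] {Q K : Subgroup G}
    (h : WCStrong p Q) (hQ : IsPGroup p Q) (hQK : Q ≤ K) (g : G) (hg : cj g Q ≤ K) :
    ∃ k ∈ K, cj g Q = cj k Q := by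
  obtain ⟨T, hT⟩ := (hQ.comap_subtype (K := K) : IsPGroup p (Q.subgroupOf K)).exists_le_sylow
  have hQR : Q ≤ (T : Subgroup K).map K.subtype := by
    intro x hx
    exact ⟨⟨x, hQK hx⟩, hT (Subgroup.mem_subgroupOf.mpr hx), rfl⟩
  obtain ⟨m, hm, hle⟩ := exists_conj_le_sylow_of_le K T (cj g Q) (isPGroup_cj hQ) hg
  rw [← cj_mul] at hle
  have h1 := h _ (T.isPGroup'.map _) hQR (m * g) hle
  refine ⟨m⁻¹, K.inv_mem hm, ?_⟩
  rw [cj_mul] at h1
  have := congrArg (cj m⁻¹) h1
  rwa [cj_inv_cj] at this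

theorem WCStrong.isParabolic_normalizer [Finite G] {p : ℕ} [Fact p.Prime] {Q K : Subgroup G}
    (h : WCStrong p Q) (hQ : IsPGroup p Q) (hQK : Q ≤ K) :
    Cfsg.IsParabolic p ((Subgroup.normalizer (Q : Set G)).subgroupOf K) := by
  obtain ⟨T, hT⟩ := (hQ.comap_subtype (K := K) : IsPGroup p (Q.subgroupOf K)).exists_le_sylow
  have hQR : Q ≤ (T : Subgroup K).map K.subtype := by
    intro x hx
    exact ⟨⟨x, hQK hx⟩, hT (Subgroup.mem_subgroupOf.mpr hx), rfl⟩
  refine ⟨T, ?_⟩
  intro x hx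
  rw [Subgroup.mem_subgroupOf]
  apply h.normalizer_le (T.isPGroup'.map _) hQR
  apply Subgroup.le_normalizer
  exact Subgroup.mem_map_of_mem _ hx

theorem WCStrong.normal_eq [Finite G] {p : ℕ} [Fact p.Prime] {Q : Subgroup G}
    (h : WCStrong p Q) (hQ : IsPGroup p Q) (N' : Subgroup G) [N'.Normal] :
    (N' ⊓ Subgroup.normalizer (Q : Set G)) ⊔ (Cfsg.pResidual p ↥N').map N'.subtype = N' := by
  apply le_antisymm
  · exact sup_le inf_le_left (Subgroup.map_subtype_le _)
  · obtain ⟨S, hS⟩ := hQ.exists_le_sylow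
    have hSN : (S : Subgroup G) ≤ Subgroup.normalizer (Q : Set G) :=
      Subgroup.le_normalizer.trans (h.normalizer_le S.isPGroup' hS)
    have h1 := pResidual_sup_sylow (sylowInfNormal S N')
    have h2 := congrArg (Subgroup.map N'.subtype) h1
    rw [Subgroup.map_sup, sylowInfNormal_map, ← MonoidHom.range_eq_map, Subgroup.range_subtype] at h2
    refine h2.symm.le.trans ?_
    rw [sup_comm]
    apply sup_le_sup_right
    exact le_inf inf_le_right (inf_le_left.trans hSN)

theorem WCStrong.quotient [Finite G] {p : ℕ} [Fact p.Prime] {Q : Subgroup G}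
    (h : WCStrong p Q) (hQ : IsPGroup p Q) (N' : Subgroup G) [N'.Normal] :
    Cfsg.IsWeaklyClosedSubgroup p (Q.map (QuotientGroup.mk' N')) := by
  obtain ⟨S, hS⟩ := hQ.exists_le_sylow
  have hSN : (S : Subgroup G) ≤ Subgroup.normalizer (Q : Set G) :=
    Subgroup.le_normalizer.trans (h.normalizer_le S.isPGroup' hS)
  have hsurj := QuotientGroup.mk'_surjective N'
  rw [isWeaklyClosedSubgroup_iff_cj]
  refine ⟨S.mapSurjective hsurj, ?_, ?_⟩
  · rw [Sylow.coe_mapSurjective]
    exact Subgroup.map_mono hS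
  · intro g' hg'
    rw [Sylow.coe_mapSurjective] at hg'
    obtain ⟨g, rfl⟩ := hsurj g'
    rw [← cj_map] at hg' ⊢
    have h1 : cj g Q ≤ (S : Subgroup G) ⊔ N' := by
      have := Subgroup.comap_mono (f := QuotientGroup.mk' N') hg'
      rw [Subgroup.comap_map_eq, Subgroup.comap_map_eq, QuotientGroup.ker_mk'] at this
      exact le_sup_left.trans this
    have hSM : (S : Subgroup G) ≤ (S : Subgroup G) ⊔ N' := le_sup_left
    obtain ⟨m, hm, hle⟩ := exists_conj_le_sylow_of_le _ (S.subtype hSM) (cj g Q) (isPGroup_cj hQ) h1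
    rw [Sylow.coe_subtype, Subgroup.subgroupOf_map_subtype, ← cj_mul] at hle
    have h2 := h _ S.isPGroup' hS (m * g) (hle.trans inf_le_left)
    have h3 : QuotientGroup.mk' N' m ∈ (S : Subgroup G).map (QuotientGroup.mk' N') := by
      have h4 : QuotientGroup.mk' N' m ∈ ((S : Subgroup G) ⊔ N').map (QuotientGroup.mk' N') :=
        Subgroup.mem_map_of_mem _ hm
      rw [Subgroup.map_sup] at h4
      have h5 : N'.map (QuotientGroup.mk' N') = ⊥ := by
        rw [← le_bot_iff, Subgroup.map_le_iff_le_comap]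
        intro x hx
        rw [Subgroup.mem_comap, Subgroup.mem_bot]
        exact (QuotientGroup.eq_one_iff x).mpr hx
      rwa [h5, sup_bot_eq] at h4
    obtain ⟨s, hs, hsm⟩ := h3
    have h6 : cj s Q = Q := cj_eq_self_iff.mpr (hSN hs)
    have h7 : (cj (m * g) Q).map (QuotientGroup.mk' N') = (cj s Q).map (QuotientGroup.mk' N') := by
      rw [h2, h6]
    rw [cj_mul, cj_map, cj_map (g := s), ← hsm] at h7
    exact cj_injective _ h7

end Cfsg.Agent.Lib.helper17
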