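import Mathlib
import Cfsg.Prelude.Def_LocalStructure
import Cfsg.Agent.Lib.helper17.WC2

set_option autoImplicit false

namespace Cfsg.Agent.Lib.helper17

variable {G : Type*} [Group G]

/-- Under `WCStrong`, every conjugate of `Q` lies in each subnormal subgroup containing `Q`. -/
theorem WCStrong.conj_le_of_subnormal [Finite G] {p : ℕ} [Fact p.Prime] {Q : Subgroup G}
    (h : WCStrong p Q) (hQ : IsPGroup p Q) {X : Subgroup G} (hX : X.IsSubnormal) :
    Q ≤ X → ∀ g : G, cj g Q ≤ X := by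
  induction hX with
  | top => intro _ g; exact le_top
  | step X Y hXY hY hN ih =>
    intro hQX g
    have h1 : cj g Q ≤ Y := ih (hQX.trans hXY) g
    obtain ⟨y, hy, hgy⟩ := h.conj_in_subgroup hQ (hQX.trans hXY) g h1
    rw [hgy]
    have h2 : Y ≤ Subgroup.normalizer (X : Set G) :=
      (Subgroup.normal_subgroupOf_iff_le_normalizer hXY).mp hN
    rw [← cj_eq_self_iff.mpr (h2 hy)]
    exact cj_mono hQX

theorem cj_le_of_mem {K Q : Subgroup G} (hQK : Q ≤ K) {k : G} (hk : k ∈ K) : cj k Q ≤ K := by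
  rw [← cj_eq_self_of_mem hk]
  exact cj_mono hQK

theorem cj_iSup_le (K Q : Subgroup G) {x : G} (hx : x ∈ K) :
    cj x (⨆ k : ↥K, cj (k : G) Q) ≤ ⨆ k : ↥K, cj (k : G) Q := by
  unfold cj
  rw [Subgroup.map_iSup]
  apply iSup_le
  intro k
  have : cj x (cj (k : G) Q) = cj ((⟨x * k, K.mul_mem hx k.2⟩ : ↥K) : G) Q := by
    rw [cj_mul]
  unfold cj at this
  rw [this]
  exact le_iSup (fun k : ↥K => Subgroup.map (MulAut.conj (k : G)).toMonoidHom Q) ⟨x * k, K.mul_mem hx k.2⟩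

theorem iSup_cj_normal {K Q : Subgroup G} (hQK : Q ≤ K) :
    ((⨆ k : ↥K, cj (k : G) Q).subgroupOf K).Normal := by
  have hle : (⨆ k : ↥K, cj (k : G) Q) ≤ K := iSup_le fun k => cj_le_of_mem hQK k.2
  rw [Subgroup.normal_subgroupOf_iff_le_normalizer hle]
  intro x hx
  rw [← cj_eq_self_iff]
  apply le_antisymm (cj_iSup_le K Q hx)
  have := cj_iSup_le K Q (K.inv_mem hx)
  rwa [cj_le_iff, inv_inv] at this

theorem le_iSup_cj (K Q : Subgroup G) : Q ≤ ⨆ k : ↥K, cj (k : G) Q := by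
  have := le_iSup (fun k : ↥K => cj (k : G) Q) 1
  simpa [cj_one] using this

/-- The weak closure of `Q` in `K` is generated by the `K`-conjugates of `Q`. -/
theorem WCStrong.weakClosure_eq [Finite G] {p : ℕ} [Fact p.Prime] {Q K : Subgroup G}
    (h : WCStrong p Q) (hQ : IsPGroup p Q) (hQK : Q ≤ K) :
    Cfsg.weakClosure Q K = ⨆ k : ↥K, cj (k : G) Q := by
  unfold Cfsg.weakClosure
  apply le_antisymm
  · apply iSup_le
    rintro ⟨g, hg⟩
    obtain ⟨k, hk, hgk⟩ := h.conj_in_subgroup hQ hQK g hg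
    change cj g Q ≤ _
    rw [hgk]
    exact le_iSup (fun k : ↥K => cj (k : G) Q) ⟨k, hk⟩
  · apply iSup_le
    intro k
    exact le_iSup (fun g : {g : G // Q.map (MulAut.conj g).toMonoidHom ≤ K} =>
      Q.map (MulAut.conj (g : G)).toMonoidHom) ⟨(k : G), cj_le_of_mem hQK k.2⟩

/-- The subnormal closure of `Q` in `K`. -/
theorem WCStrong.subnormalClosure_eq [Finite G] {p : ℕ} [Fact p.Prime] {Q K : Subgroup G}
    (h : WCStrong p Q) (hQ : IsPGroup p Q) (hQK : Q ≤ K) :
    (Cfsg.subnormalClosure (Q.subgroupOf K)).map K.subtype = ⨆ k : ↥K, cj (k : G) Q := by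
  have hle : (⨆ k : ↥K, cj (k : G) Q) ≤ K := iSup_le fun k => cj_le_of_mem hQK k.2
  unfold Cfsg.subnormalClosure
  apply le_antisymm
  · have hmem : (⨆ k : ↥K, cj (k : G) Q).subgroupOf K ∈
        {X : Subgroup ↥K | Q.subgroupOf K ≤ X ∧ X.IsSubnormal} := by
      refine ⟨?_, (iSup_cj_normal hQK).isSubnormal⟩
      intro x hx
      rw [Subgroup.mem_subgroupOf] at hx ⊢
      exact le_iSup_cj K Q hx
    have h1 := Subgroup.map_mono (f := K.subtype) (sInf_le hmem)
    rwa [Subgroup.subgroupOf_map_subtype, inf_of_le_left hle] at h1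
  · apply iSup_le
    intro k
    rw [← cj_subgroupOf_map hQK]
    apply Subgroup.map_mono
    apply le_sInf
    rintro X ⟨hQX, hX⟩
    exact (h.subgroupOf hQK).conj_le_of_subnormal hQ.comap_subtype hX hQX k

end Cfsg.Agent.Lib.helper17
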