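import Mathlib
import Cfsg.Prelude.Def_LocalStructure
import Cfsg.Agent.Lib.helper17.WC3

set_option autoImplicit false

namespace Cfsg.Agent.Lib.helper17

open scoped commutatorElement

variable {G : Type*} [Group G]

theorem exists_mul_of_mem_sup_left {A N : Subgroup G} (hLE : A ≤ Subgroup.normalizer (N : Set G))
    {x : G} (hx : x ∈ A ⊔ N) : ∃ a ∈ A, ∃ n ∈ N, x = a * n := by
  have : x ∈ ((A ⊔ N : Subgroup G) : Set G) := hx
  rw [Subgroup.coe_mul_of_left_le_normalizer_right A N hLE] at this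
  obtain ⟨a, ha, n, hn, rfl⟩ := this
  exact ⟨a, ha, n, hn, rfl⟩

theorem exists_mul_of_mem_sup_right {A N : Subgroup G} (hLE : A ≤ Subgroup.normalizer (N : Set G))
    {x : G} (hx : x ∈ N ⊔ A) : ∃ n ∈ N, ∃ a ∈ A, x = n * a := by
  have : x ∈ ((N ⊔ A : Subgroup G) : Set G) := hx
  rw [Subgroup.coe_mul_of_right_le_normalizer_left N A hLE] at this
  obtain ⟨n, hn, a, ha, rfl⟩ := this
  exact ⟨n, hn, a, ha, rfl⟩

/-- For `n ∈ N'` normal, the conjugate `Q^n` equals `Q^r` for some `r ∈ [N', Q]`. -/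
theorem WCStrong.conj_by_commutator [Finite G] {p : ℕ} [Fact p.Prime] {Q : Subgroup G}
    (h : WCStrong p Q) (hQ : IsPGroup p Q) (N' : Subgroup G) {n : G} (hn : n ∈ N') :
    ∃ r ∈ ⁅N', Q⁆, cj n Q = cj r Q := by
  have hQN : Q ≤ Subgroup.normalizer ((⁅N', Q⁆ : Subgroup G) : Set G) :=
    Subgroup.normalizer_commutator_ge_right _ _
  have h1 : cj n Q ≤ ⁅N', Q⁆ ⊔ Q := by
    rintro _ ⟨q, hq, rfl⟩
    have h5 : n * q * n⁻¹ = ⁅n, q⁆ * q := by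
      rw [commutatorElement_def]
      group
    change n * q * n⁻¹ ∈ _
    rw [h5]
    exact Subgroup.mul_mem_sup (Subgroup.commutator_mem_commutator hn hq) hq
  obtain ⟨k, hk, hnk⟩ := h.conj_in_subgroup hQ le_sup_right n h1
  obtain ⟨r, hr, q, hq, rfl⟩ := exists_mul_of_mem_sup_right hQN hk
  refine ⟨r, hr, ?_⟩
  rw [hnk, cj_mul, cj_eq_self_of_mem hq]

theorem WCStrong.normal_eq_mul [Finite G] {p : ℕ} [Fact p.Prime] {Q : Subgroup G}
    (h : WCStrong p Q) (hQ : IsPGroup p Q) (N' : Subgroup G) [hN : N'.Normal] {n : G} (hn : n ∈ N') :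
    ∃ a ∈ N' ⊓ Subgroup.normalizer (Q : Set G), ∃ b ∈ ⁅N', Q⁆, n = a * b := by
  obtain ⟨r, hr, hnr⟩ := h.conj_by_commutator hQ N' (N'.inv_mem hn)
  have hrN : r ∈ N' := Subgroup.commutator_le_left N' Q hr
  have hmem : n * r ∈ Subgroup.normalizer (Q : Set G) := by
    rw [← cj_eq_self_iff, cj_mul, ← hnr, cj_cj_inv]
  exact ⟨n * r, ⟨N'.mul_mem hn hrN, hmem⟩, r⁻¹, Subgroup.inv_mem _ hr, by group⟩

theorem WCStrong.commutator_eq_mul [Finite G] {p : ℕ} [Fact p.Prime] {Q : Subgroup G}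
    (h : WCStrong p Q) (hQ : IsPGroup p Q) (N' : Subgroup G) {c : G}
    (hc : c ∈ ⁅N', Q⁆) : ∃ a ∈ Q ⊓ ⁅N', Q⁆, ∃ b ∈ ⁅⁅N', Q⁆, Q⁆, c = a * b := by
  have hQR : Q ≤ Subgroup.normalizer ((⁅N', Q⁆ : Subgroup G) : Set G) :=
    Subgroup.normalizer_commutator_ge_right _ _
  have hQRR : Q ≤ Subgroup.normalizer ((⁅⁅N', Q⁆, Q⁆ : Subgroup G) : Set G) :=
    Subgroup.normalizer_commutator_ge_right _ _
  have hRRle : ⁅⁅N', Q⁆, Q⁆ ≤ ⁅N', Q⁆ := Subgroup.le_normalizer_iff_commutator_le_left.mp hQR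
  have hle : ⁅N', Q⁆ ≤ Q ⊔ ⁅⁅N', Q⁆, Q⁆ := by
    rw [Subgroup.commutator_le]
    intro n hn q hq
    obtain ⟨r, hr, hnr⟩ := h.conj_by_commutator hQ N' hn
    have h1 : n * q * n⁻¹ ∈ cj r Q := by
      rw [← hnr]
      exact conj_mem_cj hq
    obtain ⟨q', hq', hq'eq⟩ := h1
    have h2 : ⁅n, q⁆ = ⁅r, q'⁆ * (q' * q⁻¹) := by
      have h3 : r * q' * r⁻¹ = n * q * n⁻¹ := hq'eq
      rw [commutatorElement_def, commutatorElement_def, ← h3]
      group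
    rw [h2, sup_comm]
    exact Subgroup.mul_mem_sup (Subgroup.commutator_mem_commutator hr hq')
      (Q.mul_mem hq' (Q.inv_mem hq))
  obtain ⟨a, ha, b, hb, rfl⟩ := exists_mul_of_mem_sup_left hQRR (hle hc)
  refine ⟨a, ⟨ha, ?_⟩, b, hb, rfl⟩
  have := Subgroup.mul_mem _ hc (Subgroup.inv_mem _ (hRRle hb))
  simpa using this

end Cfsg.Agent.Lib.helper17
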