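import Mathlib
import Cfsg.Prelude.Def_LocalStructure
import Cfsg.Agent.Lib.helper17.WC4
import Cfsg.Agent.Lib.helper17.SPE2

set_option autoImplicit false

namespace Cfsg.Agent.Lib.helper17

variable {G : Type*} [Group G]

theorem cj_inf (g : G) (A B : Subgroup G) : cj g (A ⊓ B) = cj g A ⊓ cj g B := by
  unfold cj
  exact Subgroup.map_inf A B _ (MulAut.conj g).injective

/-- `N(R)` normalizes `Z(R) = R ∩ C(R)`. -/
theorem normalizer_le_normalizer_center (R : Subgroup G) :
    Subgroup.normalizer (R : Set G) ≤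
      Subgroup.normalizer ((R ⊓ Subgroup.centralizer (R : Set G) : Subgroup G) : Set G) := by
  intro x hx
  have h1 : cj x R = R := cj_eq_self_iff.mpr hx
  rw [← cj_eq_self_iff, cj_inf, ← centralizer_cj, h1]

theorem center_ne_bot [Finite G] {p : ℕ} [Fact p.Prime] {R : Subgroup G} (hR : IsPGroup p R)
    (hne : R ≠ ⊥) : R ⊓ Subgroup.centralizer (R : Set G) ≠ ⊥ := by
  obtain ⟨z, hzR, hzo, hzc⟩ := exists_central_orderOf_eq_prime hR hne
  intro hbot
  have hz : z ∈ R ⊓ Subgroup.centralizer (R : Set G) := by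
    refine ⟨hzR, ?_⟩
    change z ∈ Subgroup.centralizer (R : Set G)
    rw [Subgroup.mem_centralizer_iff]
    intro s hs
    exact hzc s hs
  rw [hbot, Subgroup.mem_bot] at hz
  rw [hz, orderOf_one] at hzo
  exact (Fact.out : p.Prime).ne_one hzo.symm

/-- A nontrivial large `p`-subgroup satisfies the normalizer condition. -/
theorem large_normalizer_le [Finite G] {p : ℕ} [Fact p.Prime] {Q : Subgroup G}
    (hL : Cfsg.IsLarge Q) (hQ1 : Q ≠ ⊥) {R : Subgroup G} (hR : IsPGroup p R) (hQR : Q ≤ R) :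
    Subgroup.normalizer (R : Set G) ≤ Subgroup.normalizer (Q : Set G) := by
  have hRne : R ≠ ⊥ := fun h => hQ1 (le_bot_iff.mp (h ▸ hQR))
  have hU := center_ne_bot hR hRne
  have hUC : R ⊓ Subgroup.centralizer (R : Set G) ≤ Subgroup.centralizer (Q : Set G) :=
    inf_le_right.trans (Subgroup.centralizer_le (SetLike.coe_subset_coe.mpr hQR))
  exact (normalizer_le_normalizer_center R).trans (hL.2 _ hUC hU)

theorem large_wcStrong [Finite G] {p : ℕ} [Fact p.Prime] {Q : Subgroup G}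
    (hL : Cfsg.IsLarge Q) (hQ1 : Q ≠ ⊥) : WCStrong p Q :=
  wcStrong_of_normalizer_le (fun _ hR hQR => large_normalizer_le hL hQ1 hR hQR)

/-- For `g ∉ N(Q)`: `C(Q) ∩ C(Q^g) = 1`. -/
theorem large_centralizer_inf_eq_bot [Finite G] {p : ℕ} [Fact p.Prime] {Q : Subgroup G}
    (hL : Cfsg.IsLarge Q) (hQ : IsPGroup p Q) (hQ1 : Q ≠ ⊥) {g : G}
    (hg : g ∉ Subgroup.normalizer (Q : Set G)) :
    Subgroup.centralizer (Q : Set G) ⊓ Subgroup.centralizer ((cj g Q : Subgroup G) : Set G) = ⊥ := by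
  by_contra hne
  apply hg
  have h1 := hL.2 _ inf_le_left hne
  -- `cj g Q ≤ C(U) ≤ N(U) ≤ N(Q)`
  have h2 : cj g Q ≤ Subgroup.normalizer (Q : Set G) := by
    refine le_trans ?_ h1
    refine le_trans ?_ (Subgroup.centralizer_le_normalizer _)
    intro x hx
    rw [Subgroup.mem_centralizer_iff]
    intro u hu
    have hu2 : u ∈ Subgroup.centralizer ((cj g Q : Subgroup G) : Set G) := hu.2
    rw [Subgroup.mem_centralizer_iff] at hu2
    exact (hu2 x hx).symm
  have h3 : IsPGroup p (cj g Q ⊔ Q : Subgroup G) := (isPGroup_cj hQ).to_sup_of_normal_right' hQ h2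
  have h4 := large_wcStrong (p := p) hL hQ1 _ h3 le_sup_right g le_sup_left
  exact cj_eq_self_iff.mp h4

end Cfsg.Agent.Lib.helper17
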