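import Mathlib
import Cfsg.Agent.Lib.helper17.Conj

set_option autoImplicit false

namespace Cfsg.Agent.Lib.helper17

open scoped commutatorElement

variable {G : Type*} [Group G]

/-- In a nilpotent group, a nontrivial normal subgroup meets the center nontrivially. -/
theorem nilpotent_normal_inf_center_ne_bot [Group.IsNilpotent G]
    (N : Subgroup G) [hNn : N.Normal] (hN : N ≠ ⊥) : N ⊓ Subgroup.center G ≠ ⊥ := by
  classical
  have hex : ∃ n : ℕ, N ⊓ Subgroup.upperCentralSeries G n ≠ ⊥ := by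
    obtain ⟨n, hn⟩ := Group.IsNilpotent.nilpotent G
    exact ⟨n, by rw [hn, inf_top_eq]; exact hN⟩
  have hmin : ∀ m, m < Nat.find hex → ¬ (N ⊓ Subgroup.upperCentralSeries G m ≠ ⊥) :=
    fun m hm => Nat.find_min hex hm
  have hspec := Nat.find_spec hex
  set n := Nat.find hex with hn
  cases hn' : n with
  | zero =>
    rw [hn'] at hspec
    simp at hspec
  | succ m =>
    have hm : N ⊓ Subgroup.upperCentralSeries G m = ⊥ := by
      have := hmin m (by omega)
      simpa using this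
    rw [hn'] at hspec
    intro hbot
    apply hspec
    rw [eq_bot_iff] at hbot ⊢
    refine le_trans ?_ hbot
    intro x hx
    refine Subgroup.mem_inf.mpr ⟨hx.1, ?_⟩
    rw [Subgroup.mem_center_iff]
    intro y
    have h1 : ⁅x, y⁆ ∈ Subgroup.upperCentralSeries G m :=
      Subgroup.mem_upperCentralSeries_succ_iff.mp hx.2 y
    have h2 : ⁅x, y⁆ ∈ N := by
      rw [commutatorElement_def]
      have := hNn.conj_mem x⁻¹ (N.inv_mem hx.1) y
      have h3 : x * y * x⁻¹ * y⁻¹ = x * (y * x⁻¹ * y⁻¹) := by group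
      rw [h3]
      exact N.mul_mem hx.1 this
    have h4 : ⁅x, y⁆ ∈ N ⊓ Subgroup.upperCentralSeries G m := ⟨h2, h1⟩
    rw [hm, Subgroup.mem_bot, commutatorElement_eq_one_iff_mul_comm] at h4
    exact h4.symm

/-- A `p`-group `Q` normalizing a nontrivial `p`-group `Y` centralizes a nontrivial subgroup of `Y`. -/
theorem inf_centralizer_ne_bot_of_pgroups [Finite G] {p : ℕ} [Fact p.Prime] {Q Y : Subgroup G}
    (hQ : IsPGroup p Q) (hY : IsPGroup p Y) (hY1 : Y ≠ ⊥)
    (hQY : Q ≤ Subgroup.normalizer (Y : Set G)) : Y ⊓ Subgroup.centralizer (Q : Set G) ≠ ⊥ := by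
  have hR : IsPGroup p (Q ⊔ Y : Subgroup G) := hQ.to_sup_of_normal_right' hY hQY
  have hnil : Group.IsNilpotent (Q ⊔ Y : Subgroup G) := hR.isNilpotent
  have hYR : Y ≤ Q ⊔ Y := le_sup_right
  have hnorm : (Y.subgroupOf (Q ⊔ Y)).Normal := by
    rw [Subgroup.normal_subgroupOf_iff_le_normalizer hYR]
    exact sup_le hQY Subgroup.le_normalizer
  have hne : Y.subgroupOf (Q ⊔ Y) ≠ ⊥ := by
    intro h
    apply hY1
    rw [Subgroup.subgroupOf_eq_bot] at h
    rw [← le_bot_iff]
    intro y hy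
    have : y ∈ Y ⊓ (Q ⊔ Y) := ⟨hy, hYR hy⟩
    rw [disjoint_iff.mp h] at this
    exact this
  have h1 := nilpotent_normal_inf_center_ne_bot (Y.subgroupOf (Q ⊔ Y)) hne
  intro hbot
  apply h1
  rw [← le_bot_iff]
  rintro ⟨z, hzR⟩ ⟨hzY, hzc⟩
  rw [Subgroup.mem_bot]
  apply Subtype.ext
  change z = 1
  have hz : z ∈ Y ⊓ Subgroup.centralizer (Q : Set G) := by
    refine ⟨Subgroup.mem_subgroupOf.mp hzY, ?_⟩
    change z ∈ Subgroup.centralizer (Q : Set G)
    rw [Subgroup.mem_centralizer_iff]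
    intro q hq
    have := Subgroup.mem_center_iff.mp hzc ⟨q, le_sup_left (b := Y) hq⟩
    exact congrArg Subtype.val this
  rw [hbot, Subgroup.mem_bot] at hz
  exact hz

end Cfsg.Agent.Lib.helper17
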