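import Mathlib
import Cfsg.Prelude.Def_LocalStructure
import Cfsg.Agent.Lib.helper17.Large
import Cfsg.Agent.Lib.helper17.PAct

set_option autoImplicit false

namespace Cfsg.Agent.Lib.helper17

open scoped commutatorElement

variable {G : Type*} [Group G]

theorem large_cj {Q : Subgroup G} (hL : Cfsg.IsLarge Q) (g : G) : Cfsg.IsLarge (cj g Q) := by
  refine ⟨?_, ?_⟩
  · rw [centralizer_cj]
    exact cj_mono hL.1
  · intro U hU hU1
    rw [centralizer_cj, ← cj_cj_inv g U, ] at hU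
    have h1 : cj g⁻¹ U ≤ Subgroup.centralizer (Q : Set G) := by
      have := cj_mono (g := g⁻¹) hU
      rwa [cj_inv_cj, cj_inv_cj] at this
    have h2 : cj g⁻¹ U ≠ ⊥ := fun h => hU1 (cj_eq_bot_iff.mp h)
    have h3 := hL.2 _ h1 h2
    rw [normalizer_cj] at h3
    have h4 := cj_mono (g := g) h3
    rwa [cj_cj_inv, ← normalizer_cj] at h4

/-- If the large `p`-subgroup `Q` normalizes the nontrivial `p`-subgroup `Y`, then `C(Y) ≤ N(Q)`. -/
theorem large_centralizer_le_normalizer [Finite G] {p : ℕ} [Fact p.Prime] {Q Y : Subgroup G}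
    (hL : Cfsg.IsLarge Q) (hQ : IsPGroup p Q) (hY : IsPGroup p Y) (hY1 : Y ≠ ⊥)
    (hQY : Q ≤ Subgroup.normalizer (Y : Set G)) :
    Subgroup.centralizer (Y : Set G) ≤ Subgroup.normalizer (Q : Set G) := by
  have hU := inf_centralizer_ne_bot_of_pgroups hQ hY hY1 hQY
  have h1 := hL.2 _ inf_le_right hU
  refine le_trans ?_ h1
  refine le_trans ?_ (Subgroup.centralizer_le_normalizer _)
  exact Subgroup.centralizer_le (SetLike.coe_subset_coe.mpr inf_le_left)

theorem normalizer_le_normalizer_centralizer' (Y : Subgroup G) :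
    Subgroup.normalizer (Y : Set G) ≤
      Subgroup.normalizer ((Subgroup.centralizer (Y : Set G) : Subgroup G) : Set G) := by
  intro x hx
  have h1 : cj x Y = Y := cj_eq_self_iff.mpr hx
  rw [← cj_eq_self_iff, ← centralizer_cj, h1]

/-- A subgroup generated by `p`-subgroups, each normalized by the whole, is a `p`-group. -/
theorem isPGroup_iSup_of_le_normalizer {p : ℕ} [Fact p.Prime] {ι : Type*} (E : ι → Subgroup G)
    (hp : ∀ i, IsPGroup p (E i))
    (hn : ∀ i, (⨆ j, E j) ≤ Subgroup.normalizer ((E i : Subgroup G) : Set G)) :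
    IsPGroup p (⨆ j, E j : Subgroup G) := by
  have hle : ∀ i, E i ≤ ⨆ j, E j := fun i => le_iSup E i
  have h1 : ∀ i, E i ≤ (Cfsg.pCore p ↥(⨆ j, E j : Subgroup G)).map (⨆ j, E j : Subgroup G).subtype := by
    intro i
    have hnorm : ((E i).subgroupOf (⨆ j, E j)).Normal :=
      (Subgroup.normal_subgroupOf_iff_le_normalizer (hle i)).mpr (hn i)
    have h2 : (E i).subgroupOf (⨆ j, E j) ≤ Cfsg.pCore p ↥(⨆ j, E j : Subgroup G) :=
      le_pCore hnorm (hp i).comap_subtype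
    intro x hx
    exact ⟨⟨x, hle i hx⟩, h2 (Subgroup.mem_subgroupOf.mpr hx), rfl⟩
  have h3 : (⨆ j, E j : Subgroup G) ≤
      (Cfsg.pCore p ↥(⨆ j, E j : Subgroup G)).map (⨆ j, E j : Subgroup G).subtype := iSup_le h1
  exact ((pCore_isPGroup p _).map _).to_le h3

theorem commutatorElement_mul_left (x y c : G) : ⁅x * y, c⁆ = x * ⁅y, c⁆ * x⁻¹ * ⁅x, c⁆ := by
  simp only [commutatorElement_def]
  group

/-- If `W = ⨆ S i` normalizes `E` and `[S i, C] ≤ E` for all `i`, then `[W, C] ≤ E`. -/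
theorem commutator_iSup_le {ι : Sort*} (S : ι → Subgroup G) (C E : Subgroup G)
    (hn : (⨆ i, S i) ≤ Subgroup.normalizer (E : Set G)) (h : ∀ i, ⁅S i, C⁆ ≤ E) :
    ⁅(⨆ i, S i), C⁆ ≤ E := by
  rw [Subgroup.commutator_le]
  intro w hw c hc
  have key : w ∈ (⨆ i, S i) ∧ ⁅w, c⁆ ∈ E := by
    refine Subgroup.iSup_induction S (C := fun w => w ∈ (⨆ i, S i) ∧ ⁅w, c⁆ ∈ E) hw ?_ ?_ ?_
    · intro i x hx
      exact ⟨le_iSup S i hx, h i (Subgroup.commutator_mem_commutator hx hc)⟩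
    · refine ⟨Subgroup.one_mem _, ?_⟩
      rw [commutatorElement_one_left]
      exact Subgroup.one_mem _
    · rintro x y ⟨hx1, hx2⟩ ⟨hy1, hy2⟩
      refine ⟨Subgroup.mul_mem _ hx1 hy1, ?_⟩
      rw [commutatorElement_mul_left]
      refine Subgroup.mul_mem _ ?_ hx2
      exact (Subgroup.mem_normalizer_iff.mp (hn hx1) _).mp hy2
  exact key.2

end Cfsg.Agent.Lib.helper17
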