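import Mathlib
import Cfsg.Prelude.Def_LocalStructure
import Cfsg.Agent.Lib.helper17.PIrr

set_option autoImplicit false

namespace Cfsg.Agent.Lib.helper17

variable {G : Type*} [Group G]

/-- `x` is a `p`-element. -/
def IsPElt (p : ℕ) (x : G) : Prop := ∃ k : ℕ, x ^ (p ^ k) = 1

theorem IsPElt.one (p : ℕ) : IsPElt p (1 : G) := ⟨0, by simp⟩

theorem IsPElt.inv {p : ℕ} {x : G} (h : IsPElt p x) : IsPElt p x⁻¹ := by
  obtain ⟨k, hk⟩ := h
  exact ⟨k, by rw [inv_pow, hk, inv_one]⟩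

theorem IsPElt.conj {p : ℕ} {x : G} (h : IsPElt p x) (g : G) : IsPElt p (g * x * g⁻¹) := by
  obtain ⟨k, hk⟩ := h
  exact ⟨k, by rw [conj_pow, hk, mul_one, mul_inv_cancel]⟩

theorem IsPElt.map {G' : Type*} [Group G'] {p : ℕ} {x : G} (h : IsPElt p x) (f : G →* G') :
    IsPElt p (f x) := by
  obtain ⟨k, hk⟩ := h
  exact ⟨k, by rw [← map_pow, hk, map_one]⟩

theorem isPElt_of_mem {p : ℕ} {P : Subgroup G} (hP : IsPGroup p P) {x : G} (hx : x ∈ P) :
    IsPElt p x := by
  obtain ⟨k, hk⟩ := hP ⟨x, hx⟩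
  refine ⟨k, ?_⟩
  have := congrArg Subtype.val hk
  simpa using this

theorem isPElt_coe_iff {p : ℕ} {N : Subgroup G} (x : N) : IsPElt p (x : G) ↔ IsPElt p x := by
  constructor
  · rintro ⟨k, hk⟩
    refine ⟨k, ?_⟩
    apply Subtype.ext
    simpa using hk
  · rintro ⟨k, hk⟩
    refine ⟨k, ?_⟩
    have := congrArg Subtype.val hk
    simpa using this

theorem IsPElt.isPGroup_zpowers {p : ℕ} [Fact p.Prime] {x : G} (h : IsPElt p x) :
    IsPGroup p (Subgroup.zpowers x) := by
  obtain ⟨k, hk⟩ := h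
  rintro ⟨y, hy⟩
  obtain ⟨n, rfl⟩ := Subgroup.mem_zpowers_iff.mp hy
  refine ⟨k, ?_⟩
  apply Subtype.ext
  change (x ^ n) ^ (p ^ k) = 1
  rw [← zpow_natCast, ← zpow_mul, mul_comm, zpow_mul, zpow_natCast, hk, one_zpow]

/-- Element-wise characterization of `p`-closed finite groups. -/
theorem isPClosed_iff_mul [Finite G] {p : ℕ} [Fact p.Prime] :
    Cfsg.IsPClosed p G ↔ ∀ x y : G, IsPElt p x → IsPElt p y → IsPElt p (x * y) := by
  constructor
  · intro h x y hx hy
    obtain ⟨P⟩ : Nonempty (Sylow p G) := inferInstance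
    have hPn : (P : Subgroup G).Normal := h P
    have hmem : ∀ z : G, IsPElt p z → z ∈ (P : Subgroup G) := by
      intro z hz
      obtain ⟨Q, hQ⟩ := IsPGroup.exists_le_sylow hz.isPGroup_zpowers
      have := Sylow.unique_of_normal P hPn
      rw [Subsingleton.elim P Q]
      exact hQ (Subgroup.mem_zpowers z)
    exact isPElt_of_mem P.isPGroup' (Subgroup.mul_mem _ (hmem x hx) (hmem y hy))
  · intro h Q
    let P : Subgroup G :=
      { carrier := {x | IsPElt p x}
        mul_mem' := fun {a b} ha hb => h a b ha hb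
        one_mem' := IsPElt.one p
        inv_mem' := fun {a} ha => ha.inv }
    have hPp : IsPGroup p P := by
      rintro ⟨x, hx⟩
      exact (isPElt_coe_iff (N := P) ⟨x, hx⟩).mp hx
    have hQP : (Q : Subgroup G) ≤ P := fun x hx => isPElt_of_mem Q.isPGroup' hx
    have hPQ : P = Q := Q.3 hPp hQP
    rw [← hPQ]
    constructor
    intro n hn g
    exact IsPElt.conj hn g

/-- Subgroup-level version. -/
theorem isPClosed_subgroup_iff [Finite G] {p : ℕ} [Fact p.Prime] (N : Subgroup G) :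
    Cfsg.IsPClosed p ↥N ↔ ∀ x ∈ N, ∀ y ∈ N, IsPElt p x → IsPElt p y → IsPElt p (x * y) := by
  rw [isPClosed_iff_mul]
  constructor
  · intro h x hx y hy hxp hyp
    have := h ⟨x, hx⟩ ⟨y, hy⟩ ((isPElt_coe_iff (N := N) ⟨x, hx⟩).mp hxp)
      ((isPElt_coe_iff (N := N) ⟨y, hy⟩).mp hyp)
    exact (isPElt_coe_iff (N := N) (⟨x, hx⟩ * ⟨y, hy⟩)).mpr this
  · intro h x y hx hy
    have := h x x.2 y y.2 ((isPElt_coe_iff x).mpr hx) ((isPElt_coe_iff y).mpr hy)
    exact (isPElt_coe_iff (x * y)).mp this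

/-- Modulo a normal `p`-subgroup `D`, being a `p`-element is detected in the quotient. -/
theorem isPElt_mk_iff {p : ℕ} (D : Subgroup G) [D.Normal] (hD : IsPGroup p D) (g : G) :
    IsPElt p (QuotientGroup.mk' D g) ↔ IsPElt p g := by
  constructor
  · rintro ⟨k, hk⟩
    rw [← map_pow] at hk
    have hmem : g ^ (p ^ k) ∈ D := by
      have : g ^ (p ^ k) ∈ (QuotientGroup.mk' D).ker := hk
      rwa [QuotientGroup.ker_mk'] at this
    obtain ⟨j, hj⟩ := isPElt_of_mem hD hmem
    refine ⟨k + j, ?_⟩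
    rw [pow_add, pow_mul, hj]
  · intro h
    exact h.map _

theorem isPClosed_map_mk_iff [Finite G] {p : ℕ} [Fact p.Prime] (D : Subgroup G) [D.Normal]
    (hD : IsPGroup p D) (N : Subgroup G) :
    Cfsg.IsPClosed p ↥(N.map (QuotientGroup.mk' D)) ↔ Cfsg.IsPClosed p ↥N := by
  rw [isPClosed_subgroup_iff, isPClosed_subgroup_iff]
  constructor
  · intro h x hx y hy hxp hyp
    have := h _ (Subgroup.mem_map_of_mem _ hx) _ (Subgroup.mem_map_of_mem _ hy)
      (hxp.map _) (hyp.map _)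
    rw [← map_mul] at this
    exact (isPElt_mk_iff D hD _).mp this
  · rintro h _ ⟨x, hx, rfl⟩ _ ⟨y, hy, rfl⟩ hxp hyp
    rw [← map_mul]
    exact (h x hx y hy ((isPElt_mk_iff D hD _).mp hxp) ((isPElt_mk_iff D hD _).mp hyp)).map _

theorem isPClosed_quotient_iff [Finite G] {p : ℕ} [Fact p.Prime] (D : Subgroup G) [D.Normal]
    (hD : IsPGroup p D) : Cfsg.IsPClosed p (G ⧸ D) ↔ Cfsg.IsPClosed p G := by
  rw [isPClosed_iff_mul, isPClosed_iff_mul]
  constructor
  · intro h x y hxp hyp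
    have := h _ _ (hxp.map (QuotientGroup.mk' D)) (hyp.map (QuotientGroup.mk' D))
    rw [← map_mul] at this
    exact (isPElt_mk_iff D hD _).mp this
  · intro h a b hap hbp
    obtain ⟨x, rfl⟩ := QuotientGroup.mk'_surjective D a
    obtain ⟨y, rfl⟩ := QuotientGroup.mk'_surjective D b
    rw [← map_mul]
    exact (h x y ((isPElt_mk_iff D hD _).mp hap) ((isPElt_mk_iff D hD _).mp hbp)).map _

theorem exists_pow_mem_pResidual [Finite G] (p : ℕ) [Fact p.Prime] (g : G) :
    ∃ k : ℕ, g ^ (p ^ k) ∈ Cfsg.pResidual p G := by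
  have := pResidual_normal p G
  obtain ⟨k, hk⟩ := (isPGroup_quotient_pResidual (G := G) p) (QuotientGroup.mk g)
  refine ⟨k, ?_⟩
  rw [← QuotientGroup.mk_pow] at hk
  exact (QuotientGroup.eq_one_iff _).mp hk

theorem pResidual_map_surjective [Finite G] {G' : Type*} [Group G'] {p : ℕ} [Fact p.Prime]
    (f : G →* G') (hf : Function.Surjective f) :
    (Cfsg.pResidual p G).map f = Cfsg.pResidual p G' := by
  apply le_antisymm
  · unfold Cfsg.pResidual
    rw [MonoidHom.map_closure]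
    apply Subgroup.closure_mono
    rintro _ ⟨g, hg, rfl⟩
    have hg' : Nat.Coprime (orderOf g) p := hg
    exact Nat.Coprime.coprime_dvd_left (orderOf_map_dvd f g) hg'
  · have hcl : Cfsg.pResidual p G' = Subgroup.closure {g : G' | Nat.Coprime (orderOf g) p} := rfl
    rw [hcl, Subgroup.closure_le]
    intro g' hg'
    have hg'c : Nat.Coprime (orderOf g') p := hg'
    obtain ⟨g, rfl⟩ := hf g'
    obtain ⟨k, hk⟩ := exists_pow_mem_pResidual p g
    have hcop : Nat.Coprime (p ^ k) (orderOf (f g)) := (Nat.Coprime.pow_right k hg'c).symm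
    obtain ⟨m, hm⟩ := exists_pow_eq_self_of_coprime hcop
    refine ⟨(g ^ (p ^ k)) ^ m, Subgroup.pow_mem _ hk m, ?_⟩
    rw [map_pow, map_pow, hm]

theorem pCore_quotient {p : ℕ} [Fact p.Prime] (D : Subgroup G) [D.Normal] (hD : IsPGroup p D) :
    Cfsg.pCore p (G ⧸ D) = (Cfsg.pCore p G).map (QuotientGroup.mk' D) := by
  have hsurj := QuotientGroup.mk'_surjective D
  apply le_antisymm
  · have h1 : (Cfsg.pCore p (G ⧸ D)).comap (QuotientGroup.mk' D) ≤ Cfsg.pCore p G := by
      apply le_pCore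
      · have := pCore_normal p (G ⧸ D)
        exact Subgroup.Normal.comap this _
      · apply IsPGroup.comap_of_ker_isPGroup (pCore_isPGroup p (G ⧸ D))
        rw [QuotientGroup.ker_mk']
        exact hD
    rw [← Subgroup.map_comap_eq_self_of_surjective hsurj (Cfsg.pCore p (G ⧸ D))]
    exact Subgroup.map_mono h1
  · apply le_pCore
    · have := pCore_normal p G
      exact Subgroup.Normal.map this _ hsurj
    · exact (pCore_isPGroup p G).map _

theorem le_pCore_of_normal_isPGroup {p : ℕ} (D : Subgroup G) [hn : D.Normal] (hD : IsPGroup p D) :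
    D ≤ Cfsg.pCore p G := le_pCore hn hD

end Cfsg.Agent.Lib.helper17
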