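import Mathlib
import Cfsg.Prelude.Def_LocalStructure
import Cfsg.Agent.Lib.helper17.PClosed
import Cfsg.Agent.Lib.helper17.WC4

set_option autoImplicit false

namespace Cfsg.Agent.Lib.helper17

variable {G : Type*} [Group G]

/-- `O^p(K)` for a subgroup `K`, as a subgroup of the ambient group. -/
def opOf (p : ℕ) (K : Subgroup G) : Subgroup G :=
  Subgroup.closure {g | g ∈ K ∧ Nat.Coprime (orderOf g) p}

theorem map_pResidual_eq_opOf (p : ℕ) (K : Subgroup G) :
    (Cfsg.pResidual p ↥K).map K.subtype = opOf p K := by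
  unfold Cfsg.pResidual opOf
  rw [MonoidHom.map_closure]
  congr 1
  ext g
  constructor
  · rintro ⟨x, hx, rfl⟩
    have hx' : Nat.Coprime (orderOf x) p := hx
    refine ⟨x.2, ?_⟩
    rw [Subgroup.coe_subtype, Subgroup.orderOf_coe]
    exact hx'
  · rintro ⟨hgK, hg⟩
    refine ⟨⟨g, hgK⟩, ?_, rfl⟩
    change Nat.Coprime (orderOf (⟨g, hgK⟩ : K)) p
    rw [Subgroup.orderOf_mk]
    exact hg

theorem opOf_le (p : ℕ) (K : Subgroup G) : opOf p K ≤ K := by
  unfold opOf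
  rw [Subgroup.closure_le]
  intro g hg
  exact hg.1

theorem mem_opOf {p : ℕ} {K : Subgroup G} {g : G} (hg : g ∈ K) (hc : Nat.Coprime (orderOf g) p) :
    g ∈ opOf p K :=
  Subgroup.subset_closure ⟨hg, hc⟩

theorem opOf_le_iff {p : ℕ} {K N : Subgroup G} :
    opOf p K ≤ N ↔ ∀ g ∈ K, Nat.Coprime (orderOf g) p → g ∈ N := by
  unfold opOf
  rw [Subgroup.closure_le]
  constructor
  · intro h g hg hc
    exact h ⟨hg, hc⟩
  · intro h g hg
    exact h g hg.1 hg.2

theorem opOf_mono {p : ℕ} {K K' : Subgroup G} (h : K ≤ K') : opOf p K ≤ opOf p K' := by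
  rw [opOf_le_iff]
  intro g hg hc
  exact mem_opOf (h hg) hc

theorem opOf_opOf (p : ℕ) (K : Subgroup G) : opOf p (opOf p K) = opOf p K := by
  apply le_antisymm (opOf_le p _)
  rw [opOf_le_iff]
  intro g hg hc
  exact mem_opOf (mem_opOf hg hc) hc

theorem cj_opOf (p : ℕ) (x : G) (K : Subgroup G) : cj x (opOf p K) = opOf p (cj x K) := by
  unfold opOf cj
  rw [MonoidHom.map_closure]
  congr 1
  ext g
  constructor
  · rintro ⟨y, ⟨hyK, hy⟩, rfl⟩
    refine ⟨Subgroup.mem_map_of_mem _ hyK, ?_⟩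
    simp only [MulEquiv.coe_toMonoidHom, MulAut.conj_apply]
    rw [orderOf_conj']
    exact hy
  · rintro ⟨⟨y, hyK, rfl⟩, hg⟩
    refine ⟨y, ⟨hyK, ?_⟩, rfl⟩
    simp only [MulEquiv.coe_toMonoidHom, MulAut.conj_apply] at hg
    rwa [orderOf_conj'] at hg

theorem normalizer_le_normalizer_opOf (p : ℕ) (K : Subgroup G) :
    Subgroup.normalizer (K : Set G) ≤ Subgroup.normalizer ((opOf p K : Subgroup G) : Set G) := by
  intro x hx
  rw [← cj_eq_self_iff, cj_opOf, cj_eq_self_iff.mpr hx]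

/-- If `K = N (K ∩ P)`-like: `K ≤ N ⊔ P` with `N ⊴ K`, `P ≤ K` a `p`-group, then `O^p(K) ≤ N`. -/
theorem opOf_le_of_le_sup {p : ℕ} [Fact p.Prime] {N P K : Subgroup G} (hNK : N ≤ K)
    (hKN : K ≤ Subgroup.normalizer (N : Set G)) (hP : IsPGroup p P) (hPK : P ≤ K)
    (hK : K ≤ N ⊔ P) : opOf p K ≤ N := by
  rw [opOf_le_iff]
  intro g hg hc
  have hnorm : (N.subgroupOf K).Normal := (Subgroup.normal_subgroupOf_iff_le_normalizer hNK).mpr hKN
  have h1 : (⟨g, hg⟩ : K) ∈ N.subgroupOf K ⊔ P.subgroupOf K := by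
    rw [← Subgroup.subgroupOf_sup hNK hPK, Subgroup.mem_subgroupOf]
    exact hK hg
  have h2 : Nat.Coprime (orderOf (⟨g, hg⟩ : K)) p := by
    rw [Subgroup.orderOf_mk]
    exact hc
  have := mem_of_mem_sup_of_coprime (N.subgroupOf K) (P.subgroupOf K) hP.comap_subtype h1 h2
  exact Subgroup.mem_subgroupOf.mp this

/-! ### `O_p` of subgroups -/

theorem le_normalizer_of_cj_le' {X E : Subgroup G}
    (h : ∀ x ∈ X, cj x E ≤ E) : X ≤ Subgroup.normalizer (E : Set G) := by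
  intro x hx
  rw [← cj_eq_self_iff]
  apply le_antisymm (h x hx)
  have := h x⁻¹ (X.inv_mem hx)
  rwa [cj_le_iff, inv_inv] at this

theorem le_pCoreOf {p : ℕ} {P X : Subgroup G} (hPX : P ≤ X) (hP : IsPGroup p P)
    (hn : X ≤ Subgroup.normalizer (P : Set G)) : P ≤ Cfsg.pCoreOf p X := by
  unfold Cfsg.pCoreOf
  have hnorm : (P.subgroupOf X).Normal := (Subgroup.normal_subgroupOf_iff_le_normalizer hPX).mpr hn
  have h2 := le_pCore hnorm hP.comap_subtype
  intro x hx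
  exact ⟨⟨x, hPX hx⟩, h2 (Subgroup.mem_subgroupOf.mpr hx), rfl⟩

theorem pCoreOf_le (p : ℕ) (X : Subgroup G) : Cfsg.pCoreOf p X ≤ X := by
  unfold Cfsg.pCoreOf
  exact Subgroup.map_subtype_le _

theorem pCoreOf_isPGroup (p : ℕ) (X : Subgroup G) : IsPGroup p (Cfsg.pCoreOf p X) := by
  unfold Cfsg.pCoreOf
  exact (pCore_isPGroup p _).map _

theorem le_normalizer_pCoreOf (p : ℕ) (X : Subgroup G) :
    X ≤ Subgroup.normalizer ((Cfsg.pCoreOf p X : Subgroup G) : Set G) := by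
  unfold Cfsg.pCoreOf
  have h1 := Subgroup.le_normalizer_map (H := Cfsg.pCore p ↥X) X.subtype
  have h2 : (Cfsg.pCore p ↥X).Normal := pCore_normal p _
  rw [Subgroup.normalizer_eq_top_iff.mpr h2, ← MonoidHom.range_eq_map, Subgroup.range_subtype] at h1
  exact h1

theorem normalizer_le_normalizer_pCoreOf (p : ℕ) (X : Subgroup G) :
    Subgroup.normalizer (X : Set G) ≤ Subgroup.normalizer ((Cfsg.pCoreOf p X : Subgroup G) : Set G) := by
  apply le_normalizer_of_cj_le'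
  intro k hk
  have hkX : cj k X = X := cj_eq_self_iff.mpr hk
  apply le_pCoreOf
  · exact (cj_mono (pCoreOf_le p X)).trans hkX.le
  · exact isPGroup_cj (pCoreOf_isPGroup p X)
  · rw [normalizer_cj]
    exact hkX.symm.le.trans (cj_mono (le_normalizer_pCoreOf p X))

end Cfsg.Agent.Lib.helper17
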