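import Mathlib
import Cfsg.Prelude.Def_LocalStructure
import Cfsg.Agent.Lib.helper17.Op

set_option autoImplicit false

namespace Cfsg.Agent.Lib.helper17

variable {G : Type*} [Group G]

/-- `O_p(X) ≤ O_p(G)` for subnormal `X`. -/
theorem pCoreOf_le_pCore_of_subnormal {p : ℕ} {X : Subgroup G} (hX : X.IsSubnormal) :
    Cfsg.pCoreOf p X ≤ Cfsg.pCore p G := by
  induction hX with
  | top =>
    apply le_pCore
    · rw [← Subgroup.normalizer_eq_top_iff, ← top_le_iff]
      exact le_normalizer_pCoreOf p ⊤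
    · exact pCoreOf_isPGroup p ⊤
  | step X K hXK hK hN ih =>
    refine le_trans ?_ ih
    apply le_pCoreOf ((pCoreOf_le p X).trans hXK) (pCoreOf_isPGroup p X)
    exact ((Subgroup.normal_subgroupOf_iff_le_normalizer hXK).mp hN).trans
      (normalizer_le_normalizer_pCoreOf p X)

/-- A subnormal `p`-subgroup lies in `O_p(G)`. -/
theorem le_pCore_of_subnormal_isPGroup {p : ℕ} {A : Subgroup G} (hA : A.IsSubnormal)
    (hAp : IsPGroup p A) : A ≤ Cfsg.pCore p G :=
  (le_pCoreOf (le_refl A) hAp Subgroup.le_normalizer).trans (pCoreOf_le_pCore_of_subnormal hA)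

/-- A subnormal `p`-subgroup normalizes every subnormal subgroup `B` with `B = O^p(B)`. -/
theorem pCore_le_normalizer_of_subnormal_opOf [Finite G] {p : ℕ} [Fact p.Prime] {B : Subgroup G}
    (hB : B.IsSubnormal) (hBres : opOf p B = B) :
    opOf p (Cfsg.pCore p G ⊔ B) = B := by
  have hPn : (Cfsg.pCore p G).Normal := pCore_normal p G
  have hBX : B ≤ opOf p (Cfsg.pCore p G ⊔ B) := by
    conv_lhs => rw [← hBres]
    exact opOf_mono le_sup_right
  by_contra hne
  have hlt : B < opOf p (Cfsg.pCore p G ⊔ B) := lt_of_le_of_ne hBX (Ne.symm hne)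
  have hsub : (B.subgroupOf (opOf p (Cfsg.pCore p G ⊔ B))).IsSubnormal := hB.subgroupOf
  have hnetop : B.subgroupOf (opOf p (Cfsg.pCore p G ⊔ B)) ≠ ⊤ := by
    rw [Ne, Subgroup.subgroupOf_eq_top]
    exact hlt.not_ge
  obtain ⟨N', hN'n, hBN', hN'lt⟩ := hsub.exists_normal_and_le_and_lt_top_of_ne hnetop
  have hNX : N'.map (opOf p (Cfsg.pCore p G ⊔ B)).subtype ≤ opOf p (Cfsg.pCore p G ⊔ B) :=
    Subgroup.map_subtype_le _
  have hN'eq : (N'.map (opOf p (Cfsg.pCore p G ⊔ B)).subtype).subgroupOf (opOf p (Cfsg.pCore p G ⊔ B)) = N' :=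
    Subgroup.comap_map_eq_self_of_injective (Subgroup.subtype_injective _) N'
  have hXN : opOf p (Cfsg.pCore p G ⊔ B) ≤
      Subgroup.normalizer ((N'.map (opOf p (Cfsg.pCore p G ⊔ B)).subtype : Subgroup G) : Set G) := by
    rw [← Subgroup.normal_subgroupOf_iff_le_normalizer hNX, hN'eq]
    exact hN'n
  have hBN : B ≤ N'.map (opOf p (Cfsg.pCore p G ⊔ B)).subtype := by
    intro b hb
    exact ⟨⟨b, hBX hb⟩, hBN' (Subgroup.mem_subgroupOf.mpr hb), rfl⟩
  have hXle : opOf p (Cfsg.pCore p G ⊔ B) ≤ N'.map (opOf p (Cfsg.pCore p G ⊔ B)).subtype ⊔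
      (opOf p (Cfsg.pCore p G ⊔ B) ⊓ Cfsg.pCore p G) := by
    intro x hx
    have hx' : x ∈ Cfsg.pCore p G ⊔ B := opOf_le p _ hx
    have hBP : B ≤ Subgroup.normalizer ((Cfsg.pCore p G : Subgroup G) : Set G) := by
      rw [Subgroup.normalizer_eq_top_iff.mpr hPn]
      exact le_top
    obtain ⟨n, hn, b, hb, rfl⟩ := exists_mul_of_mem_sup_right hBP hx'
    have hnX : n ∈ opOf p (Cfsg.pCore p G ⊔ B) := by
      have := Subgroup.mul_mem _ hx (Subgroup.inv_mem _ (hBX hb))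
      simpa using this
    rw [sup_comm]
    exact Subgroup.mul_mem_sup ⟨hnX, hn⟩ (hBN hb)
  have h1 := opOf_le_of_le_sup hNX hXN ((pCore_isPGroup p G).to_le inf_le_right) inf_le_left hXle
  rw [opOf_opOf] at h1
  apply hN'lt.ne
  rw [← hN'eq, Subgroup.subgroupOf_eq_top]
  exact h1

end Cfsg.Agent.Lib.helper17
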