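import Mathlib
import Cfsg.Prelude.Def_LocalStructure
import Cfsg.Agent.Lib.helper17.Subn

set_option autoImplicit false

namespace Cfsg.Agent.Lib.helper17

open scoped commutatorElement

variable {G : Type*} [Group G]

/-- A finite intersection of subnormal subgroups is subnormal. -/
theorem sInf_isSubnormal [Finite G] {S : Set (Subgroup G)} (h : ∀ X ∈ S, X.IsSubnormal) :
    (sInf S).IsSubnormal := by
  have hfin : S.Finite := Set.toFinite S
  have key : (hfin.toFinset.inf id).IsSubnormal := by
    apply Finset.inf_induction (p := fun N : Subgroup G => N.IsSubnormal)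
    · exact Subgroup.IsSubnormal.top
    · intro A hA B hB
      exact hA.inf hB
    · intro N hN
      exact h N ((Set.Finite.mem_toFinset hfin).mp hN)
  rw [Finset.inf_id_eq_sInf, Set.Finite.coe_toFinset] at key
  exact key

theorem subnormalClosure_isSubnormal [Finite G] (A : Subgroup G) :
    (Cfsg.subnormalClosure A).IsSubnormal := by
  unfold Cfsg.subnormalClosure
  exact sInf_isSubnormal (fun X hX => hX.2)

theorem le_subnormalClosure (A : Subgroup G) : A ≤ Cfsg.subnormalClosure A := by
  unfold Cfsg.subnormalClosure
  exact le_sInf (fun X hX => hX.1)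

theorem subnormalClosure_le {A X : Subgroup G} (hAX : A ≤ X) (hX : X.IsSubnormal) :
    Cfsg.subnormalClosure A ≤ X := by
  unfold Cfsg.subnormalClosure
  exact sInf_le ⟨hAX, hX⟩

/-- Every subgroup of a finite nilpotent group is subnormal. -/
theorem isSubnormal_of_isNilpotent [Finite G] [Group.IsNilpotent G] (X : Subgroup G) :
    X.IsSubnormal := by
  have hnc : NormalizerCondition G := Group.normalizerCondition_of_isNilpotent
  induction' hn : Nat.card G - Nat.card X using Nat.strong_induction_on with n ih generalizing X
  by_cases htop : X = ⊤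
  · rw [htop]
    exact Subgroup.IsSubnormal.top
  · have hlt : X < Subgroup.normalizer (X : Set G) := hnc X (lt_top_iff_ne_top.mpr htop)
    have hc1 : Nat.card X < Nat.card (Subgroup.normalizer (X : Set G)) := card_lt_card_of_lt hlt
    have hc2 : Nat.card (Subgroup.normalizer (X : Set G)) ≤ Nat.card G := Subgroup.card_le_card_group _
    have hN := ih (Nat.card G - Nat.card (Subgroup.normalizer (X : Set G))) (by omega) _ rfl
    exact Subgroup.IsSubnormal.step X _ Subgroup.le_normalizer hN Subgroup.normal_in_normalizer

theorem cj_isSubnormal {X : Subgroup G} (hX : X.IsSubnormal) (g : G) : (cj g X).IsSubnormal :=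
  hX.map (MulAut.conj g).surjective

/-- `R` normalizes `[R, A] A`. -/
theorem le_normalizer_commutator_sup (R A : Subgroup G) :
    R ≤ Subgroup.normalizer ((⁅R, A⁆ ⊔ A : Subgroup G) : Set G) := by
  apply le_normalizer_of_cj_le'
  intro r hr
  unfold cj
  rw [Subgroup.map_sup]
  apply sup_le
  · have : cj r ⁅R, A⁆ = ⁅R, A⁆ :=
      cj_eq_self_iff.mpr (Subgroup.normalizer_commutator_ge_left R A hr)
    unfold cj at this
    rw [this]
    exact le_sup_left
  · rintro _ ⟨y, hy, rfl⟩
    have h5 : r * y * r⁻¹ = ⁅r, y⁆ * y := by
      rw [commutatorElement_def]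
      group
    change r * y * r⁻¹ ∈ _
    rw [h5]
    exact Subgroup.mul_mem_sup (Subgroup.commutator_mem_commutator hr hy) hy

end Cfsg.Agent.Lib.helper17
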