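import Mathlib
import Cfsg.Prelude.Def_LocalStructure
import Cfsg.Agent.Lib.helper17.Subn2
import Cfsg.Agent.Lib.helper17.Large2
import Cfsg.Agent.S0028

set_option autoImplicit false

namespace Cfsg.Agent.Lib.helper17

open scoped commutatorElement

variable {G : Type*} [Group G]

/-- `X` has characteristic `p`, stated inside the ambient group. -/
def CharPSub (p : ℕ) (X : Subgroup G) : Prop :=
  X ⊓ Subgroup.centralizer ((Cfsg.pCoreOf p X : Subgroup G) : Set G) ≤ Cfsg.pCoreOf p X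

theorem charPSub_iff (p : ℕ) (X : Subgroup G) :
    Subgroup.centralizer (Cfsg.pCore p ↥X : Set ↥X) ≤ Cfsg.pCore p ↥X ↔ CharPSub p X := by
  unfold CharPSub Cfsg.pCoreOf
  constructor
  · intro h x hx
    have hxX : x ∈ X := hx.1
    have hxc : x ∈ Subgroup.centralizer (((Cfsg.pCore p ↥X).map X.subtype : Subgroup G) : Set G) := hx.2
    have h1 : (⟨x, hxX⟩ : X) ∈ Subgroup.centralizer (Cfsg.pCore p ↥X : Set ↥X) := by
      rw [Subgroup.mem_centralizer_iff]
      intro y hy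
      apply Subtype.ext
      have := (Subgroup.mem_centralizer_iff.mp hxc) (y : G) ⟨y, hy, rfl⟩
      exact this
    exact ⟨⟨x, hxX⟩, h h1, rfl⟩
  · intro h x hx
    have h1 : (x : G) ∈ X ⊓ Subgroup.centralizer (((Cfsg.pCore p ↥X).map X.subtype : Subgroup G) : Set G) := by
      refine ⟨x.2, ?_⟩
      change (x : G) ∈ Subgroup.centralizer (((Cfsg.pCore p ↥X).map X.subtype : Subgroup G) : Set G)
      rw [Subgroup.mem_centralizer_iff]
      rintro _ ⟨y, hy, rfl⟩
      have := (Subgroup.mem_centralizer_iff.mp hx) y hy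
      exact congrArg Subtype.val this
    obtain ⟨y, hy, hyx⟩ := h h1
    have : y = x := Subtype.ext hyx
    rwa [this] at hy

theorem pCoreOf_top (p : ℕ) : Cfsg.pCoreOf p (⊤ : Subgroup G) = Cfsg.pCore p G := by
  apply le_antisymm
  · apply le_pCore
    · rw [← Subgroup.normalizer_eq_top_iff, ← top_le_iff]
      exact le_normalizer_pCoreOf p ⊤
    · exact pCoreOf_isPGroup p ⊤
  · apply le_pCoreOf le_top (pCore_isPGroup p G)
    rw [Subgroup.normalizer_eq_top_iff.mpr (pCore_normal p G)]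

theorem charPSub_top_iff (p : ℕ) :
    Subgroup.centralizer (Cfsg.pCore p G : Set G) ≤ Cfsg.pCore p G ↔ CharPSub p (⊤ : Subgroup G) := by
  unfold CharPSub
  rw [pCoreOf_top, top_inf_eq]

/-- A finite subgroup all of whose `p'`-elements are trivial is a `p`-group. -/
theorem isPGroup_of_forall_coprime_eq_one [Finite G] {p : ℕ} [hp : Fact p.Prime] {K : Subgroup G}
    (h : ∀ k ∈ K, Nat.Coprime (orderOf k) p → k = 1) : IsPGroup p K := by
  rintro ⟨g, hg⟩
  have hpos : 0 < orderOf g := orderOf_pos g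
  obtain ⟨k, m, hm, hkm⟩ := Nat.exists_eq_pow_mul_and_not_dvd hpos.ne' p hp.out.ne_one
  refine ⟨k, ?_⟩
  have h1 : orderOf (g ^ (p ^ k)) = m := by
    rw [orderOf_pow' g (pow_ne_zero k hp.out.ne_zero), hkm, Nat.gcd_eq_right (dvd_mul_right _ _),
      Nat.mul_div_cancel_left _ (pow_pos hp.out.pos k)]
  have h2 : g ^ (p ^ k) = 1 := by
    apply h _ (K.pow_mem hg _)
    rw [h1]
    exact ((Nat.Prime.coprime_iff_not_dvd hp.out).mpr hm).symm
  apply Subtype.ext
  simpa using h2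

/-- An element of `p'`-order stabilizing the chain `1 ≤ Z ≤ V` of a `p`-group `V` centralizes `V`. -/
theorem centralizes_of_stabilizes_chain [Finite G] {p : ℕ} [Fact p.Prime] {x : G}
    (hx : Nat.Coprime (orderOf x) p) {V Z : Subgroup G} (hZ : IsPGroup p Z)
    (h1 : ∀ v ∈ V, ⁅x, v⁆ ∈ Z) (h2 : ∀ z ∈ Z, x * z = z * x) : ∀ v ∈ V, x * v = v * x := by
  intro v hv
  have hz := h1 v hv
  have hpow : ∀ n : ℕ, x ^ n * v * (x ^ n)⁻¹ = ⁅x, v⁆ ^ n * v := by
    intro n
    induction n with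
    | zero => simp
    | succ n ih =>
      have hc : x * ⁅x, v⁆ ^ n = ⁅x, v⁆ ^ n * x := by
        have : Commute x ⁅x, v⁆ := h2 _ hz
        exact (this.pow_right n)
      calc x ^ (n + 1) * v * (x ^ (n + 1))⁻¹ = x * (x ^ n * v * (x ^ n)⁻¹) * x⁻¹ := by
            rw [pow_succ']; group
        _ = x * (⁅x, v⁆ ^ n * v) * x⁻¹ := by rw [ih]
        _ = (x * ⁅x, v⁆ ^ n) * v * x⁻¹ := by group
        _ = ⁅x, v⁆ ^ n * (x * v * x⁻¹) := by rw [hc]; group
        _ = ⁅x, v⁆ ^ n * (⁅x, v⁆ * v) := by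
            congr 1
            rw [commutatorElement_def]; group
        _ = ⁅x, v⁆ ^ (n + 1) * v := by rw [pow_succ]; group
  have h3 := hpow (orderOf x)
  rw [pow_orderOf_eq_one, one_mul, inv_one, mul_one] at h3
  have h4 : ⁅x, v⁆ ^ orderOf x = 1 := by
    have := congrArg (· * v⁻¹) h3
    simpa using this.symm
  obtain ⟨k, hk⟩ := isPElt_of_mem hZ hz
  have h6 : orderOf ⁅x, v⁆ ∣ Nat.gcd (orderOf x) (p ^ k) :=
    Nat.dvd_gcd (orderOf_dvd_of_pow_eq_one h4) (orderOf_dvd_of_pow_eq_one hk)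
  have h7 : Nat.gcd (orderOf x) (p ^ k) = 1 := Nat.Coprime.pow_right k hx
  rw [h7, Nat.dvd_one, orderOf_eq_one_iff, commutatorElement_eq_one_iff_mul_comm] at h6
  exact h6

end Cfsg.Agent.Lib.helper17
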