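import Mathlib

set_option autoImplicit false
open scoped commutatorElement

namespace Cfsg.Agent.Lib.helper17

/-- In a finite commutative group of exponent dividing the prime `p`, the Frattini subgroup is trivial. -/
theorem frattini_eq_bot_of_comm_exp {E : Type*} [CommGroup E] [Finite E] {p : ℕ} [Fact p.Prime]
    (hexp : ∀ a : E, a ^ p = 1) : frattini E = ⊥ := by
  have hp : p.Prime := Fact.out
  rw [eq_bot_iff]
  intro x hx
  rw [Subgroup.mem_bot]
  by_contra hx1
  -- a subgroup maximal among those not containing x
  obtain ⟨M, -, hM⟩ := Finite.exists_le_maximal (p := fun K : Subgroup E => x ∉ K) (a := ⊥)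
    (by simpa [Subgroup.mem_bot] using hx1)
  have hxM : x ∉ M := hM.prop
  have hMax : ∀ K : Subgroup E, M < K → x ∈ K := by
    intro K hK
    by_contra hxK
    exact (not_le_of_gt hK) (hM.le_of_ge hxK hK.le)
  have hcoatom : IsCoatom M := by
    refine ⟨?_, ?_⟩
    · intro h; rw [h] at hxM; exact hxM (Subgroup.mem_top x)
    · intro K hK
      rw [eq_top_iff]
      intro y _
      by_cases hyM : y ∈ M
      · exact hK.le hyM
      · have hlt : M < M ⊔ Subgroup.zpowers y := by
          refine lt_of_le_of_ne le_sup_left ?_
          intro h
          apply hyM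
          rw [h]
          exact le_sup_right (a := M) (Subgroup.mem_zpowers y)
        have hxs := hMax _ hlt
        obtain ⟨m, hm, z, hz, hmz⟩ := Subgroup.mem_sup.mp hxs
        obtain ⟨j, rfl⟩ := Subgroup.mem_zpowers_iff.mp hz
        have hxK : x ∈ K := hMax K hK
        have hyjK : y ^ j ∈ K := by
          have : y ^ j = m⁻¹ * x := by rw [← hmz]; simp
          rw [this]
          exact K.mul_mem (K.inv_mem (hK.le hm)) hxK
        -- p does not divide j
        have hpj : ¬ (p : ℤ) ∣ j := by
          rintro ⟨k, rfl⟩
          apply hxM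
          have : y ^ ((p : ℤ) * k) = 1 := by
            rw [zpow_mul, zpow_natCast, hexp, one_zpow]
          rw [← hmz, this, mul_one]
          exact hm
        have hcop : IsCoprime j (p : ℤ) := by
          have := (Nat.prime_iff_prime_int.mp hp).coprime_iff_not_dvd.mpr hpj
          exact this.symm
        obtain ⟨a, b, hab⟩ := hcop
        have : y = (y ^ j) ^ a := by
          have h1 : y ^ (a * j + b * (p : ℤ)) = y := by rw [hab, zpow_one]
          rw [zpow_add, zpow_mul', zpow_mul, zpow_natCast, hexp] at h1
          simpa using h1.symm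
        rw [this]
        exact K.zpow_mem hyjK a
  exact hxM (frattini_le_coatom hcoatom hx)

/-- If `N` is a normal subgroup of the finite group `P` containing all commutators and all `p`-th powers, then
`N` contains the Frattini subgroup. -/
theorem frattini_le_of_comm_pow_mem {P : Type*} [Group P] [Finite P] {p : ℕ} [Fact p.Prime]
    (N : Subgroup P) [N.Normal] (hcomm : ∀ x y : P, ⁅x, y⁆ ∈ N) (hpow : ∀ x : P, x ^ p ∈ N) :
    frattini P ≤ N := by
  have hc : ∀ a b : P ⧸ N, a * b = b * a := by
    intro a b
    induction a using QuotientGroup.induction_on with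
    | H x =>
      induction b using QuotientGroup.induction_on with
      | H y =>
        rw [← commutatorElement_eq_one_iff_mul_comm]
        have : (⁅(x : P ⧸ N), (y : P ⧸ N)⁆) = ((⁅x, y⁆ : P) : P ⧸ N) := by
          simp [commutatorElement_def]
        rw [this, QuotientGroup.eq_one_iff]
        exact hcomm x y
  let _ : CommGroup (P ⧸ N) := { (inferInstance : Group (P ⧸ N)) with mul_comm := hc }
  have hexp : ∀ a : P ⧸ N, a ^ p = 1 := by
    intro a
    induction a using QuotientGroup.induction_on with
    | H x =>
      rw [← QuotientGroup.mk_pow, QuotientGroup.eq_one_iff]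
      exact hpow x
  have h1 : frattini (P ⧸ N) = ⊥ := frattini_eq_bot_of_comm_exp hexp
  have h2 := frattini_le_comap_frattini_of_surjective (φ := QuotientGroup.mk' N)
    (QuotientGroup.mk'_surjective N)
  rw [h1] at h2
  intro x hx
  have := h2 hx
  rw [Subgroup.mem_comap, Subgroup.mem_bot] at this
  exact (QuotientGroup.eq_one_iff x).mp this

end Cfsg.Agent.Lib.helper17
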