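import Mathlib
import Cfsg.Agent.Lib.helper3.BSZ.Defs
import Cfsg.Agent.Lib.Helper5.BSZA01

set_option autoImplicit false

/-!
# Project BSZ (designer helper3), row A03: `binary_conj` (verbatim), from A02 `binary_iso` (Helper5).
-/

namespace Cfsg.Agent.Lib.helper3.BSZ

open Cfsg Cfsg.Agent.Lib.helper3

/-- A03 [S] (cites A02): `MulAut.conj g : G ≃* G`, and `cj H g` is by definition `H.map (MulAut.conj g).toMonoidHom`. -/
theorem binary_conj {G : Type*} [Group G] (H : Subgroup G) (g : G) : BinH H ↔ BinH (cj H g) :=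
  binary_iso (MulAut.conj g) H

end Cfsg.Agent.Lib.helper3.BSZ
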