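import Mathlib
import Cfsg.Agent.Lib.helper3.BSZ.Defs

set_option autoImplicit false

/-!
# Project BSZ (designer helper3), rows C01 `five_dvd`, E09 `nu_arith`, E10 `card_torus_le` (verbatim).
-/

namespace Cfsg.Agent.Lib.helper3.BSZ

open Cfsg Cfsg.Agent.Lib.helper3

variable {F : Type*} [Field F] [Fintype F] {m : ℕ}

/-- C01 [S]: `2^(2m+1) = 2 * 4^m`, `4^m ≡ ±1 mod 5`; induction on `m` or `Nat.ModEq`/`omega` on `4^m % 5 ∈ {1,4}`. -/
theorem five_dvd (m : ℕ) : 5 ∣ (2 ^ (2 * m + 1)) ^ 2 + 1 := by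
  have h : (2 ^ (2 * m + 1)) ^ 2 = 16 ^ m * 4 := by
    rw [← pow_mul]
    have h1 : (2 * m + 1) * 2 = 4 * m + 2 := by ring
    rw [h1, pow_add, pow_mul]
    norm_num
  rw [h]
  apply Nat.dvd_of_mod_eq_zero
  rw [Nat.add_mod, Nat.mul_mod, Nat.pow_mod]
  norm_num

/-- E09 [S]: `q = 2^(2m+1) = 2 * (2^m)^2`, `r = 2^(m+1) = 2 * 2^m`, `2^m ≥ 2`; `nlinarith`. -/
theorem nu_arith {m : ℕ} (hm : 1 ≤ m) :
    4 * (2 ^ (2 * m + 1) + 2 ^ (m + 1) + 1) < (2 ^ (2 * m + 1)) ^ 2 := by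
  have hx : 2 ≤ 2 ^ m := by
    calc 2 = 2 ^ 1 := by norm_num
      _ ≤ 2 ^ m := Nat.pow_le_pow_right (by norm_num) hm
  have h1 : 2 ^ (2 * m + 1) = 2 * (2 ^ m) ^ 2 := by
    rw [pow_succ, pow_mul', mul_comm]
  have h2 : 2 ^ (m + 1) = 2 * 2 ^ m := by
    rw [pow_succ, mul_comm]
  rw [h1, h2]
  generalize 2 ^ m = x at hx
  nlinarith [mul_le_mul hx hx (by norm_num) (by omega : 0 ≤ x), mul_pos (by omega : 0 < x) (by omega : 0 < x)]

/-- E10 [S]: unfold `IsTorus`; the three values are `≤ q + r + 1`. -/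
theorem card_torus_le {U : Subgroup (Sz F m)} (hU : IsTorus m U) :
    Nat.card U ≤ 2 ^ (2 * m + 1) + 2 ^ (m + 1) + 1 := by
  have h := hU.2
  simp only [Set.mem_insert_iff, Set.mem_singleton_iff] at h
  have h1 : 0 < 2 ^ (2 * m) := by positivity
  have h2 : 0 < 2 ^ m := by positivity
  rcases h with h | h | h <;> rw [h] <;> omega

end Cfsg.Agent.Lib.helper3.BSZ
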