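import Mathlib
import Cfsg.Agent.Lib.Helper18.ONE.Defs

set_option autoImplicit false

/-!
# Project ONE, row TYBOT (helper17): the zero space has type `+1` only.
-/

namespace Cfsg.Agent.Lib.Helper18.ONE

open Polynomial Module Cfsg.Agent.Lib.Helper13.S5955 Cfsg.Agent.Lib.helper15.S5972

theorem onetybot_cnt {F : Type*} [Field F] {V : Type*} [AddCommGroup V] [Module F V]
    (B : LinearMap.BilinForm F V) :
    Cfsg.Agent.Lib.Helper16.OSemi.cnt (fun w : ↥(⊥ : Submodule F V) => B (w : V) (w : V)) 0 = 1 := by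
  unfold Cfsg.Agent.Lib.Helper16.OSemi.cnt
  rw [Nat.card_eq_one_iff_unique]
  refine ⟨⟨?_⟩, ⟨⟨0, ?_⟩⟩⟩
  · intro a b
    apply Subtype.ext
    apply Subtype.ext
    rw [(Submodule.mem_bot F).mp a.1.2, (Submodule.mem_bot F).mp b.1.2]
  · simp

/-- TYBOT [S]: `#{0} = 1`: `q = 1 + s (q - 1)` iff `s = 1`. -/
theorem ty_bot {F : Type*} [Field F] [Fintype F] {V : Type*} [AddCommGroup V] [Module F V]
    (B : LinearMap.BilinForm F V) (s : ℤ) : OTy B (⊥ : Submodule F V) s ↔ s = 1 := by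
  unfold OTy Cfsg.Agent.Lib.Helper16.OSemi.IsType
  rw [onetybot_cnt, finrank_bot]
  have hq : (2 : ℤ) ≤ (Fintype.card F : ℤ) := by exact_mod_cast Fintype.one_lt_card
  simp only [Nat.zero_div, Nat.mul_zero, pow_zero, zero_add, pow_one, Nat.cast_one, mul_one]
  constructor
  · intro h
    have h2 : (s - 1) * ((Fintype.card F : ℤ) - 1) = 0 := by linarith
    rcases mul_eq_zero.mp h2 with h3 | h3
    · linarith
    · exfalso; linarith
  · rintro rfl
    ring

end Cfsg.Agent.Lib.Helper18.ONE
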