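import Mathlib
import Cfsg.Agent.Lib.Helper18.ONE.Defs
import Cfsg.Agent.Lib.Helper5.S5955Alt

set_option autoImplicit false

/-!
# Project ONE, row NDPERPS (helper17): splitting a nondegenerate subspace off a nondegenerate subspace, symmetric form.
-/

namespace Cfsg.Agent.Lib.Helper18.ONE

open Polynomial Module Cfsg.Agent.Lib.Helper13.S5955 Cfsg.Agent.Lib.helper15.S5972

/-- NDPERPS [M] (symmetric twin of `Cfsg.Agent.Lib.Helper5.h5_split_nd`, Helper5/S5955Alt.lean; `h5_finrank_perp` is form-free). -/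
theorem nd_perp_symm {F : Type*} [Field F] {V : Type*} [AddCommGroup V] [Module F V]
    [FiniteDimensional F V] (B : LinearMap.BilinForm F V) (hsymm : ∀ u v, B u v = B v u)
    (N U : Submodule F V) (hN : SND B N) (hUN : U ≤ N) (hU : SND B U) :
    Disjoint U (N ⊓ B.orthogonal U) ∧ U ⊔ (N ⊓ B.orthogonal U) = N ∧
      SND B (N ⊓ B.orthogonal U) ∧ SOrth B U (N ⊓ B.orthogonal U) ∧
      finrank F ↥(N ⊓ B.orthogonal U) + finrank F U = finrank F N := by
  have hdim := h5_finrank_perp B N U hN hUN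
  have hdisj : Disjoint U (N ⊓ B.orthogonal U) := by
    rw [Submodule.disjoint_def]
    intro u hu hu'
    rw [Submodule.mem_inf, h5_mem_orth] at hu'
    exact hU u hu (fun v hv => by rw [hsymm]; exact hu'.2 v hv)
  have hsup : U ⊔ (N ⊓ B.orthogonal U) = N := by
    apply Submodule.eq_of_le_of_finrank_le (sup_le hUN inf_le_left)
    have h1 := Submodule.finrank_sup_add_finrank_inf_eq U (N ⊓ B.orthogonal U)
    rw [disjoint_iff.mp hdisj, finrank_bot] at h1
    omega
  have horth : SOrth B U (N ⊓ B.orthogonal U) := by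
    intro u hu w hw
    rw [Submodule.mem_inf, h5_mem_orth] at hw
    exact hw.2 u hu
  refine ⟨hdisj, hsup, ?_, horth, hdim⟩
  intro u hu h
  have hu2 := hu
  rw [Submodule.mem_inf, h5_mem_orth] at hu2
  apply hN u hu2.1
  intro w hw
  rw [← hsup, Submodule.mem_sup] at hw
  obtain ⟨u1, hu1, n1, hn1, rfl⟩ := hw
  rw [map_add, h n1 hn1, add_zero, hsymm]
  exact hu2.2 u1 hu1

end Cfsg.Agent.Lib.Helper18.ONE
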