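import Mathlib
import Cfsg.Agent.Lib.Helper18.ONE.Defs

set_option autoImplicit false

/-!
# Project ONE, row NDSUPS (helper17): the sum of two orthogonal nondegenerate subspaces, symmetric form.
-/

namespace Cfsg.Agent.Lib.Helper18.ONE

open Polynomial Module Cfsg.Agent.Lib.Helper13.S5955 Cfsg.Agent.Lib.helper15.S5972

/-- NDSUPS [S-M] (symmetric twin of S5956 A2 `nd_sup`). -/
theorem nd_sup_symm {F : Type*} [Field F] {V : Type*} [AddCommGroup V] [Module F V]
    [FiniteDimensional F V] (B : LinearMap.BilinForm F V) (hsymm : ∀ u v, B u v = B v u)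
    (U W : Submodule F V) (hU : SND B U) (hW : SND B W) (h : SOrth B U W) :
    SND B (U ⊔ W) ∧ Disjoint U W ∧ finrank F ↥(U ⊔ W) = finrank F U + finrank F W := by
  have h' : ∀ w ∈ W, ∀ u ∈ U, B w u = 0 := by
    intro w hw u hu
    rw [hsymm, h u hu w hw]
  have hdis : Disjoint U W := by
    rw [Submodule.disjoint_def]
    intro v hvU hvW
    exact hU v hvU (fun u hu => h' v hvW u hu)
  refine ⟨?_, hdis, ?_⟩
  · intro v hv hall
    obtain ⟨u, hu, w, hw, rfl⟩ := Submodule.mem_sup.mp hv
    have hu0 : u = 0 := by
      apply hU u hu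
      intro u' hu'
      have := hall u' (Submodule.mem_sup_left hu')
      rw [map_add, LinearMap.add_apply, h' w hw u' hu', add_zero] at this
      exact this
    have hw0 : w = 0 := by
      apply hW w hw
      intro w' hw'
      have := hall w' (Submodule.mem_sup_right hw')
      rw [map_add, LinearMap.add_apply, h u hu w' hw', zero_add] at this
      exact this
    rw [hu0, hw0, add_zero]
  · have hh := Submodule.finrank_sup_add_finrank_inf_eq U W
    rw [hdis.eq_bot, finrank_bot, add_zero] at hh
    exact hh

end Cfsg.Agent.Lib.Helper18.ONE
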