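import Mathlib
import Cfsg.Agent.Lib.Helper18.ONE.Defs

set_option autoImplicit false

/-!
# Project ONE, row PLANETY (helper17): the type of the plane spanned by two orthogonal nonsingular vectors.
-/

namespace Cfsg.Agent.Lib.Helper18.ONE

open Polynomial Module Cfsg.Agent.Lib.Helper13.S5955 Cfsg.Agent.Lib.helper15.S5972

theorem oneplanety_form {F : Type*} [Field F] {V : Type*} [AddCommGroup V] [Module F V]
    (B : LinearMap.BilinForm F V) (hsymm : ∀ u v, B u v = B v u)
    (v₁ v₂ : V) (h12 : B v₁ v₂ = 0) (x y x' y' : F) :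
    B (x • v₁ + y • v₂) (x' • v₁ + y' • v₂) = x * x' * B v₁ v₁ + y * y' * B v₂ v₂ := by
  have h21 : B v₂ v₁ = 0 := by rw [hsymm]; exact h12
  simp only [map_add, map_smul, LinearMap.add_apply, LinearMap.smul_apply, smul_eq_mul, h12, h21,
    mul_zero, add_zero, zero_add]
  ring

theorem oneplanety_li {F : Type*} [Field F] {V : Type*} [AddCommGroup V] [Module F V]
    (B : LinearMap.BilinForm F V) (hsymm : ∀ u v, B u v = B v u)
    (v₁ v₂ : V) (h12 : B v₁ v₂ = 0) (h1 : B v₁ v₁ ≠ 0) (h2' : B v₂ v₂ ≠ 0) (x y : F)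
    (h : x • v₁ + y • v₂ = 0) : x = 0 ∧ y = 0 := by
  have e1 := oneplanety_form B hsymm v₁ v₂ h12 x y 1 0
  have e2 := oneplanety_form B hsymm v₁ v₂ h12 x y 0 1
  rw [h] at e1 e2
  simp only [map_zero, LinearMap.zero_apply, mul_one, mul_zero, zero_mul, add_zero, zero_add]
    at e1 e2
  constructor
  · rcases mul_eq_zero.mp e1.symm with h | h
    · exact h
    · exact absurd h h1
  · rcases mul_eq_zero.mp e2.symm with h | h
    · exact h
    · exact absurd h h2'

/-- the square case: an explicit hyperbolic pair -/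
theorem oneplanety_plus {F : Type*} [Field F] [Fintype F] (h2 : (2 : F) ≠ 0)
    {V : Type*} [AddCommGroup V] [Module F V]
    (B : LinearMap.BilinForm F V) (hsymm : ∀ u v, B u v = B v u)
    (v₁ v₂ : V) (h12 : B v₁ v₂ = 0) (h1 : B v₁ v₁ ≠ 0) (h2' : B v₂ v₂ ≠ 0)
    (hsq : IsSquare (-(B v₁ v₁ * B v₂ v₂))) :
    Cfsg.Agent.Lib.Helper16.OSemi.IsType
      (fun w : ↥(Submodule.span F ({v₁, v₂} : Set V)) => B (w : V) (w : V)) 1 1 := by
  classical
  obtain ⟨t, ht⟩ := hsq
  set a := B v₁ v₁ with ha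
  set b := B v₂ v₂ with hb
  have ht0 : t ≠ 0 := by
    intro h
    rw [h, mul_zero, neg_eq_zero] at ht
    rcases mul_eq_zero.mp ht with h | h
    · exact h1 h
    · exact h2' h
  set c := t / a with hc
  have hc0 : c ≠ 0 := div_ne_zero ht0 h1
  have hcab : c * c * a + b = 0 := by
    rw [hc]
    field_simp
    linear_combination -ht
  have h4b : (4 : F) * b ≠ 0 := by
    have : (4 : F) = 2 * 2 := by norm_num
    rw [this]
    exact mul_ne_zero (mul_ne_zero h2 h2) h2'
  set d := (4 * b)⁻¹ with hd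
  -- e = c v₁ + v₂, f = d (-c v₁ + v₂)
  have hmemP : ∀ x y : F, x • v₁ + y • v₂ ∈ Submodule.span F ({v₁, v₂} : Set V) := by
    intro x y
    rw [Submodule.mem_span_pair]
    exact ⟨x, y, rfl⟩
  let φ : (Fin 1 ⊕ Fin 1 → F) → ↥(Submodule.span F ({v₁, v₂} : Set V)) := fun v =>
    ⟨(v (Sum.inl 0) * c - v (Sum.inr 0) * (d * c)) • v₁ + (v (Sum.inl 0) + v (Sum.inr 0) * d) • v₂,
      hmemP _ _⟩
  have hd4 : d * (4 * b) = 1 := inv_mul_cancel₀ h4b
  have hval : ∀ v, B (φ v : V) (φ v : V) = Cfsg.quadFormPlus 1 F v := by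
    intro v
    show B ((v (Sum.inl 0) * c - v (Sum.inr 0) * (d * c)) • v₁ + (v (Sum.inl 0) + v (Sum.inr 0) * d) • v₂)
      ((v (Sum.inl 0) * c - v (Sum.inr 0) * (d * c)) • v₁ + (v (Sum.inl 0) + v (Sum.inr 0) * d) • v₂) = _
    rw [oneplanety_form B hsymm v₁ v₂ h12]
    unfold Cfsg.quadFormPlus
    rw [Fin.sum_univ_one, ← ha, ← hb]
    have hb' : b = -(c * c * a) := by linear_combination hcab
    have hd4' : d * (4 * (-(c * c * a))) = 1 := by rw [← hb']; exact hd4
    linear_combination (v (Sum.inl 0) * v (Sum.inl 0) + v (Sum.inr 0) * v (Sum.inr 0) * d * d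
      - 2 * v (Sum.inl 0) * v (Sum.inr 0) * d ) * hcab + (v (Sum.inl 0) * v (Sum.inr 0)) * hd4
  have hφ : Function.Bijective φ := by
    constructor
    · intro v v' hvv
      have h3 : (v (Sum.inl 0) * c - v (Sum.inr 0) * (d * c)) • v₁ + (v (Sum.inl 0) + v (Sum.inr 0) * d) • v₂
          = (v' (Sum.inl 0) * c - v' (Sum.inr 0) * (d * c)) • v₁ + (v' (Sum.inl 0) + v' (Sum.inr 0) * d) • v₂ :=
        congrArg Subtype.val hvv
      have h4 : ((v (Sum.inl 0) * c - v (Sum.inr 0) * (d * c)) - (v' (Sum.inl 0) * c - v' (Sum.inr 0) * (d * c))) • v₁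
          + ((v (Sum.inl 0) + v (Sum.inr 0) * d) - (v' (Sum.inl 0) + v' (Sum.inr 0) * d)) • v₂ = 0 := by
        have h30 := sub_eq_zero.mpr h3
        rw [← h30]
        module
      obtain ⟨h5, h6⟩ := oneplanety_li B hsymm v₁ v₂ h12 h1 h2' _ _ h4
      have hd0 : d ≠ 0 := inv_ne_zero h4b
      have h7 : (v (Sum.inl 0) - v' (Sum.inl 0)) - (v (Sum.inr 0) - v' (Sum.inr 0)) * d = 0 := by
        have : ((v (Sum.inl 0) - v' (Sum.inl 0)) - (v (Sum.inr 0) - v' (Sum.inr 0)) * d) * c = 0 := by
          linear_combination h5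
        rcases mul_eq_zero.mp this with h | h
        · exact h
        · exact absurd h hc0
      have h8 : (v (Sum.inl 0) - v' (Sum.inl 0)) + (v (Sum.inr 0) - v' (Sum.inr 0)) * d = 0 := by
        linear_combination h6
      have h9 : v (Sum.inl 0) - v' (Sum.inl 0) = 0 := by
        have : 2 * (v (Sum.inl 0) - v' (Sum.inl 0)) = 0 := by linear_combination h7 + h8
        rcases mul_eq_zero.mp this with h | h
        · exact absurd h h2
        · exact h
      have h10 : v (Sum.inr 0) - v' (Sum.inr 0) = 0 := by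
        have : (v (Sum.inr 0) - v' (Sum.inr 0)) * d = 0 := by linear_combination h8 - h9
        rcases mul_eq_zero.mp this with h | h
        · exact h
        · exact absurd h hd0
      funext i
      rcases i with i | i
      · have hi : i = 0 := Subsingleton.elim _ _
        rw [hi]; exact sub_eq_zero.mp h9
      · have hi : i = 0 := Subsingleton.elim _ _
        rw [hi]; exact sub_eq_zero.mp h10
    · intro w
      obtain ⟨x, y, hxy⟩ := Submodule.mem_span_pair.mp w.2
      refine ⟨Sum.elim (fun _ => (y + x / c) / 2) (fun _ => 2 * b * (y - x / c)), ?_⟩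
      apply Subtype.ext
      show ((y + x / c) / 2 * c - 2 * b * (y - x / c) * (d * c)) • v₁
        + ((y + x / c) / 2 + 2 * b * (y - x / c) * d) • v₂ = (w : V)
      rw [← hxy]
      have h4 : (4 : F) ≠ 0 := by
        have : (4 : F) = 2 * 2 := by norm_num
        rw [this]; exact mul_ne_zero h2 h2
      have hdb : d * b = 1 / 4 := by
        field_simp
        linear_combination hd4
      have k1 : (y + x / c) / 2 * c - 2 * b * (y - x / c) * (d * c) = x := by
        have : 2 * b * (y - x / c) * (d * c) = 2 * (d * b) * (y - x / c) * c := by ring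
        rw [this, hdb]
        field_simp
        ring
      have k2 : (y + x / c) / 2 + 2 * b * (y - x / c) * d = y := by
        have : 2 * b * (y - x / c) * d = 2 * (d * b) * (y - x / c) := by ring
        rw [this, hdb]
        field_simp
        ring
      rw [k1, k2]
  exact (Cfsg.Agent.Lib.Helper16.OSemi.isType_congr (Equiv.ofBijective φ hφ)
    (fun w : ↥(Submodule.span F ({v₁, v₂} : Set V)) => B (w : V) (w : V))
    (Cfsg.quadFormPlus 1 F) hval 1 1).mpr (Cfsg.Agent.Lib.Helper16.OSemi.isType_plus 1)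

/-- the non-square case: the plane is anisotropic -/
theorem oneplanety_minus {F : Type*} [Field F] [Fintype F]
    {V : Type*} [AddCommGroup V] [Module F V]
    (B : LinearMap.BilinForm F V) (hsymm : ∀ u v, B u v = B v u)
    (v₁ v₂ : V) (h12 : B v₁ v₂ = 0) (h1 : B v₁ v₁ ≠ 0) (h2' : B v₂ v₂ ≠ 0)
    (hsq : ¬ IsSquare (-(B v₁ v₁ * B v₂ v₂))) :
    Cfsg.Agent.Lib.Helper16.OSemi.IsType
      (fun w : ↥(Submodule.span F ({v₁, v₂} : Set V)) => B (w : V) (w : V)) 1 (-1) := by
  classical
  have hcnt : Cfsg.Agent.Lib.Helper16.OSemi.cnt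
      (fun w : ↥(Submodule.span F ({v₁, v₂} : Set V)) => B (w : V) (w : V)) 0 = 1 := by
    unfold Cfsg.Agent.Lib.Helper16.OSemi.cnt
    rw [Nat.card_eq_one_iff_unique]
    have hz : ∀ w : ↥(Submodule.span F ({v₁, v₂} : Set V)), B (w : V) (w : V) = 0 → w = 0 := by
      intro w hw
      obtain ⟨x, y, hxy⟩ := Submodule.mem_span_pair.mp w.2
      rw [← hxy, oneplanety_form B hsymm v₁ v₂ h12] at hw
      have hy : y = 0 := by
        by_contra hy
        apply hsq
        refine ⟨B v₁ v₁ * x / y, ?_⟩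
        have h3 : -(B v₁ v₁ * B v₂ v₂) * (y * y) = (B v₁ v₁ * x) * (B v₁ v₁ * x) := by
          linear_combination (-(B v₁ v₁)) * hw
        rw [div_mul_div_comm, eq_div_iff (mul_ne_zero hy hy)]
        exact h3
      rw [hy] at hw hxy
      have hx : x = 0 := by
        simp only [mul_zero, zero_mul, add_zero] at hw
        rcases mul_eq_zero.mp hw with h | h
        · rcases mul_eq_zero.mp h with h | h <;> exact h
        · exact absurd h h1
      apply Subtype.ext
      rw [← hxy, hx, zero_smul, zero_smul, add_zero]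
      rfl
    refine ⟨⟨?_⟩, ⟨⟨0, ?_⟩⟩⟩
    · intro p p'
      apply Subtype.ext
      rw [hz p.1 p.2, hz p'.1 p'.2]
    · simp
  unfold Cfsg.Agent.Lib.Helper16.OSemi.IsType
  rw [hcnt]
  push_cast
  ring

/-- PLANETY [M]: the plane `⟨v₁, v₂⟩`, `v₁ ⟂ v₂` nonsingular: hyperbolic iff `-(a b)` is a square. -/
theorem plane_ty {F : Type*} [Field F] [Fintype F] (h2 : (2 : F) ≠ 0)
    {V : Type*} [AddCommGroup V] [Module F V] [FiniteDimensional F V]
    (B : LinearMap.BilinForm F V) (hsymm : ∀ u v, B u v = B v u)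
    (v₁ v₂ : V) (h12 : B v₁ v₂ = 0) (h1 : B v₁ v₁ ≠ 0) (h2' : B v₂ v₂ ≠ 0) :
    SND B (Submodule.span F {v₁, v₂}) ∧ finrank F (Submodule.span F ({v₁, v₂} : Set V)) = 2 ∧
      (IsSquare (-(B v₁ v₁ * B v₂ v₂)) → OTy B (Submodule.span F {v₁, v₂}) 1) ∧
      (¬ IsSquare (-(B v₁ v₁ * B v₂ v₂)) → OTy B (Submodule.span F {v₁, v₂}) (-1)) := by
  classical
  have hli : LinearIndependent F ![v₁, v₂] := by
    rw [LinearIndependent.pair_iff]
    intro s t hst
    exact oneplanety_li B hsymm v₁ v₂ h12 h1 h2' s t hst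
  have hdim : finrank F (Submodule.span F ({v₁, v₂} : Set V)) = 2 := by
    have h := finrank_span_eq_card hli
    have e2 : Set.range ![v₁, v₂] = {v₁, v₂} := by
      ext v
      simp only [Matrix.range_cons, Matrix.range_empty, Set.union_empty, Set.union_singleton,
        Set.mem_insert_iff, Set.mem_singleton_iff]
      tauto
    rw [e2] at h
    rw [h]
    rfl
  refine ⟨?_, hdim, ?_, ?_⟩
  · intro u hu hall
    obtain ⟨x, y, rfl⟩ := Submodule.mem_span_pair.mp hu
    have m1 : v₁ ∈ Submodule.span F ({v₁, v₂} : Set V) := Submodule.subset_span (by simp)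
    have m2 : v₂ ∈ Submodule.span F ({v₁, v₂} : Set V) := Submodule.subset_span (by simp)
    have e1 := oneplanety_form B hsymm v₁ v₂ h12 x y 1 0
    have e2 := oneplanety_form B hsymm v₁ v₂ h12 x y 0 1
    simp only [one_smul, zero_smul, add_zero, zero_add] at e1 e2
    rw [hall v₁ m1] at e1
    rw [hall v₂ m2] at e2
    simp only [mul_one, mul_zero, zero_mul, add_zero, zero_add] at e1 e2
    have hx : x = 0 := by
      rcases mul_eq_zero.mp e1.symm with h | h
      · exact h
      · exact absurd h h1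
    have hy : y = 0 := by
      rcases mul_eq_zero.mp e2.symm with h | h
      · exact h
      · exact absurd h h2'
    rw [hx, hy, zero_smul, zero_smul, add_zero]
  · intro hsq
    unfold OTy
    rw [hdim]
    exact oneplanety_plus h2 B hsymm v₁ v₂ h12 h1 h2' hsq
  · intro hsq
    unfold OTy
    rw [hdim]
    exact oneplanety_minus B hsymm v₁ v₂ h12 h1 h2' hsq

end Cfsg.Agent.Lib.Helper18.ONE
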