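import Mathlib
import Cfsg.Agent.Lib.Helper13.OTS.Defs

set_option autoImplicit false

/-!
# Project OTS, rows QOCTX (`q_octx`) and TYBOT (`q_ty_bot` + `q_ty_uniq`) (helper17).
-/

namespace Cfsg.Agent.Lib.Helper13.OTS

open Polynomial Module Cfsg.Agent.Lib.Helper13.S5955 Cfsg.Agent.Lib.helper15.S5972

/-- QOCTX [S] -/
theorem q_octx {F : Type*} [Field F] {V : Type*} [AddCommGroup V] [Module F V] {r : ℕ}
    {Q : QuadraticForm F V} {x : Module.End F V} (h : QCtx r Q x) : OCtx r (qB Q) x := by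
  refine ⟨?_, ?_, ?_, h.pow⟩
  · intro u v
    rw [QuadraticMap.polarBilin_apply_apply, QuadraticMap.polarBilin_apply_apply,
      QuadraticMap.polar_comm]
  · intro u hu
    apply h.nd
    intro v
    have := hu v
    rwa [QuadraticMap.polarBilin_apply_apply] at this
  · intro u v
    rw [QuadraticMap.polarBilin_apply_apply, QuadraticMap.polarBilin_apply_apply]
    unfold QuadraticMap.polar
    rw [← map_add, h.pres, h.pres, h.pres]

theorem otstybot_cnt {F : Type*} [Field F] {V : Type*} [AddCommGroup V] [Module F V]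
    (Q : QuadraticForm F V) :
    Cfsg.Agent.Lib.Helper16.OSemi.cnt (fun w : ↥(⊥ : Submodule F V) => Q (w : V)) 0 = 1 := by
  unfold Cfsg.Agent.Lib.Helper16.OSemi.cnt
  rw [Nat.card_eq_one_iff_unique]
  refine ⟨⟨?_⟩, ⟨⟨0, ?_⟩⟩⟩
  · intro a b
    apply Subtype.ext
    apply Subtype.ext
    rw [(Submodule.mem_bot F).mp a.1.2, (Submodule.mem_bot F).mp b.1.2]
  · simp

/-- TYBOT [S] -/
theorem q_ty_bot {F : Type*} [Field F] [Fintype F] {V : Type*} [AddCommGroup V] [Module F V]
    (Q : QuadraticForm F V) (s : ℤ) : QTy Q (⊥ : Submodule F V) s ↔ s = 1 := by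
  unfold QTy Cfsg.Agent.Lib.Helper16.OSemi.IsType
  rw [otstybot_cnt, finrank_bot]
  have hq : (2 : ℤ) ≤ (Fintype.card F : ℤ) := by exact_mod_cast Fintype.one_lt_card
  simp only [Nat.zero_div, Nat.mul_zero, pow_zero, zero_add, pow_one, Nat.cast_one, mul_one]
  constructor
  · intro h
    have h2 : (s - 1) * ((Fintype.card F : ℤ) - 1) = 0 := by linarith
    rcases mul_eq_zero.mp h2 with h3 | h3
    · linarith
    · exfalso; linarith
  · rintro rfl
    ring

/-- TYUNIQ [S] -/
theorem q_ty_uniq {F : Type*} [Field F] [Fintype F] {V : Type*} [AddCommGroup V] [Module F V]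
    (Q : QuadraticForm F V) (W : Submodule F V) (h1 : QTy Q W 1) (h2 : QTy Q W (-1)) : False :=
  Cfsg.Agent.Lib.Helper16.OSemi.isType_unique _ _ h1 h2

end Cfsg.Agent.Lib.Helper13.OTS
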