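import Mathlib
import Cfsg.Agent.Lib.Helper1.O9L.Defs
import Cfsg.Agent.Lib.helper15.OTSSTDCTX
import Cfsg.Agent.Lib.helper15.SO8XFER
import Cfsg.Agent.Lib.helper15.S5972STDCTX

set_option autoImplicit false

/-!
# O9L row UNIPSTD, core: the `p`-cycle on `x₀² + ⋯ + x_(p-1)² + t x_p²`, with the DIAG conclusion as a hypothesis.
-/

namespace Cfsg.Agent.Lib.Helper1.O9L

open Matrix Module Cfsg.Agent.Lib.Helper13.OTS Cfsg.Agent.Lib.helper15.S5972

/-- the cycle `0 → 1 → ⋯ → p-1 → 0` of `Fin (p + 1)`, fixing `p` -/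
def o9lunipstd_sigma (p : ℕ) : Equiv.Perm (Fin (p + 1)) := Fin.cycleRange ⟨p - 1, by omega⟩

theorem o9lunipstd_sigma_last (p : ℕ) (hp : 1 ≤ p) :
    o9lunipstd_sigma p (Fin.last p) = Fin.last p := by
  unfold o9lunipstd_sigma
  apply Fin.cycleRange_of_gt
  rw [Fin.lt_def]
  simp
  omega

theorem o9lunipstd_sigma_pow (p : ℕ) (hp : 2 ≤ p) : o9lunipstd_sigma p ^ p = 1 := by
  have hi0 : (⟨p - 1, by omega⟩ : Fin (p + 1)) ≠ 0 := by
    intro h
    have := congrArg Fin.val h
    simp at this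
    omega
  have hct := Fin.cycleType_cycleRange hi0
  have ho : orderOf (o9lunipstd_sigma p) = p := by
    have h1 := Equiv.Perm.lcm_cycleType (Fin.cycleRange (⟨p - 1, by omega⟩ : Fin (p + 1)))
    rw [hct, Multiset.lcm_singleton] at h1
    unfold o9lunipstd_sigma
    rw [← h1]
    simp
    omega
  have h2 := pow_orderOf_eq_one (o9lunipstd_sigma p)
  rwa [ho] at h2

theorem o9lunipstd_sigma_zero (p : ℕ) (hp : 2 ≤ p) : o9lunipstd_sigma p 0 ≠ 0 := by
  unfold o9lunipstd_sigma
  have hlt : (0 : Fin (p + 1)) < ⟨p - 1, by omega⟩ := by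
    rw [Fin.lt_def]
    simp
    omega
  rw [Fin.cycleRange_of_lt hlt]
  simp
  omega

theorem o9lunipstd_sigma_free (p : ℕ) (hp : p.Prime) (i : ℕ) (hi0 : 0 < i) (hip : i < p) :
    (o9lunipstd_sigma p ^ i) 0 ≠ 0 := by
  intro h
  have h1 : Function.IsPeriodicPt (o9lunipstd_sigma p) i 0 := by
    unfold Function.IsPeriodicPt Function.IsFixedPt
    rw [Equiv.Perm.iterate_eq_pow]
    exact h
  have h2 : Function.IsPeriodicPt (o9lunipstd_sigma p) p 0 := by
    unfold Function.IsPeriodicPt Function.IsFixedPt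
    rw [Equiv.Perm.iterate_eq_pow, o9lunipstd_sigma_pow p hp.two_le]
    rfl
  have h3 := h1.gcd h2
  have hg : Nat.gcd i p = 1 := by
    have : Nat.Coprime p i :=
      (Nat.Prime.coprime_iff_not_dvd hp).mpr (fun hd => by
        have := Nat.le_of_dvd hi0 hd
        omega)
    exact Nat.Coprime.symm this
  rw [hg] at h3
  have h4 : o9lunipstd_sigma p 0 = 0 := by
    simpa [Function.IsPeriodicPt, Function.IsFixedPt] using h3
  exact o9lunipstd_sigma_zero p hp.two_le h4

theorem o9lunipstd_core {F : Type*} [Field F] (p : ℕ) (hp : p.Prime)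
    {ι : Type} [Fintype ι] [DecidableEq ι] (Qs : QuadraticForm F (ι → F))
    (hQ : (QuadraticMap.polarBilin Qs).Nondegenerate)
    (ψ : (Fin (p + 1) → F) ≃ₗ[F] (ι → F)) (t : F)
    (hψ : ∀ x : Fin (p + 1) → F,
      Qs (ψ x) = (∑ i : Fin p, x (Fin.castSucc i) ^ 2) + t * x (Fin.last p) ^ 2) :
    ∃ g : ↥(Cfsg.isometryGroup F (⇑Qs)), g ^ p = 1 ∧ geoS (g : GL ι F) p ≠ 0 := by
  classical
  have hσlast := o9lunipstd_sigma_last p hp.one_le
  have hσp := o9lunipstd_sigma_pow p hp.two_le
  have hσ0 := o9lunipstd_sigma_free p hp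
  set σ : Equiv.Perm (Fin (p + 1)) := o9lunipstd_sigma p with hσdef
  let T : Module.End F (Fin (p + 1) → F) := LinearMap.funLeft F F σ
  have hT1 : ∀ (x : Fin (p + 1) → F) (j : Fin (p + 1)), T x j = x (σ j) := fun x j => rfl
  have hT : ∀ (k : ℕ) (x : Fin (p + 1) → F), (T ^ k) x = x ∘ ⇑(σ ^ k) := by
    intro k
    induction k with
    | zero =>
      intro x
      ext j
      simp
    | succ k ih =>
      intro x
      rw [pow_succ, Module.End.mul_apply, ih, pow_succ']
      ext j
      simp [hT1]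
  have key : ∀ z : Fin (p + 1) → F,
      (∑ i : Fin p, z (Fin.castSucc i) ^ 2) + t * z (Fin.last p) ^ 2 =
        ∑ j : Fin (p + 1), (if j = Fin.last p then t else 1) * z j ^ 2 := by
    intro z
    rw [Fin.sum_univ_castSucc]
    congr 1
    · apply Finset.sum_congr rfl
      intro i _
      rw [if_neg (Fin.castSucc_lt_last i).ne, one_mul]
    · rw [if_pos rfl]
  have hQT : ∀ x, Qs (ψ (T x)) = Qs (ψ x) := by
    intro x
    rw [hψ, hψ, key, key]
    rw [← Equiv.sum_comp σ (fun j => (if j = Fin.last p then t else 1) * x j ^ 2)]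
    apply Finset.sum_congr rfl
    intro j _
    have hiff : (σ j = Fin.last p) ↔ (j = Fin.last p) := by
      constructor
      · intro h
        apply σ.injective
        rw [h, hσlast]
      · intro h
        rw [h, hσlast]
    rw [hT1]
    by_cases hj : j = Fin.last p
    · rw [if_pos hj, if_pos (hiff.mpr hj)]
    · rw [if_neg hj, if_neg (fun h => hj (hiff.mp h))]
  let e : (ι → F) ≃ₗ[F] (Fin (p + 1) → F) := ψ.symm
  let y : Module.End F (ι → F) := e.symm.toLinearMap ∘ₗ T ∘ₗ e.toLinearMap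
  have hy : ∀ k, y ^ k = e.symm.toLinearMap ∘ₗ (T ^ k) ∘ₗ e.toLinearMap := Cfsg.Agent.Lib.Helper19.SO8.so8xfer_conj_pow e T
  have hes : ∀ z, e.symm z = ψ z := fun z => rfl
  have hctx : QCtx p Qs y := by
    refine ⟨?_, ?_, ?_⟩
    · intro u hu
      apply hQ.1
      intro v
      rw [QuadraticMap.polarBilin_apply_apply]
      exact hu v
    · intro v
      show Qs (e.symm (T (e v))) = Qs v
      rw [hes, hQT, ← hes, LinearEquiv.symm_apply_apply]
    · rw [hy]
      apply LinearMap.ext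
      intro v
      simp [hT, hσp]
  obtain ⟨x, hx, hxy, hxp⟩ := q_realize Qs p y hctx
  refine ⟨⟨x, hx⟩, ?_, ?_⟩
  · apply Subtype.ext
    rw [SubgroupClass.coe_pow]
    exact hxp
  · intro h0
    have h1 : (∑ i ∈ Finset.range p, y ^ i) = 0 := by
      have hz : Matrix.toLin' (geoS x p) = 0 := by
        rw [h0]
        simp
      unfold geoS at hz
      rw [map_sum] at hz
      rw [← hz]
      apply Finset.sum_congr rfl
      intro i _
      rw [← hxy, s5972stdctx_pow]
    have h2 := LinearMap.congr_fun h1 (e.symm (Pi.single 0 1))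
    rw [LinearMap.sum_apply] at h2
    simp only [hy, LinearMap.comp_apply, LinearEquiv.coe_coe, LinearEquiv.apply_symm_apply, hT] at h2
    rw [← map_sum, LinearMap.zero_apply, map_eq_zero_iff _ e.symm.injective] at h2
    have h3 := congrFun h2 0
    rw [Finset.sum_apply] at h3
    rw [Finset.sum_eq_single 0] at h3
    · simp at h3
    · intro i hi hi0
      have := hσ0 i (Nat.pos_of_ne_zero hi0) (Finset.mem_range.mp hi)
      simp [Function.comp, this]
    · intro h
      exact absurd (Finset.mem_range.mpr hp.pos) h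

end Cfsg.Agent.Lib.Helper1.O9L
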