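import Mathlib
import Cfsg.Agent.Lib.Helper1.O9L.Defs
import Cfsg.Agent.Lib.Helper28.O9LDIAG
import Cfsg.Agent.Lib.helper17.O9LUNIPSTDcore

set_option autoImplicit false

/-!
# O9L row UNIPSTD (`unip_std`), verbatim: DIAG + the `p`-cycle core.
-/

namespace Cfsg.Agent.Lib.Helper1.O9L

open Matrix Module Polynomial Cfsg.Agent.Lib.Helper13.OTS Cfsg.Agent.Lib.Helper16 Cfsg.Agent.Lib.Helper19.O9U

theorem unip_std {F : Type*} [Field F] [Fintype F] (p : ℕ) [Fact p.Prime] [CharP F p] (hp2 : p ≠ 2)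
    {ι : Type} [Fintype ι] [DecidableEq ι] (Qs : QuadraticForm F (ι → F))
    (hQ : (QuadraticMap.polarBilin Qs).Nondegenerate) (hcard : Fintype.card ι = p + 1) :
    ∃ g : ↥(Cfsg.isometryGroup F (⇑Qs)), g ^ p = 1 ∧ geoS (g : GL ι F) p ≠ 0 := by
  have hp : p.Prime := Fact.out
  have h2 : (2 : F) ≠ 0 := by
    have h := cast_ne_zero_of_not_dvd (F := F) p 2 (fun hd => hp2 ((Nat.prime_dvd_prime_iff_eq hp Nat.prime_two).mp hd))
    exact_mod_cast h
  obtain ⟨ψ, t, -, hψ⟩ := q_diag h2 Qs hQ p hcard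
  exact o9lunipstd_core p hp Qs hQ ψ t hψ

end Cfsg.Agent.Lib.Helper1.O9L
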