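import Mathlib
import Cfsg.Agent.Lib.Helper1.O9L.Defs
import Cfsg.Agent.Lib.Helper18.OmegaOdd
import Cfsg.Agent.Lib.helper17.O9LUNIPSTD

set_option autoImplicit false

/-!
# O9L row UNIPV (`omv_unip`, `omv_triv`), verbatim.
-/

namespace Cfsg.Agent.Lib.Helper1.O9L

open Matrix Module Polynomial Cfsg.Agent.Lib.Helper13.OTS Cfsg.Agent.Lib.Helper16 Cfsg.Agent.Lib.Helper19.O9U

theorem o9lunipv_geo_one {F : Type*} [Field F] {ι : Type} [Fintype ι] [DecidableEq ι] (k : ℕ) :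
    geoS (1 : GL ι F) k = (k : F) • (1 : Matrix ι ι F) := by
  unfold geoS
  simp
  rw [Nat.cast_smul_eq_nsmul F k (1 : Matrix ι ι F), nsmul_eq_mul, mul_one]

theorem omv_unip {F : Type*} [Field F] [Fintype F] (p : ℕ) [Fact p.Prime] [CharP F p] (hp2 : p ≠ 2)
    {ι : Type} [Fintype ι] [DecidableEq ι] (Qs : QuadraticForm F (ι → F)) (d : ℕ) (s : ℤ) (hs : QStd Qs d s)
    (hd : 2 * d = p + 1) : OmV F d s p := by
  have hp : p.Prime := Fact.out
  have h2 : (2 : F) ≠ 0 := by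
    have h := cast_ne_zero_of_not_dvd (F := F) p 2 (fun hd => hp2 ((Nat.prime_dvd_prime_iff_eq hp Nat.prime_two).mp hd))
    exact_mod_cast h
  have hQ := hs.nd
  have hcard : Fintype.card ι = p + 1 := hs.card.trans hd
  obtain ⟨g, hgp, hgeo⟩ := unip_std p hp2 Qs hQ hcard
  have hg1 : g ≠ 1 := by
    intro h
    apply hgeo
    rw [h]
    have : ((1 : ↥(Cfsg.isometryGroup F (⇑Qs))) : GL ι F) = 1 := rfl
    rw [this, o9lunipv_geo_one, CharP.cast_eq_zero, zero_smul]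
  have hord : orderOf g = p := orderOf_eq_prime hgp hg1
  have hodd : Odd p := hp.odd_of_ne_two hp2
  have hgp' : (g : GL ι F) ^ p = 1 := by
    rw [← SubgroupClass.coe_pow, hgp]
    rfl
  have hmem := Cfsg.Agent.Lib.Helper18.OmegaOdd.omegaodd_mem h2 Qs hQ (g : GL ι F) g.2 p hodd hgp'
  obtain ⟨g', hg', hgg'⟩ := hmem
  have : g' = g := Subtype.ext hgg'
  rw [this] at hg'
  exact ⟨ι, inferInstance, inferInstance, Qs, hs, g, hg', hord, hgeo⟩

theorem omv_triv {F : Type*} [Field F] [Fintype F] {ι : Type} [Fintype ι] [DecidableEq ι]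
    (Qs : QuadraticForm F (ι → F)) (d : ℕ) (s : ℤ) (hs : QStd Qs d s) (hd : 1 ≤ d) : OmV F d s 1 := by
  have : Nonempty ι := Fintype.card_pos_iff.mp (by rw [hs.card]; omega)
  refine ⟨ι, inferInstance, inferInstance, Qs, hs, 1, Subgroup.one_mem _, orderOf_one, ?_⟩
  have h1 : ((1 : ↥(Cfsg.isometryGroup F (⇑Qs))) : GL ι F) = 1 := rfl
  rw [h1, o9lunipv_geo_one, Nat.cast_one, one_smul]
  exact one_ne_zero

end Cfsg.Agent.Lib.Helper1.O9L
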