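import Mathlib
import Cfsg.Agent.Lib.Helper13.S5955.Defs

/-!
# Project S5955, row N3 (cauchy_fpf), CORE (helper17)

Abstract form: `dim V = c`, `y ≠ 1` an isometry of order `r`; the only input from the form is
`Even (finrank (fixS y))` (= T2 `split` + T7 `nd_even`).
-/

set_option autoImplicit false

namespace Cfsg.Agent.Lib.Helper13.S5955

open Polynomial Module
open Cfsg.Agent.Lib.Helper24

theorem s5955n3_core {F : Type*} [Field F] [Fintype F] {p : ℕ} [Fact p.Prime] [CharP F p]
    {V : Type*} [AddCommGroup V] [Module F V] [FiniteDimensional F V]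
    (r : ℕ) [Fact r.Prime] (hrp : r ≠ p) (y : Module.End F V) (hyr : y ^ r = 1)
    (i c : ℕ) (hi : i = orderOf ((Fintype.card F : ℕ) : ZMod r))
    (hc : c = if Even i then i else 2 * i) (hV : finrank F V = c) (hy1 : y ≠ 1)
    (hfe : Even (finrank F (fixS y))) :
    fixS y = ⊥ ∧ (Even i → ∀ U : Submodule F V, SInv y U → U = ⊥ ∨ U = ⊤) := by
  have hipos : 0 < i := by rw [hi]; exact el_ord_pos (F := F) r hrp
  have hd : ∀ P : F[X], Irreducible P → P ∣ cyclotomic r F → P.natDegree = i := by
    intro P hP hPd
    rw [hi]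
    exact el_cyc_deg r hrp P hP hPd
  have hsplit : finrank F (fixS y) + finrank F (cycS r y) = finrank F V :=
    el_split_dim y (cyclotomic r F) (el_cyc_coprime r hrp) (el_cyc_kill r y hyr)
  have hdvd : i ∣ finrank F (cycS r y) :=
    el_dvd_dim y (cycS r y) (el_inv_ker y _) (cyclotomic r F) (cyclotomic_ne_zero r F)
      (fun u hu => LinearMap.mem_ker.mp hu) i hipos hd
  have hcne : cycS r y ≠ ⊥ := by
    intro hb
    apply hy1
    have h0 : finrank F (cycS r y) = 0 := by rw [hb, finrank_bot]
    have h1 : finrank F (fixS y) = finrank F V := by omega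
    have htop : fixS y = ⊤ := Submodule.eq_top_of_finrank_eq h1
    apply LinearMap.ext
    intro v
    have hv : v ∈ fixS y := by rw [htop]; exact Submodule.mem_top
    have h2 : aeval y (X - 1 : F[X]) v = 0 := LinearMap.mem_ker.mp hv
    rw [map_sub, aeval_X, map_one, LinearMap.sub_apply, Module.End.one_apply, sub_eq_zero] at h2
    rw [h2, Module.End.one_apply]
  have hcpos : 0 < finrank F (cycS r y) :=
    Nat.pos_of_ne_zero (fun h0 => hcne (Submodule.finrank_eq_zero.mp h0))
  have hcge : i ≤ finrank F (cycS r y) := Nat.le_of_dvd hcpos hdvd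
  by_cases hev : Even i
  · rw [if_pos hev] at hc
    have hf0 : finrank F (fixS y) = 0 := by omega
    have hfix : fixS y = ⊥ := Submodule.finrank_eq_zero.mp hf0
    refine ⟨hfix, fun _ U hU => ?_⟩
    have hW := el_split_W y (cyclotomic r F) (el_cyc_coprime r hrp) (el_cyc_kill r y hyr) U hU
    have h1 : finrank F ↥(U ⊓ LinearMap.ker (aeval y (X - 1 : F[X]))) = 0 := by
      have hle : U ⊓ LinearMap.ker (aeval y (X - 1 : F[X])) ≤ fixS y := inf_le_right
      rw [hfix, le_bot_iff] at hle
      rw [hle, finrank_bot]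
    have h2 : i ∣ finrank F ↥(U ⊓ LinearMap.ker (aeval y (cyclotomic r F))) :=
      el_dvd_dim y _ (el_inv_inf hU (el_inv_ker y _)) (cyclotomic r F) (cyclotomic_ne_zero r F)
        (fun u hu => LinearMap.mem_ker.mp hu.2) i hipos hd
    have hUle : finrank F U ≤ finrank F V := Submodule.finrank_le U
    obtain ⟨k, hk⟩ := h2
    rw [h1, zero_add, hk] at hW
    rcases Nat.eq_zero_or_pos k with hk0 | hkpos
    · left
      rw [hk0, mul_zero] at hW
      exact Submodule.finrank_eq_zero.mp hW
    · right
      apply Submodule.eq_top_of_finrank_eq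
      have : i ≤ i * k := Nat.le_mul_of_pos_right i hkpos
      omega
  · rw [if_neg hev] at hc
    have hodd : Odd i := Nat.not_even_iff_odd.mp hev
    refine ⟨?_, fun he => absurd he hev⟩
    obtain ⟨k, hk⟩ := hdvd
    have hk1 : 1 ≤ k := by
      rcases Nat.eq_zero_or_pos k with h0 | h0
      · rw [h0, mul_zero] at hk; omega
      · exact h0
    have hk2 : k ≤ 2 := by
      by_contra hcon
      have : 3 ≤ k := by omega
      have : i * 3 ≤ i * k := Nat.mul_le_mul_left i this
      omega
    have hk12 : k = 1 ∨ k = 2 := by omega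
    rcases hk12 with rfl | rfl
    · exfalso
      have hf : finrank F (fixS y) = i := by omega
      rw [hf] at hfe
      exact hev hfe
    · have hf0 : finrank F (fixS y) = 0 := by omega
      exact Submodule.finrank_eq_zero.mp hf0

end Cfsg.Agent.Lib.Helper13.S5955
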