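import Mathlib
import Cfsg.Agent.Lib.Helper13.S5955.Defs
import Cfsg.Agent.Lib.helper17.S5955N3core
import Cfsg.Agent.Lib.Lead.S5955T2
import Cfsg.Agent.Lib.Helper5.S5955T7

/-!
# Project S5955, row N3 (cauchy_fpf), VERBATIM (helper17): `s5955n3_core` + T2 `split` + T7 `nd_even`.
-/

set_option autoImplicit false

namespace Cfsg.Agent.Lib.Helper13.S5955

open Polynomial Module

/-- N3 [M] FPF: for `2h = c` such an isometry is fixed-point-free, and irreducible if `i` is
even. -/
theorem cauchy_fpf {F : Type*} [Field F] [Fintype F] {p : ℕ} [Fact p.Prime] [CharP F p]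
    (r : ℕ) [Fact r.Prime] (hrp : r ≠ p) (h : ℕ) (i c : ℕ)
    (hi : i = orderOf ((Fintype.card F : ℕ) : ZMod r)) (hc : c = if Even i then i else 2 * i)
    (hhc : 2 * h = c) (y : Module.End F (Fin h ⊕ Fin h → F)) (hy : SCtx r (stdB h F) y)
    (hy1 : y ≠ 1) :
    fixS y = ⊥ ∧ (Even i → ∀ U : Submodule F (Fin h ⊕ Fin h → F), SInv y U → U = ⊥ ∨ U = ⊤) := by
  have hV : finrank F (Fin h ⊕ Fin h → F) = c := by
    rw [Module.finrank_fintype_fun_eq_card, Fintype.card_sum, Fintype.card_fin, ← hhc, two_mul]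
  have hfe : Even (finrank F (fixS y)) := nd_even (stdB h F) hy.alt (fixS y) (split hrp hy).2.2.1
  exact s5955n3_core r hrp y hy.pow i c hi hc hV hy1 hfe

end Cfsg.Agent.Lib.Helper13.S5955
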