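import Mathlib
import Cfsg.Agent.Lib.Helper18.OPE.Defs

set_option autoImplicit false

/-!
# Project OPE, rows QCTXO (`qctx_octx`) and QTYUNIQ (`qty_uniq`) (helper17).
-/

namespace Cfsg.Agent.Lib.Helper18.OPE

open Polynomial Module Cfsg.Agent.Lib.Helper13.S5955 Cfsg.Agent.Lib.helper15.S5972

/-- QCTXO [S] -/
theorem qctx_octx {F : Type*} [Field F] {V : Type*} [AddCommGroup V] [Module F V] {r : ℕ}
    {Q : QuadraticForm F V} {x : Module.End F V} (h : QCtx r Q x) :
    OCtx r (QuadraticMap.polarBilin Q) x := by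
  refine ⟨?_, h.nd, ?_, h.pow⟩
  · intro u v
    rw [QuadraticMap.polarBilin_apply_apply, QuadraticMap.polarBilin_apply_apply,
      QuadraticMap.polar_comm]
  · intro u v
    rw [QuadraticMap.polarBilin_apply_apply, QuadraticMap.polarBilin_apply_apply]
    unfold QuadraticMap.polar
    rw [← map_add, h.pres, h.pres, h.pres]

/-- QTYUNIQ [S] -/
theorem qty_uniq {F : Type*} [Field F] [Fintype F] {V : Type*} [AddCommGroup V] [Module F V]
    (Q : QuadraticForm F V) (W : Submodule F V) (h1 : QTy Q W 1) (h2 : QTy Q W (-1)) : False :=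
  Cfsg.Agent.Lib.Helper16.OSemi.isType_unique _ _ h1 h2

end Cfsg.Agent.Lib.Helper18.OPE
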