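import Mathlib
import Cfsg.Agent.Lib.Helper18.OPE.Defs
import Cfsg.Agent.Lib.Helper13.OTS.Defs

set_option autoImplicit false

/-!
# Project OPE, row QTYCLASS, CORE (helper17): `qty_class` from the conclusion of OTS `q_ty_class`
(the two projects have the same `QTy`; OTS's row is stronger).
-/

namespace Cfsg.Agent.Lib.Helper18.OPE

open Polynomial Module Cfsg.Agent.Lib.Helper13.S5955 Cfsg.Agent.Lib.helper15.S5972

/-- the two `QTy` agree -/
theorem opeqtyclass_qty {F : Type*} [Field F] [Fintype F] {V : Type*} [AddCommGroup V] [Module F V]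
    (Q : QuadraticForm F V) (W : Submodule F V) (s : ℤ) :
    QTy Q W s ↔ Cfsg.Agent.Lib.Helper13.OTS.QTy Q W s := Iff.rfl

/-- QTYCLASS core: `hots` is the conclusion of `Cfsg.Agent.Lib.Helper13.OTS.q_ty_class Q W hW hev` -/
theorem opeqtyclass_core {F : Type*} [Field F] [Fintype F]
    {V : Type*} [AddCommGroup V] [Module F V]
    (Q : QuadraticForm F V) (W : Submodule F V)
    (hots : ((∃ U : Submodule F V, U ≤ W ∧ Cfsg.Agent.Lib.Helper13.OTS.QTS Q U ∧
        2 * finrank F U = finrank F W) ∧ Cfsg.Agent.Lib.Helper13.OTS.QTy Q W 1) ∨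
      ((¬ ∃ U : Submodule F V, U ≤ W ∧ Cfsg.Agent.Lib.Helper13.OTS.QTS Q U ∧
        2 * finrank F U = finrank F W) ∧ Cfsg.Agent.Lib.Helper13.OTS.QTy Q W (-1) ∧
        ∃ U : Submodule F V, U ≤ W ∧ Cfsg.Agent.Lib.Helper13.OTS.QTS Q U ∧
          2 * finrank F U + 2 = finrank F W)) :
    (QHyp Q W ∧ QTy Q W 1) ∨ (¬ QHyp Q W ∧ QTy Q W (-1)) := by
  rcases hots with ⟨h1, h3⟩ | ⟨h1, h3, -⟩
  · exact Or.inl ⟨h1, h3⟩
  · exact Or.inr ⟨h1, h3⟩

end Cfsg.Agent.Lib.Helper18.OPE
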