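import Mathlib
import Cfsg.Agent.Lib.Helper18.OPE.Defs
import Cfsg.Agent.Lib.helper17.OPEQCTXO
import Cfsg.Agent.Lib.helper17.OPEQTYSUM
import Cfsg.Agent.Lib.helper17.ONENDPERPS
import Cfsg.Agent.Lib.helper17.ONENDSUPS

set_option autoImplicit false

/-!
# Project OPE, rows QTYEX and QTYIFF, CORES (helper17): the statements of QPLANEEX resp. QTYCLASS are hypotheses.
-/

namespace Cfsg.Agent.Lib.Helper18.OPE

open Polynomial Module Cfsg.Agent.Lib.Helper13.S5955 Cfsg.Agent.Lib.helper15.S5972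

/-- QTYIFF core: `hclass` is the conclusion of `qty_class Q W hW hev` -/
theorem opeqtyiff_core {F : Type*} [Field F] [Fintype F]
    {V : Type*} [AddCommGroup V] [Module F V]
    (Q : QuadraticForm F V) (W : Submodule F V)
    (hclass : (QHyp Q W ∧ QTy Q W 1) ∨ (¬ QHyp Q W ∧ QTy Q W (-1))) :
    (QHyp Q W ↔ QTy Q W 1) ∧ (¬ QHyp Q W ↔ QTy Q W (-1)) ∧ (QTy Q W 1 ∨ QTy Q W (-1)) := by
  rcases hclass with ⟨h1, h3⟩ | ⟨h1, h3⟩
  · refine ⟨⟨fun _ => h3, fun _ => h1⟩, ⟨fun h => absurd h1 h, fun h => (qty_uniq Q W h3 h).elim⟩, Or.inl h3⟩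
  · refine ⟨⟨fun h => absurd h h1, fun h => (qty_uniq Q W h h3).elim⟩, ⟨fun _ => h3, fun _ => h1⟩, Or.inr h3⟩

/-- QTYEX core: `hplane` is the statement of `q_plane_ex` for this `Q` -/
theorem opeqtyex_core {F : Type*} [Field F] [Fintype F]
    {V : Type*} [AddCommGroup V] [Module F V] [FiniteDimensional F V]
    (Q : QuadraticForm F V)
    (hplane : ∀ (N : Submodule F V), SND (QuadraticMap.polarBilin Q) N → Even (finrank F N) →
      4 ≤ finrank F N → ∀ s : ℤ, (s = 1 ∨ s = -1) →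
      ∃ P : Submodule F V, P ≤ N ∧ SND (QuadraticMap.polarBilin Q) P ∧ finrank F P = 2 ∧ QTy Q P s)
    (N : Submodule F V) (hN : SND (QuadraticMap.polarBilin Q) N)
    (hev : Even (finrank F N)) (e : ℕ) (he : Even e) (he0 : 0 < e)
    (heN : e < finrank F N) (s : ℤ) (hs : s = 1 ∨ s = -1) :
    ∃ W : Submodule F V, W ≤ N ∧ SND (QuadraticMap.polarBilin Q) W ∧ finrank F W = e ∧ QTy Q W s := by
  obtain ⟨k, hk⟩ : ∃ k, e = 2 * (k + 1) := by
    obtain ⟨j, hj⟩ := he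
    exact ⟨j - 1, by omega⟩
  subst hk
  clear he he0
  induction k generalizing N with
  | zero =>
    obtain ⟨a, ha⟩ := hev
    obtain ⟨P, hPN, hPnd, hPd, hPs⟩ := hplane N hN ⟨a, ha⟩ (by omega) s hs
    exact ⟨P, hPN, hPnd, by rw [hPd], hPs⟩
  | succ k ih =>
    obtain ⟨a, ha⟩ := hev
    obtain ⟨P, hPN, hPnd, hPd, hPs⟩ := hplane N hN ⟨a, ha⟩ (by omega) 1 (Or.inl rfl)
    obtain ⟨-, -, hN'nd, hN'o, hN'dim⟩ := Cfsg.Agent.Lib.Helper18.ONE.nd_perp_symm
      (QuadraticMap.polarBilin Q) (opeqtysum_symm Q) N P hN hPN hPnd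
    set N' : Submodule F V := N ⊓ LinearMap.BilinForm.orthogonal (QuadraticMap.polarBilin Q) P with hN'
    rw [hPd] at hN'dim
    have hN'ev : Even (finrank F N') := ⟨a - 1, by omega⟩
    obtain ⟨W', hW'N', hW'nd, hW'd, hW's⟩ := ih N' hN'nd hN'ev (by omega)
    have horth : SOrth (QuadraticMap.polarBilin Q) P W' := fun u hu w hw => hN'o u hu w (hW'N' hw)
    obtain ⟨hsnd, -, hsdim⟩ := Cfsg.Agent.Lib.Helper18.ONE.nd_sup_symm (QuadraticMap.polarBilin Q)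
      (opeqtysum_symm Q) P W' hPnd hW'nd horth
    refine ⟨P ⊔ W', sup_le hPN (hW'N'.trans inf_le_left), hsnd, by rw [hsdim, hPd, hW'd]; ring, ?_⟩
    have := qty_sum Q P W' hPnd hW'nd horth (by rw [hPd]; exact even_two)
      (by rw [hW'd]; exact even_two_mul _) 1 s hPs hW's
    rwa [one_mul] at this

end Cfsg.Agent.Lib.Helper18.OPE
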