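import Mathlib
import Cfsg.Agent.Lib.Helper18.OPE.Defs
import Cfsg.Agent.Lib.helper17.OPEQTYCLASScore
import Cfsg.Agent.Lib.helper17.OPEQTYEXcore
import Cfsg.Agent.Lib.Helper21.OTSTYCLASS

set_option autoImplicit false

/-!
# Project OPE, rows QTYCLASS (`qty_class`) and QTYIFF (`qty_iff`) (helper17): wrappers of the cores on helper21's OTS `q_ty_class`.
-/

namespace Cfsg.Agent.Lib.Helper18.OPE

open Polynomial Module Cfsg.Agent.Lib.Helper13.S5955 Cfsg.Agent.Lib.helper15.S5972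

/-- QTYCLASS [L] -/
theorem qty_class {F : Type*} [Field F] [Fintype F]
    {V : Type*} [AddCommGroup V] [Module F V] [FiniteDimensional F V]
    (Q : QuadraticForm F V) (W : Submodule F V) (hW : SND (QuadraticMap.polarBilin Q) W)
    (hev : Even (finrank F W)) :
    (QHyp Q W ∧ QTy Q W 1) ∨ (¬ QHyp Q W ∧ QTy Q W (-1)) :=
  opeqtyclass_core Q W (Cfsg.Agent.Lib.Helper13.OTS.q_ty_class Q W hW hev)

/-- QTYIFF [S] -/
theorem qty_iff {F : Type*} [Field F] [Fintype F]
    {V : Type*} [AddCommGroup V] [Module F V] [FiniteDimensional F V]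
    (Q : QuadraticForm F V) (W : Submodule F V) (hW : SND (QuadraticMap.polarBilin Q) W)
    (hev : Even (finrank F W)) :
    (QHyp Q W ↔ QTy Q W 1) ∧ (¬ QHyp Q W ↔ QTy Q W (-1)) ∧ (QTy Q W 1 ∨ QTy Q W (-1)) :=
  opeqtyiff_core Q W (qty_class Q W hW hev)

end Cfsg.Agent.Lib.Helper18.OPE
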