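import Mathlib
import Cfsg.Agent.Lib.helper17.OMP.Defs
import Cfsg.Agent.Lib.Helper22.OMPA1
import Cfsg.Agent.Lib.Helper26.OMPE5
import Cfsg.Agent.Lib.helper4.OMPE9
import Cfsg.Agent.Lib.Helper5.OMPE7

/-!
# Project OMP, row A4 (`yy_comm_blk`, `yy_comm_tv`, `yy_comm_wh`), verbatim from `OMP/Skel.lean.txt`
-/

set_option autoImplicit false

namespace Cfsg.Agent.Lib.helper17.OMP

open Matrix Cfsg.Agent.Lib.helper14.CTE Cfsg.Agent.Lib.helper14.CTA Cfsg.Agent.Lib.helper17.SLN Cfsg.Agent.Lib.Helper28.CTD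
  Cfsg.Agent.Lib.helper3.STC Cfsg.Agent.Lib.Lead.STD

universe u v w

section A

variable {F : Type u} [Field F] {G : Type v} [Group G] {ι : Type w} [Fintype ι] [DecidableEq ι]

/-- an index outside two given ones -/
theorem ompa4_exists_ne (h4 : 4 ≤ Fintype.card ι) (a b : ι) : ∃ k : ι, a ≠ k ∧ b ≠ k := by
  classical
  by_contra hcon
  push Not at hcon
  have hsub : (Finset.univ : Finset ι) ⊆ {a, b} := by
    intro k _
    simp only [Finset.mem_insert, Finset.mem_singleton]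
    by_cases h1 : a = k
    · exact Or.inl h1.symm
    · exact Or.inr (hcon k h1).symm
  have h1 := Finset.card_le_card hsub
  have h2 : ({a, b} : Finset ι).card ≤ 2 := Finset.card_le_two
  rw [Finset.card_univ] at h1
  omega

/-- an element moving `(o0, o1)` to `(i, j)` -/
theorem ompa4_exists_g (h4 : 4 ≤ Fintype.card ι) (p : Pts ι) (i j : ι) (hij : i ≠ j) :
    ∃ g : Matrix.SpecialLinearGroup ι F, Mv g p.o0 p.o1 i j := by
  obtain ⟨k, hik, hjk⟩ := ompa4_exists_ne h4 i j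
  obtain ⟨g, g0, g1, _⟩ := exists_Mv3 (F := F) h4 p.o0 p.o1 p.o2 i j k p.h01 p.h02 p.h12 hij hik hjk
  exact ⟨g, (Mv_iff _ _ _ _ _).mpr ⟨g0, g1⟩⟩

/-- conjugates of commuting elements -/
theorem ompa4_comm_conj {Y Z T : G} (h : Commute Z T) : Commute (Y * Z * Y⁻¹) (Y * T * Y⁻¹) := by
  show Y * Z * Y⁻¹ * (Y * T * Y⁻¹) = Y * T * Y⁻¹ * (Y * Z * Y⁻¹)
  have := h.eq
  calc Y * Z * Y⁻¹ * (Y * T * Y⁻¹) = Y * (Z * T) * Y⁻¹ := by group
    _ = Y * (T * Z) * Y⁻¹ := by rw [this]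
    _ = Y * T * Y⁻¹ * (Y * Z * Y⁻¹) := by group

/-- A4 [S-M] (three statements, one file) -/
theorem yy_comm_blk (h4 : 4 ≤ Fintype.card ι) (p : Pts ι) (Φ : Matrix.SpecialLinearGroup ι F →* G) (y : G)
    (hB : ∀ g : Matrix.SpecialLinearGroup ι F, Mv g p.o0 p.o1 p.o0 p.o1 → Commute y (Φ g))
    (i j : ι) (hij : i ≠ j) (g : Matrix.SpecialLinearGroup ι F) (hg : Mv g i j i j) : Commute (yy p Φ y i j) (Φ g) := by
  obtain ⟨g₀, hg₀⟩ := ompa4_exists_g (F := F) h4 p i j hij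
  rw [← yy_eq p Φ y hB g₀ i j hg₀]
  have hm : Mv (g₀⁻¹ * (g * g₀)) p.o0 p.o1 p.o0 p.o1 := Mv.mul (Mv.mul hg₀ hg) (Mv.inv hg₀)
  have hc := hB _ hm
  have e : Φ g = Φ g₀ * Φ (g₀⁻¹ * (g * g₀)) * (Φ g₀)⁻¹ := by
    rw [← map_inv, ← map_mul, ← map_mul]; congr 1; group
  rw [e]
  exact ompa4_comm_conj hc

theorem yy_comm_tv (h4 : 4 ≤ Fintype.card ι) (p : Pts ι) (Φ : Matrix.SpecialLinearGroup ι F →* G) (y : G)
    (hB : ∀ g : Matrix.SpecialLinearGroup ι F, Mv g p.o0 p.o1 p.o0 p.o1 → Commute y (Φ g))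
    (hL : ∀ t : F, Commute y (Φ (tv p.o0 p.o1 t)) ∧ Commute y (Φ (tv p.o1 p.o0 t)))
    (i j : ι) (hij : i ≠ j) (t : F) :
    Commute (yy p Φ y i j) (Φ (tv i j t)) ∧ Commute (yy p Φ y i j) (Φ (tv j i t)) := by
  obtain ⟨g₀, hg₀⟩ := ompa4_exists_g (F := F) h4 p i j hij
  rw [← yy_eq p Φ y hB g₀ i j hg₀]
  have hm := (Mv_iff _ _ _ _ _).mp hg₀
  have e1 : Φ (tv i j t) = Φ g₀ * Φ (tv p.o0 p.o1 t) * (Φ g₀)⁻¹ := by
    rw [← map_inv, ← map_mul, ← map_mul, Mv1.conj_tv hm.1 hm.2 p.h01 hij t]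
  have e2 : Φ (tv j i t) = Φ g₀ * Φ (tv p.o1 p.o0 t) * (Φ g₀)⁻¹ := by
    rw [← map_inv, ← map_mul, ← map_mul, Mv1.conj_tv hm.2 hm.1 p.h01.symm hij.symm t]
  rw [e1, e2]
  exact ⟨ompa4_comm_conj (hL t).1, ompa4_comm_conj (hL t).2⟩

theorem yy_comm_wh (h4 : 4 ≤ Fintype.card ι) (p : Pts ι) (Φ : Matrix.SpecialLinearGroup ι F →* G) (y : G)
    (hB : ∀ g : Matrix.SpecialLinearGroup ι F, Mv g p.o0 p.o1 p.o0 p.o1 → Commute y (Φ g))
    (hL : ∀ t : F, Commute y (Φ (tv p.o0 p.o1 t)) ∧ Commute y (Φ (tv p.o1 p.o0 t)))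
    (i j : ι) (hij : i ≠ j) (s : F) :
    Commute (yy p Φ y i j) (Φ (wE i j)) ∧ Commute (yy p Φ y i j) (Φ (wE j i)) ∧ Commute (yy p Φ y i j) (Φ (hE i j s)) := by
  have h1 := fun t => (yy_comm_tv h4 p Φ y hB hL i j hij t).1
  have h2 := fun t => (yy_comm_tv h4 p Φ y hB hL i j hij t).2
  refine ⟨?_, ?_, ?_⟩
  · unfold wE
    rw [map_mul, map_mul]
    exact ((h1 1).mul_right (h2 (-1))).mul_right (h1 1)
  · unfold wE
    rw [map_mul, map_mul]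
    exact ((h2 1).mul_right (h1 (-1))).mul_right (h2 1)
  · unfold hE
    simp only [map_mul]
    exact (((h1 s).mul_right (h2 _)).mul_right (h1 s)).mul_right (((h1 _).mul_right (h2 _)).mul_right (h1 _))

end A

end Cfsg.Agent.Lib.helper17.OMP
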