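import Mathlib
import Cfsg.Agent.Lib.helper17.OMP.Defs
import Cfsg.Agent.Lib.Helper22.OMPA1
import Cfsg.Agent.Lib.Helper26.OMPE5
import Cfsg.Agent.Lib.helper4.OMPE9
import Cfsg.Agent.Lib.Helper5.OMPE7
import Cfsg.Agent.Lib.Helper11.OMPE1
import Cfsg.Agent.Lib.Helper11.OMPE6
import Cfsg.Agent.Lib.Helper11.OMPA2
import Cfsg.Agent.Lib.helper17.OMPA4

/-!
# Project OMP, rows A5 (`pin_gen`), A6 (`PP_indep`, `NN_indep`), A7 (`wE_comm_PP`, `wE_comm_NN`, `PP_swap`, `NN_swap`), verbatim from `OMP/Skel.lean.txt`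
-/

set_option autoImplicit false

namespace Cfsg.Agent.Lib.helper17.OMP

open Matrix Cfsg.Agent.Lib.helper14.CTE Cfsg.Agent.Lib.helper14.CTA Cfsg.Agent.Lib.helper17.SLN Cfsg.Agent.Lib.Helper28.CTD
  Cfsg.Agent.Lib.helper3.STC Cfsg.Agent.Lib.Lead.STD

universe u v w

section A

variable {F : Type u} [Field F] {G : Type v} [Group G] {ι : Type w} [Fintype ι] [DecidableEq ι]

/-- own-name copies of four statements of E8 (from E1, E6, E7) -/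
theorem ompa6_wE_kb (a b k : ι) (hab : a ≠ b) (hka : k ≠ a) (hkb : k ≠ b) (t : F) :
    (wE a b : Matrix.SpecialLinearGroup ι F) * tv k b t * (wE a b)⁻¹ = tv k a t :=
  Mv1.conj_tv (Mv1_wE_of_ne a b k hab hka hkb) (Mv1_wE a b hab) hkb hka t

theorem ompa6_wE_bk (a b k : ι) (hab : a ≠ b) (hka : k ≠ a) (hkb : k ≠ b) (t : F) :
    (wE a b : Matrix.SpecialLinearGroup ι F) * tv b k t * (wE a b)⁻¹ = tv a k t :=
  Mv1.conj_tv (Mv1_wE a b hab) (Mv1_wE_of_ne a b k hab hka hkb) hkb.symm hka.symm t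

theorem ompa7_wE_ak (a b k : ι) (hab : a ≠ b) (hka : k ≠ a) (hkb : k ≠ b) (t : F) :
    (wE a b : Matrix.SpecialLinearGroup ι F) * tv a k t * (wE a b)⁻¹ = tv b k (-t) :=
  conj_tv_neg_fst (wE a b) a k b k hka.symm hkb.symm (wE_mulVec_fst a b hab) (vecMul_wE_of_ne a b k hab hka hkb) t

theorem ompa7_wE_ka (a b k : ι) (hab : a ≠ b) (hka : k ≠ a) (hkb : k ≠ b) (t : F) :
    (wE a b : Matrix.SpecialLinearGroup ι F) * tv k a t * (wE a b)⁻¹ = tv k b (-t) :=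
  conj_tv_neg_snd (wE a b) k a k b hka hkb (wE_mulVec_of_ne a b k hab hka hkb) (vecMul_wE_snd a b hab) t

/-- conjugation of the Weyl word -/
theorem ompa5_conj_wE (g : Matrix.SpecialLinearGroup ι F) (i j i' j' : ι)
    (h1 : ∀ t : F, g * tv i j t * g⁻¹ = tv i' j' t) (h2 : ∀ t : F, g * tv j i t * g⁻¹ = tv j' i' t) :
    g * wE i j * g⁻¹ = wE i' j' := by
  have hc : ∀ a b : Matrix.SpecialLinearGroup ι F, g * (a * b) * g⁻¹ = (g * a * g⁻¹) * (g * b * g⁻¹) := by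
    intro a b; group
  unfold wE
  simp only [hc, h1, h2]

/-- A5 [M] -/
theorem pin_gen (h4 : 4 ≤ Fintype.card ι) (p : Pts ι) (Φ : Matrix.SpecialLinearGroup ι F →* G) (y : G) (H : OG p Φ y)
    (a b k : ι) (hab : a ≠ b) (hak : a ≠ k) (hbk : b ≠ k) :
    yy p Φ y b k * Φ (wE a k) * (yy p Φ y b k)⁻¹ = yy p Φ y a b := by
  obtain ⟨g, g0, g2, g1⟩ := exists_Mv3 (F := F) h4 p.o0 p.o2 p.o1 b k a p.h02 p.h01 p.h12.symm hbk hab.symm hak.symm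
  have e1 : Φ g * yy p Φ y p.o0 p.o2 * (Φ g)⁻¹ = yy p Φ y b k :=
    yy_conj h4 p Φ y H.cB g _ _ _ _ p.h02 ((Mv_iff _ _ _ _ _).mpr ⟨g0, g2⟩)
  have e2 : Φ g * yy p Φ y p.o0 p.o1 * (Φ g)⁻¹ = yy p Φ y b a :=
    yy_conj h4 p Φ y H.cB g _ _ _ _ p.h01 ((Mv_iff _ _ _ _ _).mpr ⟨g0, g1⟩)
  have e3 : g * wE p.o1 p.o2 * g⁻¹ = wE a k :=
    ompa5_conj_wE g _ _ _ _ (fun t => Mv1.conj_tv g1 g2 p.h12 hak t) (fun t => Mv1.conj_tv g2 g1 p.h12.symm hak.symm t)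
  have e4 : yy p Φ y a b = (yy p Φ y b a)⁻¹ := yy_swap h4 p Φ y H.cB H.inv b a hab.symm
  have e5 : yy p Φ y p.o0 p.o1 = y := yy_base p Φ y H.cB
  have hpin := H.pin
  rw [e4, ← e2, e5, ← e1, ← e3, map_mul, map_mul, map_inv]
  have : Φ g * y * (Φ g)⁻¹ = (Φ g * y⁻¹ * (Φ g)⁻¹)⁻¹ := by group
  rw [this, ← hpin]
  group

/-- `yy b k` through another index -/
theorem ompa6_yy (h4 : 4 ≤ Fintype.card ι) (p : Pts ι) (Φ : Matrix.SpecialLinearGroup ι F →* G) (y : G) (H : OG p Φ y)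
    (b k k' : ι) (hbk : b ≠ k) (hbk' : b ≠ k') (hkk' : k ≠ k') :
    yy p Φ y b k = yy p Φ y b k' * (Φ (wE k k'))⁻¹ * (yy p Φ y b k')⁻¹ := by
  have h1 := pin_gen h4 p Φ y H k b k' hbk.symm hkk' hbk'
  have h2 : yy p Φ y k b = (yy p Φ y b k)⁻¹ := yy_swap h4 p Φ y H.cB H.inv b k hbk
  rw [h2] at h1
  have : yy p Φ y b k = (yy p Φ y b k' * Φ (wE k k') * (yy p Φ y b k')⁻¹)⁻¹ := by rw [h1, inv_inv]
  rw [this]
  group

/-- A6 [M] (two statements, one file) -/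
theorem PP_indep (h4 : 4 ≤ Fintype.card ι) (p : Pts ι) (Φ : Matrix.SpecialLinearGroup ι F →* G) (y : G) (H : OG p Φ y)
    (a b k k' : ι) (hab : a ≠ b) (hak : a ≠ k) (hbk : b ≠ k) (hak' : a ≠ k') (hbk' : b ≠ k') (t : F) :
    PP p Φ y a b k t = PP p Φ y a b k' t := by
  by_cases hkk' : k = k'
  · rw [hkk']
  unfold PP
  rw [ompa6_yy h4 p Φ y H b k k' hbk hbk' hkk']
  set Y := yy p Φ y b k' with hY
  have hc : Commute Y (Φ (tv a k t)) :=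
    yy_comm_blk h4 p Φ y H.cB b k' hbk' _
      ((Mv_iff _ _ _ _ _).mpr ⟨Mv1_tv a k b hak hab.symm hbk t, Mv1_tv a k k' hak hak'.symm (Ne.symm hkk') t⟩)
  have e1 : (Φ (wE k k'))⁻¹ * Φ (tv a k t) * Φ (wE k k') = Φ (tv a k' t) := by
    rw [← map_inv, ← map_mul, ← map_mul]
    congr 1
    rw [← ompa6_wE_kb (F := F) k k' a hkk' hak hak' t]
    group
  calc Y * (Φ (wE k k'))⁻¹ * Y⁻¹ * Φ (tv a k t) * (Y * (Φ (wE k k'))⁻¹ * Y⁻¹)⁻¹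
      = Y * (Φ (wE k k'))⁻¹ * (Y⁻¹ * Φ (tv a k t) * Y) * Φ (wE k k') * Y⁻¹ := by group
    _ = Y * (Φ (wE k k'))⁻¹ * Φ (tv a k t) * Φ (wE k k') * Y⁻¹ := by
        have : Y⁻¹ * Φ (tv a k t) * Y = Φ (tv a k t) := by rw [mul_assoc, ← hc.eq, ← mul_assoc, inv_mul_cancel, one_mul]
        rw [this]
    _ = Y * ((Φ (wE k k'))⁻¹ * Φ (tv a k t) * Φ (wE k k')) * Y⁻¹ := by group
    _ = Y * Φ (tv a k' t) * Y⁻¹ := by rw [e1]

theorem NN_indep (h4 : 4 ≤ Fintype.card ι) (p : Pts ι) (Φ : Matrix.SpecialLinearGroup ι F →* G) (y : G) (H : OG p Φ y)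
    (a b k k' : ι) (hab : a ≠ b) (hak : a ≠ k) (hbk : b ≠ k) (hak' : a ≠ k') (hbk' : b ≠ k') (t : F) :
    NN p Φ y a b k t = NN p Φ y a b k' t := by
  by_cases hkk' : k = k'
  · rw [hkk']
  unfold NN
  rw [ompa6_yy h4 p Φ y H b k k' hbk hbk' hkk']
  set Y := yy p Φ y b k' with hY
  have hc : Commute Y (Φ (tv k a t)) :=
    yy_comm_blk h4 p Φ y H.cB b k' hbk' _
      ((Mv_iff _ _ _ _ _).mpr ⟨Mv1_tv k a b hak.symm hbk hab.symm t, Mv1_tv k a k' hak.symm (Ne.symm hkk') hak'.symm t⟩)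
  have e1 : (Φ (wE k k'))⁻¹ * Φ (tv k a t) * Φ (wE k k') = Φ (tv k' a t) := by
    rw [← map_inv, ← map_mul, ← map_mul]
    congr 1
    rw [← ompa6_wE_bk (F := F) k k' a hkk' hak hak' t]
    group
  calc Y * (Φ (wE k k'))⁻¹ * Y⁻¹ * Φ (tv k a t) * (Y * (Φ (wE k k'))⁻¹ * Y⁻¹)⁻¹
      = Y * (Φ (wE k k'))⁻¹ * (Y⁻¹ * Φ (tv k a t) * Y) * Φ (wE k k') * Y⁻¹ := by group
    _ = Y * (Φ (wE k k'))⁻¹ * Φ (tv k a t) * Φ (wE k k') * Y⁻¹ := by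
        have : Y⁻¹ * Φ (tv k a t) * Y = Φ (tv k a t) := by rw [mul_assoc, ← hc.eq, ← mul_assoc, inv_mul_cancel, one_mul]
        rw [this]
    _ = Y * ((Φ (wE k k'))⁻¹ * Φ (tv k a t) * Φ (wE k k')) * Y⁻¹ := by group
    _ = Y * Φ (tv k' a t) * Y⁻¹ := by rw [e1]

/-- `Φ (wE a b) = yy b k * yy a k * (yy b k)⁻¹` -/
theorem ompa7_wE (h4 : 4 ≤ Fintype.card ι) (p : Pts ι) (Φ : Matrix.SpecialLinearGroup ι F →* G) (y : G) (H : OG p Φ y)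
    (a b k : ι) (hab : a ≠ b) (hak : a ≠ k) (hbk : b ≠ k) :
    Φ (wE a b) = yy p Φ y b k * yy p Φ y a k * (yy p Φ y b k)⁻¹ := by
  have h1 := pin_gen h4 p Φ y H a k b hak hab hbk.symm
  have h2 : yy p Φ y k b = (yy p Φ y b k)⁻¹ := yy_swap h4 p Φ y H.cB H.inv b k hbk
  rw [h2] at h1
  rw [← h1]
  group

/-- a conjugate commutes with a conjugate -/
theorem ompa7_comm_conj {Y Z T : G} (h : Commute Z T) : Commute (Y * Z * Y⁻¹) (Y * T * Y⁻¹) := by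
  show Y * Z * Y⁻¹ * (Y * T * Y⁻¹) = Y * T * Y⁻¹ * (Y * Z * Y⁻¹)
  have := h.eq
  calc Y * Z * Y⁻¹ * (Y * T * Y⁻¹) = Y * (Z * T) * Y⁻¹ := by group
    _ = Y * (T * Z) * Y⁻¹ := by rw [this]
    _ = Y * T * Y⁻¹ * (Y * Z * Y⁻¹) := by group

/-- A7 [M] (four statements, one file) -/
theorem wE_comm_PP (h4 : 4 ≤ Fintype.card ι) (p : Pts ι) (Φ : Matrix.SpecialLinearGroup ι F →* G) (y : G) (H : OG p Φ y)
    (a b k : ι) (hab : a ≠ b) (hak : a ≠ k) (hbk : b ≠ k) (t : F) : Commute (Φ (wE a b)) (PP p Φ y a b k t) := by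
  rw [ompa7_wE h4 p Φ y H a b k hab hak hbk]
  unfold PP
  exact ompa7_comm_conj (yy_comm_tv h4 p Φ y H.cB H.cL a k hak t).1

theorem wE_comm_NN (h4 : 4 ≤ Fintype.card ι) (p : Pts ι) (Φ : Matrix.SpecialLinearGroup ι F →* G) (y : G) (H : OG p Φ y)
    (a b k : ι) (hab : a ≠ b) (hak : a ≠ k) (hbk : b ≠ k) (t : F) : Commute (Φ (wE a b)) (NN p Φ y a b k t) := by
  rw [ompa7_wE h4 p Φ y H a b k hab hak hbk]
  unfold NN
  exact ompa7_comm_conj (yy_comm_tv h4 p Φ y H.cB H.cL a k hak t).2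

theorem PP_swap (h4 : 4 ≤ Fintype.card ι) (p : Pts ι) (Φ : Matrix.SpecialLinearGroup ι F →* G) (y : G) (H : OG p Φ y)
    (a b k : ι) (hab : a ≠ b) (hak : a ≠ k) (hbk : b ≠ k) (t : F) : PP p Φ y b a k (-t) = PP p Φ y a b k t := by
  have hc := wE_comm_PP h4 p Φ y H a b k hab hak hbk t
  have e1 : Φ (wE a b) * yy p Φ y b k * (Φ (wE a b))⁻¹ = yy p Φ y a k :=
    yy_conj h4 p Φ y H.cB (wE a b) _ _ _ _ hbk
      ((Mv_iff _ _ _ _ _).mpr ⟨Mv1_wE a b hab, Mv1_wE_of_ne a b k hab hak.symm hbk.symm⟩)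
  have e2 : Φ (wE a b) * Φ (tv a k t) * (Φ (wE a b))⁻¹ = Φ (tv b k (-t)) := by
    rw [← map_inv, ← map_mul, ← map_mul, ompa7_wE_ak a b k hab hak.symm hbk.symm t]
  have e3 : Φ (wE a b) * PP p Φ y a b k t * (Φ (wE a b))⁻¹ = PP p Φ y b a k (-t) := by
    unfold PP
    rw [← e1, ← e2]
    group
  rw [← e3, hc.eq]
  group

theorem NN_swap (h4 : 4 ≤ Fintype.card ι) (p : Pts ι) (Φ : Matrix.SpecialLinearGroup ι F →* G) (y : G) (H : OG p Φ y)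
    (a b k : ι) (hab : a ≠ b) (hak : a ≠ k) (hbk : b ≠ k) (t : F) : NN p Φ y b a k (-t) = NN p Φ y a b k t := by
  have hc := wE_comm_NN h4 p Φ y H a b k hab hak hbk t
  have e1 : Φ (wE a b) * yy p Φ y b k * (Φ (wE a b))⁻¹ = yy p Φ y a k :=
    yy_conj h4 p Φ y H.cB (wE a b) _ _ _ _ hbk
      ((Mv_iff _ _ _ _ _).mpr ⟨Mv1_wE a b hab, Mv1_wE_of_ne a b k hab hak.symm hbk.symm⟩)
  have e2 : Φ (wE a b) * Φ (tv k a t) * (Φ (wE a b))⁻¹ = Φ (tv k b (-t)) := by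
    rw [← map_inv, ← map_mul, ← map_mul, ompa7_wE_ka a b k hab hak.symm hbk.symm t]
  have e3 : Φ (wE a b) * NN p Φ y a b k t * (Φ (wE a b))⁻¹ = NN p Φ y b a k (-t) := by
    unfold NN
    rw [← e1, ← e2]
    group
  rw [← e3, hc.eq]
  group

end A

end Cfsg.Agent.Lib.helper17.OMP
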