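import Mathlib
import Cfsg.Agent.Lib.helper17.OMP.Defs
import Cfsg.Agent.Lib.helper17.OMP.Defs2

/-!
# Project OMP, rows D4 (`ORel.map`, `ORel.of_injective`) and D2 (`relSet_card`, `relSet_iff`), verbatim from `OMP/Skel.lean.txt`
-/

set_option autoImplicit false

namespace Cfsg.Agent.Lib.helper17.OMP

open Matrix Cfsg.Agent.Lib.helper14.CTE Cfsg.Agent.Lib.helper14.CTA Cfsg.Agent.Lib.helper17.SLN Cfsg.Agent.Lib.Helper28.CTD
  Cfsg.Agent.Lib.helper3.STC Cfsg.Agent.Lib.Lead.STD

universe u v w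

section D

theorem ompd4_Y02 {F : Type u} [Field F] {G : Type v} [Group G] {G' : Type w} [Group G'] {ι : Type*} [Fintype ι] [DecidableEq ι]
    (f : G →* G') (p : Pts ι) (Φ : Matrix.SpecialLinearGroup ι F →* G) (y : G) :
    Y02 p (f.comp Φ) (f y) = f (Y02 p Φ y) := by
  simp only [Y02, map_mul, map_inv, MonoidHom.comp_apply]

theorem ompd4_Y12 {F : Type u} [Field F] {G : Type v} [Group G] {G' : Type w} [Group G'] {ι : Type*} [Fintype ι] [DecidableEq ι]
    (f : G →* G') (p : Pts ι) (Φ : Matrix.SpecialLinearGroup ι F →* G) (y : G) :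
    Y12 p (f.comp Φ) (f y) = f (Y12 p Φ y) := by
  simp only [Y12, map_mul, map_inv, MonoidHom.comp_apply]

theorem ompd4_P01 {F : Type u} [Field F] {G : Type v} [Group G] {G' : Type w} [Group G'] {ι : Type*} [Fintype ι] [DecidableEq ι]
    (f : G →* G') (p : Pts ι) (Φ : Matrix.SpecialLinearGroup ι F →* G) (y : G) :
    P01 p (f.comp Φ) (f y) = f (P01 p Φ y) := by
  simp only [P01, ompd4_Y12, map_mul, map_inv, MonoidHom.comp_apply]

theorem ompd4_N01 {F : Type u} [Field F] {G : Type v} [Group G] {G' : Type w} [Group G'] {ι : Type*} [Fintype ι] [DecidableEq ι]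
    (f : G →* G') (p : Pts ι) (Φ : Matrix.SpecialLinearGroup ι F →* G) (y : G) :
    N01 p (f.comp Φ) (f y) = f (N01 p Φ y) := by
  simp only [N01, ompd4_Y12, map_mul, map_inv, MonoidHom.comp_apply]

/-- D4 [S-M] (two statements, one file) -/
theorem ORel.map {F : Type u} [Field F] {G : Type v} [Group G] {G' : Type w} [Group G'] {ι : Type*} [Fintype ι] [DecidableEq ι]
    (f : G →* G') {p : Pts ι} {ζ : F} {c : Matrix.SpecialLinearGroup ι F} {Φ : Matrix.SpecialLinearGroup ι F →* G} {y : G}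
    (R : ORel p ζ c Φ y) : ORel p ζ c (f.comp Φ) (f y) := by
  refine ⟨?_, ?_, ?_, ?_, ?_, ?_, ?_⟩
  · have := congrArg f R.r1
    simpa only [map_mul, map_inv, MonoidHom.comp_apply] using this
  · exact R.ra.map f
  · exact R.rb.map f
  · exact R.r3.map f
  · have := congrArg f R.r5
    rw [ompd4_Y02]
    simpa only [map_mul, map_inv, MonoidHom.comp_apply] using this
  · rw [ompd4_P01]
    exact R.r7.map f
  · intro h4
    rw [ompd4_P01, ompd4_N01]
    exact ⟨(R.r8 h4).1.map f, (R.r8 h4).2.map f⟩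

theorem ompd4_commute_of_map {G : Type v} [Group G] {G' : Type w} [Group G'] (f : G →* G') (hf : Function.Injective f)
    {a b : G} (h : Commute (f a) (f b)) : Commute a b := by
  apply hf
  rw [map_mul, map_mul]
  exact h

theorem ORel.of_injective {F : Type u} [Field F] {G : Type v} [Group G] {G' : Type w} [Group G'] {ι : Type*} [Fintype ι] [DecidableEq ι]
    (f : G →* G') (hf : Function.Injective f) {p : Pts ι} {ζ : F} {c : Matrix.SpecialLinearGroup ι F}
    {Φ : Matrix.SpecialLinearGroup ι F →* G} {y : G} (R : ORel p ζ c (f.comp Φ) (f y)) : ORel p ζ c Φ y := by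
  refine ⟨?_, ?_, ?_, ?_, ?_, ?_, ?_⟩
  · apply hf
    have := R.r1
    simpa only [map_mul, map_inv, MonoidHom.comp_apply] using this
  · exact ompd4_commute_of_map f hf R.ra
  · exact ompd4_commute_of_map f hf R.rb
  · exact ompd4_commute_of_map f hf R.r3
  · apply hf
    have := R.r5
    rw [ompd4_Y02] at this
    simpa only [map_mul, map_inv, MonoidHom.comp_apply] using this
  · have := R.r7
    rw [ompd4_P01] at this
    exact ompd4_commute_of_map f hf this
  · intro h4
    have := R.r8 h4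
    rw [ompd4_P01, ompd4_N01] at this
    exact ⟨ompd4_commute_of_map f hf this.1, ompd4_commute_of_map f hf this.2⟩

/-! ### D2 -/

/-- D2 [M] (two statements, one file) -/
theorem relSet_card {F : Type u} [Field F] (n : ℕ) (hn : 4 ≤ n) (ζ : F) : (relSet n hn ζ).card ≤ (if n = 4 then 7 else 6) := by
  classical
  unfold relSet
  split_ifs with h
  · refine (Finset.card_insert_le _ _).trans ?_
    exact Nat.succ_le_succ Finset.card_le_six
  · exact Finset.card_le_six

theorem ompd2_cmw {G : Type v} [Group G] (a b : G) : cmw a b = 1 ↔ Commute a b := by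
  unfold cmw
  constructor
  · intro h
    have h1 : a * b * a⁻¹ = b := by rw [← mul_inv_eq_one]; exact h
    show a * b = b * a
    calc a * b = a * b * a⁻¹ * a := by group
      _ = b * a := by rw [h1]
  · intro h
    have : a * b = b * a := h
    rw [this]
    group

theorem ompd2_ev_inl {F : Type u} [Field F] (n : ℕ) {G : Type v} [Group G]
    (Φ : Matrix.SpecialLinearGroup (Fin n) F →* G) (y : G) (g : Matrix.SpecialLinearGroup (Fin n) F) :
    Monoid.Coprod.lift Φ (zpowersHom G y) (cI n g) = Φ g := by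
  unfold cI
  rw [Monoid.Coprod.lift_apply_inl]

theorem ompd2_ev_Y {F : Type u} [Field F] (n : ℕ) {G : Type v} [Group G]
    (Φ : Matrix.SpecialLinearGroup (Fin n) F →* G) (y : G) :
    Monoid.Coprod.lift Φ (zpowersHom G y) (cY n : Cop n F) = y := by
  unfold cY
  rw [Monoid.Coprod.lift_apply_inr, zpowersHom_apply, toAdd_ofAdd, zpow_one]

theorem ompd2_ev_comp {F : Type u} [Field F] (n : ℕ) {G : Type v} [Group G]
    (Φ : Matrix.SpecialLinearGroup (Fin n) F →* G) (y : G) :
    (Monoid.Coprod.lift Φ (zpowersHom G y)).comp (cI n) = Φ := by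
  ext g
  rw [MonoidHom.comp_apply, ompd2_ev_inl]

theorem relSet_iff {F : Type u} [Field F] (n : ℕ) (hn : 4 ≤ n) (ζ : F) {G : Type v} [Group G]
    (Φ : Matrix.SpecialLinearGroup (Fin n) F →* G) (y : G) :
    (∀ s ∈ relSet n hn ζ, Monoid.Coprod.lift Φ (zpowersHom G y) s = 1) ↔ ORel (ptsFin n hn) ζ (coxc n) Φ y := by
  classical
  set ev := Monoid.Coprod.lift Φ (zpowersHom G y) with hev
  have eI : ∀ g, ev (cI n g) = Φ g := fun g => ompd2_ev_inl n Φ y g
  have eY : ev (cY n : Cop n F) = y := ompd2_ev_Y n Φ y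
  have eC : ev.comp (cI n) = Φ := ompd2_ev_comp n Φ y
  have eY02 : ev (Y02 (ptsFin n hn) (cI n) (cY n)) = Y02 (ptsFin n hn) Φ y := by
    rw [← ompd4_Y02, eC, eY]
  have eP01 : ev (P01 (ptsFin n hn) (cI n) (cY n)) = P01 (ptsFin n hn) Φ y := by
    rw [← ompd4_P01, eC, eY]
  have eN01 : ev (N01 (ptsFin n hn) (cI n) (cY n)) = N01 (ptsFin n hn) Φ y := by
    rw [← ompd4_N01, eC, eY]
  have ecm : ∀ a b : Cop n F, ev (cmw a b) = cmw (ev a) (ev b) := by
    intro a b
    simp only [cmw, map_mul, map_inv]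
  have h1 : ev (s1 n hn) = 1 ↔
      Φ (nu0 (ptsFin n hn)) * y * (Φ (nu0 (ptsFin n hn)))⁻¹ = y * Φ (hm (ptsFin n hn).o0 (ptsFin n hn).o1) := by
    unfold s1
    rw [map_mul, map_mul, map_mul, map_inv, map_inv, map_mul, eI, eI, eY, mul_inv_eq_one]
  have ha : ev (sa n hn ζ) = 1 ↔
      Commute y (Φ (tv (ptsFin n hn).o0 (ptsFin n hn).o1 1 * hE (ptsFin n hn).o2 (ptsFin n hn).o3 ζ)) := by
    unfold sa
    rw [ecm, eY, eI, ompd2_cmw]
  have hb : ev (sb n hn ζ) = 1 ↔
      Commute y (Φ (tv (ptsFin n hn).o2 (ptsFin n hn).o3 1 * hE (ptsFin n hn).o0 (ptsFin n hn).o1 ζ)) := by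
    unfold sb
    rw [ecm, eY, eI, ompd2_cmw]
  have h3 : ev (s3 n : Cop n F) = 1 ↔ Commute y (Φ (cox n)) := by
    unfold s3
    rw [ecm, eY, eI, ompd2_cmw]
  have h5 : ev (s5 n hn) = 1 ↔
      Y02 (ptsFin n hn) Φ y * Φ (wE (ptsFin n hn).o1 (ptsFin n hn).o2) * (Y02 (ptsFin n hn) Φ y)⁻¹ = y⁻¹ := by
    unfold s5
    rw [map_mul, map_mul, map_mul, map_inv, eI, eY, eY02, mul_eq_one_iff_eq_inv]
  have h7 : ev (s7 n hn) = 1 ↔ Commute (Φ (tv (ptsFin n hn).o0 (ptsFin n hn).o1 1)) (P01 (ptsFin n hn) Φ y) := by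
    unfold s7
    rw [ecm, eI, eP01, ompd2_cmw]
  have h8 : ev (s8 n hn) = 1 ↔ Commute (Φ (tv (ptsFin n hn).o2 (ptsFin n hn).o3 1)) (P01 (ptsFin n hn) Φ y) := by
    unfold s8
    rw [ecm, eI, eP01, ompd2_cmw]
  have h8' : ev (s8' n hn) = 1 ↔ Commute (Φ (tv (ptsFin n hn).o2 (ptsFin n hn).o3 1)) (N01 (ptsFin n hn) Φ y) := by
    unfold s8'
    rw [ecm, eI, eN01, ompd2_cmw]
  have hcard : Fintype.card (Fin n) = n := Fintype.card_fin n
  unfold relSet
  by_cases hn4 : n = 4
  · rw [if_pos hn4]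
    have hc : (coxc n : Matrix.SpecialLinearGroup (Fin n) F) = 1 := by unfold coxc; rw [if_pos hn4]
    constructor
    · intro h
      have g1 := h (s1 n hn) (by simp)
      have ga := h (sa n hn ζ) (by simp)
      have gb := h (sb n hn ζ) (by simp)
      have g5 := h (s5 n hn) (by simp)
      have g7 := h (s7 n hn) (by simp)
      have g8 := h (s8 n hn) (by simp)
      have g8' := h (s8' n hn) (by simp)
      refine ⟨h1.mp g1, ha.mp ga, hb.mp gb, ?_, h5.mp g5, h7.mp g7, fun _ => ⟨h8.mp g8, h8'.mp g8'⟩⟩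
      rw [hc, map_one]
      exact Commute.one_right y
    · intro R s hs
      simp only [Finset.mem_insert, Finset.mem_singleton] at hs
      have hc4 : Fintype.card (Fin n) = 4 := by rw [hcard, hn4]
      rcases hs with rfl | rfl | rfl | rfl | rfl | rfl | rfl
      · exact h1.mpr R.r1
      · exact ha.mpr R.ra
      · exact hb.mpr R.rb
      · exact h5.mpr R.r5
      · exact h7.mpr R.r7
      · exact h8.mpr (R.r8 hc4).1
      · exact h8'.mpr (R.r8 hc4).2
  · rw [if_neg hn4]
    have hc : (coxc n : Matrix.SpecialLinearGroup (Fin n) F) = cox n := by unfold coxc; rw [if_neg hn4]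
    constructor
    · intro h
      have g1 := h (s1 n hn) (by simp)
      have ga := h (sa n hn ζ) (by simp)
      have gb := h (sb n hn ζ) (by simp)
      have g3 := h (s3 n) (by simp)
      have g5 := h (s5 n hn) (by simp)
      have g7 := h (s7 n hn) (by simp)
      refine ⟨h1.mp g1, ha.mp ga, hb.mp gb, ?_, h5.mp g5, h7.mp g7, fun h4 => ?_⟩
      · rw [hc]; exact h3.mp g3
      · exact absurd (hcard ▸ h4) hn4
    · intro R s hs
      simp only [Finset.mem_insert, Finset.mem_singleton] at hs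
      rcases hs with rfl | rfl | rfl | rfl | rfl | rfl
      · exact h1.mpr R.r1
      · exact ha.mpr R.ra
      · exact hb.mpr R.rb
      · exact h3.mpr (hc ▸ R.r3)
      · exact h5.mpr R.r5
      · exact h7.mpr R.r7

end D

end Cfsg.Agent.Lib.helper17.OMP
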