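import Mathlib
import Cfsg.Agent.Lib.helper17.SLP.Defs
import Cfsg.Agent.Lib.helper17.SL3.Defs
import Cfsg.Agent.Lib.helper17.SL3.Defs2

/-!
# Project SL3 (S2287), row C16 (core): `w * x12 t * w⁻¹ = x02 t`, with the statements of the rows T1 (`hyp_basic`),
T5 (`tor_w`), T11 (`c_shift`) as hypotheses (helper17).
-/

set_option autoImplicit false

namespace Cfsg.Agent.Lib.helper17.SL3

open Cfsg.Agent.Lib.helper17.SLP

universe u v

section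

variable {F : Type u} [Field F] {G : Type v} [Group G]

theorem sl3c16_act_mul (ζ : Fˣ) (g g' : G) (X : F → G) (e e' : ℤ) (h : Act ζ g X e) (h' : Act ζ g' X e') :
    Act ζ (g * g') X (e + e') := by
  intro t
  have : g * g' * X t * (g * g')⁻¹ = g * (g' * X t * g'⁻¹) * g⁻¹ := by group
  rw [this, h', h, zpow_add, Units.val_mul, mul_assoc]

theorem sl3c16_act_one (ζ : Fˣ) (X : F → G) : Act ζ (1 : G) X 0 := by
  intro t
  simp

theorem sl3c16_act_inv (ζ : Fˣ) (g : G) (X : F → G) (e : ℤ) (h : Act ζ g X e) : Act ζ g⁻¹ X (-e) := by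
  intro t
  have h1 := h (((ζ ^ (-e) : Fˣ) : F) * t)
  rw [← mul_assoc, ← Units.val_mul, ← zpow_add, add_neg_cancel, zpow_zero, Units.val_one, one_mul] at h1
  rw [← h1]
  group

theorem sl3c16_act_npow (ζ : Fˣ) (g : G) (X : F → G) (e : ℤ) (h : Act ζ g X e) (n : ℕ) :
    Act ζ (g ^ n) X ((n : ℤ) * e) := by
  induction n with
  | zero => simpa using sl3c16_act_one ζ X
  | succ n ih =>
    have := sl3c16_act_mul ζ (g ^ n) g X _ _ ih h
    rw [pow_succ]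
    have e1 : ((n + 1 : ℕ) : ℤ) * e = (n : ℤ) * e + e := by push_cast; ring
    rw [e1]
    exact this

theorem sl3c16_act_zpow (ζ : Fˣ) (g : G) (X : F → G) (e : ℤ) (h : Act ζ g X e) (n : ℤ) :
    Act ζ (g ^ n) X (n * e) := by
  obtain ⟨m, rfl | rfl⟩ := Int.eq_nat_or_neg n
  · rw [zpow_natCast]
    exact sl3c16_act_npow ζ g X e h m
  · rw [zpow_neg, zpow_natCast]
    have := sl3c16_act_inv ζ _ X _ (sl3c16_act_npow ζ g X e h m)
    rw [neg_mul]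
    exact this

/-- pure group theory: the Steinberg computation `w g w⁻¹ = z` for `w = a b a`, `b = b₀⁻¹`. -/
theorem sl3c16_weyl (a b₀ g z w : G) (hw : w = a * b₀⁻¹ * a) (h2 : a * g * a⁻¹ = z * g)
    (h3 : b₀ * z * b₀⁻¹ * z⁻¹ = g) (hgb : Commute g b₀) (hgz : Commute g z) (haz : Commute a z) :
    w * g * w⁻¹ = z := by
  have h5 : z * b₀ = g⁻¹ * b₀ * z := by
    calc z * b₀ = (b₀ * z * b₀⁻¹ * z⁻¹)⁻¹ * b₀ * z := by group
      _ = g⁻¹ * b₀ * z := by rw [h3]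
  have h4 : b₀⁻¹ * z * b₀ = g⁻¹ * z := by
    calc b₀⁻¹ * z * b₀ = b₀⁻¹ * (z * b₀) := by group
      _ = b₀⁻¹ * (g⁻¹ * b₀ * z) := by rw [h5]
      _ = b₀⁻¹ * (b₀ * g⁻¹) * z := by rw [(hgb.inv_left).eq]; group
      _ = g⁻¹ * z := by group
  have h6 : b₀⁻¹ * g * b₀ = g := by
    rw [mul_assoc, hgb.eq, ← mul_assoc, inv_mul_cancel, one_mul]
  calc w * g * w⁻¹ = (a * b₀⁻¹ * a) * g * (a * b₀⁻¹ * a)⁻¹ := by rw [← hw]
    _ = a * (b₀⁻¹ * (a * g * a⁻¹) * b₀) * a⁻¹ := by group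
    _ = a * (b₀⁻¹ * (z * g) * b₀) * a⁻¹ := by rw [h2]
    _ = a * ((b₀⁻¹ * z * b₀) * (b₀⁻¹ * g * b₀)) * a⁻¹ := by group
    _ = a * ((g⁻¹ * z) * g) * a⁻¹ := by rw [h4, h6]
    _ = a * z * a⁻¹ := by
      have : g⁻¹ * z * g = z := by rw [mul_assoc, ← hgz.eq, ← mul_assoc, inv_mul_cancel, one_mul]
      rw [this]
    _ = z := by rw [haz.eq, mul_assoc, mul_inv_cancel, mul_one]

/-- conjugating a commuting pair. -/
theorem sl3c16_conj_commute (c a b : G) (h : Commute a b) : Commute (c * a * c⁻¹) (c * b * c⁻¹) := by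
  unfold Commute SemiconjBy
  have h' : a * b = b * a := h
  calc c * a * c⁻¹ * (c * b * c⁻¹) = c * (a * b) * c⁻¹ := by group
    _ = c * (b * a) * c⁻¹ := by rw [h']
    _ = c * b * c⁻¹ * (c * a * c⁻¹) := by group

/-- C16 core. -/
theorem sl3c16_core (ζ : Fˣ) (hζ : ∀ y : Fˣ, y ∈ Subgroup.zpowers ζ) (x : F → G) (d w c : G)
    (H : Hyp ζ x d w c) (R : Tor ζ x d w c) (K : Comm3 x w c)
    (hT1 : x 0 = 1 ∧ (∀ t, x (-t) = (x t)⁻¹) ∧ (∀ s t, Commute (x s) (x t)) ∧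
      ∀ (i : ℤ) (t : F), d ^ i * x t * d ^ (-i) = x (((ζ ^ i : Fˣ) : F) * t))
    (hT5 : w * d * w⁻¹ = (d3 d c)⁻¹ ∧ w * d2 d c * w⁻¹ = (d2 d c)⁻¹ ∧ w * d3 d c * w⁻¹ = d⁻¹ ∧
      w⁻¹ * d * w = (d3 d c)⁻¹ ∧ w⁻¹ * d2 d c * w = (d2 d c)⁻¹ ∧ w⁻¹ * d3 d c * w = d⁻¹)
    (hT11 : (∀ t, c * x12 x c t * c⁻¹ = x20 x c t) ∧ (∀ t, c * x20 x c t * c⁻¹ = x t) ∧
      (∀ t, c * x21 x w c t * c⁻¹ = x02 x w c t) ∧ (∀ t, c * x02 x w c t * c⁻¹ = x10 x w t)) :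
    ∀ t, w * x12 x c t * w⁻¹ = x02 x w c t := by
  obtain ⟨hx0, hxneg, -, -⟩ := hT1
  obtain ⟨hwd, -, -, -, -, -⟩ := hT5
  obtain ⟨-, -, hc21, hc02⟩ := hT11
  -- `w x 1 w⁻¹ = (x10 1)⁻¹`
  have hb : w * x 1 * w⁻¹ = (x10 x w 1)⁻¹ := by
    rw [x10, hxneg]; group
  -- `w = a * b * a`
  have hw : w = x 1 * (x10 x w 1)⁻¹ * x 1 := by
    have h1 := H.K1
    unfold relK1 at h1
    rw [← hb]
    calc w = (x 1 * w * x 1 * w⁻¹ * x 1 * w⁻¹) * w := by rw [h1, one_mul]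
      _ = x 1 * (w * x 1 * w⁻¹) * x 1 := by group
  -- `a g a⁻¹ = z g`
  have h2 : x 1 * x12 x c 1 * (x 1)⁻¹ = x02 x w c 1 * x12 x c 1 := by
    have := K.cmm 1 1
    rw [one_mul] at this
    unfold cm at this
    calc x 1 * x12 x c 1 * (x 1)⁻¹ = (x 1 * x12 x c 1 * (x 1)⁻¹ * (x12 x c 1)⁻¹) * x12 x c 1 := by group
      _ = x02 x w c 1 * x12 x c 1 := by rw [this]
  -- `r02 = x02 1`, `r21 = x21 1`
  have hr02 : r02 (x 1) w c = x02 x w c 1 := by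
    rw [x02, x10, hxneg]; rfl
  have hr21 : r21 (x 1) w c = x21 x w c 1 := by
    rw [x21, x10, hxneg]; rfl
  have hRu : cm (x02 x w c 1) (x21 x w c 1) = x 1 := by
    have := H.Ru
    unfold relRu at this
    rw [hr02, hr21] at this
    exact mul_inv_eq_one.mp this
  -- conjugate by `c`
  have h3 : x10 x w 1 * x02 x w c 1 * (x10 x w 1)⁻¹ * (x02 x w c 1)⁻¹ = x12 x c 1 := by
    have e3 : x12 x c 1 = c * x 1 * c⁻¹ := rfl
    have gen : ∀ A B : G, c * (A * B * A⁻¹ * B⁻¹) * c⁻¹ =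
        (c * A * c⁻¹) * (c * B * c⁻¹) * (c * A * c⁻¹)⁻¹ * (c * B * c⁻¹)⁻¹ := by
      intro A B; group
    have h := gen (x02 x w c 1) (x21 x w c 1)
    rw [hc02 1, hc21 1] at h
    rw [← h, e3]
    unfold cm at hRu
    rw [hRu]
  have hgb : Commute (x12 x c 1) (x10 x w 1) := by
    have := sl3c16_conj_commute c _ _ (K.row 1 1)
    rw [hc02 1] at this
    exact this
  have hgz : Commute (x12 x c 1) (x02 x w c 1) := by
    have := sl3c16_conj_commute c _ _ (K.col 1 1)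
    rw [hc21 1] at this
    exact this
  have key : w * x12 x c 1 * w⁻¹ = x02 x w c 1 :=
    sl3c16_weyl (x 1) (x10 x w 1) (x12 x c 1) (x02 x w c 1) w hw h2 h3 hgb hgz (K.row 1 1)
  -- general `t`
  intro t
  by_cases ht : t = 0
  · subst ht
    simp [x12, x02, x10, hx0]
  · obtain ⟨i, hi⟩ := Subgroup.mem_zpowers_iff.mp (hζ (Units.mk0 t ht))
    have hti : ((ζ ^ i : Fˣ) : F) = t := by rw [hi]; rfl
    have hA : Act ζ (d ^ i) (x12 x c) (i * 1) := sl3c16_act_zpow ζ d _ 1 R.t12.1 i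
    have hB : Act ζ ((d3 d c)⁻¹ ^ i) (x02 x w c) (i * 1) := by
      have h1 : Act ζ (d3 d c)⁻¹ (x02 x w c) (-(-1)) := sl3c16_act_inv ζ _ _ _ R.t02.2.2
      rw [neg_neg] at h1
      exact sl3c16_act_zpow ζ _ _ 1 h1 i
    have hwdi : w * d ^ i * w⁻¹ = (d3 d c)⁻¹ ^ i := by
      rw [← hwd]
      exact map_zpow (MulAut.conj w) d i
    have e12 : x12 x c t = d ^ i * x12 x c 1 * (d ^ i)⁻¹ := by
      rw [hA 1, mul_one, mul_one, hti]
    have e02 : x02 x w c t = (d3 d c)⁻¹ ^ i * x02 x w c 1 * ((d3 d c)⁻¹ ^ i)⁻¹ := by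
      rw [hB 1, mul_one, mul_one, hti]
    rw [e12, e02, ← hwdi, ← key]
    group

end

end Cfsg.Agent.Lib.helper17.SL3
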