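import Mathlib
import Cfsg.Agent.Lib.helper17.SL3.Defs
import Cfsg.Agent.Lib.helper17.SL3.Defs2
import Cfsg.Agent.Lib.helper17.SL3C16
import Cfsg.Agent.Lib.helper4.SL3T1
import Cfsg.Agent.Lib.helper2.SL3T5
import Cfsg.Agent.Lib.Helper9.SL3T8

/-!
# Project SL3, row C16 (`w_x12`), verbatim wrapper of `sl3c16_core` on the landed rows T1 (`hyp_basic`), T5 (`tor_w`), T11 (`c_shift`).
-/

set_option autoImplicit false

namespace Cfsg.Agent.Lib.helper17.SL3

open Cfsg.Agent.Lib.helper17.SLP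
open Polynomial

universe u v

section C

variable {F : Type u} [Field F] [Fintype F] {G : Type v} [Group G]

theorem w_x12 (ζ : Fˣ) (hζ : ∀ y : Fˣ, y ∈ Subgroup.zpowers ζ) (x : F → G) (d w c : G)
    (H : Hyp ζ x d w c) (R : Tor ζ x d w c) (K : Comm3 x w c) :
    ∀ t, w * x12 x c t * w⁻¹ = x02 x w c t :=
  sl3c16_core ζ hζ x d w c H R K (hyp_basic ζ x d w c H) (tor_w ζ x d w c H) (c_shift ζ x d w c H)

end C

end Cfsg.Agent.Lib.helper17.SL3
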