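import Mathlib
import Cfsg.Agent.Lib.helper17.SLP.Defs
import Cfsg.Agent.Lib.helper17.SL3.Defs
import Cfsg.Agent.Lib.helper17.SL3.Defs2
import Cfsg.Agent.Lib.helper17.SL3C16

/-!
# Project SL3 (S2287), row C17 (core): the action of `w` and `c w c⁻¹` on the six root maps, with the statements of the
rows C16 (`w_x12`), K3 (`wsq_mem`), T10 (`act10`), T11 (`c_shift`) as hypotheses (helper17).
-/

set_option autoImplicit false

namespace Cfsg.Agent.Lib.helper17.SL3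

open Cfsg.Agent.Lib.helper17.SLP

universe u v

section

variable {F : Type u} [Field F] {G : Type v} [Group G]

/-- C17 core. -/
theorem sl3c17_core (ζ : Fˣ) (x : F → G) (d w c : G)
    (H : Hyp ζ x d w c) (R : Tor ζ x d w c)
    (hC16 : ∀ t, w * x12 x c t * w⁻¹ = x02 x w c t)
    (hK3 : ∃ i : ℤ, ((ζ ^ i : Fˣ) : F) = -1 ∧ w ^ 2 = (d ^ i * (d3 d c) ^ i)⁻¹)
    (hT10 : (∀ s t, x10 x w (s + t) = x10 x w s * x10 x w t) ∧ (∀ t, w * x10 x w t * w⁻¹ = x (-t)) ∧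
      Act ζ d (x10 x w) (-1) ∧ Act ζ (d2 d c) (x10 x w) 2 ∧ Act ζ (d3 d c) (x10 x w) (-1))
    (hT11 : (∀ t, c * x12 x c t * c⁻¹ = x20 x c t) ∧ (∀ t, c * x20 x c t * c⁻¹ = x t) ∧
      (∀ t, c * x21 x w c t * c⁻¹ = x02 x w c t) ∧ (∀ t, c * x02 x w c t * c⁻¹ = x10 x w t)) :
    Wact x w c := by
  obtain ⟨i, hi, hw2⟩ := hK3
  obtain ⟨-, hw10, -, -, -⟩ := hT10
  obtain ⟨hc12, hc20, hc21, hc02⟩ := hT11
  have hw01 : ∀ t, w * x t * w⁻¹ = x10 x w (-t) := by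
    intro t; simp [x10]
  -- `ζ^(-i) = -1`
  have hi' : ((ζ ^ (-i) : Fˣ) : F) = -1 := by
    rw [zpow_neg, Units.val_inv_eq_inv_val, hi, inv_neg, inv_one]
  -- the action of `w²`
  have hA12 : Act ζ (w ^ 2) (x12 x c) i := by
    have h1 := sl3c16_act_mul ζ _ _ _ _ _ (sl3c16_act_zpow ζ d _ 1 R.t12.1 i)
      (sl3c16_act_zpow ζ (d3 d c) _ (-2) R.t12.2.2 i)
    have h2 := sl3c16_act_inv ζ _ _ _ h1
    rw [hw2]
    have e : -(i * 1 + i * -2) = i := by ring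
    rw [e] at h2
    exact h2
  have hA21 : Act ζ (w ^ 2) (x21 x w c) (-i) := by
    have h1 := sl3c16_act_mul ζ _ _ _ _ _ (sl3c16_act_zpow ζ d _ (-1) R.t21.1 i)
      (sl3c16_act_zpow ζ (d3 d c) _ 2 R.t21.2.2 i)
    have h2 := sl3c16_act_inv ζ _ _ _ h1
    rw [hw2]
    have e : -(i * -1 + i * 2) = -i := by ring
    rw [e] at h2
    exact h2
  have hw02 : ∀ t, w * x02 x w c t * w⁻¹ = x12 x c (-t) := by
    intro t
    rw [← hC16 t]
    have := hA12 t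
    rw [hi, neg_one_mul] at this
    rw [← this, pow_two]
    group
  -- `w = c w⁻¹ c`
  have hE : w = c * w⁻¹ * c := by
    have h1 := H.E2
    unfold relE2 at h1
    rw [pow_two] at h1
    calc w = (w * c⁻¹ * (w * c⁻¹))⁻¹ * w := by rw [h1, inv_one, one_mul]
      _ = c * w⁻¹ * c := by group
  have hw21 : ∀ t, w * x21 x w c t * w⁻¹ = x20 x c t := by
    intro t
    -- `x02 t = c (w⁻¹ x20 t w) c⁻¹`
    have h1 : x02 x w c t = c * (w⁻¹ * x20 x c t * w) * c⁻¹ := by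
      rw [← hC16 t, ← hc12 t]
      have e12 : x12 x c t = c * x t * c⁻¹ := rfl
      calc w * x12 x c t * w⁻¹ = (c * w⁻¹ * c) * x12 x c t * (c * w⁻¹ * c)⁻¹ := by rw [← hE]
        _ = c * (w⁻¹ * (c * x12 x c t * c⁻¹) * w) * c⁻¹ := by group
    have h2 : w⁻¹ * x20 x c t * w = x21 x w c t := by
      have : w⁻¹ * x20 x c t * w = c⁻¹ * x02 x w c t * c := by rw [h1]; group
      rw [this, ← hc21 t]; group
    rw [← h2]; group
  have hw20 : ∀ t, w * x20 x c t * w⁻¹ = x21 x w c (-t) := by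
    intro t
    rw [← hw21 t]
    have := hA21 t
    rw [hi', neg_one_mul] at this
    rw [← this, pow_two]
    group
  have conj : ∀ g : G, (c * w * c⁻¹) * (c * g * c⁻¹) * (c * w * c⁻¹)⁻¹ = c * (w * g * w⁻¹) * c⁻¹ := by
    intro g; group
  refine ⟨hw01, hw10, hC16, hw02, hw20, hw21, ?_, ?_, ?_, ?_, ?_, ?_⟩
  · intro t
    have e : x12 x c t = c * x t * c⁻¹ := rfl
    rw [e, conj, hw01]; rfl
  · intro t
    have e : x21 x w c t = c * x10 x w t * c⁻¹ := rfl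
    rw [e, conj, hw10]; rfl
  · intro t
    rw [← hc12 t, conj, hC16, hc02]
  · intro t
    rw [← hc02 t, conj, hw02, hc12]
  · intro t
    rw [← hc20 t, conj, hw20, hc21]
  · intro t
    rw [← hc21 t, conj, hw21, hc20]

end

end Cfsg.Agent.Lib.helper17.SL3
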