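import Mathlib
import Cfsg.Agent.Lib.helper17.SL3.Defs
import Cfsg.Agent.Lib.helper17.SL3.Defs2
import Cfsg.Agent.Lib.helper17.SL3C16v
import Cfsg.Agent.Lib.helper17.SL3C17
import Cfsg.Agent.Lib.Helper28.SL3K1
import Cfsg.Agent.Lib.Helper28.SL3T910h28
import Cfsg.Agent.Lib.Helper9.SL3T8

/-!
# Project SL3, row C17 (`wact`), verbatim wrapper of `sl3c17_core` on the landed rows C16 (`w_x12`), K3 (`wsq_mem`, helper28),
T10 (helper28's exact-statement spare `sl3t10_h28_act10`), T11 (`c_shift`, helper9).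
-/

set_option autoImplicit false

namespace Cfsg.Agent.Lib.helper17.SL3

open Cfsg.Agent.Lib.helper17.SLP
open Polynomial

universe u v

section C

variable {F : Type u} [Field F] [Fintype F] {G : Type v} [Group G]

theorem wact (ζ : Fˣ) (hζ : ∀ y : Fˣ, y ∈ Subgroup.zpowers ζ) (x : F → G) (d w c : G)
    (H : Hyp ζ x d w c) (R : Tor ζ x d w c) (K : Comm3 x w c) : Wact x w c :=
  sl3c17_core ζ x d w c H R (w_x12 ζ hζ x d w c H R K) (wsq_mem ζ hζ x d w c H)
    (sl3t10_h28_act10 ζ hζ x d w c H) (c_shift ζ x d w c H)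

end C

end Cfsg.Agent.Lib.helper17.SL3
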