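import Mathlib
import Cfsg.Agent.Lib.helper17.SLP.Defs
import Cfsg.Agent.Lib.helper17.SL3.Defs
import Cfsg.Agent.Lib.helper17.SL3.Defs2
import Cfsg.Agent.Lib.helper17.SL3C16

/-!
# Project SL3 (S2287), row K4 (core): `d ^ (q - 1) = 1`, with the statements of the rows T4 (`tor_rel`), T5 (`tor_w`),
T9 (`act01`), T10 (`act10`) as hypotheses (helper17).
-/

set_option autoImplicit false

namespace Cfsg.Agent.Lib.helper17.SL3

open Cfsg.Agent.Lib.helper17.SLP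

universe u v

section

variable {F : Type u} [Field F] {G : Type v} [Group G]

/-- K4 core. -/
theorem sl3k4_core [Fintype F] (ζ : Fˣ) (x : F → G) (d w c : G) (H : Hyp ζ x d w c)
    (hT4 : c * d2 d c * c⁻¹ = d3 d c ∧ c * d3 d c * c⁻¹ = d ∧ Commute d (d2 d c) ∧ Commute d (d3 d c) ∧
      Commute (d2 d c) (d3 d c) ∧ d * d2 d c * d3 d c = 1)
    (hT5 : w * d * w⁻¹ = (d3 d c)⁻¹ ∧ w * d2 d c * w⁻¹ = (d2 d c)⁻¹ ∧ w * d3 d c * w⁻¹ = d⁻¹ ∧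
      w⁻¹ * d * w = (d3 d c)⁻¹ ∧ w⁻¹ * d2 d c * w = (d2 d c)⁻¹ ∧ w⁻¹ * d3 d c * w = d⁻¹)
    (hT9 : Act ζ d x 1 ∧ Act ζ (d2 d c) x (-2) ∧ Act ζ (d3 d c) x 1)
    (hT10 : (∀ s t, x10 x w (s + t) = x10 x w s * x10 x w t) ∧ (∀ t, w * x10 x w t * w⁻¹ = x (-t)) ∧
      Act ζ d (x10 x w) (-1) ∧ Act ζ (d2 d c) (x10 x w) 2 ∧ Act ζ (d3 d c) (x10 x w) (-1)) :
    d ^ (Fintype.card F - 1) = 1 := by
  obtain ⟨hc2, hc3, h12, h13, h23, hprod⟩ := hT4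
  obtain ⟨hwd, -, -, -, -, -⟩ := hT5
  obtain ⟨hd01, -, -⟩ := hT9
  obtain ⟨-, -, hd10, -, -⟩ := hT10
  set n := Fintype.card F - 1 with hn
  have hζn : ζ ^ n = 1 := by
    apply Units.ext
    rw [Units.val_pow_eq_pow_val, Units.val_one]
    exact FiniteField.pow_card_sub_one_eq_one _ ζ.ne_zero
  have hζz : ∀ k : ℤ, (ζ ^ ((n : ℤ) * k) : Fˣ) = 1 := by
    intro k
    rw [zpow_mul, zpow_natCast, hζn, one_zpow]
  -- `e = d^n` commutes with `x t` and `x10 t`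
  have he01 : ∀ t, d ^ n * x t * (d ^ n)⁻¹ = x t := by
    intro t
    have := sl3c16_act_zpow ζ d x 1 hd01 (n : ℤ) t
    rw [hζz, Units.val_one, one_mul, zpow_natCast] at this
    exact this
  have he10 : ∀ t, d ^ n * x10 x w t * (d ^ n)⁻¹ = x10 x w t := by
    intro t
    have := sl3c16_act_zpow ζ d (x10 x w) (-1) hd10 (n : ℤ) t
    rw [hζz, Units.val_one, one_mul, zpow_natCast] at this
    exact this
  -- `w = x 1 * x10 (-1) * x 1`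
  have hw : w = x 1 * x10 x w (-1) * x 1 := by
    have h1 := H.K1
    unfold relK1 at h1
    have e : x10 x w (-1) = w * x 1 * w⁻¹ := by simp [x10]
    rw [e]
    calc w = (x 1 * w * x 1 * w⁻¹ * x 1 * w⁻¹) * w := by rw [h1, one_mul]
      _ = x 1 * (w * x 1 * w⁻¹) * x 1 := by group
  have hew : d ^ n * w * (d ^ n)⁻¹ = w := by
    have : d ^ n * w * (d ^ n)⁻¹ =
        (d ^ n * x 1 * (d ^ n)⁻¹) * (d ^ n * x10 x w (-1) * (d ^ n)⁻¹) * (d ^ n * x 1 * (d ^ n)⁻¹) := by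
      conv_lhs => rw [hw]
      group
    rw [this, he01, he10, ← hw]
  -- `e = (d₃^n)⁻¹`
  have hcomm : w * d ^ n = d ^ n * w := by
    calc w * d ^ n = (d ^ n * w * (d ^ n)⁻¹)⁻¹⁻¹ * d ^ n := by rw [hew, inv_inv]
      _ = d ^ n * w := by group
  have h1 : d ^ n = ((d3 d c) ^ n)⁻¹ := by
    have h0 : w * d ^ n * w⁻¹ = ((d3 d c)⁻¹) ^ n := by
      rw [← hwd, conj_pow]
    rw [inv_pow] at h0
    rw [← h0, hcomm]; group
  -- conjugate by `c`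
  have hcd : c * d ^ n * c⁻¹ = (d2 d c) ^ n := by
    have : d2 d c = c * d * c⁻¹ := rfl
    rw [this, conj_pow]
  have hcd2 : c * (d2 d c) ^ n * c⁻¹ = (d3 d c) ^ n := by
    rw [← conj_pow, hc2]
  have hcd3 : c * (d3 d c) ^ n * c⁻¹ = d ^ n := by
    rw [← conj_pow, hc3]
  have h2 : (d2 d c) ^ n = (d ^ n)⁻¹ := by
    calc (d2 d c) ^ n = c * d ^ n * c⁻¹ := hcd.symm
      _ = c * ((d3 d c) ^ n)⁻¹ * c⁻¹ := by rw [← h1]
      _ = (c * (d3 d c) ^ n * c⁻¹)⁻¹ := by group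
      _ = (d ^ n)⁻¹ := by rw [hcd3]
  have h3 : (d3 d c) ^ n = d ^ n := by
    calc (d3 d c) ^ n = c * (d2 d c) ^ n * c⁻¹ := hcd2.symm
      _ = c * (d ^ n)⁻¹ * c⁻¹ := by rw [h2]
      _ = (c * d ^ n * c⁻¹)⁻¹ := by group
      _ = ((d2 d c) ^ n)⁻¹ := by rw [hcd]
      _ = d ^ n := by rw [h2, inv_inv]
  -- the product
  have hp : (d * d2 d c * d3 d c) ^ n = d ^ n * (d2 d c) ^ n * (d3 d c) ^ n := by
    rw [(Commute.mul_left h13 h23).mul_pow, h12.mul_pow]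
  rw [hprod, one_pow, h2, h3, mul_inv_cancel, one_mul] at hp
  exact hp.symm

end

end Cfsg.Agent.Lib.helper17.SL3
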