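import Mathlib
import Cfsg.Agent.Lib.helper17.SL3.Defs
import Cfsg.Agent.Lib.helper17.SL3.Defs2
import Cfsg.Agent.Lib.helper17.SL3K4
import Cfsg.Agent.Lib.helper2.SL3T4
import Cfsg.Agent.Lib.helper2.SL3T5
import Cfsg.Agent.Lib.Helper27.SL3T9
import Cfsg.Agent.Lib.Helper28.SL3T910h28

/-!
# Project SL3, row K4 (`d_order`), verbatim wrapper of `sl3k4_core` on the landed rows T4 (`tor_rel`), T5 (`tor_w`) (helper2),
T9 (`act01`, helper27), T10 (helper28's exact-statement spare `sl3t10_h28_act10`).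
-/

set_option autoImplicit false

namespace Cfsg.Agent.Lib.helper17.SL3

open Cfsg.Agent.Lib.helper17.SLP
open Polynomial

universe u v

section K

variable {F : Type u} [Field F] {G : Type v} [Group G]

theorem d_order [Fintype F] (ζ : Fˣ) (hζ : ∀ y : Fˣ, y ∈ Subgroup.zpowers ζ) (x : F → G) (d w c : G)
    (H : Hyp ζ x d w c) : d ^ (Fintype.card F - 1) = 1 :=
  sl3k4_core ζ x d w c H (tor_rel ζ x d w c H) (tor_w ζ x d w c H) (act01 ζ hζ x d w c H)
    (sl3t10_h28_act10 ζ hζ x d w c H)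

end K

end Cfsg.Agent.Lib.helper17.SL3
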