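import Mathlib
import Cfsg.Agent.Lib.helper17.SLP.Defs
import Cfsg.Agent.Lib.helper17.SL3.Defs
import Cfsg.Agent.Lib.helper17.SL3.Defs2
import Cfsg.Agent.Lib.helper17.SL3C17v
import Cfsg.Agent.Lib.helper17.SL3K4v
import Cfsg.Agent.Lib.Helper24.SL3C15
import Cfsg.Agent.Lib.Helper9.SL3C18
import Cfsg.Agent.Lib.Helper18.SL3K5
import Cfsg.Agent.Lib.Helper20.SL3D1
import Cfsg.Agent.Lib.Helper11.SL3D2
import Cfsg.Agent.Lib.Helper11.SL3D3
import Cfsg.Agent.Lib.helper2.SL3D4core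
import Cfsg.Agent.Lib.Helper26.SL3D5
import Cfsg.Agent.Lib.Helper28.SL3D6
import Cfsg.Agent.Lib.Helper27.SL3D8core
import Cfsg.Agent.Lib.Helper20.SL3E10
import Cfsg.Agent.Lib.Helper27.SL3FIN1core
import Cfsg.Agent.Lib.Helper21.SL3FIN2core
import Cfsg.Agent.Lib.Helper12.SL3A6core
import Cfsg.Agent.Lib.Helper29.SL3A3
import Cfsg.Agent.Lib.helper15.SL3A5
import Cfsg.Agent.Lib.Helper9.SL3M1
import Cfsg.Agent.Lib.Helper25.SL3M2

/-!
# Project SL3 (S2287): express assembly (helper17).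

Own-name versions of the rows K6 (`T_card`), D8 (`rd_of_hyp`), FIN1 (`card_le_sl3`), A6 (`ascheme3`), FIN2 (`sl3_main`), built directly on
the landed cores and verbatim rows, so that the final statement does not wait for the remaining verbatim wrappers.
-/

set_option autoImplicit false

namespace Cfsg.Agent.Lib.helper17.SL3

open Cfsg.Agent.Lib.helper17.SLP
open Polynomial

universe u v

section XK

variable {F : Type u} [Field F] {G : Type v} [Group G]

/-- spare for K6 (`T_card`), exact Skel statement. -/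
theorem sl3x_T_card [Fintype F] (ζ : Fˣ) (hζ : ∀ y : Fˣ, y ∈ Subgroup.zpowers ζ) (x : F → G) (d w c : G)
    (H : Hyp ζ x d w c) :
    Finite (TT d c) ∧ Nat.card (TT d c) ≤ (Fintype.card F - 1) ^ 2 ∧ d3 d c ∈ TT d c := by
  obtain ⟨-, -, hc12, -, -, hprod⟩ := tor_rel ζ x d w c H
  have hd : d ^ (Fintype.card F - 1) = 1 := d_order ζ hζ x d w c H
  have hd2 : (d2 d c) ^ (Fintype.card F - 1) = 1 := by
    unfold d2
    rw [conj_pow, hd, mul_one, mul_inv_cancel]
  have hm : 0 < Fintype.card F - 1 := by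
    have := Fintype.one_lt_card (α := F)
    omega
  have hcp := card_pair d (d2 d c) (Fintype.card F - 1) hm hc12 hd hd2
  refine ⟨hcp.1, hcp.2, ?_⟩
  have h3 : d3 d c = (d * d2 d c)⁻¹ := by
    rw [eq_inv_iff_mul_eq_one, ← hprod]
    have e1 : Commute (d3 d c) (d * d2 d c) := by
      obtain ⟨-, -, -, h13, h23, -⟩ := tor_rel ζ x d w c H
      exact (h13.symm.mul_right h23.symm)
    rw [e1.eq]
  rw [h3]
  unfold TT
  exact Subgroup.inv_mem _ (Subgroup.mul_mem _ (Subgroup.subset_closure (by simp))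
    (Subgroup.subset_closure (by simp)))

end XK

section X

variable {F : Type u} [Field F] [Fintype F] {G : Type v} [Group G]

/-- spare for D8 (`rd_of_hyp`), exact Skel statement. -/
theorem sl3x_rd_of_hyp (ζ : Fˣ) (hζ : ∀ y : Fˣ, y ∈ Subgroup.zpowers ζ) (x : F → G) (d w c : G)
    (H : Hyp ζ x d w c) (hRx : Fintype.card F = 4 → relRx (x 1) d w c = 1)
    (hgen : Subgroup.closure {x 1, d, w, c} = ⊤) :
    RD (Fintype.card F) (TT d c) (RG x) (RG (x02 x w c)) (RG (x12 x c)) (RG (x10 x w)) (RG (x21 x w c))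
      w (c * w * c⁻¹) := by
  have R : Tor ζ x d w c := sl3c15_tor_table ζ hζ x d w c H
  have K : Comm3 x w c := comm3_all ζ hζ x d w c H hRx
  have W : Wact x w c := wact ζ hζ x d w c H R K
  have S : Stein x w c := stein ζ x d w c H K W
  exact sl3d8_core x d w c (sl3x_T_card ζ hζ x d w c H).1 (rg_mem x H.add).2
    (rg_mem (x02 x w c) R.add02).2 (rg_mem (x12 x c) R.add12).2
    (rd_comm x w c H.add ζ d R S) (rd_tor ζ x d w c H.add R)
    (sl3d4_core ζ x d w c H (wsq_mem ζ hζ x d w c H)) (rd_weylX x w c H.add ζ d R W)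
    (rd_rank1 ζ hζ x d w c H) (rd_braid_gen ζ hζ x d w c H hgen)

end X

/-- spare for FIN1 (`card_le_sl3`), exact Skel statement. -/
theorem sl3x_card_le_sl3 {F : Type u} [Field F] [Fintype F] (ζ : Fˣ) (hζ : ∀ y : Fˣ, y ∈ Subgroup.zpowers ζ)
    (G : Type) [Group G] (x : F → G) (d w c : G) (H : Hyp ζ x d w c)
    (hRx : Fintype.card F = 4 → relRx (x 1) d w c = 1)
    (hgen : Subgroup.closure {x 1, d, w, c} = ⊤) :
    Finite G ∧ Nat.card G ≤ (Fintype.card F - 1) ^ 2 * Fintype.card F ^ 3 *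
      (1 + 2 * Fintype.card F + 2 * Fintype.card F ^ 2 + Fintype.card F ^ 3) :=
  sl3fin1_core (TT d c) (Fintype.card F)
    (rd_card (Fintype.card F) (TT d c) (RG x) (RG (x02 x w c)) (RG (x12 x c)) (RG (x10 x w))
      (RG (x21 x w c)) w (c * w * c⁻¹) (sl3x_rd_of_hyp ζ hζ x d w c H hRx hgen))
    (sl3x_T_card ζ hζ x d w c H).2.1

/-- spare for A6 (`ascheme3`), exact Skel statement. -/
theorem sl3x_ascheme3 {F : Type u} [Field F] [Fintype F] (p : ℕ) [Fact p.Prime] [CharP F p] (ζ : Fˣ)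
    (hζ : ∀ y : Fˣ, y ∈ Subgroup.zpowers ζ) :
    ∃ A : List (FreeGroup (Fin 4)), A.length ≤ 3 ∧ (Fintype.card F < p ^ 3 → A.length ≤ 2) ∧
      (∀ r ∈ A, ev4 (xM3 (1 : F)) (dM3 ζ) wM3 cM3 r = 1) ∧
      ∀ (G : Type) [Group G] (u d w c : G), (∀ r ∈ A, ev4 u d w c r = 1) → Commute u (cj d u 1) →
        ∃ x : F → G, (∀ s t, x (s + t) = x s * x t) ∧ (∀ t, d * x t * d⁻¹ = x ((ζ : F) * t)) ∧ x 1 = u :=
  sl3a6_core p ζ (fun hq => exists_k_gen hq ζ hζ)
    (fun G _ u d a1 a2 a4 a3 => exists_x3 p ζ hζ u d a1 a2 a4 a3)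
    xM3_mul xM3_zero xM3_pow cj_M3 (fun s f => pw_M3 p s f)

/-- spare for FIN2 (`sl3_main`), exact Skel statement. -/
theorem sl3x_main {F : Type u} [Field F] [Fintype F] :
    ∃ rels : Finset (FreeGroup (Fin 4)), rels.card ≤ 14 ∧
      Nonempty (PresentedGroup (↑rels : Set (FreeGroup (Fin 4))) ≃* Matrix.SpecialLinearGroup (Fin 3) F) :=
  sl3fin2_core (fun p _ _ ζ hζ => sl3x_ascheme3 p ζ hζ)
    (fun ζ hζ G _ x d w c H hRx hgen => sl3x_card_le_sl3 ζ hζ G x d w c H hRx hgen)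

end Cfsg.Agent.Lib.helper17.SL3
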