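import Mathlib
import Cfsg.Agent.Lib.helper7.REE.Defs

/-!
# Project REE (designer helper7), rows G2A (`B_coset_h`) and G2C (`B_elements`): cores (helper17).
`reeg2a_core` = G2A with the conclusion of G1C (`cent_U_H`) for this `h` as a hypothesis;
`reeg2c_core` = G2C with the statements of G2A and G2B as hypotheses.
-/

set_option autoImplicit false

namespace Cfsg.Agent.Lib.helper7.REE

open Matrix Cfsg.Agent.Lib.helper8

universe u v

namespace ReeAx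

variable {G : Type u} [Group G] [Finite G] {K : Type v} [Field K] [Fintype K] {m : ℕ}

/-- G2A on the conclusion of G1C: if `C_U(h) = 1` then every element of `U h` is `U`-conjugate to `h`. -/
theorem reeg2a_core (R : ReeAx G K m) (h : G) (hh : h ∈ R.H)
    (hC : ∀ u ∈ R.U, h * u = u * h → u = 1)
    (u : G) (hu : u ∈ R.U) : ∃ v ∈ R.U, u * h = v * h * v⁻¹ := by
  have hmem : ∀ v ∈ R.U, v * (h * v⁻¹ * h⁻¹) ∈ R.U := fun v hv =>
    R.U.mul_mem hv (R.H_norm h hh v⁻¹ (R.U.inv_mem hv))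
  let f : ↥R.U → ↥R.U := fun v => ⟨v.1 * (h * v.1⁻¹ * h⁻¹), hmem v.1 v.2⟩
  have hinj : Function.Injective f := by
    intro v w hvw
    have h1 : v.1 * (h * v.1⁻¹ * h⁻¹) = w.1 * (h * w.1⁻¹ * h⁻¹) := congrArg Subtype.val hvw
    have h2 : h * (w.1⁻¹ * v.1) = (w.1⁻¹ * v.1) * h := by
      calc h * (w.1⁻¹ * v.1) = w.1⁻¹ * (w.1 * (h * w.1⁻¹ * h⁻¹)) * h * v.1 := by group
        _ = w.1⁻¹ * (v.1 * (h * v.1⁻¹ * h⁻¹)) * h * v.1 := by rw [h1]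
        _ = (w.1⁻¹ * v.1) * h := by group
    have h3 := hC (w.1⁻¹ * v.1) (R.U.mul_mem (R.U.inv_mem w.2) v.2) h2
    apply Subtype.ext
    exact (inv_mul_eq_one.mp h3).symm
  have hsurj : Function.Surjective f := Finite.injective_iff_surjective.mp hinj
  obtain ⟨v, hv⟩ := hsurj ⟨u, hu⟩
  refine ⟨v.1, v.2, ?_⟩
  have h4 : v.1 * (h * v.1⁻¹ * h⁻¹) = u := congrArg Subtype.val hv
  rw [← h4]
  group

/-- G2C on the statements of G2A and G2B. -/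
theorem reeg2c_core (R : ReeAx G K m)
    (hA : ∀ h ∈ R.H, h ≠ 1 → h ≠ R.t → ∀ u ∈ R.U, ∃ v ∈ R.U, u * h = v * h * v⁻¹)
    (hB : ∀ u ∈ R.U, ∃ v ∈ R.U, ∃ c ∈ R.U, R.t * c = c * R.t ∧ u * R.t = v * (R.t * c) * v⁻¹)
    (b : G) (hb : b ∈ R.B) :
    b ∈ R.U ∨ (∃ v ∈ R.U, ∃ h ∈ R.H, h ≠ 1 ∧ h ≠ R.t ∧ b = v * h * v⁻¹) ∨
    (∃ v ∈ R.U, ∃ c ∈ R.U, R.t * c = c * R.t ∧ b = v * (R.t * c) * v⁻¹) := by
  obtain ⟨u, hu, h, hh, rfl⟩ := (R.B_iff b).mp hb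
  by_cases h1 : h = 1
  · left
    rw [h1, mul_one]
    exact hu
  by_cases ht : h = R.t
  · right; right
    rw [ht]
    exact hB u hu
  · right; left
    obtain ⟨v, hv, e⟩ := hA h hh h1 ht u hu
    exact ⟨v, hv, h, hh, h1, ht, e⟩

end ReeAx

end Cfsg.Agent.Lib.helper7.REE
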