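import Mathlib
import Cfsg.Agent.Lib.helper7.REE.Defs
import Cfsg.Agent.Lib.helper17.REEG2Acore
import Cfsg.Agent.Lib.Helper16.REEG1C
import Cfsg.Agent.Lib.Helper10.REEG2B

/-!
# Project REE (designer helper7), rows G2A (`B_coset_h`) and G2C (`B_elements`), verbatim from
`helper7/REE/Skel2.lean.txt` (helper17): wrappers of `reeg2a_core` / `reeg2c_core` on G1C (helper16) and G2B (helper10).
-/

set_option autoImplicit false

namespace Cfsg.Agent.Lib.helper7.REE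

open Matrix Cfsg.Agent.Lib.helper8

universe u v

namespace ReeAx

variable {G : Type u} [Group G] [Finite G] {K : Type v} [Field K] [Fintype K] {m : ℕ}

/-- G2A. For `h ∈ H ∖ {1, t}` every element of the coset `U h` is `U`-conjugate to `h`
(`v ↦ v (h v h⁻¹)⁻¹` is injective on the finite set `U` since `C_U(h) = 1`). -/
theorem B_coset_h (R : ReeAx G K m) (h : G) (hh : h ∈ R.H) (h1 : h ≠ 1) (ht : h ≠ R.t)
    (u : G) (hu : u ∈ R.U) : ∃ v ∈ R.U, u * h = v * h * v⁻¹ :=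
  R.reeg2a_core h hh (fun u' hu' hc => R.cent_U_H h hh h1 ht u' hu' hc) u hu

/-- G2C. The three kinds of elements of `B`. -/
theorem B_elements (R : ReeAx G K m) (b : G) (hb : b ∈ R.B) :
    b ∈ R.U ∨ (∃ v ∈ R.U, ∃ h ∈ R.H, h ≠ 1 ∧ h ≠ R.t ∧ b = v * h * v⁻¹) ∨
    (∃ v ∈ R.U, ∃ c ∈ R.U, R.t * c = c * R.t ∧ b = v * (R.t * c) * v⁻¹) :=
  R.reeg2c_core (fun h hh h1 ht u hu => R.B_coset_h h hh h1 ht u hu) (fun u hu => R.B_coset_t u hu) b hb

end ReeAx

end Cfsg.Agent.Lib.helper7.REE
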