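import Mathlib
import Cfsg.Agent.Lib.helper7.REE.Defs

/-!
# Project REE (designer helper7), row G2E: `B_count_39` (helper17), verbatim from `helper7/REE/Skel2.lean.txt`.
Self-contained from the axioms `B_iff H_norm U_card H_card U_exp U_ord3` (no other row needed).
Extras: `reeg2e_pow` (powers in `B = U H`), `reeg2e_inf` (`U ⊓ H = ⊥`), `reeg2e_three` (`b ∈ B`, `b ^ 9 = 1 → b ∈ U`).
-/

set_option autoImplicit false

namespace Cfsg.Agent.Lib.helper7.REE

open Matrix Cfsg.Agent.Lib.helper8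

universe u v

theorem reeg2e_qq_pos (m : ℕ) : 3 ≤ qq m := by
  unfold qq
  calc 3 = 3 ^ 1 := (pow_one 3).symm
    _ ≤ 3 ^ (2 * m + 1) := Nat.pow_le_pow_right (by norm_num) (by omega)

theorem reeg2e_three_dvd (m : ℕ) : 3 ∣ qq m := by
  unfold qq
  exact dvd_pow_self 3 (by omega)

theorem reeg2e_coprime_three (m : ℕ) : Nat.Coprime 9 (qq m - 1) := by
  have h3 : Nat.Coprime 3 (qq m - 1) := by
    rw [Nat.Prime.coprime_iff_not_dvd Nat.prime_three]
    intro h
    have h1 := reeg2e_three_dvd m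
    have h2 := reeg2e_qq_pos m
    omega
  have : (9 : ℕ) = 3 ^ 2 := by norm_num
  rw [this]
  exact Nat.Coprime.pow_left 2 h3

theorem reeg2e_coprime_q (m : ℕ) : Nat.Coprime (qq m ^ 3) (qq m - 1) := by
  apply Nat.Coprime.pow_left
  have h2 := reeg2e_qq_pos m
  obtain ⟨k, hk⟩ : ∃ k, qq m = k + 1 := ⟨qq m - 1, by omega⟩
  rw [hk, Nat.add_sub_cancel]
  exact (Nat.coprime_self_add_left.mpr (Nat.coprime_one_left k))

namespace ReeAx

variable {G : Type u} [Group G] [Finite G] {K : Type v} [Field K] [Fintype K] {m : ℕ}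

/-- powers in `B = U H` -/
theorem reeg2e_pow (R : ReeAx G K m) (u : G) (hu : u ∈ R.U) (h : G) (hh : h ∈ R.H) (k : ℕ) :
    ∃ u' ∈ R.U, (u * h) ^ k = u' * h ^ k := by
  induction k with
  | zero => exact ⟨1, R.U.one_mem, by simp⟩
  | succ k ih =>
    obtain ⟨u', hu', e⟩ := ih
    refine ⟨u' * (h ^ k * u * (h ^ k)⁻¹), R.U.mul_mem hu' (R.H_norm _ (R.H.pow_mem hh k) u hu), ?_⟩
    rw [pow_succ, e, pow_succ]
    group

/-- `U ⊓ H = ⊥` (coprime orders) -/
theorem reeg2e_inf (R : ReeAx G K m) : R.U ⊓ R.H = ⊥ := by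
  apply Subgroup.inf_eq_bot_of_coprime
  rw [R.U_card, R.H_card]
  exact reeg2e_coprime_q m

/-- `U ≤ B` -/
theorem reeg2e_U_le (R : ReeAx G K m) : R.U ≤ R.B := by
  intro u hu
  exact (R.B_iff u).mpr ⟨u, hu, 1, R.H.one_mem, (mul_one u).symm⟩

/-- the 3-elements of `B` lie in `U` -/
theorem reeg2e_three (R : ReeAx G K m) (b : G) (hb : b ∈ R.B) (h9 : b ^ 9 = 1) : b ∈ R.U := by
  obtain ⟨u, hu, h, hh, rfl⟩ := (R.B_iff b).mp hb
  obtain ⟨u', hu', e⟩ := R.reeg2e_pow u hu h hh 9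
  rw [h9] at e
  have h1 : h ^ 9 = u'⁻¹ := by
    have : u'⁻¹ * 1 = u'⁻¹ * (u' * h ^ 9) := by rw [e]
    rw [mul_one, inv_mul_cancel_left] at this
    exact this.symm
  have h2 : h ^ 9 ∈ R.U ⊓ R.H := ⟨by rw [h1]; exact R.U.inv_mem hu', R.H.pow_mem hh 9⟩
  rw [R.reeg2e_inf, Subgroup.mem_bot] at h2
  have h3 : h ^ (qq m - 1) = 1 := by
    have h4 : (⟨h, hh⟩ : ↥R.H) ^ Nat.card ↥R.H = 1 := pow_card_eq_one'
    rw [R.H_card] at h4
    exact congrArg Subtype.val h4
  have h5 : orderOf h ∣ Nat.gcd 9 (qq m - 1) :=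
    Nat.dvd_gcd (orderOf_dvd_of_pow_eq_one h2) (orderOf_dvd_of_pow_eq_one h3)
  rw [(reeg2e_coprime_three m)] at h5
  have h6 : h = 1 := orderOf_eq_one_iff.mp (Nat.dvd_one.mp h5)
  rw [h6, mul_one]
  exact hu

/-- the elements of order `d` of `B`, for `d ∣ 9`, are those of `U` -/
theorem reeg2e_equiv (R : ReeAx G K m) (d : ℕ) (hd : d ∣ 9) :
    Nat.card ({b : G | b ∈ R.B ∧ orderOf b = d} : Set G) = Nat.card {u : ↥R.U // orderOf u = d} := by
  apply Nat.card_congr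
  refine ⟨fun b => ⟨⟨b.1, ?_⟩, ?_⟩, fun u => ⟨u.1.1, ?_, ?_⟩, ?_, ?_⟩
  · obtain ⟨b, hb, hbo⟩ := b
    apply R.reeg2e_three b hb
    obtain ⟨c, hc⟩ := hd
    rw [hc, ← hbo, pow_mul, pow_orderOf_eq_one, one_pow]
  · exact (Subgroup.orderOf_mk _ _).trans b.2.2
  · exact R.reeg2e_U_le u.1.2
  · exact (Subgroup.orderOf_coe u.1).trans u.2
  · intro b; rfl
  · intro u; rfl

/-- G2E. Counting in `B`: elements of order 3, 9 (all in `U`). -/
theorem B_count_39 (R : ReeAx G K m) :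
    Nat.card ({b : G | b ∈ R.B ∧ orderOf b = 3} : Set G) = qq m ^ 2 - 1 ∧
    Nat.card ({b : G | b ∈ R.B ∧ orderOf b = 9} : Set G) = qq m ^ 3 - qq m ^ 2 := by
  classical
  refine ⟨?_, ?_⟩
  · rw [R.reeg2e_equiv 3 (by norm_num)]
    exact R.U_ord3
  · rw [R.reeg2e_equiv 9 (dvd_refl 9)]
    letI : Fintype ↥R.U := Fintype.ofFinite _
    have hsum : (Finset.univ : Finset ↥R.U).card =
        ∑ d ∈ Nat.divisors 9, (Finset.univ.filter (fun u : ↥R.U => orderOf u = d)).card := by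
      apply Finset.card_eq_sum_card_fiberwise
      intro u _
      have h9 : u ^ 9 = 1 := Subtype.ext (R.U_exp u.1 u.2)
      exact Nat.mem_divisors.mpr ⟨orderOf_dvd_of_pow_eq_one h9, by norm_num⟩
    have hdiv : Nat.divisors 9 = {1, 3, 9} := by decide
    rw [hdiv, Finset.sum_insert (by decide), Finset.sum_insert (by decide), Finset.sum_singleton] at hsum
    have hc : (Finset.univ : Finset ↥R.U).card = qq m ^ 3 := by
      rw [Finset.card_univ, ← Nat.card_eq_fintype_card, R.U_card]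
    have h1 : (Finset.univ.filter (fun u : ↥R.U => orderOf u = 1)).card = 1 := by
      rw [Finset.card_eq_one]
      refine ⟨1, ?_⟩
      ext u
      simp [orderOf_eq_one_iff]
    have h3 : (Finset.univ.filter (fun u : ↥R.U => orderOf u = 3)).card = qq m ^ 2 - 1 := by
      rw [← R.U_ord3, Nat.card_eq_fintype_card, Fintype.card_subtype]
    have h9 : Nat.card {u : ↥R.U // orderOf u = 9} =
        (Finset.univ.filter (fun u : ↥R.U => orderOf u = 9)).card := by
      rw [Nat.card_eq_fintype_card, Fintype.card_subtype]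
    rw [h9]
    rw [hc, h1, h3] at hsum
    have hq := reeg2e_qq_pos m
    have hq2 : 1 ≤ qq m ^ 2 := Nat.one_le_pow _ _ (by omega)
    omega

end ReeAx

end Cfsg.Agent.Lib.helper7.REE
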