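import Mathlib
import Cfsg.Agent.Lib.helper7.REE.Defs

/-!
# Project REE (designer helper7), row G8D (`count_H`): core (helper17).
`reeg8d_core` = G8D with the statements of GENA (`ti_count`), GENG (`cyclic_count` for `H`), G1F (`NH_basic`, two clauses),
G1H (`H_TI`), G6D (`conj_H_E`, first clause) as hypotheses.
Shared extras: `reecnt_orderOf_conj`, `reecnt_odd_qq`, `reecnt_card_of_iff`.
-/

set_option autoImplicit false

namespace Cfsg.Agent.Lib.helper7.REE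

open Matrix Cfsg.Agent.Lib.helper8

universe u v

theorem reecnt_orderOf_conj {G : Type u} [Group G] (g x : G) : orderOf (g * x * g⁻¹) = orderOf x := by
  have h := orderOf_injective (MulAut.conj g).toMonoidHom (MulAut.conj g).injective x
  simpa [MulAut.conj_apply] using h

theorem reecnt_odd_qq (m : ℕ) : Odd (qq m) := by
  unfold qq
  exact Odd.pow (by decide)

theorem reecnt_qq_ge (m : ℕ) : 3 ≤ qq m := by
  unfold qq
  calc 3 = 3 ^ 1 := (pow_one 3).symm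
    _ ≤ 3 ^ (2 * m + 1) := Nat.pow_le_pow_right (by norm_num) (by omega)

/-- the counting step: a predicate that is the union of the conjugates of `Δ` -/
theorem reecnt_card_of_iff {G : Type u} [Group G] (Δ : Set G) (P : G → Prop) (c : ℕ)
    (hcount : Nat.card {x : G // ∃ g : G, ∃ d ∈ Δ, x = g * d * g⁻¹} = c)
    (hP : ∀ x, P x ↔ ∃ g : G, ∃ d ∈ Δ, x = g * d * g⁻¹) :
    Nat.card {x : G // P x} = c := by
  rw [← hcount]
  exact Nat.card_congr (Equiv.subtypeEquivRight hP)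

namespace ReeAx

variable {G : Type u} [Group G] [Finite G] {K : Type v} [Field K] [Fintype K] {m : ℕ}

theorem reecnt_order_t (R : ReeAx G K m) : orderOf R.t = 2 :=
  orderOf_eq_prime (by rw [pow_two]; exact R.t_sq) R.t_ne

/-- G8D on the statements of the cited rows. -/
theorem reeg8d_core (R : ReeAx G K m) (i : ℕ) (hi : 2 < i) (_hd : i ∣ qq m - 1)
    (hGENA : ∀ (N : Subgroup G) (Δ : Set G), (∀ n ∈ N, ∀ d ∈ Δ, n * d * n⁻¹ ∈ Δ) →
      (∀ g : G, ∀ d ∈ Δ, g * d * g⁻¹ ∈ Δ → g ∈ N) →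
      Nat.card {x : G // ∃ g : G, ∃ d ∈ Δ, x = g * d * g⁻¹} = (Nat.card G / Nat.card N) * Nat.card Δ)
    (hGENG : Nat.card ({a : G | a ∈ R.H ∧ orderOf a = i} : Set G) = Nat.totient i)
    (hNHc : Nat.card R.NH = 2 * (qq m - 1))
    (hNHa : ∀ g ∈ R.NH, ∀ h ∈ R.H, g * h * g⁻¹ = h ∨ g * h * g⁻¹ = h⁻¹)
    (hHTI : ∀ g h : G, h ∈ R.H → h ≠ 1 → h ≠ R.t → g * h * g⁻¹ ∈ R.H → g ∈ R.NH)
    (hconj : ∀ g : G, 2 < orderOf g → orderOf g ∣ qq m - 1 → ∃ x : G, x * g * x⁻¹ ∈ R.H) :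
    2 * Nat.card {g : G // orderOf g = i} = Nat.totient i * qq m ^ 3 * (qq m ^ 3 + 1) := by
  have hN : ∀ n ∈ R.NH, ∀ d ∈ ({a : G | a ∈ R.H ∧ orderOf a = i} : Set G),
      n * d * n⁻¹ ∈ ({a : G | a ∈ R.H ∧ orderOf a = i} : Set G) := by
    intro n hn d hd
    refine ⟨?_, ?_⟩
    · rcases hNHa n hn d hd.1 with e | e
      · rw [e]; exact hd.1
      · rw [e]; exact R.H.inv_mem hd.1
    · rw [reecnt_orderOf_conj]; exact hd.2
  have hTI : ∀ g : G, ∀ d ∈ ({a : G | a ∈ R.H ∧ orderOf a = i} : Set G),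
      g * d * g⁻¹ ∈ ({a : G | a ∈ R.H ∧ orderOf a = i} : Set G) → g ∈ R.NH := by
    intro g d hd hgd
    refine hHTI g d hd.1 ?_ ?_ hgd.1
    · intro h1
      have := hd.2
      rw [h1, orderOf_one] at this
      omega
    · intro h1
      have := hd.2
      rw [h1, R.reecnt_order_t] at this
      omega
  have hcount := hGENA R.NH _ hN hTI
  have hiff : ∀ x : G, orderOf x = i ↔
      ∃ g : G, ∃ d ∈ ({a : G | a ∈ R.H ∧ orderOf a = i} : Set G), x = g * d * g⁻¹ := by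
    intro x
    constructor
    · intro hx
      obtain ⟨y, hy⟩ := hconj x (by rw [hx]; exact hi) (by rw [hx]; exact _hd)
      refine ⟨y⁻¹, y * x * y⁻¹, ⟨hy, ?_⟩, ?_⟩
      · rw [reecnt_orderOf_conj]; exact hx
      · group
    · rintro ⟨g, d, hd, rfl⟩
      rw [reecnt_orderOf_conj]; exact hd.2
  rw [reecnt_card_of_iff _ _ _ hcount hiff, hGENG, hNHc, R.card]
  have hq := reecnt_qq_ge m
  obtain ⟨c, hc⟩ : ∃ c, qq m ^ 3 + 1 = 2 * c := by
    have hodd : Odd (qq m ^ 3) := Odd.pow (reecnt_odd_qq m)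
    obtain ⟨c, hc⟩ := hodd.add_one
    exact ⟨c, by omega⟩
  have hgg : gg m = 2 * (qq m - 1) * (qq m ^ 3 * c) := by
    unfold gg
    rw [hc]
    ring
  rw [hgg, Nat.mul_div_cancel_left _ (by omega : 0 < 2 * (qq m - 1)), hc]
  ring

end ReeAx

end Cfsg.Agent.Lib.helper7.REE
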