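import Mathlib
import Cfsg.Agent.Lib.helper7.REE.Defs
import Cfsg.Agent.Lib.helper17.REEG8Dcore

/-!
# Project REE (designer helper7), row G6F (`HE_count`): core (helper17).
`reeg6f_core` = G6F with the statements of GENA (`ti_count`), G1B, G1F, G1H, G4H, G4J, G5D, G5G, G6D (the clauses used) as hypotheses.
Extra: `reecnt_card_diff`.
-/

set_option autoImplicit false

namespace Cfsg.Agent.Lib.helper7.REE

open Matrix Cfsg.Agent.Lib.helper8

universe u v

/-- `|S ∖ T| = |S| - |T|` for a subset `T` of a subgroup `S` of a finite group -/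
theorem reecnt_card_diff {G : Type u} [Group G] [Finite G] (S : Subgroup G) (T : Set G) (hT : T ⊆ (S : Set G)) :
    Nat.card ↥((S : Set G) \ T) = Nat.card S - T.ncard := by
  rw [Nat.card_coe_set_eq, Set.ncard_sdiff hT (Set.toFinite T), ← Nat.card_coe_set_eq]
  rfl

namespace ReeAx

variable {G : Type u} [Group G] [Finite G] {K : Type v} [Field K] [Fintype K] {m : ℕ}

/-- G6F on the statements of the cited rows. -/
theorem reeg6f_core (R : ReeAx G K m)
    (hGENA : ∀ (N : Subgroup G) (Δ : Set G), (∀ n ∈ N, ∀ d ∈ Δ, n * d * n⁻¹ ∈ Δ) →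
      (∀ g : G, ∀ d ∈ Δ, g * d * g⁻¹ ∈ Δ → g ∈ N) →
      Nat.card {x : G // ∃ g : G, ∃ d ∈ Δ, x = g * d * g⁻¹} = (Nat.card G / Nat.card N) * Nat.card Δ)
    (hG1B : ∀ h ∈ R.H, h * h = 1 → h = 1 ∨ h = R.t)
    (hNHc : Nat.card R.NH = 2 * (qq m - 1))
    (hNHa : ∀ g ∈ R.NH, ∀ h ∈ R.H, g * h * g⁻¹ = h ∨ g * h * g⁻¹ = h⁻¹)
    (hHTI : ∀ g h : G, h ∈ R.H → h ≠ 1 → h ≠ R.t → g * h * g⁻¹ ∈ R.H → g ∈ R.NH)
    (hconjH : ∀ g : G, 2 < orderOf g → orderOf g ∣ qq m - 1 → ∃ x : G, x * g * x⁻¹ ∈ R.H)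
    (hconjE : ∀ g : G, ¬ orderOf g ∣ 2 → orderOf g ∣ (qq m + 1) / 2 → ∃ x : G, x * g * x⁻¹ ∈ R.E)
    (hEc : Nat.card R.E = qq m + 1) (hEexp : ∀ e ∈ R.E, e ^ ((qq m + 1) / 2) = 1)
    (hEinv : ∀ e ∈ R.E, e * e = 1 → e ∈ R.V)
    (hVc : Nat.card R.V = 4) (hVsq : ∀ v ∈ R.V, v * v = 1) (hVE : R.V ≤ R.E)
    (hNVc : Nat.card (Subgroup.normalizer (R.V : Set G)) = 6 * (qq m + 1))
    (hNVE : ∀ g ∈ Subgroup.normalizer (R.V : Set G), ∀ e ∈ R.E, g * e * g⁻¹ ∈ R.E)
    (hETI : ∀ e ∈ R.E, e ∉ R.V → ∀ g : G, g * e * g⁻¹ ∈ R.E → g ∈ Subgroup.normalizer (R.V : Set G)) :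
    Nat.card {g : G // 2 < orderOf g ∧ orderOf g ∣ qq m - 1} =
      gg m / (2 * (qq m - 1)) * (qq m - 3) ∧
    Nat.card {g : G // ¬ orderOf g ∣ 2 ∧ orderOf g ∣ (qq m + 1) / 2} =
      gg m / (6 * (qq m + 1)) * (qq m - 3) := by
  have hq := reecnt_qq_ge m
  have ht2 := R.reecnt_order_t
  -- orders in `H ∖ {1, t}`
  have hordH : ∀ d ∈ R.H, d ≠ 1 → d ≠ R.t → 2 < orderOf d ∧ orderOf d ∣ qq m - 1 := by
    intro d hd h1 ht
    have hdvd : orderOf d ∣ qq m - 1 := by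
      have h4 : (⟨d, hd⟩ : ↥R.H) ^ Nat.card ↥R.H = 1 := pow_card_eq_one'
      rw [R.H_card] at h4
      exact orderOf_dvd_of_pow_eq_one (congrArg Subtype.val h4)
    refine ⟨?_, hdvd⟩
    have hpos : 0 < orderOf d := orderOf_pos d
    have hne1 : orderOf d ≠ 1 := fun h => h1 (orderOf_eq_one_iff.mp h)
    have hne2 : orderOf d ≠ 2 := by
      intro h
      have h5 : d * d = 1 := by
        rw [← pow_two, ← h]; exact pow_orderOf_eq_one d
      rcases hG1B d hd h5 with e | e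
      · exact h1 e
      · exact ht e
    omega
  refine ⟨?_, ?_⟩
  · -- conjugates of `H ∖ {1, t}`
    have hsub : ({1, R.t} : Set G) ⊆ (R.H : Set G) := by
      intro x hx
      rcases hx with rfl | rfl
      · exact R.H.one_mem
      · exact R.t_mem
    have hΔc : Nat.card ↥((R.H : Set G) \ {1, R.t}) = qq m - 3 := by
      rw [reecnt_card_diff R.H _ hsub, R.H_card, Set.ncard_pair (Ne.symm R.t_ne)]
      omega
    have hmemΔ : ∀ d : G, d ∈ ((R.H : Set G) \ {1, R.t}) ↔ d ∈ R.H ∧ d ≠ 1 ∧ d ≠ R.t := by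
      intro d
      simp only [Set.mem_sdiff, SetLike.mem_coe, Set.mem_insert_iff, Set.mem_singleton_iff, not_or]
    have hN : ∀ n ∈ R.NH, ∀ d ∈ ((R.H : Set G) \ {1, R.t}), n * d * n⁻¹ ∈ ((R.H : Set G) \ {1, R.t}) := by
      intro n hn d hd
      rw [hmemΔ] at hd ⊢
      obtain ⟨hdH, hd1, hdt⟩ := hd
      have ho := hordH d hdH hd1 hdt
      have hcH : n * d * n⁻¹ ∈ R.H := by
        rcases hNHa n hn d hdH with e | e
        · rw [e]; exact hdH
        · rw [e]; exact R.H.inv_mem hdH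
      refine ⟨hcH, ?_, ?_⟩
      · intro h
        have := reecnt_orderOf_conj n d
        rw [h, orderOf_one] at this
        omega
      · intro h
        have := reecnt_orderOf_conj n d
        rw [h, ht2] at this
        omega
    have hTI : ∀ g : G, ∀ d ∈ ((R.H : Set G) \ {1, R.t}), g * d * g⁻¹ ∈ ((R.H : Set G) \ {1, R.t}) → g ∈ R.NH := by
      intro g d hd hgd
      rw [hmemΔ] at hd hgd
      exact hHTI g d hd.1 hd.2.1 hd.2.2 hgd.1
    have hcount := hGENA R.NH _ hN hTI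
    have hiff : ∀ x : G, (2 < orderOf x ∧ orderOf x ∣ qq m - 1) ↔
        ∃ g : G, ∃ d ∈ ((R.H : Set G) \ {1, R.t}), x = g * d * g⁻¹ := by
      intro x
      constructor
      · rintro ⟨hx2, hxd⟩
        obtain ⟨y, hy⟩ := hconjH x hx2 hxd
        refine ⟨y⁻¹, y * x * y⁻¹, (hmemΔ _).mpr ⟨hy, ?_, ?_⟩, by group⟩
        · intro h
          have := reecnt_orderOf_conj y x
          rw [h, orderOf_one] at this
          omega
        · intro h
          have := reecnt_orderOf_conj y x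
          rw [h, ht2] at this
          omega
      · rintro ⟨g, d, hd, rfl⟩
        rw [hmemΔ] at hd
        rw [reecnt_orderOf_conj]
        exact hordH d hd.1 hd.2.1 hd.2.2
    rw [reecnt_card_of_iff _ _ _ hcount hiff, hΔc, hNHc, R.card]
  · -- conjugates of `E ∖ V`
    have hΔc : Nat.card ↥((R.E : Set G) \ (R.V : Set G)) = qq m - 3 := by
      rw [reecnt_card_diff R.E _ hVE, hEc, ← Nat.card_coe_set_eq]
      have : Nat.card ↥(R.V : Set G) = 4 := hVc
      rw [this]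
      omega
    have hordE : ∀ d ∈ R.E, d ∉ R.V → ¬ orderOf d ∣ 2 ∧ orderOf d ∣ (qq m + 1) / 2 := by
      intro d hd hdV
      refine ⟨?_, orderOf_dvd_of_pow_eq_one (hEexp d hd)⟩
      intro h
      apply hdV
      apply hEinv d hd
      rw [← pow_two]
      exact orderOf_dvd_iff_pow_eq_one.mp h
    have hN : ∀ n ∈ Subgroup.normalizer (R.V : Set G), ∀ d ∈ ((R.E : Set G) \ (R.V : Set G)),
        n * d * n⁻¹ ∈ ((R.E : Set G) \ (R.V : Set G)) := by
      intro n hn d hd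
      refine ⟨hNVE n hn d hd.1, ?_⟩
      intro h
      exact hd.2 ((Subgroup.mem_normalizer_iff.mp hn d).mpr h)
    have hTI : ∀ g : G, ∀ d ∈ ((R.E : Set G) \ (R.V : Set G)),
        g * d * g⁻¹ ∈ ((R.E : Set G) \ (R.V : Set G)) → g ∈ Subgroup.normalizer (R.V : Set G) := by
      intro g d hd hgd
      exact hETI d hd.1 hd.2 g hgd.1
    have hcount := hGENA (Subgroup.normalizer (R.V : Set G)) _ hN hTI
    have hiff : ∀ x : G, (¬ orderOf x ∣ 2 ∧ orderOf x ∣ (qq m + 1) / 2) ↔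
        ∃ g : G, ∃ d ∈ ((R.E : Set G) \ (R.V : Set G)), x = g * d * g⁻¹ := by
      intro x
      constructor
      · rintro ⟨hx2, hxd⟩
        obtain ⟨y, hy⟩ := hconjE x hx2 hxd
        refine ⟨y⁻¹, y * x * y⁻¹, ⟨hy, ?_⟩, by group⟩
        intro h
        apply hx2
        rw [← reecnt_orderOf_conj y x]
        apply orderOf_dvd_of_pow_eq_one
        rw [pow_two]
        exact hVsq _ h
      · rintro ⟨g, d, hd, rfl⟩
        rw [reecnt_orderOf_conj]
        exact hordE d hd.1 hd.2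
    rw [reecnt_card_of_iff _ _ _ hcount hiff, hΔc, hNVc, R.card]

end ReeAx

end Cfsg.Agent.Lib.helper7.REE
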