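import Mathlib
import Cfsg.Agent.Lib.helper7.REE.Defs
import Cfsg.Agent.Lib.helper17.REEG8Dcore
import Cfsg.Agent.Lib.Helper29.REEARA

/-!
# Project REE (designer helper7), row G8E (`count_E`): core (helper17).
`reeg8e_core` = G8E with the statements of GENA (`ti_count`), GENG (`cyclic_count` for `A₁`), G4H, G4I, G4J, G5D, G5G, G6D
(the clauses used) as hypotheses.  Extras: `reecnt_arith6`, `reecnt_arith2` (the two divisions by `6 (q + 1)`).
-/

set_option autoImplicit false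

namespace Cfsg.Agent.Lib.helper7.REE

open Matrix Cfsg.Agent.Lib.helper8

universe u v

theorem reecnt_arith6 (m φ : ℕ) :
    6 * (gg m / (6 * (qq m + 1)) * φ) = φ * qq m ^ 3 * (qq m - 1) * (qq m ^ 2 - qq m + 1) := by
  obtain ⟨b, hb⟩ := reeara_q m
  have h1 : qq m - 1 = 24 * b + 2 := by omega
  have h2 : qq m ^ 2 - qq m + 1 = 576 * b ^ 2 + 120 * b + 7 := by
    rw [hb]
    have : (24 * b + 3) ^ 2 = 576 * b ^ 2 + 120 * b + 6 + (24 * b + 3) := by ring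
    omega
  have hgg : gg m = 6 * (qq m + 1) * (9 * (8 * b + 1) ^ 3 * (12 * b + 1) * (576 * b ^ 2 + 120 * b + 7)) := by
    unfold gg
    rw [h1, hb]
    ring
  rw [hgg, Nat.mul_div_cancel_left _ (by omega : 0 < 6 * (qq m + 1)), h1, h2, hb]
  ring

theorem reecnt_arith2 (m φ : ℕ) :
    2 * (gg m / (6 * (qq m + 1)) * (3 * φ)) = φ * qq m ^ 3 * (qq m - 1) * (qq m ^ 2 - qq m + 1) := by
  rw [← reecnt_arith6 m φ]
  ring

theorem reecnt_quarter_odd (m : ℕ) : Odd ((qq m + 1) / 4) ∧ (qq m + 1) / 2 = 2 * ((qq m + 1) / 4) := by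
  obtain ⟨b, hb⟩ := reeara_q m
  have h1 : (qq m + 1) / 4 = 6 * b + 1 := by omega
  refine ⟨?_, by omega⟩
  rw [h1]
  exact ⟨3 * b, by ring⟩

namespace ReeAx

variable {G : Type u} [Group G] [Finite G] {K : Type v} [Field K] [Fintype K] {m : ℕ}

/-- G8E on the statements of the cited rows. -/
theorem reeg8e_core (R : ReeAx G K m) (i : ℕ) (hi : 1 < i) (hd : i ∣ (qq m + 1) / 4)
    (hGENA : ∀ (N : Subgroup G) (Δ : Set G), (∀ n ∈ N, ∀ d ∈ Δ, n * d * n⁻¹ ∈ Δ) →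
      (∀ g : G, ∀ d ∈ Δ, g * d * g⁻¹ ∈ Δ → g ∈ N) →
      Nat.card {x : G // ∃ g : G, ∃ d ∈ Δ, x = g * d * g⁻¹} = (Nat.card G / Nat.card N) * Nat.card Δ)
    (hGENG : Nat.card ({a : G | a ∈ R.A1 ∧ orderOf a = i} : Set G) = Nat.totient i)
    (hconjE : ∀ g : G, ¬ orderOf g ∣ 2 → orderOf g ∣ (qq m + 1) / 2 → ∃ x : G, x * g * x⁻¹ ∈ R.E)
    (hEcomm : ∀ e₁ ∈ R.E, ∀ e₂ ∈ R.E, e₁ * e₂ = e₂ * e₁)
    (hEVA : ∀ e, e ∈ R.E ↔ ∃ v ∈ R.V, ∃ a ∈ R.A1, e = v * a)
    (hEodd : ∀ e ∈ R.E, Odd (orderOf e) → e ∈ R.A1)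
    (hA1E : R.A1 ≤ R.E)
    (hVc : Nat.card R.V = 4) (hVsq : ∀ v ∈ R.V, v * v = 1) (hVE : R.V ≤ R.E)
    (hVA : R.V ⊓ R.A1 = ⊥) (hA1odd : ∀ a ∈ R.A1, Odd (orderOf a))
    (hNVc : Nat.card (Subgroup.normalizer (R.V : Set G)) = 6 * (qq m + 1))
    (hNVA : ∀ g ∈ Subgroup.normalizer (R.V : Set G), ∀ a ∈ R.A1, g * a * g⁻¹ ∈ R.A1)
    (hNVE : ∀ g ∈ Subgroup.normalizer (R.V : Set G), ∀ e ∈ R.E, g * e * g⁻¹ ∈ R.E)
    (hETI : ∀ e ∈ R.E, e ∉ R.V → ∀ g : G, g * e * g⁻¹ ∈ R.E → g ∈ Subgroup.normalizer (R.V : Set G)) :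
    6 * Nat.card {g : G // orderOf g = i} =
        Nat.totient i * qq m ^ 3 * (qq m - 1) * (qq m ^ 2 - qq m + 1) ∧
    2 * Nat.card {g : G // orderOf g = 2 * i} =
        Nat.totient i * qq m ^ 3 * (qq m - 1) * (qq m ^ 2 - qq m + 1) := by
  classical
  obtain ⟨hqodd, hhalf⟩ := reecnt_quarter_odd m
  have hiodd : Odd i := by
    obtain ⟨c, hc⟩ := hd
    rw [hc] at hqodd
    exact (Nat.odd_mul.mp hqodd).1
  have hi2 : ¬ i ∣ 2 := by
    intro h
    have := Nat.le_of_dvd (by norm_num) h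
    have h2 : i = 2 := by omega
    rw [h2] at hiodd
    exact absurd hiodd (by decide)
  have hidvd : i ∣ (qq m + 1) / 2 := by
    rw [hhalf]; exact Dvd.dvd.mul_left hd 2
  have h2idvd : 2 * i ∣ (qq m + 1) / 2 := by
    rw [hhalf]; exact Nat.mul_dvd_mul_left 2 hd
  have h2i2 : ¬ 2 * i ∣ 2 := by
    intro h
    have := Nat.le_of_dvd (by norm_num) h
    omega
  -- elements of `V` have order dividing 2
  have hVord : ∀ v ∈ R.V, orderOf v ∣ 2 := fun v hv =>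
    orderOf_dvd_of_pow_eq_one (by rw [pow_two]; exact hVsq v hv)
  have hVord2 : ∀ v ∈ R.V, v ≠ 1 → orderOf v = 2 := fun v hv hv1 =>
    orderOf_eq_prime (by rw [pow_two]; exact hVsq v hv) hv1
  have hcomm : ∀ v ∈ R.V, ∀ a ∈ R.A1, Commute v a := fun v hv a ha =>
    hEcomm v (hVE hv) a (hA1E ha)
  have hmulord : ∀ v ∈ R.V, v ≠ 1 → ∀ a ∈ R.A1, orderOf (v * a) = 2 * orderOf a := by
    intro v hv hv1 a ha
    have h2 := hVord2 v hv hv1
    have hcop : (orderOf v).Coprime (orderOf a) := by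
      rw [h2]
      exact Nat.coprime_two_left.mpr (hA1odd a ha)
    rw [(hcomm v hv a ha).orderOf_mul_eq_mul_orderOf_of_coprime hcop, h2]
  refine ⟨?_, ?_⟩
  · -- order `i`
    have hN : ∀ n ∈ Subgroup.normalizer (R.V : Set G), ∀ d ∈ ({a : G | a ∈ R.A1 ∧ orderOf a = i} : Set G),
        n * d * n⁻¹ ∈ ({a : G | a ∈ R.A1 ∧ orderOf a = i} : Set G) := by
      intro n hn d hd
      exact ⟨hNVA n hn d hd.1, by rw [reecnt_orderOf_conj]; exact hd.2⟩
    have hTI : ∀ g : G, ∀ d ∈ ({a : G | a ∈ R.A1 ∧ orderOf a = i} : Set G),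
        g * d * g⁻¹ ∈ ({a : G | a ∈ R.A1 ∧ orderOf a = i} : Set G) → g ∈ Subgroup.normalizer (R.V : Set G) := by
      intro g d hd hgd
      refine hETI d (hA1E hd.1) ?_ g (hA1E hgd.1)
      intro hdV
      apply hi2
      rw [← hd.2]
      exact hVord d hdV
    have hcount := hGENA (Subgroup.normalizer (R.V : Set G)) _ hN hTI
    have hiff : ∀ x : G, orderOf x = i ↔
        ∃ g : G, ∃ d ∈ ({a : G | a ∈ R.A1 ∧ orderOf a = i} : Set G), x = g * d * g⁻¹ := by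
      intro x
      constructor
      · intro hx
        obtain ⟨y, hy⟩ := hconjE x (by rw [hx]; exact hi2) (by rw [hx]; exact hidvd)
        have ho : orderOf (y * x * y⁻¹) = i := by rw [reecnt_orderOf_conj]; exact hx
        refine ⟨y⁻¹, y * x * y⁻¹, ⟨hEodd _ hy (by rw [ho]; exact hiodd), ho⟩, by group⟩
      · rintro ⟨g, d, hd, rfl⟩
        rw [reecnt_orderOf_conj]; exact hd.2
    rw [reecnt_card_of_iff _ _ _ hcount hiff, hGENG, hNVc, R.card]
    exact reecnt_arith6 m _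
  · -- order `2 i`
    have hN : ∀ n ∈ Subgroup.normalizer (R.V : Set G), ∀ d ∈ ({e : G | e ∈ R.E ∧ orderOf e = 2 * i} : Set G),
        n * d * n⁻¹ ∈ ({e : G | e ∈ R.E ∧ orderOf e = 2 * i} : Set G) := by
      intro n hn d hd
      exact ⟨hNVE n hn d hd.1, by rw [reecnt_orderOf_conj]; exact hd.2⟩
    have hTI : ∀ g : G, ∀ d ∈ ({e : G | e ∈ R.E ∧ orderOf e = 2 * i} : Set G),
        g * d * g⁻¹ ∈ ({e : G | e ∈ R.E ∧ orderOf e = 2 * i} : Set G) → g ∈ Subgroup.normalizer (R.V : Set G) := by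
      intro g d hd hgd
      refine hETI d hd.1 ?_ g hgd.1
      intro hdV
      apply h2i2
      rw [← hd.2]
      exact hVord d hdV
    have hcount := hGENA (Subgroup.normalizer (R.V : Set G)) _ hN hTI
    have hiff : ∀ x : G, orderOf x = 2 * i ↔
        ∃ g : G, ∃ d ∈ ({e : G | e ∈ R.E ∧ orderOf e = 2 * i} : Set G), x = g * d * g⁻¹ := by
      intro x
      constructor
      · intro hx
        obtain ⟨y, hy⟩ := hconjE x (by rw [hx]; exact h2i2) (by rw [hx]; exact h2idvd)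
        have ho : orderOf (y * x * y⁻¹) = 2 * i := by rw [reecnt_orderOf_conj]; exact hx
        exact ⟨y⁻¹, y * x * y⁻¹, ⟨hy, ho⟩, by group⟩
      · rintro ⟨g, d, hd, rfl⟩
        rw [reecnt_orderOf_conj]; exact hd.2
    -- the number of elements of order `2 i` of `E`
    have hΔ2 : Nat.card ↥({e : G | e ∈ R.E ∧ orderOf e = 2 * i} : Set G) = 3 * Nat.totient i := by
      have hV3 : Nat.card {v : ↥R.V // ¬ v = 1} = 3 := by
        letI : Fintype ↥R.V := Fintype.ofFinite _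
        rw [Nat.card_eq_fintype_card, Fintype.card_subtype_compl (fun v : ↥R.V => v = 1),
          Fintype.card_subtype_eq, ← Nat.card_eq_fintype_card, hVc]
      rw [← hGENG, ← hV3, ← Nat.card_prod]
      symm
      let F : {v : ↥R.V // ¬ v = 1} × ↥({a : G | a ∈ R.A1 ∧ orderOf a = i} : Set G) →
          ↥({e : G | e ∈ R.E ∧ orderOf e = 2 * i} : Set G) := fun x =>
        ⟨x.1.1.1 * x.2.1, (hEVA _).mpr ⟨x.1.1.1, x.1.1.2, x.2.1, x.2.2.1, rfl⟩, by
          have hv1 : (x.1.1.1 : G) ≠ 1 := fun h => x.1.2 (Subtype.ext h)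
          rw [hmulord x.1.1.1 x.1.1.2 hv1 x.2.1 x.2.2.1, x.2.2.2]⟩
      apply Nat.card_congr (Equiv.ofBijective F ⟨?_, ?_⟩)
      · rintro ⟨⟨⟨v, hv⟩, hv1⟩, ⟨a, ha⟩⟩ ⟨⟨⟨v', hv'⟩, hv1'⟩, ⟨a', ha'⟩⟩ hF
        have h : v * a = v' * a' := congrArg Subtype.val hF
        have h1 : v'⁻¹ * v = a' * a⁻¹ := by
          calc v'⁻¹ * v = v'⁻¹ * (v * a) * a⁻¹ := by group
            _ = v'⁻¹ * (v' * a') * a⁻¹ := by rw [h]
            _ = a' * a⁻¹ := by group
        have h2 : v'⁻¹ * v ∈ R.V ⊓ R.A1 :=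
          ⟨R.V.mul_mem (R.V.inv_mem hv') hv, by rw [h1]; exact R.A1.mul_mem ha'.1 (R.A1.inv_mem ha.1)⟩
        rw [hVA, Subgroup.mem_bot] at h2
        have hvv : v' = v := inv_mul_eq_one.mp h2
        subst hvv
        have haa : a = a' := mul_left_cancel h
        subst haa
        rfl
      · rintro ⟨e, heE, heo⟩
        obtain ⟨v, hv, a, ha, rfl⟩ := (hEVA e).mp heE
        by_cases hv1 : v = 1
        · exfalso
          rw [hv1, one_mul] at heo
          have := hA1odd a ha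
          rw [heo] at this
          exact absurd this (by simp)
        · have ho := hmulord v hv hv1 a ha
          rw [heo] at ho
          have hai : orderOf a = i := by omega
          exact ⟨⟨⟨⟨v, hv⟩, fun h => hv1 (congrArg Subtype.val h)⟩, ⟨a, ha, hai⟩⟩, rfl⟩
    rw [reecnt_card_of_iff _ _ _ hcount hiff, hΔ2, hNVc, R.card]
    exact reecnt_arith2 m _

end ReeAx

end Cfsg.Agent.Lib.helper7.REE
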