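import Mathlib
import Cfsg.Agent.Lib.helper7.REE.Defs
import Cfsg.Agent.Lib.helper17.REEG8Dcore
import Cfsg.Agent.Lib.helper17.REEG6Fcore
import Cfsg.Agent.Lib.helper17.REEG8Ecore
import Cfsg.Agent.Lib.Helper20.REEGENA
import Cfsg.Agent.Lib.helper14.REEGENG
import Cfsg.Agent.Lib.Helper1.REEG1
import Cfsg.Agent.Lib.helper4.REEG1B
import Cfsg.Agent.Lib.helper4.REEG4H
import Cfsg.Agent.Lib.Helper13.REEG4I
import Cfsg.Agent.Lib.Helper13.REEG4J
import Cfsg.Agent.Lib.Helper29.REEG5D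
import Cfsg.Agent.Lib.Helper29.REEG5G
import Cfsg.Agent.Lib.Helper1.REEG6

/-!
# Project REE (designer helper7), rows G6F (`HE_count`), G8D (`count_H`), G8E (`count_E`), verbatim from
`helper7/REE/Skel2.lean.txt` (helper17): wrappers of `reeg6f_core` / `reeg8d_core` / `reeg8e_core` on the landed rows.
-/

set_option autoImplicit false

namespace Cfsg.Agent.Lib.helper7.REE

open Matrix Cfsg.Agent.Lib.helper8

universe u v

namespace ReeAx

variable {G : Type u} [Group G] [Finite G] {K : Type v} [Field K] [Fintype K] {m : ℕ}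

/-- G6F. The number of conjugates of elements of `H ∖ {1, t}` and of `E ∖ V`. -/
theorem HE_count (R : ReeAx G K m) :
    Nat.card {g : G // 2 < orderOf g ∧ orderOf g ∣ qq m - 1} =
      gg m / (2 * (qq m - 1)) * (qq m - 3) ∧
    Nat.card {g : G // ¬ orderOf g ∣ 2 ∧ orderOf g ∣ (qq m + 1) / 2} =
      gg m / (6 * (qq m + 1)) * (qq m - 3) :=
  R.reeg6f_core (fun N Δ hN hTI => ti_count N Δ hN hTI) R.H_invol.1 R.NH_basic.2.1 R.NH_basic.2.2.2
    (fun g h hh h1 ht hg => R.H_TI g h hh h1 ht hg)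
    (fun g => (R.conj_H_E g).1) (fun g => (R.conj_H_E g).2)
    R.E_basic.1 R.E_basic.2.2.2.2.1 R.E_basic.2.2.2.2.2.1
    R.V_basic.2.1 R.V_basic.2.2.2.2.2.2.1 R.V_basic.2.2.2.2.2.2.2.1
    R.NV_basic.1 R.NV_basic.2.2.1
    (fun e he heV g hg => (R.E_TI e he heV).2 g hg)

/-- G8D. Elements of order `i > 2`, `i ∣ q - 1`. -/
theorem count_H (R : ReeAx G K m) (i : ℕ) (hi : 2 < i) (hd : i ∣ qq m - 1) :
    2 * Nat.card {g : G // orderOf g = i} = Nat.totient i * qq m ^ 3 * (qq m ^ 3 + 1) :=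
  R.reeg8d_core i hi hd (fun N Δ hN hTI => ti_count N Δ hN hTI)
    (cyclic_count R.H R.H_cyc i (by rw [R.H_card]; exact hd)).1
    R.NH_basic.2.1 R.NH_basic.2.2.2 (fun g h hh h1 ht hg => R.H_TI g h hh h1 ht hg)
    (fun g => (R.conj_H_E g).1)

/-- G8E. Elements of order `i` and `2 i`, `i > 1`, `i ∣ (q + 1) / 4`. -/
theorem count_E (R : ReeAx G K m) (i : ℕ) (hi : 1 < i) (hd : i ∣ (qq m + 1) / 4) :
    6 * Nat.card {g : G // orderOf g = i} =
        Nat.totient i * qq m ^ 3 * (qq m - 1) * (qq m ^ 2 - qq m + 1) ∧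
    2 * Nat.card {g : G // orderOf g = 2 * i} =
        Nat.totient i * qq m ^ 3 * (qq m - 1) * (qq m ^ 2 - qq m + 1) :=
  R.reeg8e_core i hi hd (fun N Δ hN hTI => ti_count N Δ hN hTI)
    (cyclic_count R.A1 R.A1_basic.2.1 i (by
      have h4 := R.A1_basic.2.2.1
      have h5 : Nat.card R.A1 = (qq m + 1) / 4 := by omega
      rw [h5]; exact hd)).1
    (fun g => (R.conj_H_E g).2)
    R.E_basic.2.1 R.E_basic.2.2.1 R.E_basic.2.2.2.2.2.2.2.1 R.E_basic.2.2.2.2.2.2.2.2.1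
    R.V_basic.2.1 R.V_basic.2.2.2.2.2.2.1 R.V_basic.2.2.2.2.2.2.2.1
    R.A1_basic.2.2.2.2.2.1 R.A1_basic.2.2.2.2.2.2
    R.NV_basic.1 R.NV_basic.2.1 R.NV_basic.2.2.1
    (fun e he heV g hg => (R.E_TI e he heV).2 g hg)

end ReeAx

end Cfsg.Agent.Lib.helper7.REE
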