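import Mathlib
import Cfsg.Prelude.Def_Classical
import Cfsg.Agent.Lib.helper23.P4V.Defs

/-!
# P4V row G4 (`insig_prod`), helper17: the core, on the statements of G2 G3A G3B as hypotheses.
Own names are prefixed `p4vg4_`.
-/

set_option autoImplicit false

namespace Cfsg.Agent.Lib.helper23.P4V

open Matrix

universe u

section Field

variable {F : Type u} [Field F]

theorem p4vg4_m2_congr (a b c d a' b' c' d' : F) (h1 : a = a') (h2 : b = b') (h3 : c = c')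
    (h4 : d = d') : (!![a, b; c, d] : M2 F) = !![a', b'; c', d'] := by
  rw [h1, h2, h3, h4]

theorem p4vg4_smul (k a b c d : F) : k • (!![a, b; c, d] : M2 F) = !![k * a, k * b; k * c, k * d] := by
  ext i j
  fin_cases i <;> fin_cases j <;> simp

/-- trace and determinant are invariant under conjugation. -/
theorem p4vg4_conj (Q A : M2 F) (hQ : Q.det ≠ 0) :
    (Q * A * Q⁻¹).trace = A.trace ∧ (Q * A * Q⁻¹).det = A.det := by
  have hu : IsUnit Q.det := isUnit_iff_ne_zero.mpr hQ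
  constructor
  · rw [Matrix.trace_mul_comm, ← Matrix.mul_assoc, Matrix.nonsing_inv_mul Q hu, Matrix.one_mul]
  · rw [Matrix.det_mul, Matrix.det_mul, Matrix.det_nonsing_inv, mul_comm Q.det, mul_assoc,
      Ring.mul_inverse_cancel _ hu, mul_one]

/-- the scalar case. -/
theorem p4vg4_scalar (τ ν : F) :
    ∃ A₁ A₂ : M2 F, A₁.trace = τ ∧ A₁.det = ν ∧ A₂.trace = τ ∧ A₂.det = ν ∧
      A₁ * A₂ = ν • (1 : M2 F) := by
  refine ⟨cmp τ ν, !![τ, ν; -1, 0], trace_cmp τ ν, det_cmp τ ν, ?_, ?_, ?_⟩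
  · rw [Matrix.trace_fin_two_of]; ring
  · rw [Matrix.det_fin_two_of]; ring
  · rw [cmp, Matrix.mul_fin_two, Matrix.one_fin_two, p4vg4_smul]
    apply p4vg4_m2_congr <;> ring

/-- the companion case: a point of the conic gives the factorisation of `!![0, -ν²; 1, β]`. -/
theorem p4vg4_companion (τ ν β x z : F) (hν : ν ≠ 0)
    (hc : x ^ 2 + β * x * z + ν ^ 2 * z ^ 2 - τ * x - τ * ν * z + ν = 0) :
    ∃ A₁ A₂ : M2 F, A₁.trace = τ ∧ A₁.det = ν ∧ A₂.trace = τ ∧ A₂.det = ν ∧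
      A₁ * A₂ = !![0, -ν ^ 2; 1, β] := by
  set w : F := τ - x with hw
  set y : F := τ * (β - ν) + ν ^ 2 * z - β * w with hy
  refine ⟨!![x, y; z, w], ν⁻¹ • !![-y, -ν ^ 2 * w - β * y; x, ν ^ 2 * z + β * x], ?_, ?_, ?_, ?_, ?_⟩
  · rw [Matrix.trace_fin_two_of, hw]; ring
  · rw [Matrix.det_fin_two_of, hy, hw]; linear_combination (-1 : F) * hc
  · rw [Matrix.trace_smul, Matrix.trace_fin_two_of, hy, hw, smul_eq_mul]
    field_simp
    ring
  · rw [Matrix.det_smul, Fintype.card_fin, Matrix.det_fin_two_of, hy, hw]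
    field_simp
    linear_combination (-(ν ^ 2)) * hc
  · have hdet : x * w - y * z = ν := by rw [hy, hw]; linear_combination (-1 : F) * hc
    rw [Matrix.mul_smul, Matrix.mul_fin_two, p4vg4_smul]
    apply p4vg4_m2_congr
    · field_simp; ring
    · field_simp; linear_combination (-(ν ^ 2)) * hdet
    · field_simp; linear_combination hdet
    · field_simp; linear_combination β * hdet

/-- **G4 core**: on the statements of G2, G3A, G3B. -/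
theorem p4vg4_core (τ ν : F) (hG : Good τ ν) (B : M2 F) (hB : InSig ν B)
    (hG2 : ∀ B : M2 F, (¬ ∃ c : F, B = c • (1 : M2 F)) →
      ∃ Q : M2 F, Q.det ≠ 0 ∧ B = Q * !![0, -B.det; 1, B.trace] * Q⁻¹)
    (hG3A : ∀ β : F, (∀ ρ : F, ρ ^ 2 + β * ρ + ν ^ 2 ≠ 0) →
      ∃ x z : F, x ^ 2 + β * x * z + ν ^ 2 * z ^ 2 - τ * x - τ * ν * z + ν = 0)
    (hG3B : ∀ β ρ : F, τ ≠ 0 → ν ≠ 0 → β ≠ 2 * ν → ρ ^ 2 + β * ρ + ν ^ 2 = 0 →
      ∃ x z : F, x ^ 2 + β * x * z + ν ^ 2 * z ^ 2 - τ * x - τ * ν * z + ν = 0) :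
    ∃ A₁ A₂ : M2 F, A₁.trace = τ ∧ A₁.det = ν ∧ A₂.trace = τ ∧ A₂.det = ν ∧ A₁ * A₂ = B := by
  have hν : ν ≠ 0 := hG.nu_ne_zero
  rcases hB with hB | ⟨hdet, htr, hns⟩
  · rw [hB]; exact p4vg4_scalar τ ν
  · obtain ⟨Q, hQ, hBQ⟩ := hG2 B hns
    have hconic : ∃ x z : F,
        x ^ 2 + B.trace * x * z + ν ^ 2 * z ^ 2 - τ * x - τ * ν * z + ν = 0 := by
      by_cases hr : ∃ ρ : F, ρ ^ 2 + B.trace * ρ + ν ^ 2 = 0
      · obtain ⟨ρ, hρ⟩ := hr
        exact hG3B B.trace ρ hG.1 hν htr hρ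
      · exact hG3A B.trace (fun ρ hρ => hr ⟨ρ, hρ⟩)
    obtain ⟨x, z, hc⟩ := hconic
    obtain ⟨A₁, A₂, h1t, h1d, h2t, h2d, hprod⟩ := p4vg4_companion τ ν B.trace x z hν hc
    have hu : IsUnit Q.det := isUnit_iff_ne_zero.mpr hQ
    refine ⟨Q * A₁ * Q⁻¹, Q * A₂ * Q⁻¹, ?_, ?_, ?_, ?_, ?_⟩
    · rw [(p4vg4_conj Q A₁ hQ).1, h1t]
    · rw [(p4vg4_conj Q A₁ hQ).2, h1d]
    · rw [(p4vg4_conj Q A₂ hQ).1, h2t]
    · rw [(p4vg4_conj Q A₂ hQ).2, h2d]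
    · have : Q * A₁ * Q⁻¹ * (Q * A₂ * Q⁻¹) = Q * (A₁ * A₂) * Q⁻¹ := by
        rw [Matrix.mul_assoc (Q * A₁), ← Matrix.mul_assoc Q⁻¹, ← Matrix.mul_assoc Q⁻¹,
          Matrix.nonsing_inv_mul Q hu, Matrix.one_mul, Matrix.mul_assoc Q A₁, ← Matrix.mul_assoc A₁,
          ← Matrix.mul_assoc Q]
      rw [this, hprod, ← hdet]
      exact hBQ.symm

end Field

end Cfsg.Agent.Lib.helper23.P4V
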