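import Mathlib
import Cfsg.Agent.Lib.helper8.TD4.Defs

/-!
# TD4 row A4 (`kZ_table`), helper17.  Verbatim statement of `helper8/TD4/Skel.lean.txt`.
Own extras are prefixed `td4a4_`.
-/

set_option autoImplicit false

namespace Cfsg.Agent.Lib.helper8.TD4

open Cfsg.Lie Cfsg.Lie.ChevalleyDatum Cfsg.Agent.Lib.helper8 Matrix

universe u v

/-- `kZ` from the four coordinates of the root. -/
theorem td4a4_kZ_eq (q r : ℕ) (a b c d : ℤ) (h0 : co r 0 = a) (h1 : co r 1 = b) (h2 : co r 2 = c)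
    (h3 : co r 3 = d) :
    kZ q r = a + b * ((q : ℤ) ^ 3 - 1) + c * ((q : ℤ) + 1 - (q : ℤ) ^ 3) + d * (q : ℤ) ^ 2 := by
  unfold kZ; rw [h0, h1, h2, h3]

/-- the order of the torus as an integer polynomial in `q`. -/
theorem td4a4_nT (q : ℕ) (hq : 2 ≤ q) :
    (nT q : ℤ) = (q : ℤ) ^ 4 + (q : ℤ) ^ 3 - (q : ℤ) - 1 := by
  unfold nT
  have h1 : 1 ≤ q ^ 3 := Nat.one_le_pow _ _ (by omega)
  rw [Nat.cast_mul, Nat.cast_sub h1]
  push_cast
  ring

/-- **A4**. -/
theorem kZ_table (q : ℕ) (hq : 2 ≤ q) : ∀ r < 24,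
    kZ q r ≠ 0 ∧ |kZ q r| + 1 < (nT q : ℤ) ∧ (kZ q r = 1 → r = 18) := by
  intro r hr
  rw [td4a4_nT q hq]
  have ha : (2 : ℤ) ≤ (q : ℤ) := by exact_mod_cast hq
  have hb : 2 * (q : ℤ) ≤ (q : ℤ) ^ 2 := by nlinarith
  have hc : 2 * (q : ℤ) ^ 2 ≤ (q : ℤ) ^ 3 := by nlinarith
  have hd : 2 * (q : ℤ) ^ 3 ≤ (q : ℤ) ^ 4 := by nlinarith
  interval_cases r
  · rw [td4a4_kZ_eq q 0 (-1) (-2) (-1) (-1) (by decide) (by decide) (by decide) (by decide)]
    refine ⟨?_, ?_, ?_⟩
    · omega
    · rw [← lt_sub_iff_add_lt, abs_lt]; constructor <;> omega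
    · intro h; exfalso; omega
  · rw [td4a4_kZ_eq q 1 (-1) (-1) (-1) (-1) (by decide) (by decide) (by decide) (by decide)]
    refine ⟨?_, ?_, ?_⟩
    · omega
    · rw [← lt_sub_iff_add_lt, abs_lt]; constructor <;> omega
    · intro h; exfalso; omega
  · rw [td4a4_kZ_eq q 2 (-1) (-1) (-1) 0 (by decide) (by decide) (by decide) (by decide)]
    refine ⟨?_, ?_, ?_⟩
    · omega
    · rw [← lt_sub_iff_add_lt, abs_lt]; constructor <;> omega
    · intro h; exfalso; omega
  · rw [td4a4_kZ_eq q 3 (-1) (-1) 0 (-1) (by decide) (by decide) (by decide) (by decide)]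
    refine ⟨?_, ?_, ?_⟩
    · omega
    · rw [← lt_sub_iff_add_lt, abs_lt]; constructor <;> omega
    · intro h; exfalso; omega
  · rw [td4a4_kZ_eq q 4 (-1) (-1) 0 0 (by decide) (by decide) (by decide) (by decide)]
    refine ⟨?_, ?_, ?_⟩
    · omega
    · rw [← lt_sub_iff_add_lt, abs_lt]; constructor <;> omega
    · intro h; exfalso; omega
  · rw [td4a4_kZ_eq q 5 (-1) 0 0 0 (by decide) (by decide) (by decide) (by decide)]
    refine ⟨?_, ?_, ?_⟩
    · omega
    · rw [← lt_sub_iff_add_lt, abs_lt]; constructor <;> omega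
    · intro h; exfalso; omega
  · rw [td4a4_kZ_eq q 6 0 (-1) (-1) (-1) (by decide) (by decide) (by decide) (by decide)]
    refine ⟨?_, ?_, ?_⟩
    · omega
    · rw [← lt_sub_iff_add_lt, abs_lt]; constructor <;> omega
    · intro h; exfalso; omega
  · rw [td4a4_kZ_eq q 7 0 (-1) (-1) 0 (by decide) (by decide) (by decide) (by decide)]
    refine ⟨?_, ?_, ?_⟩
    · omega
    · rw [← lt_sub_iff_add_lt, abs_lt]; constructor <;> omega
    · intro h; exfalso; omega
  · rw [td4a4_kZ_eq q 8 0 (-1) 0 (-1) (by decide) (by decide) (by decide) (by decide)]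
    refine ⟨?_, ?_, ?_⟩
    · omega
    · rw [← lt_sub_iff_add_lt, abs_lt]; constructor <;> omega
    · intro h; exfalso; omega
  · rw [td4a4_kZ_eq q 9 0 (-1) 0 0 (by decide) (by decide) (by decide) (by decide)]
    refine ⟨?_, ?_, ?_⟩
    · omega
    · rw [← lt_sub_iff_add_lt, abs_lt]; constructor <;> omega
    · intro h; exfalso; omega
  · rw [td4a4_kZ_eq q 10 0 0 (-1) 0 (by decide) (by decide) (by decide) (by decide)]
    refine ⟨?_, ?_, ?_⟩
    · omega
    · rw [← lt_sub_iff_add_lt, abs_lt]; constructor <;> omega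
    · intro h; exfalso; omega
  · rw [td4a4_kZ_eq q 11 0 0 0 (-1) (by decide) (by decide) (by decide) (by decide)]
    refine ⟨?_, ?_, ?_⟩
    · omega
    · rw [← lt_sub_iff_add_lt, abs_lt]; constructor <;> omega
    · intro h; exfalso; omega
  · rw [td4a4_kZ_eq q 12 0 0 0 1 (by decide) (by decide) (by decide) (by decide)]
    refine ⟨?_, ?_, ?_⟩
    · omega
    · rw [← lt_sub_iff_add_lt, abs_lt]; constructor <;> omega
    · intro h; exfalso; omega
  · rw [td4a4_kZ_eq q 13 0 0 1 0 (by decide) (by decide) (by decide) (by decide)]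
    refine ⟨?_, ?_, ?_⟩
    · omega
    · rw [← lt_sub_iff_add_lt, abs_lt]; constructor <;> omega
    · intro h; exfalso; omega
  · rw [td4a4_kZ_eq q 14 0 1 0 0 (by decide) (by decide) (by decide) (by decide)]
    refine ⟨?_, ?_, ?_⟩
    · omega
    · rw [← lt_sub_iff_add_lt, abs_lt]; constructor <;> omega
    · intro h; exfalso; omega
  · rw [td4a4_kZ_eq q 15 0 1 0 1 (by decide) (by decide) (by decide) (by decide)]
    refine ⟨?_, ?_, ?_⟩
    · omega
    · rw [← lt_sub_iff_add_lt, abs_lt]; constructor <;> omega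
    · intro h; exfalso; omega
  · rw [td4a4_kZ_eq q 16 0 1 1 0 (by decide) (by decide) (by decide) (by decide)]
    refine ⟨?_, ?_, ?_⟩
    · omega
    · rw [← lt_sub_iff_add_lt, abs_lt]; constructor <;> omega
    · intro h; exfalso; omega
  · rw [td4a4_kZ_eq q 17 0 1 1 1 (by decide) (by decide) (by decide) (by decide)]
    refine ⟨?_, ?_, ?_⟩
    · omega
    · rw [← lt_sub_iff_add_lt, abs_lt]; constructor <;> omega
    · intro h; exfalso; omega
  · rw [td4a4_kZ_eq q 18 1 0 0 0 (by decide) (by decide) (by decide) (by decide)]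
    refine ⟨?_, ?_, ?_⟩
    · omega
    · rw [← lt_sub_iff_add_lt, abs_lt]; constructor <;> omega
    · intro _; rfl
  · rw [td4a4_kZ_eq q 19 1 1 0 0 (by decide) (by decide) (by decide) (by decide)]
    refine ⟨?_, ?_, ?_⟩
    · omega
    · rw [← lt_sub_iff_add_lt, abs_lt]; constructor <;> omega
    · intro h; exfalso; omega
  · rw [td4a4_kZ_eq q 20 1 1 0 1 (by decide) (by decide) (by decide) (by decide)]
    refine ⟨?_, ?_, ?_⟩
    · omega
    · rw [← lt_sub_iff_add_lt, abs_lt]; constructor <;> omega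
    · intro h; exfalso; omega
  · rw [td4a4_kZ_eq q 21 1 1 1 0 (by decide) (by decide) (by decide) (by decide)]
    refine ⟨?_, ?_, ?_⟩
    · omega
    · rw [← lt_sub_iff_add_lt, abs_lt]; constructor <;> omega
    · intro h; exfalso; omega
  · rw [td4a4_kZ_eq q 22 1 1 1 1 (by decide) (by decide) (by decide) (by decide)]
    refine ⟨?_, ?_, ?_⟩
    · omega
    · rw [← lt_sub_iff_add_lt, abs_lt]; constructor <;> omega
    · intro h; exfalso; omega
  · rw [td4a4_kZ_eq q 23 1 2 1 1 (by decide) (by decide) (by decide) (by decide)]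
    refine ⟨?_, ?_, ?_⟩
    · omega
    · rw [← lt_sub_iff_add_lt, abs_lt]; constructor <;> omega
    · intro h; exfalso; omega

end Cfsg.Agent.Lib.helper8.TD4
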