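import Mathlib
import Cfsg.Agent.Lib.helper8.TD4.Defs
import Cfsg.Agent.Lib.helper17.TD4A4

/-!
# TD4 row A5 (`zpow_kZ_ne_one`), helper17.
Verbatim statement of `helper8/TD4/Skel.lean.txt`.  Own extras are prefixed `td4a5_`.
-/

set_option autoImplicit false

namespace Cfsg.Agent.Lib.helper8.TD4

open Cfsg.Lie Cfsg.Lie.ChevalleyDatum Cfsg.Agent.Lib.helper8 Matrix

universe u v

theorem td4a5_nT_pos (q : ℕ) (hq : 2 ≤ q) : 0 < nT q := by
  unfold nT
  have h1 : 2 ≤ q ^ 3 := le_trans hq (Nat.le_self_pow (by norm_num) q)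
  exact Nat.mul_pos (by omega) (by omega)

/-- in a field, `v ^ k = 1` (integer exponent) iff the order of `v` divides `k`, for `v` of positive
order. -/
theorem td4a5_zpow_eq_one_iff {E : Type v} [Field E] (v : E) (hv : 0 < orderOf v) (k : ℤ) :
    v ^ k = 1 ↔ (orderOf v : ℤ) ∣ k := by
  have hv0 : v ≠ 0 := by
    rintro rfl
    rw [orderOf_zero] at hv
    exact lt_irrefl _ hv
  have ho : orderOf (Units.mk0 v hv0) = orderOf v := by
    rw [← orderOf_units, Units.val_mk0]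
  rw [← ho, orderOf_dvd_iff_zpow_eq_one, ← Units.val_inj, Units.val_zpow_eq_zpow_val, Units.val_mk0,
    Units.val_one]

/-- **A5**. -/
theorem zpow_kZ_ne_one {E : Type v} [Field E] (q : ℕ) (hq : 2 ≤ q) (v : E) (hv : orderOf v = nT q) :
    ∀ r < 24, v ^ kZ q r ≠ 1 := by
  intro r hr h
  obtain ⟨h0, hlt, -⟩ := kZ_table q hq r hr
  rw [td4a5_zpow_eq_one_iff v (by rw [hv]; exact td4a5_nT_pos q hq), hv] at h
  exact h0 (Int.eq_zero_of_abs_lt_dvd h (by omega))

end Cfsg.Agent.Lib.helper8.TD4
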