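import Mathlib
import Cfsg.Agent.Lib.helper8.TD4.Defs
import Cfsg.Agent.Lib.helper17.TD4A5

/-!
# TD4 row A7 (`eq_pow_of_pow_nT`), helper17.  Verbatim statement of `helper8/TD4/Skel.lean.txt`.
-/

set_option autoImplicit false

namespace Cfsg.Agent.Lib.helper8.TD4

open Cfsg.Lie Cfsg.Lie.ChevalleyDatum Cfsg.Agent.Lib.helper8 Matrix

universe u v

/-- **A7**. -/
theorem eq_pow_of_pow_nT {E : Type v} [Field E] (q : ℕ) (hq : 2 ≤ q) (v w : E) (hv : orderOf v = nT q)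
    (hw : w ^ nT q = 1) : ∃ i : ℕ, w = v ^ i := by
  have hprim : IsPrimitiveRoot v (nT q) := by
    rw [← hv]; exact IsPrimitiveRoot.orderOf v
  haveI : NeZero (nT q) := ⟨(td4a5_nT_pos q hq).ne'⟩
  obtain ⟨i, -, hi⟩ := hprim.eq_pow_of_pow_eq_one hw
  exact ⟨i, hi.symm⟩

end Cfsg.Agent.Lib.helper8.TD4
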