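import Mathlib
import Cfsg.Agent.Lib.Helper27.AltFus.Defs

set_option autoImplicit false

/-! Piece O0 of project AltFus (S5165): basic calculus in the odd model. -/

namespace Cfsg.Agent.Lib.helper17.AltFus
open Cfsg.Agent.Lib.Helper27.AltFus Equiv

theorem nrm_mul {p : ℕ} [Fact p.Prime] {I : Type*} (π π' : Perm I) (a a' : I → (ZMod p)ˣ)
    (b b' : I → ZMod p) :
    nrm π a b * nrm π' a' b' =
      nrm (π * π') (fun i => a (π' i) * a' i) (fun i => (a (π' i) : ZMod p) * b' i + b (π' i)) := by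
  refine Equiv.ext ?_
  rintro ⟨i, x⟩
  rw [Perm.mul_apply, nrm_apply, nrm_apply, nrm_apply]
  refine Prod.ext rfl ?_
  simp only [Units.val_mul]
  ring

theorem nrm_one {p : ℕ} [Fact p.Prime] {I : Type*} :
    nrm (1 : Perm I) (1 : I → (ZMod p)ˣ) (0 : I → ZMod p) = 1 := by
  refine Equiv.ext ?_
  rintro ⟨i, x⟩
  rw [nrm_apply]
  simp

theorem nrm_inj {p : ℕ} [Fact p.Prime] {I : Type*} {π π' : Perm I} {a a' : I → (ZMod p)ˣ}
    {b b' : I → ZMod p} (h : nrm π a b = nrm π' a' b') : π = π' ∧ a = a' ∧ b = b' := by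
  have h0 : ∀ i x, nrm π a b (i, x) = nrm π' a' b' (i, x) := fun i x => by rw [h]
  simp only [nrm_apply, Prod.mk.injEq] at h0
  have hb : b = b' := by
    funext i
    have := (h0 i 0).2
    simpa using this
  refine ⟨Equiv.ext fun i => (h0 i 0).1, ?_, hb⟩
  funext i
  have := (h0 i 1).2
  rw [hb] at this
  apply Units.ext
  simpa using this

theorem ext_mul {p : ℕ} [Fact p.Prime] {m' r : ℕ} (f g : Perm (Blk p m' × ZMod p)) :
    (ext (f * g) : Perm (Mdl p m' r)) = ext f * ext g := by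
  refine Equiv.ext ?_
  rintro (q | k) <;> simp [Perm.mul_apply]

theorem ext_one {p : ℕ} [Fact p.Prime] {m' r : ℕ} :
    (ext (1 : Perm (Blk p m' × ZMod p)) : Perm (Mdl p m' r)) = 1 := by
  refine Equiv.ext ?_
  rintro (q | k) <;> simp

/-- `ext` as a monoid homomorphism -/
def extHom (p : ℕ) [Fact p.Prime] (m' r : ℕ) : Perm (Blk p m' × ZMod p) →* Perm (Mdl p m' r) where
  toFun := ext
  map_one' := ext_one
  map_mul' := ext_mul

theorem extHom_apply {p : ℕ} [Fact p.Prime] {m' r : ℕ} (f : Perm (Blk p m' × ZMod p)) :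
    extHom p m' r f = ext f := rfl

theorem ext_inv {p : ℕ} [Fact p.Prime] {m' r : ℕ} (f : Perm (Blk p m' × ZMod p)) :
    (ext f⁻¹ : Perm (Mdl p m' r)) = (ext f)⁻¹ := by
  rw [← extHom_apply, map_inv]; rfl

theorem ext_pow {p : ℕ} [Fact p.Prime] {m' r : ℕ} (f : Perm (Blk p m' × ZMod p)) (n : ℕ) :
    (ext (f ^ n) : Perm (Mdl p m' r)) = ext f ^ n := by
  rw [← extHom_apply, map_pow]; rfl

theorem ext_injective {p : ℕ} [Fact p.Prime] {m' r : ℕ} :
    Function.Injective (ext : Perm (Blk p m' × ZMod p) → Perm (Mdl p m' r)) := by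
  intro f g h
  refine Equiv.ext fun q => ?_
  have : (ext f : Perm (Mdl p m' r)) (Sum.inl q) = ext g (Sum.inl q) := by rw [h]
  simpa using this

theorem sign_ext {p : ℕ} [Fact p.Prime] {m' r : ℕ} (f : Perm (Blk p m' × ZMod p)) :
    Perm.sign (ext f : Perm (Mdl p m' r)) = Perm.sign f := by
  show Perm.sign (Equiv.Perm.sumCongr f 1) = Perm.sign f
  rw [Perm.sign_sumCongr]
  simp

/-- translations multiply by adding the translation vectors -/
theorem nrm11_mul {p : ℕ} [Fact p.Prime] {I : Type*} (b b' : I → ZMod p) :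
    nrm (1 : Perm I) (1 : I → (ZMod p)ˣ) b * nrm 1 1 b' = nrm 1 1 (b + b') := by
  refine Equiv.ext ?_
  rintro ⟨i, x⟩
  rw [Perm.mul_apply, nrm_apply, nrm_apply, nrm_apply]
  refine Prod.ext rfl ?_
  simp only [Pi.one_apply, Units.val_one, Pi.add_apply, Perm.coe_one, id_eq]
  ring

theorem nrm11_zero {p : ℕ} [Fact p.Prime] {I : Type*} :
    nrm (1 : Perm I) (1 : I → (ZMod p)ˣ) (0 : I → ZMod p) = 1 := nrm_one

theorem nrm11_inv {p : ℕ} [Fact p.Prime] {I : Type*} (b : I → ZMod p) :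
    (nrm (1 : Perm I) (1 : I → (ZMod p)ˣ) b)⁻¹ = nrm 1 1 (-b) := by
  rw [inv_eq_iff_mul_eq_one, nrm11_mul, add_neg_cancel, nrm11_zero]

theorem nrm11_apply {p : ℕ} [Fact p.Prime] {I : Type*} (b : I → ZMod p) (i : I) (x : ZMod p) :
    nrm (1 : Perm I) (1 : I → (ZMod p)ˣ) b (i, x) = (i, x + b i) := by
  rw [nrm_apply]; simp

theorem cyc_pow (p : ℕ) [Fact p.Prime] (m' : ℕ) (i : Blk p m') (n : ℕ) :
    cyc p m' i ^ n = nrm 1 1 (Pi.single i (n : ZMod p)) := by
  induction n with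
  | zero => simp [nrm11_zero]
  | succ n ih =>
    rw [pow_succ, ih, cyc, nrm11_mul, ← Pi.single_add, Nat.cast_succ]

theorem ext_cyc_apply_inl (p : ℕ) [Fact p.Prime] (m' r : ℕ) (i j : Blk p m') (x : ZMod p) :
    (ext (cyc p m' i) : Perm (Mdl p m' r)) (Sum.inl (j, x)) =
      Sum.inl (j, x + (Pi.single i 1 : Blk p m' → ZMod p) j) := by
  rw [ext_inl, cyc, nrm11_apply]

theorem support_cyc (p : ℕ) [Fact p.Prime] (m' r : ℕ) (i : Blk p m') (q : Mdl p m' r) :
    q ∈ (ext (cyc p m' i) : Perm (Mdl p m' r)).support ↔ ∃ x : ZMod p, q = Sum.inl (i, x) := by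
  rw [Perm.mem_support]
  rcases q with ⟨j, x⟩ | k
  · rw [ext_cyc_apply_inl]
    by_cases hji : j = i
    · subst hji
      simp
    · simp only [Pi.single_apply, hji, if_false, add_zero, ne_eq, not_true_eq_false, false_iff]
      rintro ⟨y, hy⟩
      exact hji (congrArg Prod.fst (Sum.inl_injective hy))
  · simp

theorem ext_cyc_pow_p (p : ℕ) [Fact p.Prime] (m' r : ℕ) (i : Blk p m') :
    (ext (cyc p m' i) : Perm (Mdl p m' r)) ^ p = 1 := by
  rw [← ext_pow, cyc_pow, ZMod.natCast_self, Pi.single_zero, nrm11_zero, ext_one]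

theorem ext_cyc_ne_one (p : ℕ) [Fact p.Prime] (m' r : ℕ) (i : Blk p m') :
    (ext (cyc p m' i) : Perm (Mdl p m' r)) ≠ 1 := by
  intro h
  have := (support_cyc p m' r i (Sum.inl (i, 0))).2 ⟨0, rfl⟩
  rw [h] at this
  simp at this

theorem orderOf_ext_cyc (p : ℕ) [Fact p.Prime] (m' r : ℕ) (i : Blk p m') :
    orderOf (ext (cyc p m' i) : Perm (Mdl p m' r)) = p :=
  orderOf_eq_prime (ext_cyc_pow_p p m' r i) (ext_cyc_ne_one p m' r i)

theorem support_ext_cyc_eq (p : ℕ) [Fact p.Prime] (m' r : ℕ) (i : Blk p m') :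
    (ext (cyc p m' i) : Perm (Mdl p m' r)).support =
      Finset.image (fun x : ZMod p => (Sum.inl (i, x) : Mdl p m' r)) Finset.univ := by
  ext q
  rw [support_cyc, Finset.mem_image]
  constructor
  · rintro ⟨x, rfl⟩; exact ⟨x, Finset.mem_univ _, rfl⟩
  · rintro ⟨x, -, rfl⟩; exact ⟨x, rfl⟩

theorem card_support_ext_cyc (p : ℕ) [Fact p.Prime] (m' r : ℕ) (i : Blk p m') :
    (ext (cyc p m' i) : Perm (Mdl p m' r)).support.card = p := by
  rw [support_ext_cyc_eq, Finset.card_image_of_injective, Finset.card_univ, ZMod.card]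
  intro x y h
  exact congrArg Prod.snd (Sum.inl_injective h)

theorem cycleType_cyc (p : ℕ) [Fact p.Prime] (m' r : ℕ) (i : Blk p m') :
    (ext (cyc p m' i) : Perm (Mdl p m' r)).cycleType = {p} := by
  have hp : (orderOf (ext (cyc p m' i) : Perm (Mdl p m' r))).Prime := by
    rw [orderOf_ext_cyc]; exact Fact.out
  obtain ⟨n, hn⟩ := Perm.cycleType_prime_order hp
  have hs := Perm.sum_cycleType (ext (cyc p m' i) : Perm (Mdl p m' r))
  rw [hn, card_support_ext_cyc, orderOf_ext_cyc, Multiset.sum_replicate, smul_eq_mul] at hs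
  have hp0 : 0 < p := (Fact.out : p.Prime).pos
  have hn0 : n = 0 := by nlinarith
  rw [hn, hn0, orderOf_ext_cyc]
  rfl

theorem ext_nrm11_single_mem (p : ℕ) [Fact p.Prime] (m' r : ℕ) (i : Blk p m') (t : ZMod p) :
    (ext (nrm 1 1 (Pi.single i t)) : Perm (Mdl p m' r)) ∈ B0 p m' r := by
  have h0 : (ext (cyc p m' i) : Perm (Mdl p m' r)) ∈ B0 p m' r :=
    Subgroup.subset_closure (Set.mem_range_self i)
  have h : (ext (cyc p m' i) : Perm (Mdl p m' r)) ^ t.val ∈ B0 p m' r := pow_mem h0 _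
  rwa [← ext_pow, cyc_pow, ZMod.natCast_zmod_val] at h

theorem ext_nrm11_mem (p : ℕ) [Fact p.Prime] (m' r : ℕ) (b : Blk p m' → ZMod p) :
    (ext (nrm 1 1 b) : Perm (Mdl p m' r)) ∈ B0 p m' r := by
  have key : ∀ s : Finset (Blk p m'),
      (ext (nrm 1 1 (∑ i ∈ s, Pi.single i (b i))) : Perm (Mdl p m' r)) ∈ B0 p m' r := by
    intro s
    induction s using Finset.induction_on with
    | empty => rw [Finset.sum_empty, nrm11_zero, ext_one]; exact one_mem _
    | insert j s hj ih =>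
      rw [Finset.sum_insert hj, ← nrm11_mul, ext_mul]
      exact mul_mem (ext_nrm11_single_mem p m' r j (b j)) ih
  have := key Finset.univ
  rwa [Finset.univ_sum_single] at this

theorem mem_B0_iff (p : ℕ) [Fact p.Prime] (m' r : ℕ) (g : Perm (Mdl p m' r)) :
    g ∈ B0 p m' r ↔ ∃ b : Blk p m' → ZMod p, g = ext (nrm 1 1 b) := by
  constructor
  · intro hg
    unfold B0 at hg
    induction hg using Subgroup.closure_induction with
    | mem x hx =>
      obtain ⟨i, rfl⟩ := hx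
      exact ⟨Pi.single i 1, rfl⟩
    | one => exact ⟨0, by rw [nrm11_zero, ext_one]⟩
    | mul x y _ _ hx hy =>
      obtain ⟨b, rfl⟩ := hx
      obtain ⟨b', rfl⟩ := hy
      exact ⟨b + b', by rw [← ext_mul, nrm11_mul]⟩
    | inv x _ hx =>
      obtain ⟨b, rfl⟩ := hx
      exact ⟨-b, by rw [← ext_inv, nrm11_inv]⟩
  · rintro ⟨b, rfl⟩
    exact ext_nrm11_mem p m' r b

/-- the `p`-cycles lying in `B0` -/
theorem cycleType_mem_B0 (p : ℕ) [Fact p.Prime] (m' r : ℕ) (g : Perm (Mdl p m' r))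
    (hg : g ∈ B0 p m' r) (hc : g.cycleType = {p}) :
    ∃ (i : Blk p m') (t : ZMod p), t ≠ 0 ∧ g = ext (nrm 1 1 (Pi.single i t)) := by
  obtain ⟨b, rfl⟩ := (mem_B0_iff p m' r g).1 hg
  have hcyc : (ext (nrm 1 1 b) : Perm (Mdl p m' r)).IsCycle := by
    rw [← Perm.card_cycleType_eq_one, hc]; rfl
  obtain ⟨q, hq, hsame⟩ := hcyc
  rcases q with ⟨i, x⟩ | k
  swap
  · exact absurd (ext_inr _ k) hq
  have hbi : b i ≠ 0 := by
    intro h0
    apply hq
    rw [ext_inl, nrm11_apply, h0, add_zero]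
  refine ⟨i, b i, hbi, ?_⟩
  congr 2
  funext j
  by_cases hji : j = i
  · subst hji; simp
  · rw [Pi.single_apply, if_neg hji]
    by_contra hbj
    have hmv : (ext (nrm 1 1 b) : Perm (Mdl p m' r)) (Sum.inl (j, 0)) ≠ Sum.inl (j, 0) := by
      rw [ext_inl, nrm11_apply, zero_add]
      intro h
      exact hbj (congrArg Prod.snd (Sum.inl_injective h))
    obtain ⟨n, hn⟩ := hsame hmv
    have hmem : (ext (nrm 1 1 b) : Perm (Mdl p m' r)) ^ n ∈ B0 p m' r :=
      zpow_mem (ext_nrm11_mem p m' r b) n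
    obtain ⟨b', hb'⟩ := (mem_B0_iff p m' r _).1 hmem
    rw [hb', ext_inl, nrm11_apply] at hn
    exact hji (congrArg Prod.fst (Sum.inl_injective hn)).symm

end Cfsg.Agent.Lib.helper17.AltFus
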