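import Mathlib
import Cfsg.Agent.Lib.Helper27.AltFus.Defs
import Cfsg.Agent.Lib.helper17.AltFusO0

set_option autoImplicit false

/-! Piece O2 of project AltFus (S5165): centralizer and normalizer of the base group. -/

namespace Cfsg.Agent.Lib.helper17.AltFus
open Cfsg.Agent.Lib.Helper27.AltFus Equiv

/-- the core computation: if `g * c_i = h * g` with `h` the translation by `t` on block `j`, then
`g` maps block `i` to block `j` by an affine map of slope `t` -/
theorem intertwine_block (p : ℕ) [Fact p.Prime] (m' r : ℕ) (g : Perm (Mdl p m' r))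
    (i j : Blk p m') (t : ZMod p)
    (h : g * ext (cyc p m' i) = ext (nrm 1 1 (Pi.single j t)) * g) :
    ∃ y0 : ZMod p, ∀ x : ZMod p, g (Sum.inl (i, x)) = Sum.inl (j, t * x + y0) := by
  have hpt : ∀ q : Mdl p m' r, g (ext (cyc p m' i) q) = ext (nrm 1 1 (Pi.single j t)) (g q) := by
    intro q
    have := congrArg (fun f : Perm (Mdl p m' r) => f q) h
    simpa [Perm.mul_apply] using this
  -- the image of `(i, 0)` is moved by `h`
  have hmv : ext (nrm 1 1 (Pi.single j t)) (g (Sum.inl (i, 0))) ≠ g (Sum.inl (i, 0)) := by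
    rw [← hpt, ext_cyc_apply_inl]
    intro h0
    have := congrArg Prod.snd (Sum.inl_injective (g.injective h0))
    simp at this
  have h0 : ∃ y0 : ZMod p, g (Sum.inl (i, 0)) = Sum.inl (j, y0) := by
    rcases hq : g (Sum.inl (i, 0)) with ⟨j', y⟩ | k
    · rw [hq, ext_inl, nrm11_apply] at hmv
      by_cases hj : j' = j
      · subst hj; exact ⟨y, rfl⟩
      · exfalso; apply hmv
        rw [Pi.single_apply, if_neg hj, add_zero]
    · rw [hq, ext_inr] at hmv
      exact absurd rfl hmv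
  obtain ⟨y0, hy0⟩ := h0
  refine ⟨y0, ?_⟩
  have hn : ∀ n : ℕ, g (Sum.inl (i, (n : ZMod p))) = Sum.inl (j, t * (n : ZMod p) + y0) := by
    intro n
    induction n with
    | zero => simpa using hy0
    | succ n ih =>
      have h1 : (Sum.inl (i, ((n + 1 : ℕ) : ZMod p)) : Mdl p m' r) =
          ext (cyc p m' i) (Sum.inl (i, (n : ZMod p))) := by
        rw [ext_cyc_apply_inl]; simp
      rw [h1, hpt, ih, ext_inl, nrm11_apply]
      simp only [Pi.single_eq_same, Nat.cast_succ]
      congr 2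
      ring
  intro x
  have := hn x.val
  rwa [ZMod.natCast_zmod_val] at this

theorem perm_inv_apply_self' {α : Type*} (f : Perm α) (x : α) : f⁻¹ (f x) = x := by simp

theorem perm_apply_inv_self' {α : Type*} (f : Perm α) (x : α) : f (f⁻¹ x) = x := by simp

theorem fin_eq_of_le_one {r : ℕ} (hr : r ≤ 1) (k k' : Fin r) : k = k' := by
  have : Subsingleton (Fin r) := Fin.subsingleton_iff_le_one.2 hr
  exact Subsingleton.elim _ _

theorem centralizer_B0 (p : ℕ) [Fact p.Prime] (m' r : ℕ) (hr : r ≤ 1) (g : Perm (Mdl p m' r))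
    (hg : ∀ i : Blk p m', g * ext (cyc p m' i) = ext (cyc p m' i) * g) : g ∈ B0 p m' r := by
  have hc : ∀ i, ∃ y0 : ZMod p, ∀ x : ZMod p,
      g (Sum.inl (i, x)) = Sum.inl (i, 1 * x + y0) := fun i =>
    intertwine_block p m' r g i i 1 (hg i)
  have hc' : ∀ i, ∃ y0 : ZMod p, ∀ x : ZMod p,
      g⁻¹ (Sum.inl (i, x)) = Sum.inl (i, 1 * x + y0) := fun i =>
    intertwine_block p m' r g⁻¹ i i 1 (by
      show g⁻¹ * ext (cyc p m' i) = ext (cyc p m' i) * g⁻¹
      rw [inv_mul_eq_iff_eq_mul, ← mul_assoc, hg i, mul_inv_cancel_right])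
  choose b hb using hc
  choose b' hb' using hc'
  rw [mem_B0_iff]
  refine ⟨b, Equiv.ext ?_⟩
  rintro (⟨i, x⟩ | k)
  · rw [hb, ext_inl, nrm11_apply, one_mul]
  · rw [ext_inr]
    rcases hgk : g (Sum.inr k) with ⟨j, y⟩ | k'
    · exfalso
      have := hb' j y
      rw [← hgk, perm_inv_apply_self'] at this
      exact Sum.inr_ne_inl this
    · exact congrArg Sum.inr (fin_eq_of_le_one hr k' k)

/-- an element of the normalizer of `B0` acts on the block part by a map of the form `nrm` -/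
theorem normalizer_B0_pts (p : ℕ) [Fact p.Prime] (m' r : ℕ) (g : Perm (Mdl p m' r))
    (hg : g ∈ Subgroup.normalizer ((B0 p m' r : Subgroup (Perm (Mdl p m' r))) : Set (Perm (Mdl p m' r)))) :
    ∃ (π : Blk p m' → Blk p m') (a : Blk p m' → (ZMod p)ˣ) (b : Blk p m' → ZMod p),
      ∀ i x, g (Sum.inl (i, x)) = Sum.inl (π i, (a i : ZMod p) * x + b i) := by
  have h1 : ∀ i, ∃ (j : Blk p m') (t : ZMod p), t ≠ 0 ∧
      g * ext (cyc p m' i) * g⁻¹ = ext (nrm 1 1 (Pi.single j t)) := by
    intro i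
    have hmem : g * ext (cyc p m' i) * g⁻¹ ∈ B0 p m' r :=
      (Subgroup.mem_normalizer_iff.1 hg _).1 (Subgroup.subset_closure (Set.mem_range_self i))
    have hct : (g * ext (cyc p m' i) * g⁻¹).cycleType = {p} := by
      rw [Perm.cycleType_conj, cycleType_cyc]
    exact cycleType_mem_B0 p m' r _ hmem hct
  choose π t ht hconj using h1
  have h2 : ∀ i, ∃ y0 : ZMod p, ∀ x : ZMod p,
      g (Sum.inl (i, x)) = Sum.inl (π i, t i * x + y0) := fun i =>
    intertwine_block p m' r g i (π i) (t i) (by rw [← hconj i, inv_mul_cancel_right])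
  choose b hb using h2
  exact ⟨π, fun i => Units.mk0 (t i) (ht i), b, fun i x => by rw [hb]; rfl⟩

theorem normalizer_B0_form (p : ℕ) [Fact p.Prime] (m' r : ℕ) (hr : r ≤ 1) (g : Perm (Mdl p m' r))
    (hg : g ∈ Subgroup.normalizer ((B0 p m' r : Subgroup (Perm (Mdl p m' r))) : Set (Perm (Mdl p m' r)))) :
    ∃ (π : Perm (Blk p m')) (a : Blk p m' → (ZMod p)ˣ) (b : Blk p m' → ZMod p),
      g = ext (nrm π a b) := by
  obtain ⟨π, a, b, h⟩ := normalizer_B0_pts p m' r g hg
  obtain ⟨π', a', b', h'⟩ := normalizer_B0_pts p m' r g⁻¹ (inv_mem hg)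
  have hl : ∀ i, π' (π i) = i := by
    intro i
    have := h' (π i) ((a i : ZMod p) * 0 + b i)
    rw [← h i 0, perm_inv_apply_self'] at this
    exact (congrArg Prod.fst (Sum.inl_injective this)).symm
  have hr' : ∀ j, π (π' j) = j := by
    intro j
    have := h (π' j) ((a' j : ZMod p) * 0 + b' j)
    rw [← h' j 0, perm_apply_inv_self'] at this
    exact (congrArg Prod.fst (Sum.inl_injective this)).symm
  refine ⟨⟨π, π', hl, hr'⟩, a, b, Equiv.ext ?_⟩
  rintro (⟨i, x⟩ | k)
  · rw [h, ext_inl, nrm_apply]; rfl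
  · rw [ext_inr]
    rcases hgk : g (Sum.inr k) with ⟨j, y⟩ | k'
    · exfalso
      have := h' j y
      rw [← hgk, perm_inv_apply_self'] at this
      exact Sum.inr_ne_inl this
    · exact congrArg Sum.inr (fin_eq_of_le_one hr k' k)

/-- conjugating a translation by `nrm π a b` gives a translation -/
theorem nrm_mul_nrm11 {p : ℕ} [Fact p.Prime] {I : Type*} (π : Perm I) (a : I → (ZMod p)ˣ)
    (b c : I → ZMod p) :
    nrm π a b * nrm 1 1 c =
      nrm 1 1 (fun j => (a (π.symm j) : ZMod p) * c (π.symm j)) * nrm π a b := by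
  refine Equiv.ext ?_
  rintro ⟨i, x⟩
  simp only [Perm.mul_apply, nrm_apply, Equiv.symm_apply_apply]
  refine Prod.ext rfl ?_
  simp only [Perm.coe_one, id_eq, Pi.one_apply, Units.val_one]
  ring

theorem nrm_mem_normalizer_B0 (p : ℕ) [Fact p.Prime] (m' r : ℕ) (π : Perm (Blk p m'))
    (a : Blk p m' → (ZMod p)ˣ) (b : Blk p m' → ZMod p) :
    (ext (nrm π a b) : Perm (Mdl p m' r)) ∈
      Subgroup.normalizer ((B0 p m' r : Subgroup (Perm (Mdl p m' r))) : Set (Perm (Mdl p m' r))) := by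
  apply Subgroup.mem_normalizer_fintype
  intro n hn
  obtain ⟨c, rfl⟩ := (mem_B0_iff p m' r n).1 hn
  rw [SetLike.mem_coe, ← ext_mul, nrm_mul_nrm11, ext_mul, mul_inv_cancel_right]
  exact ext_nrm11_mem p m' r _

end Cfsg.Agent.Lib.helper17.AltFus
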