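import Mathlib
import Cfsg.Agent.Lib.Helper16.OCnt2

set_option autoImplicit false

/-!
# Type transfer along the trace of a quadratic extension of finite fields (helper17; for project C3Q)

`K / F` finite fields with `#K = (#F)²`, `g : W → K` taking every non-zero value equally often.
Then `#{w : tr (g w) = 0} = cnt g 0 + (q - 1) cnt g 1`, and a counting type `IsType g e s` over `K`
(`#W = #K ^ (2 e)`) gives the counting type `IsType (tr ∘ g) (2 e) s` over `F`.
-/

namespace Cfsg.Agent.Lib.helper17.C3QTT

open Module Cfsg.Agent.Lib.Helper16.OSemi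

/-- the kernel of the trace of a quadratic extension of finite fields has `q` elements -/
theorem c3qtt_card_ker {F K : Type*} [Field F] [Fintype F] [Field K] [Fintype K] [Algebra F K]
    (hK : Fintype.card K = Fintype.card F ^ 2) :
    Nat.card {c : K // Algebra.trace F K c = 0} = Fintype.card F := by
  classical
  have hq : 2 ≤ Fintype.card F := Fintype.one_lt_card
  have hfin : finrank F K = 2 := by
    have h1 := Module.card_eq_pow_finrank (K := F) (V := K)
    rw [hK] at h1
    exact (Nat.pow_right_injective hq h1).symm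
  have hsurj : Function.Surjective (Algebra.trace F K) := Algebra.trace_surjective F K
  have hrange : LinearMap.range (Algebra.trace F K) = ⊤ := LinearMap.range_eq_top.mpr hsurj
  have h2 := LinearMap.finrank_range_add_finrank_ker (Algebra.trace F K)
  rw [hrange, finrank_top, finrank_self, hfin] at h2
  have hker : finrank F (LinearMap.ker (Algebra.trace F K)) = 1 := by omega
  have h3 := Module.card_eq_pow_finrank (K := F) (V := LinearMap.ker (Algebra.trace F K))
  rw [hker, pow_one] at h3
  rw [← h3, Nat.card_eq_fintype_card]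
  apply Fintype.card_congr
  exact Equiv.subtypeEquivRight (fun c => by rw [LinearMap.mem_ker])

/-- zeros of `tr ∘ g` when `g` takes all non-zero values equally often -/
theorem c3qtt_count {F K : Type*} [Field F] [Fintype F] [Field K] [Fintype K] [Algebra F K]
    (hK : Fintype.card K = Fintype.card F ^ 2) {W : Type*} [Finite W] (g : W → K)
    (hconst : ∀ c : K, c ≠ 0 → cnt g c = cnt g 1) :
    cnt (fun w => Algebra.trace F K (g w)) 0 = cnt g 0 + (Fintype.card F - 1) * cnt g 1 := by
  classical
  haveI : Fintype W := Fintype.ofFinite W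
  have hsig : cnt (fun w => Algebra.trace F K (g w)) 0 =
      ∑ c : {c : K // Algebra.trace F K c = 0}, cnt g c.1 := by
    unfold cnt
    rw [← Nat.card_sigma]
    apply Nat.card_congr
    refine
      { toFun := fun w => ⟨⟨g w.1, w.2⟩, ⟨w.1, rfl⟩⟩
        invFun := fun x => ⟨x.2.1, ?_⟩
        left_inv := fun w => rfl
        right_inv := ?_ }
    · have h1 : g x.2.1 = x.1.1 := x.2.2
      show Algebra.trace F K (g x.2.1) = 0
      rw [h1]
      exact x.1.2
    · rintro ⟨⟨c, hc⟩, ⟨w, hw⟩⟩
      have hw' : g w = c := hw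
      subst hw'
      rfl
  have h0 : Algebra.trace F K (0 : K) = 0 := map_zero _
  rw [hsig, ← Finset.add_sum_erase Finset.univ _ (Finset.mem_univ (⟨0, h0⟩ : {c : K // Algebra.trace F K c = 0}))]
  congr 1
  have h3 : ∀ c ∈ Finset.univ.erase (⟨0, h0⟩ : {c : K // Algebra.trace F K c = 0}), cnt g c.1 = cnt g 1 := by
    intro c hc
    apply hconst
    intro hc0
    exact Finset.ne_of_mem_erase hc (Subtype.ext hc0)
  rw [Finset.sum_congr rfl h3, Finset.sum_const, Finset.card_erase_of_mem (Finset.mem_univ _),
    Finset.card_univ, smul_eq_mul, ← Nat.card_eq_fintype_card, c3qtt_card_ker hK]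

/-- TYPE TRANSFER: a counting type over `K` gives the same counting type over `F` for `tr ∘ g` -/
theorem c3qtt_isType {F K : Type*} [Field F] [Fintype F] [Field K] [Fintype K] [Algebra F K]
    (hK : Fintype.card K = Fintype.card F ^ 2) {W : Type*} [Finite W] (g : W → K)
    (hconst : ∀ c : K, c ≠ 0 → cnt g c = cnt g 1) (e : ℕ) (s : ℤ)
    (hW : Nat.card W = Fintype.card K ^ (2 * e)) (hty : IsType g e s) :
    IsType (fun w => Algebra.trace F K (g w)) (2 * e) s := by
  classical
  have hcount := c3qtt_count hK g hconst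
  -- `Z + (Q - 1) N = Q ^ (2 e)`
  have htot := cnt_total (F := K) g
  rw [hW, ← Finset.add_sum_erase Finset.univ _ (Finset.mem_univ (0 : K))] at htot
  have h3 : ∀ c ∈ Finset.univ.erase (0 : K), cnt g c = cnt g 1 := fun c hc =>
    hconst c (Finset.ne_of_mem_erase hc)
  rw [Finset.sum_congr rfl h3, Finset.sum_const, Finset.card_erase_of_mem (Finset.mem_univ _),
    Finset.card_univ, smul_eq_mul] at htot
  unfold IsType at hty ⊢
  rw [hcount]
  have hq1 : 1 ≤ Fintype.card F := Fintype.card_pos
  have hQ1 : 1 ≤ Fintype.card K := Fintype.card_pos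
  obtain ⟨q, hqdef⟩ : ∃ q : ℤ, q = (Fintype.card F : ℤ) := ⟨_, rfl⟩
  have hKq : (Fintype.card K : ℤ) = q ^ 2 := by rw [hK, hqdef]; push_cast; ring
  have h2 : (cnt g 0 : ℤ) + (q ^ 2 - 1) * (cnt g 1 : ℤ) = (q ^ 2) ^ (2 * e) := by
    have := congrArg (fun n : ℕ => (n : ℤ)) htot
    simp only [Nat.cast_add, Nat.cast_mul, Nat.cast_pow, Nat.cast_sub hQ1, Nat.cast_one] at this
    rw [hKq] at this
    exact this
  rw [hKq] at hty
  push_cast [Nat.cast_sub hq1]
  rw [← hqdef]
  have hq0 : q * (q + 1) ≠ 0 := by
    have : (2 : ℤ) ≤ q := by rw [hqdef]; exact_mod_cast Fintype.one_lt_card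
    apply mul_ne_zero <;> omega
  apply mul_left_cancel₀ hq0
  linear_combination q * hty + q ^ 2 * h2

end Cfsg.Agent.Lib.helper17.C3QTT
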