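import Mathlib
import Cfsg.Agent.Lib.Helper10.C3Q.Defs
import Cfsg.Agent.Lib.Helper16.SpinAdjust2
import Cfsg.Agent.Lib.Helper16.OCnt2
import Cfsg.Agent.Lib.helper17.C3QTT

set_option autoImplicit false

/-!
# Project C3Q, row KTYPE (`k_type`) (helper17): the trace form of a `K`-form of type `s` has type `s`.
-/

namespace Cfsg.Agent.Lib.Helper10.C3Q

open Matrix Module Cfsg.Agent.Lib.Helper13.OTS Cfsg.Agent.Lib.Helper16

universe u

variable {F : Type u} [Field F] {ι : Type} [Fintype ι] [DecidableEq ι]

/-- a nondegenerate even-dimensional form over a finite field takes every non-zero value equally often (coordinate-free) -/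
theorem c3qktype_const {K : Type*} [Field K] [Fintype K] {V : Type*} [AddCommGroup V] [Module K V]
    [FiniteDimensional K V] (QK : QuadraticForm K V)
    (hQK : (QuadraticMap.polarBilin QK).Nondegenerate) (m : ℕ) (hm : 1 ≤ m)
    (hdim : Module.finrank K V = 2 * m) (c : K) (hc : c ≠ 0) :
    OSemi.cnt (⇑QK) c = OSemi.cnt (⇑QK) 1 := by
  classical
  let b := Module.finBasis K V
  let e : (Fin (finrank K V) → K) ≃ₗ[K] V := b.equivFun.symm
  let Q' : QuadraticForm K (Fin (finrank K V) → K) := QK.comp e.toLinearMap
  have hQ' : ∀ v, Q' v = QK (e v) := fun v => rfl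
  have hpol : ∀ x y, QuadraticMap.polarBilin Q' x y = QuadraticMap.polarBilin QK (e x) (e y) := by
    intro x y
    rw [QuadraticMap.polarBilin_apply_apply, QuadraticMap.polarBilin_apply_apply]
    unfold QuadraticMap.polar
    rw [hQ', hQ', hQ', map_add]
  have hnd : (QuadraticMap.polarBilin Q').Nondegenerate := by
    constructor
    · intro x hx
      have h1 : e x = 0 := by
        apply hQK.1
        intro y
        have := hx (e.symm y)
        rw [hpol, LinearEquiv.apply_symm_apply] at this
        exact this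
      exact e.map_eq_zero_iff.mp h1
    · intro y hy
      have h1 : e y = 0 := by
        apply hQK.2
        intro x
        have := hy (e.symm x)
        rw [hpol, LinearEquiv.apply_symm_apply] at this
        exact this
      exact e.map_eq_zero_iff.mp h1
  have hcard : Fintype.card (Fin (finrank K V)) = 2 * m := by rw [Fintype.card_fin, hdim]
  have h1 : OSemi.cnt (⇑Q') c = OSemi.cnt (⇑Q') 1 :=
    OSemi.cnt_const Q' hnd (by rw [hcard]; exact even_two_mul m) (by omega) c hc
  have h2 : ∀ a : K, OSemi.cnt (⇑Q') a = OSemi.cnt (⇑QK) a := fun a =>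
    OSemi.cnt_congr e.toEquiv (⇑QK) (⇑Q') (fun v => (hQ' v).symm) a
  rw [← h2, ← h2]
  exact h1

/-- KTYPE [L] -/
theorem k_type [Fintype F] {K : Type*} [Field K] [Fintype K] [Algebra F K]
    (hcard : Fintype.card K = Fintype.card F ^ 2) {V : Type*} [AddCommGroup V] [Module K V] [Module F V]
    [IsScalarTower F K V] [FiniteDimensional K V] [Fintype V] (QK : QuadraticForm K V)
    (hQK : (QuadraticMap.polarBilin QK).Nondegenerate) (m : ℕ) (hm : 1 ≤ m)
    (hdim : Module.finrank K V = 2 * m) (s : ℤ) (hs : OSemi.IsType (⇑QK) m s) :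
    OSemi.IsType (fun v : V => Algebra.trace F K (QK v)) (2 * m) s := by
  have hW : Nat.card V = Fintype.card K ^ (2 * m) := by
    rw [Nat.card_eq_fintype_card, Module.card_eq_pow_finrank (K := K) (V := V), hdim]
  exact Cfsg.Agent.Lib.helper17.C3QTT.c3qtt_isType hcard (⇑QK)
    (fun c hc => c3qktype_const QK hQK m hm hdim c hc) m s hW hs

end Cfsg.Agent.Lib.Helper10.C3Q
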