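import Mathlib
import Cfsg.Agent.Lib.Helper18.OPE.Defs
import Cfsg.Agent.Lib.Helper18.ONE.Defs

set_option autoImplicit false

/-!
# Project OPE, row QOTY (`q_oty`) (helper17): in odd characteristic `QTy` / `QHyp` are ONE's `OTy` / `SHyp` of the polar form.
-/

namespace Cfsg.Agent.Lib.Helper18.OPE

open Polynomial Module Cfsg.Agent.Lib.Helper13.S5955 Cfsg.Agent.Lib.helper15.S5972

/-- `polar Q w w = 2 Q w` -/
theorem opeqoty_polar_self {F : Type*} [Field F] {V : Type*} [AddCommGroup V] [Module F V]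
    (Q : QuadraticForm F V) (w : V) : QuadraticMap.polarBilin Q w w = 2 * Q w := by
  rw [QuadraticMap.polarBilin_apply_apply, QuadraticMap.polar_self, two_smul, two_mul]

/-- QOTY [S-M] -/
theorem q_oty {F : Type*} [Field F] [Fintype F] (h2 : (2 : F) ≠ 0)
    {V : Type*} [AddCommGroup V] [Module F V] (Q : QuadraticForm F V) (W : Submodule F V) (s : ℤ) :
    (QTy Q W s ↔ Cfsg.Agent.Lib.Helper18.ONE.OTy (QuadraticMap.polarBilin Q) W s) ∧
      (QHyp Q W ↔ Cfsg.Agent.Lib.Helper18.ONE.SHyp (QuadraticMap.polarBilin Q) W) := by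
  constructor
  · unfold QTy Cfsg.Agent.Lib.Helper18.ONE.OTy Cfsg.Agent.Lib.Helper16.OSemi.IsType
    have hc : Cfsg.Agent.Lib.Helper16.OSemi.cnt (fun w : ↥W => Q (w : V)) 0 =
        Cfsg.Agent.Lib.Helper16.OSemi.cnt
          (fun w : ↥W => QuadraticMap.polarBilin Q (w : V) (w : V)) 0 := by
      unfold Cfsg.Agent.Lib.Helper16.OSemi.cnt
      apply Nat.card_congr
      refine Equiv.subtypeEquivRight (fun w => ?_)
      show Q (w : V) = 0 ↔ QuadraticMap.polarBilin Q (w : V) (w : V) = 0
      rw [opeqoty_polar_self]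
      constructor
      · intro h; rw [h, mul_zero]
      · intro h
        rcases mul_eq_zero.mp h with h | h
        · exact absurd h h2
        · exact h
    rw [hc]
  · have hU : ∀ U : Submodule F V, (∀ u ∈ U, Q u = 0) ↔ STI (QuadraticMap.polarBilin Q) U := by
      intro U
      constructor
      · intro h u hu v hv
        rw [QuadraticMap.polarBilin_apply_apply]
        unfold QuadraticMap.polar
        rw [h u hu, h v hv, h (u + v) (U.add_mem hu hv)]
        ring
      · intro h u hu
        have h1 := h u hu u hu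
        rw [opeqoty_polar_self] at h1
        rcases mul_eq_zero.mp h1 with h | h
        · exact absurd h h2
        · exact h
    unfold QHyp Cfsg.Agent.Lib.Helper18.ONE.SHyp
    constructor
    · rintro ⟨U, hUW, hU0, hUd⟩
      exact ⟨U, hUW, (hU U).mp hU0, hUd⟩
    · rintro ⟨U, hUW, hU0, hUd⟩
      exact ⟨U, hUW, (hU U).mpr hU0, hUd⟩

end Cfsg.Agent.Lib.Helper18.OPE
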