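import Mathlib
import Cfsg.Agent.Lib.Helper10.C3Q.Defs
import Cfsg.Agent.Lib.Helper16.SpinAdjust2
import Cfsg.Agent.Lib.helper17.OPEQTYSUM
import Cfsg.Agent.Lib.helper17.OPEQOTY
import Cfsg.Agent.Lib.helper17.ONENDPERPS

set_option autoImplicit false

/-!
# Project C3Q, row SPLNEG (`s_planes_neg`) (helper17): an isometry with `x² = -1` decomposes the space into planes `⟨e j, x e j⟩`.
-/

namespace Cfsg.Agent.Lib.Helper10.C3Q

open Matrix Module Cfsg.Agent.Lib.Helper13.OTS Cfsg.Agent.Lib.Helper16

universe u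

variable {F : Type u} [Field F] {ι : Type} [Fintype ι] [DecidableEq ι]

/-- the abstract induction: invariant nondegenerate subspaces of dimension `2k` carry `k` pairwise orthogonal planes `⟨e j, X e j⟩` -/
theorem c3qsplneg_core {F : Type*} [Field F] (h2 : (2 : F) ≠ 0) {V : Type*} [AddCommGroup V] [Module F V]
    [FiniteDimensional F V] (Q : QuadraticForm F V) (X : Module.End F V)
    (hpres : ∀ v, Q (X v) = Q v) (hsq : ∀ v, X (X v) = -v) :
    ∀ (k : ℕ) (E : Submodule F V), finrank F E = 2 * k → (∀ v ∈ E, X v ∈ E) →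
      Cfsg.Agent.Lib.Helper13.S5955.SND (QuadraticMap.polarBilin Q) E →
      ∃ e : Fin k → V, (∀ j, e j ∈ E) ∧ (∀ j, Q (e j) ≠ 0) ∧
        ∀ i j, i ≠ j → QuadraticMap.polarBilin Q (e i) (e j) = 0 ∧
          QuadraticMap.polarBilin Q (e i) (X (e j)) = 0 ∧
          QuadraticMap.polarBilin Q (X (e i)) (X (e j)) = 0 := by
  set B := QuadraticMap.polarBilin Q with hB
  have hsymm : ∀ u v, B u v = B v u := Cfsg.Agent.Lib.Helper18.OPE.opeqtysum_symm Q
  have hBX : ∀ u v, B (X u) (X v) = B u v := by
    intro u v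
    rw [hB, QuadraticMap.polarBilin_apply_apply, QuadraticMap.polarBilin_apply_apply]
    unfold QuadraticMap.polar
    rw [← map_add, hpres, hpres, hpres]
  have hself : ∀ v, B v v = 2 * Q v := fun v => Cfsg.Agent.Lib.Helper18.OPE.opeqoty_polar_self Q v
  have hort : ∀ v, B v (X v) = 0 := by
    intro v
    have h1 : B v (X v) = - B v (X v) := by
      calc B v (X v) = B (X v) (X (X v)) := (hBX v (X v)).symm
        _ = B (X v) (-v) := by rw [hsq]
        _ = - B (X v) v := by rw [map_neg]
        _ = - B v (X v) := by rw [hsymm]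
    have h3 : 2 * B v (X v) = 0 := by linear_combination h1
    rcases mul_eq_zero.mp h3 with h | h
    · exact absurd h h2
    · exact h
  intro k
  induction k with
  | zero =>
    intro E _ _ _
    exact ⟨fun j => j.elim0, fun j => j.elim0, fun j => j.elim0, fun i => i.elim0⟩
  | succ k ih =>
    intro E hdim hinv hE
    -- a vector with `Q v ≠ 0`
    obtain ⟨v, hvE, hQv⟩ : ∃ v ∈ E, Q v ≠ 0 := by
      have hne : E ≠ ⊥ := by
        intro h
        rw [h, finrank_bot] at hdim
        omega
      obtain ⟨u, huE, hu0⟩ := Submodule.exists_mem_ne_zero_of_ne_bot hne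
      obtain ⟨w, hwE, huw⟩ : ∃ w ∈ E, B u w ≠ 0 := by
        by_contra hcon
        apply hu0
        apply hE u huE
        intro w hw
        by_contra h
        exact hcon ⟨w, hw, h⟩
      by_cases h1 : Q u = 0
      · by_cases h3 : Q w = 0
        · refine ⟨u + w, E.add_mem huE hwE, ?_⟩
          rw [QuadraticMap.map_add Q u w, h1, h3, zero_add, zero_add]
          exact huw
        · exact ⟨w, hwE, h3⟩
      · exact ⟨u, huE, h1⟩
    have hvv : B v v ≠ 0 := by
      rw [hself]; exact mul_ne_zero h2 hQv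
    have hXvXv : B (X v) (X v) = B v v := hBX v v
    have hXvv : B (X v) v = 0 := by rw [hsymm]; exact hort v
    -- the plane
    set P : Submodule F V := Submodule.span F {v, X v} with hP
    have hvP : v ∈ P := Submodule.subset_span (by simp)
    have hXvP : X v ∈ P := Submodule.subset_span (by simp)
    have hPE : P ≤ E := by
      rw [hP, Submodule.span_le]
      intro y hy
      rcases hy with rfl | rfl
      · exact hvE
      · exact hinv _ hvE
    have hPinv : ∀ p ∈ P, X p ∈ P := by
      intro p hp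
      obtain ⟨s, t, rfl⟩ := Submodule.mem_span_pair.mp hp
      rw [map_add, map_smul, map_smul, hsq]
      exact P.add_mem (P.smul_mem _ hXvP) (P.smul_mem _ (P.neg_mem hvP))
    have hzero : ∀ s t : F, B (s • v + t • X v) v = 0 → B (s • v + t • X v) (X v) = 0 → s = 0 ∧ t = 0 := by
      intro s t h1 h3
      rw [map_add, map_smul, map_smul, LinearMap.add_apply, LinearMap.smul_apply, LinearMap.smul_apply,
        hXvv, smul_zero, add_zero, smul_eq_mul] at h1
      rw [map_add, map_smul, map_smul, LinearMap.add_apply, LinearMap.smul_apply, LinearMap.smul_apply,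
        hort v, smul_zero, zero_add, smul_eq_mul, hXvXv] at h3
      refine ⟨?_, ?_⟩
      · rcases mul_eq_zero.mp h1 with h | h
        · exact h
        · exact absurd h hvv
      · rcases mul_eq_zero.mp h3 with h | h
        · exact h
        · exact absurd h hvv
    have hPnd : Cfsg.Agent.Lib.Helper13.S5955.SND B P := by
      intro u hu hall
      obtain ⟨s, t, rfl⟩ := Submodule.mem_span_pair.mp hu
      obtain ⟨hs, ht⟩ := hzero s t (hall v hvP) (hall (X v) hXvP)
      rw [hs, ht, zero_smul, zero_smul, add_zero]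
    have hPdim : finrank F P = 2 := by
      have hli : LinearIndependent F ![v, X v] := by
        rw [LinearIndependent.pair_iff]
        intro s t hst
        apply hzero s t
        · rw [hst, map_zero, LinearMap.zero_apply]
        · rw [hst, map_zero, LinearMap.zero_apply]
      have h1 := finrank_span_eq_card hli
      rw [Matrix.range_cons_cons_empty, Fintype.card_fin] at h1
      exact h1
    obtain ⟨-, -, hE'nd, hortPE', hdimsum⟩ :=
      Cfsg.Agent.Lib.Helper18.ONE.nd_perp_symm B hsymm E P hE hPE hPnd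
    set E' : Submodule F V := E ⊓ LinearMap.BilinForm.orthogonal B P with hE'
    have hE'dim : finrank F E' = 2 * k := by omega
    have hE'inv : ∀ w ∈ E', X w ∈ E' := by
      intro w hw
      obtain ⟨hwE, hwP⟩ := Submodule.mem_inf.mp hw
      refine Submodule.mem_inf.mpr ⟨hinv w hwE, ?_⟩
      rw [LinearMap.BilinForm.mem_orthogonal_iff]
      intro p hp
      show B p (X w) = 0
      have h1 : p = X (X (-p)) := by rw [hsq, neg_neg]
      rw [h1, hBX, map_neg, map_neg, LinearMap.neg_apply, neg_eq_zero]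
      exact hortPE' (X p) (hPinv p hp) w hw
    obtain ⟨e', he'E, he'Q, he'orth⟩ := ih E' hE'dim hE'inv hE'nd
    have hperp : ∀ p ∈ P, ∀ j, B p (e' j) = 0 ∧ B p (X (e' j)) = 0 := fun p hp j =>
      ⟨hortPE' p hp _ (he'E j), hortPE' p hp _ (hE'inv _ (he'E j))⟩
    refine ⟨Fin.cons v e', ?_, ?_, ?_⟩
    · intro j
      refine Fin.cases ?_ (fun j' => ?_) j
      · simpa using hvE
      · simpa using (Submodule.mem_inf.mp (he'E j')).1
    · intro j
      refine Fin.cases ?_ (fun j' => ?_) j
      · simpa using hQv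
      · simpa using he'Q j'
    · intro i j
      refine Fin.cases ?_ (fun i' => ?_) i
      · refine Fin.cases ?_ (fun j' => ?_) j
        · intro h; exact absurd rfl h
        · intro _
          simp only [Fin.cons_zero, Fin.cons_succ]
          refine ⟨(hperp v hvP j').1, (hperp v hvP j').2, ?_⟩
          rw [hBX]; exact (hperp v hvP j').1
      · refine Fin.cases ?_ (fun j' => ?_) j
        · intro _
          simp only [Fin.cons_zero, Fin.cons_succ]
          refine ⟨?_, ?_, ?_⟩
          · rw [hsymm]; exact (hperp v hvP i').1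
          · rw [hsymm]; exact (hperp (X v) hXvP i').1
          · rw [hBX, hsymm]; exact (hperp v hvP i').1
        · intro hij
          simp only [Fin.cons_succ]
          exact he'orth i' j' (fun h => hij (by rw [h]))

/-- SPLNEG [L] -/
theorem s_planes_neg [Fintype F] (h2 : (2 : F) ≠ 0) (Q : QuadraticForm F (ι → F))
    (hQ : (QuadraticMap.polarBilin Q).Nondegenerate) (d : ℕ) (hcard : Fintype.card ι = 2 * d)
    (x : GL ι F) (hx : x ∈ Cfsg.isometryGroup F (⇑Q))
    (hx2 : ((x ^ 2 : GL ι F) : Matrix ι ι F) = (-1 : F) • (1 : Matrix ι ι F)) :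
    ∃ e : Fin d → (ι → F), IsPlanes (⇑Q) e (fun j => (x : Matrix ι ι F) *ᵥ e j) ∧ ∀ j, Q (e j) ≠ 0 := by
  set X : Module.End F (ι → F) := Matrix.toLin' (x : Matrix ι ι F) with hX
  have hXv : ∀ v, X v = (x : Matrix ι ι F) *ᵥ v := fun v => Matrix.toLin'_apply _ v
  have hpres : ∀ v, Q (X v) = Q v := fun v => by rw [hXv]; exact hx v v
  have hsq : ∀ v, X (X v) = -v := by
    intro v
    rw [hXv, hXv, Matrix.mulVec_mulVec, ← pow_two, ← Units.val_pow_eq_pow_val, hx2, Matrix.smul_mulVec,
      Matrix.one_mulVec, neg_one_smul]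
  set B := QuadraticMap.polarBilin Q with hB
  have hsymm : ∀ u v, B u v = B v u := Cfsg.Agent.Lib.Helper18.OPE.opeqtysum_symm Q
  have hself : ∀ v, B v v = 2 * Q v := fun v => Cfsg.Agent.Lib.Helper18.OPE.opeqoty_polar_self Q v
  have hBX : ∀ u v, B (X u) (X v) = B u v := by
    intro u v
    rw [hB, QuadraticMap.polarBilin_apply_apply, QuadraticMap.polarBilin_apply_apply]
    unfold QuadraticMap.polar
    rw [← map_add, hpres, hpres, hpres]
  have htop : Cfsg.Agent.Lib.Helper13.S5955.SND B (⊤ : Submodule F (ι → F)) := by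
    intro u _ hu
    exact hQ.1 u (fun v => hu v Submodule.mem_top)
  have hdimtop : finrank F (⊤ : Submodule F (ι → F)) = 2 * d := by
    rw [finrank_top, Module.finrank_fintype_fun_eq_card, hcard]
  obtain ⟨e, -, heQ, heorth⟩ := c3qsplneg_core h2 Q X hpres hsq d ⊤ hdimtop
    (fun v _ => Submodule.mem_top) htop
  have hort : ∀ v, B v (X v) = 0 := by
    intro v
    have h1 : B v (X v) = - B v (X v) := by
      calc B v (X v) = B (X v) (X (X v)) := (hBX v (X v)).symm
        _ = B (X v) (-v) := by rw [hsq]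
        _ = - B (X v) v := by rw [map_neg]
        _ = - B v (X v) := by rw [hsymm]
    have h3 : 2 * B v (X v) = 0 := by linear_combination h1
    rcases mul_eq_zero.mp h3 with h | h
    · exact absurd h h2
    · exact h
  refine ⟨e, ?_, heQ⟩
  -- the family of `2d` vectors
  set g : Fin d × Fin 2 → (ι → F) :=
    fun p => if p.2 = 0 then e p.1 else (fun j => (x : Matrix ι ι F) *ᵥ e j) p.1 with hg
  have hg0 : ∀ j, g (j, 0) = e j := fun j => by simp [hg]
  have hg1 : ∀ j, g (j, 1) = X (e j) := fun j => by simp [hg, hXv]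
  have hgcases : ∀ p : Fin d × Fin 2, g p = e p.1 ∨ g p = X (e p.1) := by
    rintro ⟨j, a⟩
    fin_cases a
    · left; exact hg0 j
    · right; exact hg1 j
  have hortho : LinearMap.BilinForm.iIsOrtho B g := by
    rw [LinearMap.BilinForm.iIsOrtho_def]
    rintro ⟨i, a⟩ ⟨j, b⟩ hne
    by_cases hij : i = j
    · subst hij
      fin_cases a <;> fin_cases b
      · exact absurd rfl hne
      · show B (g (i, 0)) (g (i, 1)) = 0
        rw [hg0, hg1]; exact hort _
      · show B (g (i, 1)) (g (i, 0)) = 0
        rw [hg0, hg1, hsymm]; exact hort _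
      · exact absurd rfl hne
    · obtain ⟨o1, o2, o3⟩ := heorth i j hij
      obtain ⟨o1', o2', o3'⟩ := heorth j i (fun h => hij h.symm)
      fin_cases a <;> fin_cases b
      · show B (g (i, 0)) (g (j, 0)) = 0
        rw [hg0, hg0]; exact o1
      · show B (g (i, 0)) (g (j, 1)) = 0
        rw [hg0, hg1]; exact o2
      · show B (g (i, 1)) (g (j, 0)) = 0
        rw [hg0, hg1, hsymm]; exact o2'
      · show B (g (i, 1)) (g (j, 1)) = 0
        rw [hg1, hg1]; exact o3
  have hnz : ∀ p, B (g p) (g p) ≠ 0 := by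
    rintro ⟨j, a⟩
    fin_cases a
    · show B (g (j, 0)) (g (j, 0)) ≠ 0
      rw [hg0, hself]; exact mul_ne_zero h2 (heQ j)
    · show B (g (j, 1)) (g (j, 1)) ≠ 0
      rw [hg1, hBX, hself]; exact mul_ne_zero h2 (heQ j)
  have hli : LinearIndependent F g := LinearMap.BilinForm.linearIndependent_of_iIsOrtho (B := B) hortho hnz
  refine ⟨hli, ?_, ?_⟩
  · have hcard2 : Fintype.card (Fin d × Fin 2) = finrank F (ι → F) := by
      rw [Fintype.card_prod, Fintype.card_fin, Fintype.card_fin, Module.finrank_fintype_fun_eq_card,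
        hcard, mul_comm]
    rw [hli.span_eq_top_of_card_eq_finrank' hcard2]
  · intro i j hij
    obtain ⟨o1, o2, o3⟩ := heorth i j hij
    refine ⟨o1, ?_, ?_⟩
    · show B (e i) ((x : Matrix ι ι F) *ᵥ e j) = 0
      rw [← hXv]; exact o2
    · show B ((x : Matrix ι ι F) *ᵥ e i) ((x : Matrix ι ι F) *ᵥ e j) = 0
      rw [← hXv, ← hXv]; exact o3

end Cfsg.Agent.Lib.Helper10.C3Q
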