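import Mathlib
import Cfsg.Agent.Lib.Helper13.OTS.Defs
import Cfsg.Agent.Lib.helper17.OTSQOCTX
import Cfsg.Agent.Lib.helper17.ONENDSUPS

set_option autoImplicit false

/-!
# Project OTS, row TYSUM (helper17): counting types multiply in orthogonal sums, all characteristics
(port of ONE `ty_sum`).
-/

namespace Cfsg.Agent.Lib.Helper13.OTS

open Polynomial Module Cfsg.Agent.Lib.Helper13.S5955 Cfsg.Agent.Lib.helper15.S5972

/-- the polar form is symmetric -/
theorem otstysum_symm {F : Type*} [Field F] {V : Type*} [AddCommGroup V] [Module F V]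
    (Q : QuadraticForm F V) (u v : V) :
    QuadraticMap.polarBilin Q u v = QuadraticMap.polarBilin Q v u := by
  rw [QuadraticMap.polarBilin_apply_apply, QuadraticMap.polarBilin_apply_apply, QuadraticMap.polar_comm]

/-- coordinates on a nondegenerate subspace: the quadratic form in coordinates, all characteristics -/
theorem otstysum_coord {F : Type*} [Field F]
    {V : Type*} [AddCommGroup V] [Module F V] [FiniteDimensional F V]
    (Q : QuadraticForm F V) (W : Submodule F V) (hW : SND (QuadraticMap.polarBilin Q) W) :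
    ∃ (Q' : QuadraticForm F (Fin (finrank F W) → F)) (e : (Fin (finrank F W) → F) ≃ₗ[F] ↥W),
      (∀ v, Q' v = Q (e v : V)) ∧ (QuadraticMap.polarBilin Q').Nondegenerate := by
  classical
  let b := Module.finBasis F ↥W
  let e : (Fin (finrank F W) → F) ≃ₗ[F] ↥W := b.equivFun.symm
  let f : (Fin (finrank F W) → F) →ₗ[F] V := W.subtype ∘ₗ e.toLinearMap
  have hf : ∀ x, f x = (e x : V) := fun x => rfl
  have hpol : ∀ x y, QuadraticMap.polarBilin (Q.comp f) x y
      = QuadraticMap.polarBilin Q (e x : V) (e y : V) := by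
    intro x y
    rw [QuadraticMap.polarBilin_apply_apply, QuadraticMap.polarBilin_apply_apply]
    unfold QuadraticMap.polar
    rw [QuadraticMap.comp_apply, QuadraticMap.comp_apply, QuadraticMap.comp_apply, map_add, hf, hf]
  refine ⟨Q.comp f, e, fun v => rfl, ?_, ?_⟩
  · intro x hx
    have h1 : ((e x : ↥W) : V) = 0 := by
      apply hW _ (e x).2
      intro v hv
      have := hx (e.symm ⟨v, hv⟩)
      rw [hpol, LinearEquiv.apply_symm_apply] at this
      exact this
    have h3 : e x = 0 := Subtype.ext h1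
    exact e.map_eq_zero_iff.mp h3
  · intro y hy
    have h1 : ((e y : ↥W) : V) = 0 := by
      apply hW _ (e y).2
      intro v hv
      have := hy (e.symm ⟨v, hv⟩)
      rw [hpol, LinearEquiv.apply_symm_apply] at this
      rw [otstysum_symm]; exact this
    have h3 : e y = 0 := Subtype.ext h1
    exact e.map_eq_zero_iff.mp h3

/-- QTYSUM [L]: types multiply. -/
theorem q_ty_sum {F : Type*} [Field F] [Fintype F]
    {V : Type*} [AddCommGroup V] [Module F V] [FiniteDimensional F V]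
    (Q : QuadraticForm F V) (W₁ W₂ : Submodule F V)
    (h₁ : SND (QuadraticMap.polarBilin Q) W₁) (h₂ : SND (QuadraticMap.polarBilin Q) W₂)
    (ho : SOrth (QuadraticMap.polarBilin Q) W₁ W₂)
    (he₁ : Even (finrank F W₁)) (he₂ : Even (finrank F W₂)) (s₁ s₂ : ℤ)
    (hs₁ : QTy Q W₁ s₁) (hs₂ : QTy Q W₂ s₂) : QTy Q (W₁ ⊔ W₂) (s₁ * s₂) := by
  classical
  obtain ⟨hnd, hdis, hdim⟩ := Cfsg.Agent.Lib.Helper18.ONE.nd_sup_symm (QuadraticMap.polarBilin Q)
    (otstysum_symm Q) W₁ W₂ h₁ h₂ ho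
  by_cases h0 : finrank F W₁ = 0
  · have hbot : W₁ = ⊥ := Submodule.finrank_eq_zero.mp h0
    subst hbot
    rw [(q_ty_bot Q s₁).mp hs₁, one_mul, bot_sup_eq]
    exact hs₂
  · obtain ⟨m₁, hm₁⟩ := he₁
    obtain ⟨m₂, hm₂⟩ := he₂
    have hm₁' : finrank F W₁ = 2 * m₁ := by omega
    have hm₂' : finrank F W₂ = 2 * m₂ := by omega
    have hm1 : 1 ≤ m₁ := by omega
    obtain ⟨Q', e, hQe, hQnd⟩ := otstysum_coord Q W₁ h₁
    haveI : Finite ↥W₂ := Module.finite_of_finite F
    letI : Fintype ↥W₂ := Fintype.ofFinite _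
    have hcardW : Fintype.card ↥W₂ = Fintype.card F ^ (2 * m₂) := by
      rw [Module.card_eq_pow_finrank (K := F) (V := ↥W₂), hm₂']
    have hs₁' : Cfsg.Agent.Lib.Helper16.OSemi.IsType (⇑Q') m₁ s₁ := by
      unfold QTy at hs₁
      have hd : finrank F W₁ / 2 = m₁ := by omega
      rw [hd] at hs₁
      exact (Cfsg.Agent.Lib.Helper16.OSemi.isType_congr e.toEquiv
        (fun w : ↥W₁ => Q (w : V)) (⇑Q') (fun v => (hQe v).symm) m₁ s₁).mp hs₁
    have hs₂' : Cfsg.Agent.Lib.Helper16.OSemi.IsType (fun w : ↥W₂ => Q (w : V)) m₂ s₂ := by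
      unfold QTy at hs₂
      have hd : finrank F W₂ / 2 = m₂ := by omega
      rw [hd] at hs₂
      exact hs₂
    have key := Cfsg.Agent.Lib.Helper16.OSemi.isType_sum Q' hQnd m₁ hm1
      (by rw [Fintype.card_fin]; exact hm₁') s₁ hs₁' (fun w : ↥W₂ => Q (w : V)) m₂ hcardW
      s₂ hs₂'
    unfold QTy
    have hd : finrank F ↥(W₁ ⊔ W₂) / 2 = m₁ + m₂ := by omega
    rw [hd]
    -- the bijection
    let φ : (Fin (finrank F W₁) → F) × ↥W₂ → ↥(W₁ ⊔ W₂) := fun p =>
      ⟨(e p.1 : V) + (p.2 : V),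
        Submodule.add_mem _ (Submodule.mem_sup_left (e p.1).2) (Submodule.mem_sup_right p.2.2)⟩
    have hφ : Function.Bijective φ := by
      constructor
      · intro p p' hpp
        have h1 : (e p.1 : V) + (p.2 : V) = (e p'.1 : V) + (p'.2 : V) := congrArg Subtype.val hpp
        have h3 : (e p.1 : V) - (e p'.1 : V) = (p'.2 : V) - (p.2 : V) := by
          rw [sub_eq_sub_iff_add_eq_add, h1, add_comm]
        have h4 : (e p.1 : V) - (e p'.1 : V) ∈ W₁ ⊓ W₂ := by
          refine ⟨Submodule.sub_mem _ (e p.1).2 (e p'.1).2, ?_⟩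
          rw [h3]
          exact Submodule.sub_mem _ p'.2.2 p.2.2
        rw [hdis.eq_bot, Submodule.mem_bot] at h4
        have h5 : (e p.1 : V) = (e p'.1 : V) := sub_eq_zero.mp h4
        have h6 : (p'.2 : V) = (p.2 : V) := by
          rw [h4] at h3
          exact (sub_eq_zero.mp h3.symm)
        have h7 : e p.1 = e p'.1 := Subtype.ext h5
        exact Prod.ext (e.injective h7) (Subtype.ext h6.symm)
      · intro w
        obtain ⟨u, hu, v, hv, huv⟩ := Submodule.mem_sup.mp w.2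
        refine ⟨(e.symm ⟨u, hu⟩, ⟨v, hv⟩), ?_⟩
        apply Subtype.ext
        show ((e (e.symm ⟨u, hu⟩) : ↥W₁) : V) + v = (w : V)
        rw [LinearEquiv.apply_symm_apply]
        exact huv
    refine (Cfsg.Agent.Lib.Helper16.OSemi.isType_congr (Equiv.ofBijective φ hφ)
      (fun w : ↥(W₁ ⊔ W₂) => Q (w : V))
      (fun p : (Fin (finrank F W₁) → F) × ↥W₂ => Q' p.1 + Q (p.2 : V)) ?_ (m₁ + m₂)
      (s₁ * s₂)).mpr key
    intro p
    show Q ((e p.1 : V) + (p.2 : V)) = Q' p.1 + Q (p.2 : V)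
    have hz : QuadraticMap.polarBilin Q (e p.1 : V) (p.2 : V) = 0 := ho _ (e p.1).2 _ p.2.2
    rw [QuadraticMap.polarBilin_apply_apply] at hz
    unfold QuadraticMap.polar at hz
    rw [hQe]
    linear_combination hz

end Cfsg.Agent.Lib.Helper13.OTS
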