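import Mathlib
set_option autoImplicit false
set_option linter.style.haveILetI false

/-! Piece B of helper10's plan for S3776 (`Cfsg/Agent/Lib/Helper10/GSz/PLAN.md`):
finite fields of characteristic 2.  `B1`: every additive endomorphism of `F` is a 2-polynomial;
`B2`: separating 0/1-polynomial for pairwise non-Frobenius-conjugate elements. -/

namespace Cfsg.Agent.Lib.helper17.GSzB


open Polynomial in
theorem frob_pow_inj {F : Type*} [Field F] [Fintype F] {n : ℕ} (hn : Fintype.card F = 2 ^ n)
    {i j : ℕ} (hi : i < n) (hj : j < n) (h : ∀ x : F, x ^ (2 ^ i) = x ^ (2 ^ j)) : i = j := by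
  classical
  have hpoly : (X ^ (2 ^ i) : F[X]) = X ^ (2 ^ j) := by
    apply Polynomial.eq_of_degree_sub_lt_of_eval_finset_eq (Finset.univ : Finset F)
    · refine lt_of_le_of_lt (Polynomial.degree_sub_le _ _) ?_
      rw [Polynomial.degree_X_pow, Polynomial.degree_X_pow, Finset.card_univ, hn]
      have h1 : 2 ^ i < 2 ^ n := Nat.pow_lt_pow_right (by norm_num) hi
      have h2 : 2 ^ j < 2 ^ n := Nat.pow_lt_pow_right (by norm_num) hj
      rw [max_lt_iff]
      constructor <;> exact_mod_cast ‹_›
    · intro x _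
      simp [h x]
  have := congrArg Polynomial.natDegree hpoly
  rw [Polynomial.natDegree_X_pow, Polynomial.natDegree_X_pow] at this
  exact Nat.pow_right_injective (le_refl 2) this

theorem B1 {F : Type*} [Field F] [Finite F] [CharP F 2] {n : ℕ} (hn : Nat.card F = 2 ^ n)
    (T : AddMonoid.End F) :
    ∃ a : ℕ → F, ∀ x : F, T x = ∑ i ∈ Finset.range n, a i * x ^ (2 ^ i) := by
  classical
  letI : Fintype F := Fintype.ofFinite F
  letI : Algebra (ZMod 2) F := ZMod.algebra F 2
  have hcard : Fintype.card F = 2 ^ n := by rw [← Nat.card_eq_fintype_card]; exact hn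
  have hfr : Module.finrank (ZMod 2) F = n := by
    have := Module.natCard_eq_pow_finrank (K := ZMod 2) (V := F)
    rw [hn, Nat.card_zmod] at this
    exact (Nat.pow_right_injective (le_refl 2) this).symm
  have hdim : Module.finrank F (F →ₗ[ZMod 2] F) = n := by
    rw [Module.finrank_linearMap, hfr, Module.finrank_self, mul_one]
  let g : Fin n → (F →* F) := fun i => ((iterateFrobenius F 2 i : F →+* F) : F →* F)
  have hg : Function.Injective g := by
    intro i j hij
    apply Fin.ext
    apply frob_pow_inj hcard i.2 j.2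
    intro x
    have := DFunLike.congr_fun hij x
    simpa [g, iterateFrobenius_def] using this
  have hli : LinearIndependent F (fun i : Fin n => (⇑(g i) : F → F)) :=
    (linearIndependent_monoidHom F F).comp g hg
  let φ : Fin n → (F →ₗ[ZMod 2] F) := fun i =>
    AddMonoidHom.toZModLinearMap 2 ((iterateFrobenius F 2 i : F →+* F) : F →+ F)
  let Φ : (F →ₗ[ZMod 2] F) →ₗ[F] (F → F) :=
    { toFun := fun f => ⇑f
      map_add' := fun _ _ => rfl
      map_smul' := fun _ _ => rfl }
  have hli2 : LinearIndependent F φ := by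
    apply LinearIndependent.of_comp Φ
    exact hli
  have hspan : Submodule.span F (Set.range φ) = ⊤ := by
    apply hli2.span_eq_top_of_card_eq_finrank'
    rw [Fintype.card_fin, hdim]
  let T' : F →ₗ[ZMod 2] F := AddMonoidHom.toZModLinearMap 2 (T : F →+ F)
  have hT : T' ∈ Submodule.span F (Set.range φ) := by rw [hspan]; trivial
  obtain ⟨c, hc⟩ := (Submodule.mem_span_range_iff_exists_fun F).1 hT
  refine ⟨fun i => if h : i < n then c ⟨i, h⟩ else 0, fun x => ?_⟩
  have h1 : T x = T' x := rfl
  rw [h1, ← hc, Finset.sum_range]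
  simp only [LinearMap.coe_sum, Finset.sum_apply, LinearMap.smul_apply, smul_eq_mul]
  apply Finset.sum_congr rfl
  intro i _
  simp [φ, iterateFrobenius_def]


section


open Polynomial

/-- orbit polynomial of `a` under Frobenius. -/
noncomputable def orbPoly {F : Type*} [Field F] (N : ℕ) (a : F) : F[X] :=
  ∏ k ∈ Finset.range N, (X - C (a ^ (2 ^ k)))

theorem orbPoly_map {F : Type*} [Field F] [CharP F 2] (N : ℕ) (a : F) (ha : a ^ (2 ^ N) = a) :
    (orbPoly N a).map (frobenius F 2) = orbPoly N a := by
  unfold orbPoly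
  rw [Polynomial.map_prod]
  have h1 : ∀ k ∈ Finset.range N, (X - C (a ^ (2 ^ k)) : F[X]).map (frobenius F 2)
      = X - C (a ^ (2 ^ (k + 1))) := by
    intro k _
    rw [Polynomial.map_sub, Polynomial.map_X, Polynomial.map_C, frobenius_def, ← pow_mul,
      ← pow_succ]
  rw [Finset.prod_congr rfl h1]
  have h2 := Finset.prod_range_succ' (fun k => (X - C (a ^ (2 ^ k)) : F[X])) N
  have h3 := Finset.prod_range_succ (fun k => (X - C (a ^ (2 ^ k)) : F[X])) N
  rw [h3] at h2
  simp only [pow_zero, pow_one] at h2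
  rw [ha] at h2
  exact (mul_right_cancel₀ (Polynomial.X_sub_C_ne_zero a) h2).symm

theorem coeff_zero_or_one {F : Type*} [Field F] [CharP F 2] (P : F[X])
    (hP : P.map (frobenius F 2) = P) (k : ℕ) : P.coeff k = 0 ∨ P.coeff k = 1 := by
  have h := congrArg (fun Q => Polynomial.coeff Q k) hP
  simp only [Polynomial.coeff_map, frobenius_def] at h
  have h' : P.coeff k * (P.coeff k - 1) = 0 := by rw [mul_sub, mul_one, ← pow_two, h, sub_self]
  rcases mul_eq_zero.1 h' with h0 | h0
  · exact Or.inl h0
  · exact Or.inr (sub_eq_zero.1 h0)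

theorem B2 {F : Type*} [Field F] [Finite F] [CharP F 2] {n : ℕ} (ν : ℕ → F)
    (hν : ∀ i < n, ∀ j < n, ∀ k : ℕ, ν i ^ (2 ^ k) = ν j → i = j) {i₀ : ℕ} (hi₀ : i₀ < n) :
    ∃ S : Finset ℕ, ∀ i < n, ∑ k ∈ S, ν i ^ k = if i = i₀ then 1 else 0 := by
  classical
  letI : Fintype F := Fintype.ofFinite F
  obtain ⟨N, -, hN⟩ := FiniteField.card F 2
  have hNpos : 0 < (N : ℕ) := N.pos
  have hfix : ∀ a : F, a ^ (2 ^ (N : ℕ)) = a := by
    intro a
    rw [← hN]
    exact FiniteField.pow_card a
  let p : F[X] := ∏ j ∈ (Finset.range n).erase i₀, orbPoly N (ν j)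
  have hpmap : p.map (frobenius F 2) = p := by
    simp only [p]
    rw [Polynomial.map_prod]
    exact Finset.prod_congr rfl (fun j _ => orbPoly_map N (ν j) (hfix _))
  let q := Fintype.card F
  let P : F[X] := p ^ (q - 1)
  have hPmap : P.map (frobenius F 2) = P := by
    simp only [P]
    rw [Polynomial.map_pow, hpmap]
  have hq : 1 < q := Fintype.one_lt_card
  have heval : ∀ x : F, P.eval x = ∑ k ∈ P.support, x ^ k := by
    intro x
    rw [Polynomial.eval_eq_sum, Polynomial.sum]
    apply Finset.sum_congr rfl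
    intro k hk
    rcases coeff_zero_or_one P hPmap k with h0 | h1
    · exact absurd h0 (Polynomial.mem_support_iff.1 hk)
    · rw [h1, one_mul]
  refine ⟨P.support, fun i hi => ?_⟩
  rw [← heval]
  simp only [P, Polynomial.eval_pow]
  by_cases hii : i = i₀
  · rw [if_pos hii]
    apply FiniteField.pow_card_sub_one_eq_one
    simp only [p, Polynomial.eval_prod, orbPoly]
    rw [Finset.prod_ne_zero_iff]
    intro j hj
    rw [Finset.prod_ne_zero_iff]
    intro k _
    rw [Polynomial.eval_sub, Polynomial.eval_X, Polynomial.eval_C, sub_ne_zero]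
    intro h
    have hj' := Finset.mem_erase.1 hj
    have := hν j (Finset.mem_range.1 hj'.2) i hi k h.symm
    exact hj'.1 (this.trans hii)
  · rw [if_neg hii]
    have : p.eval (ν i) = 0 := by
      simp only [p, Polynomial.eval_prod]
      apply Finset.prod_eq_zero (Finset.mem_erase.2 ⟨hii, Finset.mem_range.2 hi⟩)
      unfold orbPoly
      rw [Polynomial.eval_prod]
      apply Finset.prod_eq_zero (Finset.mem_range.2 hNpos)
      simp
    rw [this]
    exact zero_pow (by omega)


end

end Cfsg.Agent.Lib.helper17.GSzB
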