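import Mathlib
import Cfsg.Agent.Lib.Helper27.SzField2
import Cfsg.Agent.Lib.helper17.GSzB
set_option autoImplicit false
set_option linter.unusedSectionVars false
open Cfsg.Agent.Lib.Helper27.SzF

namespace Cfsg.Agent.Lib.helper17.GSzF3

section
variable {W : Type*} [AddCommGroup W] {F : Type*} [Field F] [CharP F 2]

/-- `b ↦ (w ↦ e⁻¹ (b * (e w)^(2^i)))` -/
noncomputable def monHom (e : W ≃+ F) (i : ℕ) : F →+ AddMonoid.End W where
  toFun b := (e.symm.toAddMonoidHom.comp ((AddMonoidHom.mulLeft b).comp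
      (((iterateFrobenius F 2 i : F →+* F) : F →+ F).comp e.toAddMonoidHom)) : W →+ W)
  map_zero' := by
    apply DFunLike.ext
    intro w
    show e.symm (0 * iterateFrobenius F 2 i (e w)) = 0
    rw [zero_mul, map_zero]
  map_add' := by
    intro b b'
    apply DFunLike.ext
    intro w
    show e.symm ((b + b') * iterateFrobenius F 2 i (e w)) =
      e.symm (b * iterateFrobenius F 2 i (e w)) + e.symm (b' * iterateFrobenius F 2 i (e w))
    rw [add_mul, map_add]

theorem mon_apply (e : W ≃+ F) (i : ℕ) (b : F) (w : W) :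
    e (monHom e i b w) = b * (e w) ^ (2 ^ i) := by
  show e (e.symm (b * iterateFrobenius F 2 i (e w))) = _
  rw [AddEquiv.apply_symm_apply, iterateFrobenius_def]

theorem End_ext_e (e : W ≃+ F) {S T : AddMonoid.End W} (h : ∀ w, e (S w) = e (T w)) : S = T :=
  DFunLike.ext _ _ (fun w => e.injective (h w))

/-- evaluation at `w` as an additive hom -/
def evalHom (w : W) : AddMonoid.End W →+ W where
  toFun T := T w
  map_zero' := rfl
  map_add' := fun _ _ => rfl

theorem sum_End_apply {ι : Type*} (s : Finset ι) (f : ι → AddMonoid.End W) (w : W) :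
    (∑ i ∈ s, f i) w = ∑ i ∈ s, f i w :=
  map_sum (evalHom w) f s

variable {K : Type*} [Group K]

theorem act_inv (a : K →* AddMonoid.End W) (k : K) (w : W) : a k (a k⁻¹ w) = w := by
  have : a k * a k⁻¹ = 1 := by rw [← map_mul, mul_inv_cancel, map_one]
  exact DFunLike.congr_fun this w

theorem cj_mon (a : K →* AddMonoid.End W) (e : W ≃+ F) (k : K) (μ : F) (σ : F ≃+* F)
    (hμ : μ ≠ 0) (hk : ∀ w, e (a k w) = μ * σ (e w)) (i : ℕ) (b : F) :
    cj a k (monHom e i b) = monHom e i (μ * (μ⁻¹) ^ (2 ^ i) * σ b) := by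
  apply End_ext_e e
  intro w
  rw [cj_apply, hk, mon_apply, mon_apply]
  have h2 : e w = μ * σ (e (a k⁻¹ w)) := by rw [← hk, act_inv]
  rw [h2, map_mul, map_pow, mul_pow]
  have h3 : (μ⁻¹) ^ (2 ^ i) * μ ^ (2 ^ i) = 1 := by rw [← mul_pow, inv_mul_cancel₀ hμ, one_pow]
  linear_combination (-(μ * σ b * σ (e (a k⁻¹ w)) ^ 2 ^ i)) * h3

theorem cj_mon_scalar (a : K →* AddMonoid.End W) (e : W ≃+ F) (k : K) (l' : F) (hl' : l' ≠ 0)
    (hk : ∀ w, e (a k w) = l' * e w) (i : ℕ) (b : F) :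
    cj a k (monHom e i b) = monHom e i (l' * (l'⁻¹) ^ (2 ^ i) * b) := by
  have := cj_mon a e k l' (RingEquiv.refl F) hl' (by simpa using hk) i b
  simpa using this

theorem scalar_pow (a : K →* AddMonoid.End W) (e : W ≃+ F) (k₀ : K) (l : F)
    (hk₀ : ∀ w, e (a k₀ w) = l * e w) (t : ℕ) (w : W) :
    e (a (k₀ ^ t) w) = l ^ t * e w := by
  induction t generalizing w with
  | zero =>
    rw [pow_zero, pow_zero, map_one, one_mul]; rfl
  | succ t ih =>
    rw [pow_succ, map_mul]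
    show e (a (k₀ ^ t) (a k₀ w)) = _
    rw [ih, hk₀, pow_succ, mul_assoc]

theorem exists_mon_decomp [Finite F] (e : W ≃+ F) {n : ℕ} (hn : Nat.card F = 2 ^ n)
    (T : AddMonoid.End W) :
    ∃ α : ℕ → F, T = ∑ i ∈ Finset.range n, monHom e i (α i) := by
  let TF : AddMonoid.End F :=
    (e.toAddMonoidHom.comp ((T : W →+ W).comp e.symm.toAddMonoidHom) : F →+ F)
  obtain ⟨α, hα⟩ := GSzB.B1 hn TF
  refine ⟨α, End_ext_e e (fun w => ?_)⟩
  have h1 : e (T w) = TF (e w) := by
    show _ = e (T (e.symm (e w)))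
    rw [AddEquiv.symm_apply_apply]
  rw [h1, hα, sum_End_apply, map_sum]
  exact Finset.sum_congr rfl (fun i _ => (mon_apply e i (α i) w).symm)

theorem mu_ne_zero {K : Type*} [Group K] {W : Type*} [AddCommGroup W] {F : Type*} [Field F]
    (e : W ≃+ F) (a : K →* AddMonoid.End W) (k : K) (μ : F) (σ : F ≃+* F)
    (hk : ∀ w : W, e (a k w) = μ * σ (e w)) : μ ≠ 0 := by
  rintro rfl
  have h1 : a k (a k⁻¹ (e.symm 1)) = e.symm 1 := act_inv a k _
  have h2 : e (a k (a k⁻¹ (e.symm 1))) = 0 := by rw [hk, zero_mul]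
  rw [h1, AddEquiv.apply_symm_apply] at h2
  exact one_ne_zero h2

theorem nu_pow (l : F) (i t : ℕ) :
    (l * (l ^ 2 ^ i)⁻¹) ^ t = l ^ t * ((l ^ t)⁻¹) ^ 2 ^ i := by
  rw [mul_pow, inv_pow, inv_pow, ← pow_mul, ← pow_mul, mul_comm (2 ^ i) t]

theorem core {K : Type*} [Group K] {W : Type*} [AddCommGroup W] {F : Type*} [Field F] [Fintype F]
    [CharP F 2] (e : W ≃+ F) (a : K →* AddMonoid.End W) {n : ℕ} (hn : Nat.card F = 2 ^ n)
    (k₀ : K) (l : F) (c : ℕ) (hk₀ : ∀ w : W, e (a k₀ w) = l * e w) (hl : orderOf l = c)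
    (hsl : ∀ k : K, ∃ (μ : F) (σ : F ≃+* F), ∀ w : W, e (a k w) = μ * σ (e w))
    (hc1 : 1 < c)
    (hA2 : ∀ i j k : ℕ, i < n → j < n → 2 ^ k + 2 ^ j ≡ 1 + 2 ^ (i + k) [MOD c] → i = j)
    (hA3 : ∀ i : ℕ, 0 < i → i < n → (∀ t : ℕ, c ∣ t * (2 ^ i - 1) → c ∣ t) →
      Nat.Coprime (2 ^ i - 1) (2 ^ n - 1)) :
    (∃ k : K, ∀ w : W, a k w = w → w = 0) ∧
    ∀ D : AddSubgroup (AddMonoid.End W),
      (∀ k : K, ∀ T ∈ D, cj a k T ∈ D) →
      (∀ k : K, (∀ w : W, a k w = w → w = 0) → ∀ T ∈ D, cj a k T = T → T = 0) →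
      ∃ (m : ℕ) (Di : Fin m → AddSubgroup (AddMonoid.End W)),
        (∀ i, Di i ≤ D) ∧ (∀ i, ∀ k : K, ∀ T ∈ Di i, cj a k T ∈ Di i) ∧
        (∀ T ∈ D, ∃ f : Fin m → AddMonoid.End W, (∀ i, f i ∈ Di i) ∧ T = ∑ i, f i) ∧
        (∀ i, ∀ T ∈ Di i, T ≠ 0 → (∀ w : W, T w = 0 → w = 0) ∧
          ∀ w w' : W, T w = w → T w' = w' → w ≠ 0 → w' ≠ 0 → w = w') := by
  classical
  have hl1 : l ≠ 1 := by
    intro h
    rw [h, orderOf_one] at hl
    omega
  have hl0 : l ≠ 0 := by
    intro h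
    have h0 : orderOf (0 : F) = 0 := by
      rw [orderOf_eq_zero_iff']
      intro m hm
      rw [zero_pow hm.ne']
      exact zero_ne_one
    rw [h, h0] at hl
    omega
  have hfpf : ∀ t : ℕ, l ^ t ≠ 1 → ∀ w : W, a (k₀ ^ t) w = w → w = 0 := by
    intro t ht w hw
    have h1 := scalar_pow a e k₀ l hk₀ t w
    rw [hw] at h1
    have h2 : (l ^ t - 1) * e w = 0 := by rw [sub_mul, one_mul, ← h1, sub_self]
    rcases mul_eq_zero.1 h2 with h3 | h3
    · exact absurd (sub_eq_zero.1 h3) ht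
    · exact (AddEquiv.map_eq_zero_iff e).1 h3
  have hfpf1 : ∀ w : W, a k₀ w = w → w = 0 := by
    have := hfpf 1 (by simpa using hl1)
    simpa using this
  refine ⟨⟨k₀, hfpf1⟩, ?_⟩
  intro D hD1 hD2
  -- action of powers of k₀ on monomials
  have hcjpow : ∀ (t i : ℕ) (b : F),
      cj a (k₀ ^ t) (monHom e i b) = monHom e i ((l * (l ^ 2 ^ i)⁻¹) ^ t * b) := by
    intro t i b
    rw [cj_mon_scalar a e (k₀ ^ t) (l ^ t) (pow_ne_zero _ hl0) (scalar_pow a e k₀ l hk₀ t),
      nu_pow]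
  -- non-conjugacy of the ν_i
  have hν : ∀ i < n, ∀ j < n, ∀ k : ℕ,
      (l * (l ^ 2 ^ i)⁻¹) ^ (2 ^ k) = l * (l ^ 2 ^ j)⁻¹ → i = j := by
    intro i hi j hj k h
    apply hA2 i j k hi hj
    have hu : orderOf (Units.mk0 l hl0) = c := by
      rw [← orderOf_units]; exact hl
    rw [← hu, ← pow_eq_pow_iff_modEq]
    apply Units.ext
    rw [Units.val_pow_eq_pow_val, Units.val_pow_eq_pow_val, Units.val_mk0]
    have e1 : (l * (l ^ 2 ^ i)⁻¹) ^ 2 ^ k = l ^ 2 ^ k * (l ^ 2 ^ (i + k))⁻¹ := by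
      rw [mul_pow, inv_pow, ← pow_mul, ← pow_add]
    rw [e1] at h
    have hne1 : l ^ 2 ^ (i + k) ≠ 0 := pow_ne_zero _ hl0
    have hne2 : l ^ 2 ^ j ≠ 0 := pow_ne_zero _ hl0
    rw [pow_add, pow_add, pow_one]
    field_simp at h
    linear_combination h
  refine ⟨n, fun i => D ⊓ (monHom e i.val).range, fun i => inf_le_left, ?_, ?_, ?_⟩
  · -- invariance
    intro i k T hT
    refine ⟨hD1 k T hT.1, ?_⟩
    obtain ⟨b, rfl⟩ := hT.2
    obtain ⟨μ, σ, hk⟩ := hsl k
    rw [cj_mon a e k μ σ (mu_ne_zero e a k μ σ hk) hk]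
    exact ⟨_, rfl⟩
  · -- decomposition
    intro T hT
    obtain ⟨α, hα⟩ := exists_mon_decomp e hn T
    refine ⟨fun i => monHom e i.val (α i.val), fun i => ⟨?_, ⟨_, rfl⟩⟩, ?_⟩
    · obtain ⟨S, hS⟩ := GSzB.B2 (fun i => l * (l ^ 2 ^ i)⁻¹) hν i.2
      have hX : ∑ t ∈ S, cj a (k₀ ^ t) T ∈ D := D.sum_mem (fun t _ => hD1 _ T hT)
      have hX2 : ∑ t ∈ S, cj a (k₀ ^ t) T = monHom e i.val (α i.val) := by
        have h1 : ∀ t ∈ S, cj a (k₀ ^ t) T =
            ∑ j ∈ Finset.range n, monHom e j ((l * (l ^ 2 ^ j)⁻¹) ^ t * α j) := by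
          intro t _
          conv_lhs => rw [hα]
          rw [cj_sum]
          exact Finset.sum_congr rfl (fun j _ => hcjpow t j (α j))
        rw [Finset.sum_congr rfl h1, Finset.sum_comm]
        have h2 : ∀ j ∈ Finset.range n,
            ∑ t ∈ S, monHom e j ((l * (l ^ 2 ^ j)⁻¹) ^ t * α j) =
              monHom e j ((if j = i.val then 1 else 0) * α j) := by
          intro j hj
          rw [← map_sum, ← Finset.sum_mul, hS j (Finset.mem_range.1 hj)]
        rw [Finset.sum_congr rfl h2, Finset.sum_eq_single i.val]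
        · rw [if_pos rfl, one_mul]
        · intro j _ hji
          rw [if_neg hji, zero_mul, map_zero]
        · intro hi
          exact absurd (Finset.mem_range.2 i.2) hi
      show monHom e i.val (α i.val) ∈ D
      rw [← hX2]
      exact hX
    · rw [hα, Finset.sum_range]
  · -- injectivity and fixed vectors
    intro i T hT hT0
    obtain ⟨hTD, b, rfl⟩ := hT
    have hb : b ≠ 0 := by
      rintro rfl
      exact hT0 (map_zero _)
    have hi0 : 0 < i.val := by
      by_contra h0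
      have h0' : i.val = 0 := by omega
      have : cj a k₀ (monHom e i.val b) = monHom e i.val b := by
        rw [cj_mon_scalar a e k₀ l hl0 hk₀, h0', pow_zero, pow_one, mul_inv_cancel₀ hl0, one_mul]
      exact hT0 (hD2 k₀ hfpf1 _ hTD this)
    have hcop := hA3 i.val hi0 i.2 (by
      intro t ht
      by_contra hct
      have hlt : l ^ t ≠ 1 := by
        rwa [Ne, ← orderOf_dvd_iff_pow_eq_one, hl]
      have hfix : cj a (k₀ ^ t) (monHom e i.val b) = monHom e i.val b := by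
        rw [cj_mon_scalar a e (k₀ ^ t) (l ^ t) (pow_ne_zero _ hl0) (scalar_pow a e k₀ l hk₀ t)]
        have h1 : l ^ (t * (2 ^ i.val - 1)) = 1 := by
          rw [← orderOf_dvd_iff_pow_eq_one, hl]; exact ht
        have h2 : (l ^ t) ^ (2 ^ i.val) = l ^ t := by
          have h3 : t * 2 ^ i.val = t * (2 ^ i.val - 1) + t := by
            have : 1 ≤ 2 ^ i.val := Nat.one_le_two_pow
            obtain ⟨r, hr⟩ := Nat.exists_eq_add_of_le this
            rw [hr]; simp; ring
          rw [← pow_mul, h3, pow_add, h1, one_mul]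
        rw [inv_pow, h2, mul_inv_cancel₀ (pow_ne_zero _ hl0), one_mul]
      exact hT0 (hD2 (k₀ ^ t) (hfpf t hlt) _ hTD hfix))
    constructor
    · intro w hw
      have h1 := mon_apply e i.val b w
      rw [hw, map_zero] at h1
      rcases mul_eq_zero.1 h1.symm with h2 | h2
      · exact absurd h2 hb
      · exact (AddEquiv.map_eq_zero_iff e).1 (pow_eq_zero_iff (by positivity) |>.1 h2)
    · intro w w' hw hw' hw0 hw'0
      have hx0 : e w ≠ 0 := fun h => hw0 ((AddEquiv.map_eq_zero_iff e).1 h)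
      have hx'0 : e w' ≠ 0 := fun h => hw'0 ((AddEquiv.map_eq_zero_iff e).1 h)
      have h1 := mon_apply e i.val b w
      have h1' := mon_apply e i.val b w'
      rw [hw] at h1
      rw [hw'] at h1'
      -- y = x / x'
      have hy : (e w / e w') ^ (2 ^ i.val) = e w / e w' := by
        rw [div_pow]
        have hxp : (e w) ^ 2 ^ i.val = e w / b := by
          rw [eq_div_iff hb, mul_comm]; exact h1.symm
        have hxp' : (e w') ^ 2 ^ i.val = e w' / b := by
          rw [eq_div_iff hb, mul_comm]; exact h1'.symm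
        rw [hxp, hxp']
        field_simp
      have hy0 : e w / e w' ≠ 0 := div_ne_zero hx0 hx'0
      have hy1 : (e w / e w') ^ (2 ^ i.val - 1) = 1 := by
        have h3 : 2 ^ i.val = (2 ^ i.val - 1) + 1 := by
          have : 1 ≤ 2 ^ i.val := Nat.one_le_two_pow
          omega
        rw [h3, pow_succ] at hy
        exact mul_right_cancel₀ hy0 (hy.trans (one_mul _).symm)
      have hy2 : (e w / e w') ^ (2 ^ n - 1) = 1 := by
        have := FiniteField.pow_card_sub_one_eq_one (e w / e w') hy0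
        rwa [← Nat.card_eq_fintype_card, hn] at this
      have hy3 : orderOf (e w / e w') ∣ 1 := by
        have := Nat.dvd_gcd (orderOf_dvd_of_pow_eq_one hy1) (orderOf_dvd_of_pow_eq_one hy2)
        rwa [Nat.Coprime.gcd_eq_one hcop] at this
      have hy4 : e w / e w' = 1 := by
        rw [← orderOf_eq_one_iff]
        exact Nat.dvd_one.1 hy3
      have : e w = e w' := by
        rw [div_eq_one_iff_eq hx'0] at hy4
        exact hy4
      exact e.injective this

end

end Cfsg.Agent.Lib.helper17.GSzF3
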