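import Mathlib

set_option autoImplicit false

namespace Cfsg.Agent.Lib.helper17.QdStab1

open Module

universe u

section
variable {p : ℕ} [hp : Fact p.Prime] {W : Type u} [AddCommGroup W] [Module (ZMod p) W]

/-- the commuting element `AB + BA` -/
def del (A B : Module.End (ZMod p) W) : Module.End (ZMod p) W := A * B + B * A

theorem del_mul_A (A B : Module.End (ZMod p) W) (hA : A * A = 0) : del A B * A = A * del A B := by
  unfold del
  rw [add_mul, mul_add, mul_assoc B A A, hA, mul_zero, add_zero, ← mul_assoc A A B, hA, zero_mul,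
    zero_add, mul_assoc]

theorem del_mul_B (A B : Module.End (ZMod p) W) (hB : B * B = 0) : del A B * B = B * del A B := by
  unfold del
  rw [add_mul, mul_add, mul_assoc A B B, hB, mul_zero, zero_add, ← mul_assoc B B A, hB, zero_mul,
    add_zero, mul_assoc]

/-- the field candidate -/
def FF (A B : Module.End (ZMod p) W) : Subalgebra (ZMod p) (Module.End (ZMod p) W) :=
  Algebra.adjoin (ZMod p) {del A B}

theorem FF_comm_A (A B : Module.End (ZMod p) W) (hA : A * A = 0) (f : Module.End (ZMod p) W)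
    (hf : f ∈ FF A B) : f * A = A * f := by
  have h : FF A B ≤ Subalgebra.centralizer (ZMod p) {A} := by
    apply Algebra.adjoin_le
    intro x hx
    rw [Set.mem_singleton_iff] at hx
    subst hx
    rw [SetLike.mem_coe, Subalgebra.mem_centralizer_iff]
    intro g hg
    rw [Set.mem_singleton_iff] at hg
    subst hg
    exact (del_mul_A g B hA).symm
  have := h hf
  rw [Subalgebra.mem_centralizer_iff] at this
  exact (this A rfl).symm

theorem FF_comm_B (A B : Module.End (ZMod p) W) (hB : B * B = 0) (f : Module.End (ZMod p) W)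
    (hf : f ∈ FF A B) : f * B = B * f := by
  have h : FF A B ≤ Subalgebra.centralizer (ZMod p) {B} := by
    apply Algebra.adjoin_le
    intro x hx
    rw [Set.mem_singleton_iff] at hx
    subst hx
    rw [SetLike.mem_coe, Subalgebra.mem_centralizer_iff]
    intro g hg
    rw [Set.mem_singleton_iff] at hg
    subst hg
    exact (del_mul_B A g hB).symm
  have := h hf
  rw [Subalgebra.mem_centralizer_iff] at this
  exact (this B rfl).symm

theorem FF_mul_comm (A B : Module.End (ZMod p) W) (f g : Module.End (ZMod p) W)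
    (hf : f ∈ FF A B) (hg : g ∈ FF A B) : f * g = g * f := by
  have h : FF A B ≤ Subalgebra.centralizer (ZMod p) (FF A B : Set (Module.End (ZMod p) W)) := by
    apply Algebra.adjoin_le
    intro x hx
    rw [Set.mem_singleton_iff] at hx
    subst hx
    rw [SetLike.mem_coe, Subalgebra.mem_centralizer_iff]
    intro g hg
    have h2 : FF A B ≤ Subalgebra.centralizer (ZMod p) {del A B} := by
      apply Algebra.adjoin_le
      intro y hy
      rw [Set.mem_singleton_iff] at hy
      subst hy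
      rw [SetLike.mem_coe, Subalgebra.mem_centralizer_iff]
      intro z hz
      rw [Set.mem_singleton_iff] at hz
      subst hz
      rfl
    have := h2 hg
    rw [Subalgebra.mem_centralizer_iff] at this
    exact (this _ rfl).symm
  have := h hf
  rw [Subalgebra.mem_centralizer_iff] at this
  exact (this g hg).symm

theorem FF_injective_of_ne_zero (A B : Module.End (ZMod p) W) (hA : A * A = 0) (hB : B * B = 0)
    (hirr : ∀ X : AddSubgroup W, (∀ w ∈ X, A w ∈ X) → (∀ w ∈ X, B w ∈ X) → X = ⊥ ∨ X = ⊤)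
    (f : Module.End (ZMod p) W) (hf : f ∈ FF A B) (hf0 : f ≠ 0) : Function.Injective f := by
  have hinv := hirr (LinearMap.ker f).toAddSubgroup ?_ ?_
  · rcases hinv with h | h
    · rw [← LinearMap.ker_eq_bot]
      apply Submodule.toAddSubgroup_injective
      rw [h]
      rfl
    · exfalso
      apply hf0
      ext w
      have : w ∈ (LinearMap.ker f).toAddSubgroup := by rw [h]; trivial
      simpa using this
  · intro w hw
    have hw' : f w = 0 := by simpa using hw
    show A w ∈ LinearMap.ker f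
    rw [LinearMap.mem_ker, ← Module.End.mul_apply, FF_comm_A A B hA f hf, Module.End.mul_apply, hw', map_zero]
  · intro w hw
    have hw' : f w = 0 := by simpa using hw
    show B w ∈ LinearMap.ker f
    rw [LinearMap.mem_ker, ← Module.End.mul_apply, FF_comm_B A B hB f hf, Module.End.mul_apply, hw', map_zero]

/-- the parametrisation map -/
def Th (A B : Module.End (ZMod p) W) (w₀ : W) : (Fin 2 → ↥(FF A B)) →+ W where
  toFun v := (v 0).1 w₀ + (v 1).1 (B w₀)
  map_zero' := by simp
  map_add' v v' := by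
    simp only [Pi.add_apply, Subalgebra.coe_add, LinearMap.add_apply]
    abel

theorem Th_apply (A B : Module.End (ZMod p) W) (w₀ : W) (v : Fin 2 → ↥(FF A B)) :
    Th A B w₀ v = (v 0).1 w₀ + (v 1).1 (B w₀) := rfl

/-- `δ` as an element of the subalgebra -/
def delF (A B : Module.End (ZMod p) W) : ↥(FF A B) := ⟨del A B, Algebra.subset_adjoin rfl⟩

theorem A_Th (A B : Module.End (ZMod p) W) (hA : A * A = 0) (w₀ : W) (hw₀ : A w₀ = 0)
    (v : Fin 2 → ↥(FF A B)) : A (Th A B w₀ v) = Th A B w₀ ![delF A B * v 1, 0] := by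
  rw [Th_apply, Th_apply, map_add]
  have h1 : A ((v 0).1 w₀) = 0 := by
    rw [← Module.End.mul_apply, ← FF_comm_A A B hA _ (v 0).2, Module.End.mul_apply, hw₀, map_zero]
  have h2 : A ((v 1).1 (B w₀)) = (v 1).1 (del A B w₀) := by
    rw [← Module.End.mul_apply, ← FF_comm_A A B hA _ (v 1).2, Module.End.mul_apply]
    congr 1
    unfold del
    rw [LinearMap.add_apply, Module.End.mul_apply, Module.End.mul_apply, hw₀, map_zero, add_zero]
  rw [h1, h2, zero_add]
  simp only [Matrix.cons_val_zero, Matrix.cons_val_one, Subalgebra.coe_mul, Subalgebra.coe_zero,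
    LinearMap.zero_apply, add_zero]
  show (v 1).1 (del A B w₀) = (del A B * (v 1).1) w₀
  have h3 : del A B * (v 1).1 = (v 1).1 * del A B :=
    (FF_mul_comm A B _ _ (v 1).2 (delF A B).2).symm
  rw [h3]
  rfl

theorem B_Th (A B : Module.End (ZMod p) W) (hB : B * B = 0) (w₀ : W)
    (v : Fin 2 → ↥(FF A B)) : B (Th A B w₀ v) = Th A B w₀ ![0, v 0] := by
  rw [Th_apply, Th_apply, map_add]
  have h1 : B ((v 0).1 w₀) = (v 0).1 (B w₀) := by
    rw [← Module.End.mul_apply, ← FF_comm_B A B hB _ (v 0).2, Module.End.mul_apply]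
  have h2 : B ((v 1).1 (B w₀)) = 0 := by
    rw [← Module.End.mul_apply, ← FF_comm_B A B hB _ (v 1).2, Module.End.mul_apply,
      ← Module.End.mul_apply B B, hB, LinearMap.zero_apply, map_zero]
  rw [h1, h2, add_zero]
  simp

theorem exists_w0 (A : Module.End (ZMod p) W) (hA : A * A = 0) (hW : ∃ w : W, w ≠ 0) :
    ∃ w₀ : W, w₀ ≠ 0 ∧ A w₀ = 0 := by
  by_cases h : ∃ w, A w ≠ 0
  · obtain ⟨w, hw⟩ := h
    refine ⟨A w, hw, ?_⟩
    rw [← Module.End.mul_apply, hA, LinearMap.zero_apply]
  · push Not at h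
    obtain ⟨w, hw⟩ := hW
    exact ⟨w, hw, h w⟩

theorem Th_surjective (A B : Module.End (ZMod p) W) (hA : A * A = 0) (hB : B * B = 0)
    (hirr : ∀ X : AddSubgroup W, (∀ w ∈ X, A w ∈ X) → (∀ w ∈ X, B w ∈ X) → X = ⊥ ∨ X = ⊤)
    (w₀ : W) (hw₀ : w₀ ≠ 0) (hAw₀ : A w₀ = 0) : Function.Surjective (Th A B w₀) := by
  have h := hirr (Th A B w₀).range ?_ ?_
  · rcases h with h | h
    · exfalso
      apply hw₀
      have : w₀ ∈ (Th A B w₀).range := by
        refine ⟨![1, 0], ?_⟩
        rw [Th_apply]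
        simp
      rw [h] at this
      simpa using this
    · rw [← AddMonoidHom.range_eq_top]
      exact h
  · rintro w ⟨v, rfl⟩
    exact ⟨_, (A_Th A B hA w₀ hAw₀ v).symm⟩
  · rintro w ⟨v, rfl⟩
    exact ⟨_, (B_Th A B hB w₀ v).symm⟩

theorem del_ne_zero (A B : Module.End (ZMod p) W) (hA : A * A = 0) (hB : B * B = 0)
    (hirr : ∀ X : AddSubgroup W, (∀ w ∈ X, A w ∈ X) → (∀ w ∈ X, B w ∈ X) → X = ⊥ ∨ X = ⊤)
    (hnt : A ≠ 0 ∨ B ≠ 0) (w₀ : W) (hw₀ : w₀ ≠ 0) (hAw₀ : A w₀ = 0) : del A B ≠ 0 := by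
  intro hd
  have hsurj := Th_surjective A B hA hB hirr w₀ hw₀ hAw₀
  have hA0 : A = 0 := by
    ext w
    obtain ⟨v, rfl⟩ := hsurj w
    rw [A_Th A B hA w₀ hAw₀, Th_apply]
    have : (delF A B : ↥(FF A B)) = 0 := Subtype.ext hd
    simp [this]
  have hB0 : B = 0 := by
    have h := hirr (LinearMap.ker B).toAddSubgroup ?_ ?_
    · rcases h with h | h
      · ext w
        have h1 : B w ∈ (LinearMap.ker B).toAddSubgroup := by
          show B w ∈ LinearMap.ker B
          rw [LinearMap.mem_ker, ← Module.End.mul_apply, hB, LinearMap.zero_apply]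
        rw [h] at h1
        simpa using h1
      · ext w
        have : w ∈ (LinearMap.ker B).toAddSubgroup := by rw [h]; trivial
        simpa using this
    · intro w _
      rw [hA0]
      simp
    · intro w hw
      have hw' : B w = 0 := by simpa using hw
      rw [hw']
      exact zero_mem _
  rcases hnt with h | h
  · exact h hA0
  · exact h hB0

theorem eq_zero_of_apply_w0 (A B : Module.End (ZMod p) W) (hA : A * A = 0) (hB : B * B = 0)
    (hirr : ∀ X : AddSubgroup W, (∀ w ∈ X, A w ∈ X) → (∀ w ∈ X, B w ∈ X) → X = ⊥ ∨ X = ⊤)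
    (w₀ : W) (hw₀ : w₀ ≠ 0) (f : ↥(FF A B)) (hf : f.1 w₀ = 0) : f = 0 := by
  by_contra hne
  have hne' : f.1 ≠ 0 := fun h => hne (Subtype.ext h)
  have := FF_injective_of_ne_zero A B hA hB hirr f.1 f.2 hne'
  exact hw₀ (this (by rw [hf, map_zero]))

theorem mul_eq_zero_FF (A B : Module.End (ZMod p) W) (hA : A * A = 0) (hB : B * B = 0)
    (hirr : ∀ X : AddSubgroup W, (∀ w ∈ X, A w ∈ X) → (∀ w ∈ X, B w ∈ X) → X = ⊥ ∨ X = ⊤)
    (f g : ↥(FF A B)) (h : f * g = 0) : f = 0 ∨ g = 0 := by
  by_cases hf : f = 0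
  · exact Or.inl hf
  · right
    have hne' : f.1 ≠ 0 := fun h => hf (Subtype.ext h)
    have hinj := FF_injective_of_ne_zero A B hA hB hirr f.1 f.2 hne'
    apply Subtype.ext
    ext w
    apply hinj
    have h1 : (f * g).1 w = 0 := by rw [h]; rfl
    have h2 : f.1 ((0 : ↥(FF A B)).1 w) = 0 := by
      show f.1 ((0 : Module.End (ZMod p) W) w) = 0
      rw [LinearMap.zero_apply, map_zero]
    rw [h2]
    exact h1

theorem Th_injective (A B : Module.End (ZMod p) W) (hA : A * A = 0) (hB : B * B = 0)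
    (hirr : ∀ X : AddSubgroup W, (∀ w ∈ X, A w ∈ X) → (∀ w ∈ X, B w ∈ X) → X = ⊥ ∨ X = ⊤)
    (hnt : A ≠ 0 ∨ B ≠ 0) (w₀ : W) (hw₀ : w₀ ≠ 0) (hAw₀ : A w₀ = 0) :
    Function.Injective (Th A B w₀) := by
  rw [injective_iff_map_eq_zero]
  intro v hv
  have h1 : A (Th A B w₀ v) = 0 := by rw [hv, map_zero]
  rw [A_Th A B hA w₀ hAw₀, Th_apply] at h1
  simp only [Matrix.cons_val_zero, Matrix.cons_val_one, ZeroMemClass.coe_zero,
    LinearMap.zero_apply, add_zero] at h1
  have h2 := eq_zero_of_apply_w0 A B hA hB hirr w₀ hw₀ _ h1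
  have h3 : v 1 = 0 := by
    rcases mul_eq_zero_FF A B hA hB hirr _ _ h2 with h | h
    · exfalso
      exact del_ne_zero A B hA hB hirr hnt w₀ hw₀ hAw₀ (congrArg Subtype.val h)
    · exact h
  rw [Th_apply, h3] at hv
  simp only [ZeroMemClass.coe_zero, LinearMap.zero_apply, add_zero] at hv
  have h4 := eq_zero_of_apply_w0 A B hA hB hirr w₀ hw₀ _ hv
  funext i
  fin_cases i
  · exact h4
  · exact h3

theorem structure_thm [Finite W] (A B : Module.End (ZMod p) W) (hA : A * A = 0) (hB : B * B = 0)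
    (hirr : ∀ X : AddSubgroup W, (∀ w ∈ X, A w ∈ X) → (∀ w ∈ X, B w ∈ X) → X = ⊥ ∨ X = ⊤)
    (hnt : A ≠ 0 ∨ B ≠ 0) :
    ∃ (F : Type u) (_ : Field F) (_ : Fintype F) (_ : CharP F p) (Θ : (Fin 2 → F) ≃+ W) (γ : F),
      γ ≠ 0 ∧ (∀ v, A (Θ v) = Θ ![γ * v 1, 0]) ∧ (∀ v, B (Θ v) = Θ ![0, v 0]) := by
  classical
  have hW : ∃ w : W, w ≠ 0 := by
    by_contra h
    push Not at h
    have hz : ∀ f : Module.End (ZMod p) W, f = 0 := by
      intro f
      ext w
      rw [h w, map_zero, LinearMap.zero_apply]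
    rcases hnt with h1 | h1
    · exact h1 (hz A)
    · exact h1 (hz B)
  obtain ⟨w₀, hw₀, hAw₀⟩ := exists_w0 A hA hW
  have hsurj := Th_surjective A B hA hB hirr w₀ hw₀ hAw₀
  have hinj := Th_injective A B hA hB hirr hnt w₀ hw₀ hAw₀
  have hδ := del_ne_zero A B hA hB hirr hnt w₀ hw₀ hAw₀
  let cr : CommRing ↥(FF A B) :=
    { (inferInstance : Ring ↥(FF A B)) with
      mul_comm := fun f g => Subtype.ext (FF_mul_comm A B f.1 g.1 f.2 g.2) }
  have hnt' : Nontrivial ↥(FF A B) := by
    refine ⟨⟨0, 1, ?_⟩⟩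
    intro h
    have h1 := congrArg (fun f : ↥(FF A B) => f.1 w₀) h
    simp only [ZeroMemClass.coe_zero, LinearMap.zero_apply, OneMemClass.coe_one,
      Module.End.one_apply] at h1
    exact hw₀ h1.symm
  have hnzd : NoZeroDivisors ↥(FF A B) :=
    ⟨fun {f g} h => mul_eq_zero_FF A B hA hB hirr f g h⟩
  have hdom : IsDomain ↥(FF A B) := NoZeroDivisors.to_isDomain _
  have hfinE : Finite (Module.End (ZMod p) W) :=
    Finite.of_injective (fun f : Module.End (ZMod p) W => (f : W → W)) DFunLike.coe_injective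
  have hfin : Finite ↥(FF A B) := inferInstance
  let hft : Fintype ↥(FF A B) := Fintype.ofFinite _
  let fld : Field ↥(FF A B) := Fintype.fieldOfDomain _
  have hp0 : ((p : ℕ) : ↥(FF A B)) = 0 := by
    apply Subtype.ext
    ext w
    simp only [SubringClass.coe_natCast, ZeroMemClass.coe_zero, LinearMap.zero_apply]
    rw [Module.End.natCast_apply, ← Nat.cast_smul_eq_nsmul (ZMod p), ZMod.natCast_self, zero_smul]
  have hchar : CharP ↥(FF A B) p := by
    have := CharP.ringChar_of_prime_eq_zero hp.out hp0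
    exact ringChar.of_eq this
  refine ⟨↥(FF A B), fld, hft, hchar, AddEquiv.ofBijective (Th A B w₀) ⟨hinj, hsurj⟩, delF A B,
    ?_, ?_, ?_⟩
  · intro h
    exact hδ (congrArg Subtype.val h)
  · intro v
    exact A_Th A B hA w₀ hAw₀ v
  · intro v
    exact B_Th A B hB w₀ v

end

end Cfsg.Agent.Lib.helper17.QdStab1
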