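import Mathlib

set_option autoImplicit false

namespace Cfsg.Agent.Lib.helper17.QdStab2

open Matrix

universe u
variable {F : Type u} [Field F]

local notation "M2" => Matrix (Fin 2) (Fin 2)
local notation "SL2" => Matrix.SpecialLinearGroup (Fin 2)

/-- Cayley–Hamilton for `2 × 2` matrices -/
theorem ch2 (M : M2 F) : M * M = M.trace • M - M.det • (1 : M2 F) := by
  ext i j
  fin_cases i <;> fin_cases j <;>
    simp [Matrix.mul_apply, Fin.sum_univ_two, Matrix.trace_fin_two, Matrix.det_fin_two] <;> ring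

theorem sq_zero_of_nilpotent (N : M2 F) (k : ℕ) (h : N ^ k = 0) :
    N * N = 0 ∧ N.trace = 0 := by
  have hnil : IsNilpotent N := ⟨k, h⟩
  have htr : N.trace = 0 := (Matrix.isNilpotent_trace_of_isNilpotent hnil).eq_zero
  have hdet : N.det = 0 := by
    have : N.det ^ k = 0 := by rw [← Matrix.det_pow, h, Matrix.det_zero]
    exact pow_eq_zero_iff (n := k) (by
      rintro rfl
      rw [pow_zero] at h
      exact one_ne_zero h) |>.mp this
  refine ⟨?_, htr⟩
  rw [ch2, htr, hdet, zero_smul, zero_smul, sub_zero]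

theorem unip {p : ℕ} [Fact p.Prime] [CharP F p] (g : SL2 F) (k : ℕ)
    (h : g ^ p ^ k = 1) : ((g : M2 F) - 1) * ((g : M2 F) - 1) = 0 ∧ (g : M2 F).trace = 2 := by
  have h1 : ((g : M2 F) - 1) ^ p ^ k = 0 := by
    rw [sub_pow_char_pow_of_commute p k (Commute.one_right _), one_pow]
    have h' : ((g ^ p ^ k : SL2 F) : M2 F) = ((1 : SL2 F) : M2 F) := by rw [h]
    rw [Matrix.SpecialLinearGroup.coe_pow, Matrix.SpecialLinearGroup.coe_one] at h'
    rw [h', sub_self]
  obtain ⟨h2, h3⟩ := sq_zero_of_nilpotent _ _ h1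
  refine ⟨h2, ?_⟩
  rw [Matrix.trace_sub, Matrix.trace_one, Fintype.card_fin] at h3
  have : (g : M2 F).trace = (2 : ℕ) := sub_eq_zero.mp h3
  rw [this]; norm_num

theorem std_of_relations (h2 : (2 : F) ≠ 0) (X Y : M2 F)
    (hX : (X - 1) * (X - 1) = 0) (hY : (Y - 1) * (Y - 1) = 0)
    (hXtr : X.trace = 2) (hYtr : Y.trace = 2) (hY1 : Y ≠ 1)
    (hdet : (X * Y * X).det = 1) (hW : (X * Y * X) * (X * Y * X) = -1) :
    ∃ e₁ e₂ : Fin 2 → F, X *ᵥ e₁ = e₁ ∧ X *ᵥ e₂ = e₁ + e₂ ∧ Y *ᵥ e₁ = e₁ - e₂ ∧ Y *ᵥ e₂ = e₂ ∧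
      (∀ c d : F, c • e₁ + d • e₂ = 0 → c = 0 ∧ d = 0) := by
  set Nx := X - 1 with hNx
  set Ny := Y - 1 with hNy
  have hXe : X = 1 + Nx := by rw [hNx]; abel
  have hYe : Y = 1 + Ny := by rw [hNy]; abel
  have htx : Nx.trace = 0 := by
    rw [hNx, Matrix.trace_sub, hXtr, Matrix.trace_one, Fintype.card_fin]; norm_num
  have hty : Ny.trace = 0 := by
    rw [hNy, Matrix.trace_sub, hYtr, Matrix.trace_one, Fintype.card_fin]; norm_num
  -- trace of W vanishes
  have hWtr : (X * Y * X).trace = 0 := by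
    have h1 := ch2 (X * Y * X)
    rw [hW, hdet, one_smul] at h1
    have h3 : (X * Y * X).trace • (X * Y * X) = 0 := by
      have : (X * Y * X).trace • (X * Y * X) = -1 + 1 := by rw [h1]; abel
      rw [this]; abel
    rcases smul_eq_zero.mp h3 with h | h
    · exact h
    · exfalso
      rw [h, Matrix.det_zero] at hdet
      exact zero_ne_one hdet
  -- compute the trace
  have hXX : X * X = 1 + (2 : F) • Nx := by
    rw [hXe]
    have : (1 + Nx) * (1 + Nx) = 1 + Nx + Nx + Nx * Nx := by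
      rw [add_mul, mul_add, mul_add, one_mul, one_mul, mul_one]; abel
    rw [this, hX, add_zero, two_smul]; abel
  have htr2 : (Ny * Nx).trace = -1 := by
    have h1 : (X * Y * X).trace = (Y * (X * X)).trace := by
      rw [Matrix.trace_mul_cycle, Matrix.trace_mul_comm]
    rw [h1, hXX, mul_add, mul_one, Matrix.trace_add, hYtr, Matrix.mul_smul, Matrix.trace_smul, hYe,
      add_mul, one_mul, Matrix.trace_add, htx, zero_add, smul_eq_mul] at hWtr
    have : (2 : F) * (1 + (Ny * Nx).trace) = 0 := by linear_combination hWtr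
    rcases mul_eq_zero.mp this with h | h
    · exact absurd h h2
    · linear_combination h
  -- anticommutator
  have hanti : Nx * Ny + Ny * Nx = -1 := by
    have h1 := ch2 (Nx + Ny)
    have htr : (Nx + Ny).trace = 0 := by rw [Matrix.trace_add, htx, hty, add_zero]
    rw [htr, zero_smul, zero_sub] at h1
    have h3 : (Nx + Ny) * (Nx + Ny) = Nx * Ny + Ny * Nx := by
      rw [add_mul, mul_add, mul_add, hX, hY]; abel
    rw [h3] at h1
    have h4 := congrArg Matrix.trace h1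
    rw [Matrix.trace_add, Matrix.trace_mul_comm Nx Ny, htr2, Matrix.trace_neg, Matrix.trace_smul,
      Matrix.trace_one, Fintype.card_fin, smul_eq_mul] at h4
    have h5 : (Nx + Ny).det = 1 := by
      have : (2 : F) * ((Nx + Ny).det - 1) = 0 := by push_cast at h4; linear_combination h4
      rcases mul_eq_zero.mp this with h | h
      · exact absurd h h2
      · linear_combination h
    rw [h1, h5, one_smul]
  -- vectors
  have hv : ∃ v : Fin 2 → F, Ny *ᵥ v ≠ 0 := by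
    by_contra h
    push Not at h
    apply hY1
    have : Ny = 0 := by
      ext i j
      have := congrFun (h (Pi.single j 1)) i
      simpa using this
    rw [hYe, this, add_zero]
  obtain ⟨v, hv⟩ := hv
  set e₂ := Ny *ᵥ v with he₂
  set e₁ := Nx *ᵥ e₂ with he₁
  have hNye₂ : Ny *ᵥ e₂ = 0 := by
    rw [he₂, Matrix.mulVec_mulVec, hY, Matrix.zero_mulVec]
  have hNxe₁ : Nx *ᵥ e₁ = 0 := by
    rw [he₁, Matrix.mulVec_mulVec, hX, Matrix.zero_mulVec]
  have hNye₁ : Ny *ᵥ e₁ = -e₂ := by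
    have h1 := congrArg (fun M : M2 F => M *ᵥ e₂) hanti
    simp only [Matrix.add_mulVec, Matrix.neg_mulVec, Matrix.one_mulVec] at h1
    rw [← Matrix.mulVec_mulVec, ← Matrix.mulVec_mulVec, hNye₂, Matrix.mulVec_zero, zero_add] at h1
    exact h1
  refine ⟨e₁, e₂, ?_, ?_, ?_, ?_, ?_⟩
  · rw [hXe, Matrix.add_mulVec, Matrix.one_mulVec, hNxe₁, add_zero]
  · rw [hXe, Matrix.add_mulVec, Matrix.one_mulVec, add_comm]
  · rw [hYe, Matrix.add_mulVec, Matrix.one_mulVec, hNye₁, sub_eq_add_neg]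
  · rw [hYe, Matrix.add_mulVec, Matrix.one_mulVec, hNye₂, add_zero]
  · intro c d hcd
    have h1 := congrArg (fun w => Ny *ᵥ w) hcd
    simp only [Matrix.mulVec_add, Matrix.mulVec_smul, hNye₁, hNye₂, smul_zero, add_zero,
      Matrix.mulVec_zero, smul_neg, neg_eq_zero] at h1
    have hc : c = 0 := by
      rcases smul_eq_zero.mp h1 with h | h
      · exact h
      · exact absurd h hv
    rw [hc, zero_smul, zero_add] at hcd
    rcases smul_eq_zero.mp hcd with h | h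
    · exact ⟨hc, h⟩
    · exact absurd h hv

theorem inv2 (h2 : (2 : F) ≠ 0) (Z : SL2 F) (hZ : Z * Z = 1) (hZ1 : Z ≠ 1) : (Z : M2 F) = -1 := by
  have h1 := ch2 (Z : M2 F)
  have h3 : (Z : M2 F) * (Z : M2 F) = 1 := by
    rw [← Matrix.SpecialLinearGroup.coe_mul, hZ, Matrix.SpecialLinearGroup.coe_one]
  rw [h3, Z.det_coe, one_smul] at h1
  have h4 : (Z : M2 F).trace • (Z : M2 F) = (2 : F) • (1 : M2 F) := by
    have : (Z : M2 F).trace • (Z : M2 F) = 1 + 1 := by
      nth_rw 1 [h1]; abel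
    rw [this, two_smul]
  have htr : (Z : M2 F).trace ≠ 0 := by
    intro h
    rw [h, zero_smul] at h4
    have := congrFun (congrFun h4 0) 0
    simp at this
    exact h2 this.symm
  set c := (2 : F) / (Z : M2 F).trace with hc
  have h5 : (Z : M2 F) = c • (1 : M2 F) := by
    have : (Z : M2 F) = ((Z : M2 F).trace)⁻¹ • ((Z : M2 F).trace • (Z : M2 F)) := by
      rw [smul_smul, inv_mul_cancel₀ htr, one_smul]
    rw [this, h4, smul_smul, hc, div_eq_mul_inv, mul_comm]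
  have h6 : c * c = 1 := by
    have := Z.det_coe
    rw [h5, Matrix.det_smul, Matrix.det_one, Fintype.card_fin, mul_one, pow_two] at this
    exact this
  have h7 : c = 1 ∨ c = -1 := by
    have : (c - 1) * (c + 1) = 0 := by linear_combination h6
    rcases mul_eq_zero.mp this with h | h
    · left; linear_combination h
    · right; linear_combination h
  rcases h7 with h | h
  · exfalso
    apply hZ1
    apply Subtype.ext
    rw [h5, h, one_smul]
    rfl
  · rw [h5, h, neg_smul, one_smul]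

section Std
variable {p : ℕ} [hp : Fact p.Prime]

/-- the standard upper transvection -/
def u1 : SL2 (ZMod p) := ⟨!![1, 1; 0, 1], by simp [Matrix.det_fin_two]⟩
/-- the standard lower transvection with entry `-1` -/
def lm1 : SL2 (ZMod p) := ⟨!![1, 0; -1, 1], by simp [Matrix.det_fin_two]⟩

theorem coe_u1 : ((u1 : SL2 (ZMod p)) : M2 (ZMod p)) = !![1, 1; 0, 1] := rfl
theorem coe_lm1 : ((lm1 : SL2 (ZMod p)) : M2 (ZMod p)) = !![1, 0; -1, 1] := rfl

theorem u1_pow (k : ℕ) : ((u1 ^ k : SL2 (ZMod p)) : M2 (ZMod p)) = !![1, (k : ZMod p); 0, 1] := by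
  induction k with
  | zero =>
    rw [pow_zero, Matrix.SpecialLinearGroup.coe_one]
    ext i j
    fin_cases i <;> fin_cases j <;> simp
  | succ k ih =>
    rw [pow_succ, Matrix.SpecialLinearGroup.coe_mul, ih, coe_u1]
    ext i j
    fin_cases i <;> fin_cases j <;> simp [Matrix.mul_apply, Fin.sum_univ_two]
    ring

theorem lm1_pow (k : ℕ) : ((lm1 ^ k : SL2 (ZMod p)) : M2 (ZMod p)) = !![1, 0; -(k : ZMod p), 1] := by
  induction k with
  | zero =>
    rw [pow_zero, Matrix.SpecialLinearGroup.coe_one]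
    ext i j
    fin_cases i <;> fin_cases j <;> simp
  | succ k ih =>
    rw [pow_succ, Matrix.SpecialLinearGroup.coe_mul, ih, coe_lm1]
    ext i j
    fin_cases i <;> fin_cases j <;> simp [Matrix.mul_apply, Fin.sum_univ_two]
    ring

theorem u1_pow_p : (u1 : SL2 (ZMod p)) ^ p = 1 := by
  apply Subtype.ext
  show ((u1 ^ p : SL2 (ZMod p)) : M2 (ZMod p)) = ((1 : SL2 (ZMod p)) : M2 (ZMod p))
  rw [u1_pow, Matrix.SpecialLinearGroup.coe_one, ZMod.natCast_self]
  ext i j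
  fin_cases i <;> fin_cases j <;> simp

theorem lm1_pow_p : (lm1 : SL2 (ZMod p)) ^ p = 1 := by
  apply Subtype.ext
  show ((lm1 ^ p : SL2 (ZMod p)) : M2 (ZMod p)) = ((1 : SL2 (ZMod p)) : M2 (ZMod p))
  rw [lm1_pow, Matrix.SpecialLinearGroup.coe_one, ZMod.natCast_self]
  ext i j
  fin_cases i <;> fin_cases j <;> simp

theorem coe_w : ((u1 * lm1 * u1 : SL2 (ZMod p)) : M2 (ZMod p)) = !![0, 1; -1, 0] := by
  rw [Matrix.SpecialLinearGroup.coe_mul, Matrix.SpecialLinearGroup.coe_mul, coe_u1, coe_lm1]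
  ext i j
  fin_cases i <;> fin_cases j <;> simp [Matrix.mul_apply, Fin.sum_univ_two]

theorem coe_w_sq : (((u1 * lm1 * u1) * (u1 * lm1 * u1) : SL2 (ZMod p)) : M2 (ZMod p)) = -1 := by
  rw [Matrix.SpecialLinearGroup.coe_mul, coe_w]
  ext i j
  fin_cases i <;> fin_cases j <;> simp [Matrix.mul_apply, Fin.sum_univ_two]

theorem w_four : ((u1 * lm1 * u1) * (u1 * lm1 * u1) : SL2 (ZMod p)) *
    ((u1 * lm1 * u1) * (u1 * lm1 * u1)) = 1 := by
  apply Subtype.ext
  show (((u1 * lm1 * u1) * (u1 * lm1 * u1) * ((u1 * lm1 * u1) * (u1 * lm1 * u1)) : SL2 (ZMod p)) :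
    M2 (ZMod p)) = ((1 : SL2 (ZMod p)) : M2 (ZMod p))
  rw [Matrix.SpecialLinearGroup.coe_mul, coe_w_sq, Matrix.SpecialLinearGroup.coe_one]
  simp

theorem w_sq_ne_one (hp2 : p ≠ 2) : ((u1 * lm1 * u1) * (u1 * lm1 * u1) : SL2 (ZMod p)) ≠ 1 := by
  intro h
  have h1 : (((u1 * lm1 * u1) * (u1 * lm1 * u1) : SL2 (ZMod p)) : M2 (ZMod p)) =
      ((1 : SL2 (ZMod p)) : M2 (ZMod p)) := by rw [h]
  rw [coe_w_sq, Matrix.SpecialLinearGroup.coe_one] at h1
  have h2 := congrFun (congrFun h1 0) 0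
  simp only [Matrix.neg_apply, Matrix.one_apply_eq] at h2
  have h3 : (2 : ZMod p) = 0 := by linear_combination -h2
  have h4 : ((2 : ℕ) : ZMod p) = 0 := by exact_mod_cast h3
  rw [ZMod.natCast_eq_zero_iff] at h4
  have := (Nat.prime_dvd_prime_iff_eq hp.out Nat.prime_two).mp h4
  exact hp2 this

theorem lm1_ne_one : (lm1 : SL2 (ZMod p)) ≠ 1 := by
  intro h
  have h1 : ((lm1 : SL2 (ZMod p)) : M2 (ZMod p)) = ((1 : SL2 (ZMod p)) : M2 (ZMod p)) := by rw [h]
  rw [coe_lm1, Matrix.SpecialLinearGroup.coe_one] at h1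
  have h2 := congrFun (congrFun h1 1) 0
  simp at h2

theorem std_pair [CharP F p] (hp2 : p ≠ 2) (f : SL2 (ZMod p) →* SL2 F) (hf : Function.Injective f) :
    ∃ e₁ e₂ : Fin 2 → F, (f u1 : M2 F) *ᵥ e₁ = e₁ ∧ (f u1 : M2 F) *ᵥ e₂ = e₁ + e₂ ∧
      (f lm1 : M2 F) *ᵥ e₁ = e₁ - e₂ ∧ (f lm1 : M2 F) *ᵥ e₂ = e₂ ∧
      (∀ c d : F, c • e₁ + d • e₂ = 0 → c = 0 ∧ d = 0) := by
  have h2 : (2 : F) ≠ 0 := by
    intro h
    have h4 : ((2 : ℕ) : F) = 0 := by exact_mod_cast h
    rw [CharP.cast_eq_zero_iff F p] at h4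
    exact hp2 ((Nat.prime_dvd_prime_iff_eq hp.out Nat.prime_two).mp h4)
  have hX := unip (p := p) (f u1) 1 (by rw [pow_one, ← map_pow, u1_pow_p, map_one])
  have hY := unip (p := p) (f lm1) 1 (by rw [pow_one, ← map_pow, lm1_pow_p, map_one])
  have hY1 : (f lm1 : M2 F) ≠ 1 := by
    intro h
    apply lm1_ne_one (p := p)
    apply hf
    rw [map_one]
    apply Subtype.ext
    rw [h]
    rfl
  have hZ : (f ((u1 * lm1 * u1) * (u1 * lm1 * u1)) : M2 F) = -1 := by
    apply inv2 h2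
    · rw [← map_mul, w_four, map_one]
    · intro h
      apply w_sq_ne_one (p := p) hp2
      apply hf
      rw [h, map_one]
  have hW : ((f u1 : M2 F) * (f lm1 : M2 F) * (f u1 : M2 F)) *
      ((f u1 : M2 F) * (f lm1 : M2 F) * (f u1 : M2 F)) = -1 := by
    rw [← hZ]
    simp only [map_mul, Matrix.SpecialLinearGroup.coe_mul]
  have hdet : ((f u1 : M2 F) * (f lm1 : M2 F) * (f u1 : M2 F)).det = 1 := by
    rw [Matrix.det_mul, Matrix.det_mul, Matrix.SpecialLinearGroup.det_coe,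
      Matrix.SpecialLinearGroup.det_coe, mul_one, mul_one]
  exact std_of_relations h2 _ _ hX.1 hY.1 hX.2 hY.2 hY1 hdet hW

end Std

section Dickson
variable {p : ℕ} [hp : Fact p.Prime]

/-- Dickson's theorem in the weak form of statement `S0274`, as a hypothesis -/
def DicksonLite (p : ℕ) [Fact p.Prime] : Prop :=
  ∀ (F : Type u) [Field F] [Fintype F] [CharP F p] (H : Subgroup (SL2 F)),
    1 < Nat.card (Sylow p H) → ∃ K : Subgroup (SL2 F), K ≤ H ∧ Nonempty (K ≃* SL2 (ZMod p))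

/-- upper transvection -/
def uu (γ : F) : SL2 F := ⟨!![1, γ; 0, 1], by simp [Matrix.det_fin_two]⟩
/-- lower transvection with entry `1` -/
def ll : SL2 F := ⟨!![1, 0; 1, 1], by simp [Matrix.det_fin_two]⟩

theorem coe_uu (γ : F) : ((uu γ : SL2 F) : M2 F) = !![1, γ; 0, 1] := rfl
theorem coe_ll : ((ll : SL2 F) : M2 F) = !![1, 0; 1, 1] := rfl

theorem uu_pow (γ : F) (k : ℕ) : ((uu γ ^ k : SL2 F) : M2 F) = !![1, (k : F) * γ; 0, 1] := by
  induction k with
  | zero =>
    rw [pow_zero, Matrix.SpecialLinearGroup.coe_one]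
    ext i j
    fin_cases i <;> fin_cases j <;> simp
  | succ k ih =>
    rw [pow_succ, Matrix.SpecialLinearGroup.coe_mul, ih, coe_uu]
    ext i j
    fin_cases i <;> fin_cases j <;> simp [Matrix.mul_apply, Fin.sum_univ_two]
    ring

theorem ll_pow (k : ℕ) : ((ll ^ k : SL2 F) : M2 F) = !![1, 0; (k : F), 1] := by
  induction k with
  | zero =>
    rw [pow_zero, Matrix.SpecialLinearGroup.coe_one]
    ext i j
    fin_cases i <;> fin_cases j <;> simp
  | succ k ih =>
    rw [pow_succ, Matrix.SpecialLinearGroup.coe_mul, ih, coe_ll]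
    ext i j
    fin_cases i <;> fin_cases j <;> simp [Matrix.mul_apply, Fin.sum_univ_two]

omit hp in
theorem uu_pow_p [CharP F p] (γ : F) : (uu γ : SL2 F) ^ p = 1 := by
  apply Subtype.ext
  show ((uu γ ^ p : SL2 F) : M2 F) = ((1 : SL2 F) : M2 F)
  rw [uu_pow, Matrix.SpecialLinearGroup.coe_one, CharP.cast_eq_zero F p]
  ext i j
  fin_cases i <;> fin_cases j <;> simp

omit hp in
theorem ll_pow_p [CharP F p] : (ll : SL2 F) ^ p = 1 := by
  apply Subtype.ext
  show ((ll ^ p : SL2 F) : M2 F) = ((1 : SL2 F) : M2 F)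
  rw [ll_pow, Matrix.SpecialLinearGroup.coe_one, CharP.cast_eq_zero F p]
  ext i j
  fin_cases i <;> fin_cases j <;> simp

omit hp in
theorem isPGroup_zpowers_of_pow_p {G : Type*} [Group G] (g : G) (hg : g ^ p = 1) :
    IsPGroup p (Subgroup.zpowers g) := by
  rintro ⟨x, hx⟩
  obtain ⟨j, rfl⟩ := Subgroup.mem_zpowers_iff.mp hx
  refine ⟨1, ?_⟩
  apply Subtype.ext
  show (g ^ j) ^ p ^ 1 = 1
  rw [pow_one, ← zpow_natCast, ← _root_.zpow_mul, mul_comm, _root_.zpow_mul, zpow_natCast, hg, _root_.one_zpow]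

theorem many_sylow [Fintype F] [CharP F p] (γ : F) (hγ : γ ≠ 0) :
    1 < Nat.card (Sylow p (Subgroup.closure ({uu γ, ll} : Set (SL2 F)))) := by
  by_contra hcon
  push Not at hcon
  set L := Subgroup.closure ({uu γ, ll} : Set (SL2 F)) with hL
  have hne : Nonempty (Sylow p L) := inferInstance
  have hpos : 0 < Nat.card (Sylow p L) := Nat.card_pos
  have hone : Nat.card (Sylow p L) = 1 := by omega
  have hsub : Subsingleton (Sylow p L) := (Nat.card_eq_one_iff_unique.mp hone).1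
  have haL : uu γ ∈ L := Subgroup.subset_closure (by simp)
  have hbL : (ll : SL2 F) ∈ L := Subgroup.subset_closure (by simp)
  obtain ⟨Pa, hPa⟩ := (isPGroup_zpowers_of_pow_p (p := p) (⟨uu γ, haL⟩ : L)
    (Subtype.ext (uu_pow_p (p := p) γ))).exists_le_sylow
  obtain ⟨Pb, hPb⟩ := (isPGroup_zpowers_of_pow_p (p := p) (⟨ll, hbL⟩ : L)
    (Subtype.ext (ll_pow_p (p := p)))).exists_le_sylow
  have hPab : Pa = Pb := Subsingleton.elim _ _
  have ha : (⟨uu γ, haL⟩ : L) ∈ Pa := hPa (Subgroup.mem_zpowers _)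
  have hb : (⟨ll, hbL⟩ : L) ∈ Pa := hPab ▸ hPb (Subgroup.mem_zpowers _)
  have hab := Pa.mul_mem ha hb
  obtain ⟨k, hk⟩ := Pa.isPGroup' ⟨_, hab⟩
  have hk' : (uu γ * ll : SL2 F) ^ p ^ k = 1 := by
    have := congrArg (fun x : Pa => ((x : L) : SL2 F)) hk
    simpa using this
  have htr := (unip (p := p) _ k hk').2
  rw [Matrix.SpecialLinearGroup.coe_mul, coe_uu, coe_ll] at htr
  simp [Matrix.trace_fin_two] at htr
  apply hγ
  linear_combination htr

theorem gen_pair [Fintype F] [CharP F p] (hp2 : p ≠ 2) (hD : DicksonLite.{u} p) (γ : F) (hγ : γ ≠ 0) :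
    ∃ (X Y : SL2 F) (e₁ e₂ : Fin 2 → F), X ∈ Subgroup.closure ({uu γ, ll} : Set (SL2 F)) ∧
      Y ∈ Subgroup.closure ({uu γ, ll} : Set (SL2 F)) ∧
      (X : M2 F) *ᵥ e₁ = e₁ ∧ (X : M2 F) *ᵥ e₂ = e₁ + e₂ ∧
      (Y : M2 F) *ᵥ e₁ = e₁ - e₂ ∧ (Y : M2 F) *ᵥ e₂ = e₂ ∧
      (∀ c d : F, c • e₁ + d • e₂ = 0 → c = 0 ∧ d = 0) := by
  obtain ⟨K, hK, ⟨e⟩⟩ := hD F _ (many_sylow (p := p) γ hγ)
  set f : SL2 (ZMod p) →* SL2 F := K.subtype.comp e.symm.toMonoidHom with hf
  have hinj : Function.Injective f := by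
    rw [hf]
    exact K.subtype_injective.comp e.symm.injective
  obtain ⟨e₁, e₂, h1, h2, h3, h4, h5⟩ := std_pair (F := F) hp2 f hinj
  refine ⟨f u1, f lm1, e₁, e₂, hK ?_, hK ?_, h1, h2, h3, h4, h5⟩
  · exact (e.symm u1).2
  · exact (e.symm lm1).2

end Dickson

end Cfsg.Agent.Lib.helper17.QdStab2
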