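import Mathlib
import Cfsg.Agent.Lib.helper17.QdStab1
import Cfsg.Agent.Lib.helper17.QdStab2

set_option autoImplicit false

namespace Cfsg.Agent.Lib.helper17.QdStab3

open Matrix Cfsg.Agent.Lib.helper17

universe u

local notation "M2" => Matrix (Fin 2) (Fin 2)
local notation "SL2" => Matrix.SpecialLinearGroup (Fin 2)

variable {p : ℕ} [hp : Fact p.Prime] {W : Type u} [AddCommGroup W] [Module (ZMod p) W]
  {Γ : Type*} [Group Γ]

theorem lin_main [Finite W] (hp2 : p ≠ 2) (hD : QdStab2.DicksonLite.{u} p)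
    (ρ : Γ →* Module.End (ZMod p) W) (a b : Γ)
    (hA : (ρ a - 1) * (ρ a - 1) = 0) (hB : (ρ b - 1) * (ρ b - 1) = 0)
    (hirr : ∀ X : AddSubgroup W, (∀ w ∈ X, ρ a w ∈ X) → (∀ w ∈ X, ρ b w ∈ X) → X = ⊥ ∨ X = ⊤)
    (hnt : ρ a ≠ 1 ∨ ρ b ≠ 1) :
    ∃ x ∈ Subgroup.closure ({a, b} : Set Γ), ∃ y ∈ Subgroup.closure ({a, b} : Set Γ),
      ∃ e₁ e₂ : W, ρ x e₁ = e₁ ∧ ρ x e₂ = e₁ + e₂ ∧ ρ y e₁ = e₁ - e₂ ∧ ρ y e₂ = e₂ ∧
        (∀ i j : ℕ, i • e₁ + j • e₂ = 0 → p ∣ i ∧ p ∣ j) := by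
  have hirr' : ∀ X : AddSubgroup W, (∀ w ∈ X, (ρ a - 1) w ∈ X) → (∀ w ∈ X, (ρ b - 1) w ∈ X) →
      X = ⊥ ∨ X = ⊤ := by
    intro X h1 h2
    apply hirr X
    · intro w hw
      have := X.add_mem (h1 w hw) hw
      simpa using this
    · intro w hw
      have := X.add_mem (h2 w hw) hw
      simpa using this
  have hnt' : ρ a - 1 ≠ 0 ∨ ρ b - 1 ≠ 0 := by
    rcases hnt with h | h
    · left; exact sub_ne_zero.mpr h
    · right; exact sub_ne_zero.mpr h
  obtain ⟨F, instF, instFt, instC, Θ, γ, hγ, hAΘ, hBΘ⟩ :=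
    QdStab1.structure_thm (ρ a - 1) (ρ b - 1) hA hB hirr' hnt'
  obtain ⟨X, Y, f₁, f₂, hX, hY, h1, h2, h3, h4, h5⟩ := QdStab2.gen_pair (p := p) hp2 hD γ hγ
  -- lifting elements of the closure
  have key : ∀ M ∈ Subgroup.closure ({QdStab2.uu γ, QdStab2.ll} : Set (SL2 F)),
      ∃ g ∈ Subgroup.closure ({a, b} : Set Γ), ∀ v : Fin 2 → F, ρ g (Θ v) = Θ ((M : M2 F) *ᵥ v) := by
    intro M hM
    induction hM using Subgroup.closure_induction with
    | mem M hM =>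
      rcases hM with rfl | hM
      · refine ⟨a, Subgroup.subset_closure (by simp), fun v => ?_⟩
        have h := hAΘ v
        rw [LinearMap.sub_apply, Module.End.one_apply, sub_eq_iff_eq_add] at h
        rw [h, ← map_add]
        congr 1
        rw [QdStab2.coe_uu]
        ext i
        fin_cases i <;> simp [Matrix.mulVec, dotProduct, Fin.sum_univ_two]
        ring
      · rw [Set.mem_singleton_iff] at hM
        subst hM
        refine ⟨b, Subgroup.subset_closure (by simp), fun v => ?_⟩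
        have h := hBΘ v
        rw [LinearMap.sub_apply, Module.End.one_apply, sub_eq_iff_eq_add] at h
        rw [h, ← map_add]
        congr 1
        rw [QdStab2.coe_ll]
        ext i
        fin_cases i <;> simp [Matrix.mulVec, dotProduct, Fin.sum_univ_two]
    | one =>
      refine ⟨1, Subgroup.one_mem _, fun v => ?_⟩
      rw [map_one, Module.End.one_apply, Matrix.SpecialLinearGroup.coe_one, Matrix.one_mulVec]
    | mul M N _ _ ihM ihN =>
      obtain ⟨g, hg, hgv⟩ := ihM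
      obtain ⟨g', hg', hgv'⟩ := ihN
      refine ⟨g * g', Subgroup.mul_mem _ hg hg', fun v => ?_⟩
      rw [map_mul, Module.End.mul_apply, hgv', hgv, Matrix.SpecialLinearGroup.coe_mul,
        Matrix.mulVec_mulVec]
    | inv M _ ihM =>
      obtain ⟨g, hg, hgv⟩ := ihM
      refine ⟨g⁻¹, Subgroup.inv_mem _ hg, fun v => ?_⟩
      have h6 := hgv (((M⁻¹ : SL2 F) : M2 F) *ᵥ v)
      rw [Matrix.mulVec_mulVec, ← Matrix.SpecialLinearGroup.coe_mul, mul_inv_cancel,
        Matrix.SpecialLinearGroup.coe_one, Matrix.one_mulVec] at h6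
      rw [← h6, ← Module.End.mul_apply, ← map_mul, inv_mul_cancel, map_one, Module.End.one_apply]
  obtain ⟨x, hx, hxv⟩ := key X hX
  obtain ⟨y, hy, hyv⟩ := key Y hY
  refine ⟨x, hx, y, hy, Θ f₁, Θ f₂, ?_, ?_, ?_, ?_, ?_⟩
  · rw [hxv, h1]
  · rw [hxv, h2, map_add]
  · rw [hyv, h3, map_sub]
  · rw [hyv, h4]
  · intro i j hij
    rw [← map_nsmul, ← map_nsmul, ← map_add, map_eq_zero_iff Θ Θ.injective,
      ← Nat.cast_smul_eq_nsmul F, ← Nat.cast_smul_eq_nsmul F] at hij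
    obtain ⟨hi, hj⟩ := h5 _ _ hij
    exact ⟨(CharP.cast_eq_zero_iff F p i).mp hi, (CharP.cast_eq_zero_iff F p j).mp hj⟩

end Cfsg.Agent.Lib.helper17.QdStab3
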