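import Mathlib
import Cfsg.Agent.Lib.helper17.QdStab3

set_option autoImplicit false

namespace Cfsg.Agent.Lib.helper17.QdStab4

open Matrix Cfsg.Agent.Lib.helper17

universe u

local notation "M2" => Matrix (Fin 2) (Fin 2)
local notation "SL2" => Matrix.SpecialLinearGroup (Fin 2)

variable {p : ℕ} [hp : Fact p.Prime] {W : Type u} [AddCommGroup W] [Module (ZMod p) W]
  {Γ : Type*} [Group Γ]

/-- inverse of a quadratic element -/
theorem quad_inv (ρ : Γ →* Module.End (ZMod p) W) (a : Γ)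
    (hA : (ρ a - 1) * (ρ a - 1) = 0) : ρ a⁻¹ = 1 + 1 - ρ a := by
  have h1 : (ρ a - 1) * (ρ a - 1) = ρ a * ρ a - ρ a - ρ a + 1 := by noncomm_ring
  rw [h1] at hA
  have h2 : ρ a * ρ a = ρ a + ρ a - 1 := by
    calc ρ a * ρ a = (ρ a * ρ a - ρ a - ρ a + 1) + (ρ a + ρ a - 1) := by abel
      _ = ρ a + ρ a - 1 := by rw [hA, zero_add]
  have h3 : ρ a * (1 + 1 - ρ a) = 1 := by
    rw [mul_sub, mul_add, mul_one, h2]; abel
  calc ρ a⁻¹ = ρ a⁻¹ * (ρ a * (1 + 1 - ρ a)) := by rw [h3, mul_one]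
    _ = (ρ a⁻¹ * ρ a) * (1 + 1 - ρ a) := by rw [mul_assoc]
    _ = 1 + 1 - ρ a := by rw [← map_mul, inv_mul_cancel, map_one, one_mul]

/-- one-directional invariance under the two generators -/
def Inv (ρ : Γ →* Module.End (ZMod p) W) (a b : Γ) (X : Submodule (ZMod p) W) : Prop :=
  (∀ w ∈ X, ρ a w ∈ X) ∧ (∀ w ∈ X, ρ b w ∈ X)

/-- the stabilizer of a submodule -/
def stab (ρ : Γ →* Module.End (ZMod p) W) (X : Submodule (ZMod p) W) : Subgroup Γ where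
  carrier := {γ | ∀ w, ρ γ w ∈ X ↔ w ∈ X}
  one_mem' := by
    intro w
    rw [map_one, Module.End.one_apply]
  mul_mem' := by
    intro γ γ' h h' w
    rw [map_mul, Module.End.mul_apply, h, h']
  inv_mem' := by
    intro γ h w
    rw [← h (ρ γ⁻¹ w), ← Module.End.mul_apply, ← map_mul, mul_inv_cancel, map_one,
      Module.End.one_apply]

theorem mem_stab (ρ : Γ →* Module.End (ZMod p) W) (X : Submodule (ZMod p) W) (γ : Γ) :
    γ ∈ stab ρ X ↔ ∀ w, ρ γ w ∈ X ↔ w ∈ X := Iff.rfl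

theorem mem_stab_of_quad (ρ : Γ →* Module.End (ZMod p) W) (a : Γ)
    (hA : (ρ a - 1) * (ρ a - 1) = 0) (X : Submodule (ZMod p) W) (h : ∀ w ∈ X, ρ a w ∈ X) :
    a ∈ stab ρ X := by
  intro w
  refine ⟨fun hw => ?_, h w⟩
  have h1 : w = ρ a⁻¹ (ρ a w) := by
    rw [← Module.End.mul_apply, ← map_mul, inv_mul_cancel, map_one, Module.End.one_apply]
  rw [h1, quad_inv ρ a hA]
  simp only [LinearMap.sub_apply, LinearMap.add_apply, Module.End.one_apply]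
  exact X.sub_mem (X.add_mem hw hw) (h _ hw)

theorem closure_le_stab (ρ : Γ →* Module.End (ZMod p) W) (a b : Γ)
    (hA : (ρ a - 1) * (ρ a - 1) = 0) (hB : (ρ b - 1) * (ρ b - 1) = 0)
    (X : Submodule (ZMod p) W) (h : Inv ρ a b X) :
    Subgroup.closure ({a, b} : Set Γ) ≤ stab ρ X := by
  rw [Subgroup.closure_le]
  intro γ hγ
  rcases hγ with rfl | hγ
  · exact mem_stab_of_quad ρ _ hA X h.1
  · rw [Set.mem_singleton_iff] at hγ
    subst hγ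
    exact mem_stab_of_quad ρ _ hB X h.2

/-- the chain lemma for an element of order prime to `p` -/
theorem chain (ρ : Γ →* Module.End (ZMod p) W) (l : Γ) (m : ℕ) (hlm : l ^ m = 1)
    (hm : m.Coprime p) (X₀ Z X : Submodule (ZMod p) W)
    (hX₀ : ∀ w ∈ X₀, ρ l w ∈ X₀) (h1 : ∀ w ∈ X, ρ l w - w ∈ Z) (h2 : ∀ w ∈ Z, ρ l w - w ∈ X₀) :
    ∀ w ∈ X, ρ l w - w ∈ X₀ := by
  intro w hw
  have key : ∀ k : ℕ, ρ (l ^ k) w - w - k • (ρ l w - w) ∈ X₀ := by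
    intro k
    induction k with
    | zero => simp
    | succ k ih =>
      have e : ρ (l ^ (k + 1)) w - w - (k + 1) • (ρ l w - w) =
          ρ l (ρ (l ^ k) w - w - k • (ρ l w - w)) + k • (ρ l (ρ l w - w) - (ρ l w - w)) := by
        rw [pow_succ', map_mul, Module.End.mul_apply]
        simp only [map_sub, map_nsmul, smul_sub, add_smul, one_smul]
        abel
      rw [e]
      exact X₀.add_mem (hX₀ _ ih) (X₀.smul_of_tower_mem k (h2 _ (h1 w hw)))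
  have h3 := key m
  rw [hlm, map_one, Module.End.one_apply, sub_self, zero_sub] at h3
  have h4 : m • (ρ l w - w) ∈ X₀ := by
    have := X₀.neg_mem h3
    rwa [neg_neg] at this
  have hu : IsUnit ((m : ℕ) : ZMod p) := (ZMod.isUnit_iff_coprime m p).mpr hm
  obtain ⟨c, hc⟩ := hu
  have h5 : ((m : ℕ) : ZMod p) • (ρ l w - w) ∈ X₀ := by
    rw [Nat.cast_smul_eq_nsmul]; exact h4
  have h6 := X₀.smul_mem ((c⁻¹ : (ZMod p)ˣ) : ZMod p) h5
  rw [smul_smul, ← hc, Units.inv_mul, one_smul] at h6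
  exact h6


section subq

variable (ρ : Γ →* Module.End (ZMod p) W) (X₀ X : Submodule (ZMod p) W)

/-- the action of the stabilizer on the subquotient -/
def subq : ↥(stab ρ X ⊓ stab ρ X₀) →* Module.End (ZMod p) (↥X ⧸ X₀.submoduleOf X) where
  toFun γ := (X₀.submoduleOf X).mapQ (X₀.submoduleOf X)
    ((ρ γ.1).restrict (fun w hw => ((Subgroup.mem_inf.mp γ.2).1 w).mpr hw))
    (by
      intro w hw
      show ρ γ.1 (w : W) ∈ X₀
      exact ((Subgroup.mem_inf.mp γ.2).2 w).mpr hw)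
  map_one' := by
    apply Submodule.linearMap_qext
    apply LinearMap.ext
    intro w
    simp only [LinearMap.comp_apply, Submodule.mkQ_apply, Submodule.mapQ_apply,
      Module.End.one_apply]
    congr 1
    apply Subtype.ext
    rw [LinearMap.coe_restrict_apply]
    show ρ 1 (w : W) = w
    rw [map_one, Module.End.one_apply]
  map_mul' := by
    intro γ γ'
    apply Submodule.linearMap_qext
    apply LinearMap.ext
    intro w
    simp only [LinearMap.comp_apply, Submodule.mkQ_apply, Submodule.mapQ_apply,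
      Module.End.mul_apply]
    congr 1
    apply Subtype.ext
    rw [LinearMap.coe_restrict_apply, LinearMap.coe_restrict_apply, LinearMap.coe_restrict_apply]
    show ρ (γ.1 * γ'.1) (w : W) = ρ γ.1 (ρ γ'.1 w)
    rw [map_mul, Module.End.mul_apply]

theorem subq_mk (γ : ↥(stab ρ X ⊓ stab ρ X₀)) (w : ↥X) :
    subq ρ X₀ X γ (Submodule.Quotient.mk w) =
      Submodule.Quotient.mk ⟨ρ γ.1 w, ((Subgroup.mem_inf.mp γ.2).1 w).mpr w.2⟩ := by
  rfl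


theorem subq_sub_one_mk (γ : ↥(stab ρ X ⊓ stab ρ X₀)) (w : ↥X) :
    (subq ρ X₀ X γ - 1) (Submodule.Quotient.mk w) =
      Submodule.Quotient.mk ⟨ρ γ.1 w - w,
        X.sub_mem (((Subgroup.mem_inf.mp γ.2).1 w).mpr w.2) w.2⟩ := by
  rw [LinearMap.sub_apply, subq_mk, Module.End.one_apply, ← Submodule.Quotient.mk_sub]
  rfl

theorem subq_quad (γ : ↥(stab ρ X ⊓ stab ρ X₀)) (h : (ρ γ.1 - 1) * (ρ γ.1 - 1) = 0) :
    (subq ρ X₀ X γ - 1) * (subq ρ X₀ X γ - 1) = 0 := by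
  apply Submodule.linearMap_qext
  apply LinearMap.ext
  intro w
  simp only [LinearMap.comp_apply, Submodule.mkQ_apply, Module.End.mul_apply,
    LinearMap.zero_apply]
  rw [subq_sub_one_mk, subq_sub_one_mk, Submodule.Quotient.mk_eq_zero]
  show ρ γ.1 (ρ γ.1 (w : W) - w) - (ρ γ.1 (w : W) - w) ∈ X₀
  have h1 := congrArg (fun f : Module.End (ZMod p) W => f (w : W)) h
  simp only [Module.End.mul_apply, LinearMap.sub_apply, Module.End.one_apply,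
    LinearMap.zero_apply] at h1
  rw [h1]
  exact X₀.zero_mem

end subq

/-- the conclusion of the reduction -/
def Concl (ρ : Γ →* Module.End (ZMod p) W) (a b : Γ) : Prop :=
  ∃ X₀ : Submodule (ZMod p) W, ∃ x ∈ Subgroup.closure ({a, b} : Set Γ),
    ∃ y ∈ Subgroup.closure ({a, b} : Set Γ), ∃ e₁ e₂ : W,
      (∀ w ∈ X₀, ρ x w ∈ X₀) ∧ (∀ w ∈ X₀, ρ y w ∈ X₀) ∧
      ρ x e₁ - e₁ ∈ X₀ ∧ ρ x e₂ - (e₁ + e₂) ∈ X₀ ∧ ρ y e₁ - (e₁ - e₂) ∈ X₀ ∧ ρ y e₂ - e₂ ∈ X₀ ∧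
      ∀ i j : ℕ, i • e₁ + j • e₂ ∈ X₀ → p ∣ i ∧ p ∣ j

theorem irr_case [Finite W] (hp2 : p ≠ 2) (hD : QdStab2.DicksonLite.{u} p)
    (ρ : Γ →* Module.End (ZMod p) W) (a b : Γ)
    (hA : (ρ a - 1) * (ρ a - 1) = 0) (hB : (ρ b - 1) * (ρ b - 1) = 0)
    (l : Γ) (hl : l ∈ Subgroup.closure ({a, b} : Set Γ))
    (X₀ X : Submodule (ZMod p) W) (hle : X₀ ≤ X) (hI₀ : Inv ρ a b X₀) (hI : Inv ρ a b X)
    (hnt : ∃ w ∈ X, ρ l w - w ∉ X₀)
    (hirr : ∀ Z : Submodule (ZMod p) W, X₀ ≤ Z → Z ≤ X → Inv ρ a b Z → Z = X₀ ∨ Z = X) :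
    Concl ρ a b := by
  have hcl : Subgroup.closure ({a, b} : Set Γ) ≤ stab ρ X ⊓ stab ρ X₀ :=
    le_inf (closure_le_stab ρ a b hA hB X hI) (closure_le_stab ρ a b hA hB X₀ hI₀)
  have haS : a ∈ stab ρ X ⊓ stab ρ X₀ := hcl (Subgroup.subset_closure (by simp))
  have hbS : b ∈ stab ρ X ⊓ stab ρ X₀ := hcl (Subgroup.subset_closure (by simp))
  have hmap : (Subgroup.closure ({⟨a, haS⟩, ⟨b, hbS⟩} : Set ↥(stab ρ X ⊓ stab ρ X₀))).map
      (stab ρ X ⊓ stab ρ X₀).subtype = Subgroup.closure ({a, b} : Set Γ) := by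
    rw [MonoidHom.map_closure, Set.image_pair]
    rfl
  have hirr' : ∀ Z' : AddSubgroup (↥X ⧸ X₀.submoduleOf X),
      (∀ w ∈ Z', subq ρ X₀ X ⟨a, haS⟩ w ∈ Z') → (∀ w ∈ Z', subq ρ X₀ X ⟨b, hbS⟩ w ∈ Z') →
      Z' = ⊥ ∨ Z' = ⊤ := by
    intro Z' hZa hZb
    obtain ⟨Z, hZ⟩ : ∃ Z : Submodule (ZMod p) W, Z =
        ((AddSubgroup.toZModSubmodule p Z').comap (X₀.submoduleOf X).mkQ).map X.subtype := ⟨_, rfl⟩
    have hmem : ∀ w : W, w ∈ Z ↔ ∃ h : w ∈ X,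
        (Submodule.Quotient.mk ⟨w, h⟩ : ↥X ⧸ X₀.submoduleOf X) ∈ Z' := by
      intro w
      rw [hZ, Submodule.mem_map]
      constructor
      · rintro ⟨w', hw', rfl⟩
        exact ⟨w'.2, hw'⟩
      · rintro ⟨h, hw'⟩
        exact ⟨⟨w, h⟩, hw', rfl⟩
    have h0Z : X₀ ≤ Z := by
      intro w hw
      rw [hmem]
      refine ⟨hle hw, ?_⟩
      have : (Submodule.Quotient.mk ⟨w, hle hw⟩ : ↥X ⧸ X₀.submoduleOf X) = 0 := by
        rw [Submodule.Quotient.mk_eq_zero]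
        exact hw
      rw [this]
      exact Z'.zero_mem
    have hZX : Z ≤ X := by
      intro w hw
      obtain ⟨h, -⟩ := (hmem w).mp hw
      exact h
    have hZI : Inv ρ a b Z := by
      constructor
      · intro w hw
        obtain ⟨h, hw'⟩ := (hmem w).mp hw
        rw [hmem]
        refine ⟨hI.1 w h, ?_⟩
        have := hZa _ hw'
        rw [subq_mk] at this
        exact this
      · intro w hw
        obtain ⟨h, hw'⟩ := (hmem w).mp hw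
        rw [hmem]
        refine ⟨hI.2 w h, ?_⟩
        have := hZb _ hw'
        rw [subq_mk] at this
        exact this
    rcases hirr Z h0Z hZX hZI with h | h
    · left
      rw [eq_bot_iff]
      intro v hv
      obtain ⟨w, rfl⟩ := Submodule.Quotient.mk_surjective _ v
      rw [AddSubgroup.mem_bot, Submodule.Quotient.mk_eq_zero]
      show (w : W) ∈ X₀
      rw [← h, hmem]
      exact ⟨w.2, hv⟩
    · right
      rw [eq_top_iff]
      intro v _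
      obtain ⟨w, rfl⟩ := Submodule.Quotient.mk_surjective _ v
      have hw : (w : W) ∈ Z := by rw [h]; exact w.2
      obtain ⟨_, hw'⟩ := (hmem _).mp hw
      exact hw'
  have hnt' : subq ρ X₀ X ⟨a, haS⟩ ≠ 1 ∨ subq ρ X₀ X ⟨b, hbS⟩ ≠ 1 := by
    by_contra hcon
    push Not at hcon
    obtain ⟨ha1, hb1⟩ := hcon
    have hker : Subgroup.closure ({⟨a, haS⟩, ⟨b, hbS⟩} : Set ↥(stab ρ X ⊓ stab ρ X₀)) ≤
        (subq ρ X₀ X).ker := by
      rw [Subgroup.closure_le]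
      intro γ hγ
      rcases hγ with rfl | hγ
      · exact ha1
      · rw [Set.mem_singleton_iff] at hγ
        subst hγ
        exact hb1
    have hl' : l ∈ (Subgroup.closure ({⟨a, haS⟩, ⟨b, hbS⟩} : Set ↥(stab ρ X ⊓ stab ρ X₀))).map
        (stab ρ X ⊓ stab ρ X₀).subtype := by rw [hmap]; exact hl
    obtain ⟨l', hl'cl, rfl⟩ := hl'
    have hl1 : subq ρ X₀ X l' = 1 := hker hl'cl
    obtain ⟨w, hwX, hw⟩ := hnt
    apply hw
    have h1 := subq_sub_one_mk ρ X₀ X l' ⟨w, hwX⟩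
    rw [hl1, sub_self, LinearMap.zero_apply] at h1
    have h2 := (Submodule.Quotient.mk_eq_zero _).mp h1.symm
    exact h2
  have hfin : Finite (↥X ⧸ X₀.submoduleOf X) :=
    Finite.of_surjective _ (Submodule.Quotient.mk_surjective (X₀.submoduleOf X))
  obtain ⟨x, hx, y, hy, e₁, e₂, h1, h2, h3, h4, h5⟩ :=
    QdStab3.lin_main hp2 hD (subq ρ X₀ X) ⟨a, haS⟩ ⟨b, hbS⟩
      (subq_quad ρ X₀ X ⟨a, haS⟩ hA) (subq_quad ρ X₀ X ⟨b, hbS⟩ hB) hirr' hnt'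
  obtain ⟨f₁, rfl⟩ := Submodule.Quotient.mk_surjective _ e₁
  obtain ⟨f₂, rfl⟩ := Submodule.Quotient.mk_surjective _ e₂
  refine ⟨X₀, x.1, ?_, y.1, ?_, f₁.1, f₂.1, ?_, ?_, ?_, ?_, ?_, ?_, ?_⟩
  · rw [← hmap]; exact ⟨x, hx, rfl⟩
  · rw [← hmap]; exact ⟨y, hy, rfl⟩
  · intro w hw
    exact ((Subgroup.mem_inf.mp x.2).2 w).mpr hw
  · intro w hw
    exact ((Subgroup.mem_inf.mp y.2).2 w).mpr hw
  · rw [subq_mk, Submodule.Quotient.eq] at h1
    exact h1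
  · rw [subq_mk, ← Submodule.Quotient.mk_add, Submodule.Quotient.eq] at h2
    exact h2
  · rw [subq_mk, ← Submodule.Quotient.mk_sub, Submodule.Quotient.eq] at h3
    exact h3
  · rw [subq_mk, Submodule.Quotient.eq] at h4
    exact h4
  · intro i j hij
    apply h5
    rw [← Submodule.Quotient.mk_smul, ← Submodule.Quotient.mk_smul, ← Submodule.Quotient.mk_add,
      Submodule.Quotient.mk_eq_zero]
    exact hij


theorem card_lt_of_lt [Finite W] {Z X : Submodule (ZMod p) W} (h : Z < X) :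
    Nat.card ↥Z < Nat.card ↥X := by
  have h1 : (Z : Set W) ⊂ (X : Set W) := h
  have := Set.ncard_lt_ncard h1 (Set.toFinite _)
  rwa [← Nat.card_coe_set_eq, ← Nat.card_coe_set_eq] at this

theorem red_main [Finite W] (hp2 : p ≠ 2) (hD : QdStab2.DicksonLite.{u} p)
    (ρ : Γ →* Module.End (ZMod p) W) (a b : Γ)
    (hA : (ρ a - 1) * (ρ a - 1) = 0) (hB : (ρ b - 1) * (ρ b - 1) = 0)
    (l : Γ) (hl : l ∈ Subgroup.closure ({a, b} : Set Γ)) (m : ℕ) (hlm : l ^ m = 1)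
    (hm : m.Coprime p) :
    ∀ n : ℕ, ∀ X₀ X : Submodule (ZMod p) W, X₀ ≤ X → Inv ρ a b X₀ → Inv ρ a b X →
      (∃ w ∈ X, ρ l w - w ∉ X₀) → Nat.card ↥X - Nat.card ↥X₀ ≤ n → Concl ρ a b := by
  intro n
  induction n using Nat.strong_induction_on with
  | _ n IH =>
  intro X₀ X hle hI₀ hI hnt hcard
  by_cases hZ : ∃ Z : Submodule (ZMod p) W, X₀ < Z ∧ Z < X ∧ Inv ρ a b Z
  · obtain ⟨Z, h0Z, hZX, hZI⟩ := hZ
    have hc1 := card_lt_of_lt h0Z
    have hc2 := card_lt_of_lt hZX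
    have hlX₀ : ∀ w ∈ X₀, ρ l w ∈ X₀ := by
      intro w hw
      exact ((closure_le_stab ρ a b hA hB X₀ hI₀ hl) w).mpr hw
    by_cases h1 : ∀ w ∈ X, ρ l w - w ∈ Z
    · by_cases h2 : ∀ w ∈ Z, ρ l w - w ∈ X₀
      · exfalso
        obtain ⟨w, hw, hw'⟩ := hnt
        exact hw' (chain ρ l m hlm hm X₀ Z X hlX₀ h1 h2 w hw)
      · push Not at h2
        exact IH (Nat.card ↥Z - Nat.card ↥X₀) (by omega) X₀ Z h0Z.le hI₀ hZI h2 le_rfl
    · push Not at h1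
      exact IH (Nat.card ↥X - Nat.card ↥Z) (by omega) Z X hZX.le hZI hI h1 le_rfl
  · apply irr_case hp2 hD ρ a b hA hB l hl X₀ X hle hI₀ hI hnt
    intro Z h0Z hZX hZI
    by_contra hcon
    push Not at hcon
    exact hZ ⟨Z, lt_of_le_of_ne h0Z (Ne.symm hcon.1), lt_of_le_of_ne hZX hcon.2, hZI⟩

/-- the reduction to the irreducible case -/
theorem red [Finite W] [Finite Γ] (hp2 : p ≠ 2) (hD : QdStab2.DicksonLite.{u} p)
    (ρ : Γ →* Module.End (ZMod p) W) (a b : Γ)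
    (hA : (ρ a - 1) * (ρ a - 1) = 0) (hB : (ρ b - 1) * (ρ b - 1) = 0)
    (hnp : ∃ γ ∈ Subgroup.closure ({a, b} : Set Γ), ∀ k : ℕ, ρ (γ ^ (p ^ k)) ≠ 1) :
    Concl ρ a b := by
  obtain ⟨γ, hγ, hγk⟩ := hnp
  have hord : orderOf γ ≠ 0 := (orderOf_pos γ).ne'
  obtain ⟨k, m, hm, hkm⟩ := Nat.exists_eq_pow_mul_and_not_dvd hord p hp.out.ne_one
  have hl : γ ^ (p ^ k) ∈ Subgroup.closure ({a, b} : Set Γ) := Subgroup.pow_mem _ hγ _
  have hlm : (γ ^ (p ^ k)) ^ m = 1 := by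
    rw [← pow_mul, ← hkm]; exact pow_orderOf_eq_one γ
  have hcop : m.Coprime p := ((Nat.Prime.coprime_iff_not_dvd hp.out).mpr hm).symm
  have hne : ∃ w ∈ (⊤ : Submodule (ZMod p) W), ρ (γ ^ (p ^ k)) w - w ∉ (⊥ : Submodule (ZMod p) W) := by
    by_contra hcon
    push Not at hcon
    apply hγk k
    apply LinearMap.ext
    intro w
    have := hcon w Submodule.mem_top
    rw [Submodule.mem_bot, sub_eq_zero] at this
    rw [this, Module.End.one_apply]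
  exact red_main hp2 hD ρ a b hA hB _ hl m hlm hcop _ ⊥ ⊤ bot_le
    ⟨fun w hw => by rw [Submodule.mem_bot] at hw ⊢; rw [hw, map_zero],
      fun w hw => by rw [Submodule.mem_bot] at hw ⊢; rw [hw, map_zero]⟩
    ⟨fun _ _ => Submodule.mem_top, fun _ _ => Submodule.mem_top⟩ hne le_rfl


section psi

variable (X₀ : Submodule (ZMod p) W) (e₁ e₂ : W)

/-- the coordinate map -/
def cmap : (Fin 2 → ZMod p) →ₗ[ZMod p] W :=
  (LinearMap.proj (0 : Fin 2)).smulRight e₁ + (LinearMap.proj (1 : Fin 2)).smulRight e₂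

theorem cmap_apply (v : Fin 2 → ZMod p) : cmap e₁ e₂ v = v 0 • e₁ + v 1 • e₂ := rfl

/-- the coordinate map modulo `X₀` -/
def cbar : (Fin 2 → ZMod p) →ₗ[ZMod p] W ⧸ X₀ := X₀.mkQ.comp (cmap e₁ e₂)

theorem cbar_apply (v : Fin 2 → ZMod p) :
    cbar X₀ e₁ e₂ v = Submodule.Quotient.mk (v 0 • e₁ + v 1 • e₂) := rfl

theorem cbar_injective (hind : ∀ i j : ℕ, i • e₁ + j • e₂ ∈ X₀ → p ∣ i ∧ p ∣ j) :
    Function.Injective (cbar X₀ e₁ e₂) := by
  rw [injective_iff_map_eq_zero]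
  intro v hv
  rw [cbar_apply, Submodule.Quotient.mk_eq_zero] at hv
  have h0 : v 0 • e₁ = (v 0).val • e₁ := by
    rw [← Nat.cast_smul_eq_nsmul (ZMod p), ZMod.natCast_zmod_val]
  have h1 : v 1 • e₂ = (v 1).val • e₂ := by
    rw [← Nat.cast_smul_eq_nsmul (ZMod p), ZMod.natCast_zmod_val]
  rw [h0, h1] at hv
  obtain ⟨hi, hj⟩ := hind _ _ hv
  have hi0 : (v 0).val = 0 := Nat.eq_zero_of_dvd_of_lt hi (ZMod.val_lt _)
  have hj0 : (v 1).val = 0 := Nat.eq_zero_of_dvd_of_lt hj (ZMod.val_lt _)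
  ext i
  fin_cases i
  · exact (ZMod.val_eq_zero _).mp hi0
  · exact (ZMod.val_eq_zero _).mp hj0

/-- the subgroup `X₀ + ⟨e₁, e₂⟩` -/
def Usub : Submodule (ZMod p) W := (LinearMap.range (cbar X₀ e₁ e₂)).comap X₀.mkQ

theorem mem_Usub (w : W) : w ∈ Usub X₀ e₁ e₂ ↔ ∃ v, cbar X₀ e₁ e₂ v = X₀.mkQ w := Iff.rfl

/-- the coordinates -/
noncomputable def psi (hinj : Function.Injective (cbar X₀ e₁ e₂)) :
    ↥(Usub X₀ e₁ e₂) →ₗ[ZMod p] (Fin 2 → ZMod p) :=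
  (LinearEquiv.ofInjective (cbar X₀ e₁ e₂) hinj).symm.toLinearMap.comp
    ((X₀.mkQ.comp (Usub X₀ e₁ e₂).subtype).codRestrict (LinearMap.range (cbar X₀ e₁ e₂))
      (fun w => w.2))

theorem cbar_psi (hinj : Function.Injective (cbar X₀ e₁ e₂)) (w : ↥(Usub X₀ e₁ e₂)) :
    cbar X₀ e₁ e₂ (psi X₀ e₁ e₂ hinj w) = X₀.mkQ (w : W) := by
  have h := (LinearEquiv.ofInjective (cbar X₀ e₁ e₂) hinj).apply_symm_apply
    ((X₀.mkQ.comp (Usub X₀ e₁ e₂).subtype).codRestrict (LinearMap.range (cbar X₀ e₁ e₂))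
      (fun w => w.2) w)
  have h2 := congrArg Subtype.val h
  rw [LinearEquiv.ofInjective_apply] at h2
  exact h2

theorem psi_eq_of (hinj : Function.Injective (cbar X₀ e₁ e₂)) (w : ↥(Usub X₀ e₁ e₂))
    (v : Fin 2 → ZMod p) (h : cbar X₀ e₁ e₂ v = X₀.mkQ (w : W)) : psi X₀ e₁ e₂ hinj w = v := by
  apply hinj
  rw [cbar_psi, h]

theorem psi_surjective (hinj : Function.Injective (cbar X₀ e₁ e₂)) :
    Function.Surjective (psi X₀ e₁ e₂ hinj) := by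
  intro v
  have hm : cmap e₁ e₂ v ∈ Usub X₀ e₁ e₂ := ⟨v, rfl⟩
  exact ⟨⟨_, hm⟩, psi_eq_of X₀ e₁ e₂ hinj _ v rfl⟩

theorem psi_equiv (hinj : Function.Injective (cbar X₀ e₁ e₂)) (T : Module.End (ZMod p) W)
    (hT : ∀ w ∈ X₀, T w ∈ X₀) (A : M2 (ZMod p))
    (h1 : T e₁ - (A 0 0 • e₁ + A 1 0 • e₂) ∈ X₀) (h2 : T e₂ - (A 0 1 • e₁ + A 1 1 • e₂) ∈ X₀)
    (w : ↥(Usub X₀ e₁ e₂)) :
    ∃ h : T (w : W) ∈ Usub X₀ e₁ e₂, psi X₀ e₁ e₂ hinj ⟨T w, h⟩ = A *ᵥ psi X₀ e₁ e₂ hinj w := by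
  have hw := cbar_psi X₀ e₁ e₂ hinj w
  set v := psi X₀ e₁ e₂ hinj w with hv
  rw [cbar_apply, Submodule.mkQ_apply, Submodule.Quotient.eq] at hw
  have key : cbar X₀ e₁ e₂ (A *ᵥ v) = X₀.mkQ (T (w : W)) := by
    rw [cbar_apply, Submodule.mkQ_apply, Submodule.Quotient.eq]
    have e : (A *ᵥ v) 0 • e₁ + (A *ᵥ v) 1 • e₂ - T (w : W) =
        T (v 0 • e₁ + v 1 • e₂ - (w : W)) - v 0 • (T e₁ - (A 0 0 • e₁ + A 1 0 • e₂))
          - v 1 • (T e₂ - (A 0 1 • e₁ + A 1 1 • e₂)) := by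
      simp only [Matrix.mulVec, dotProduct, Fin.sum_univ_two, map_sub, map_add, map_smul,
        smul_sub, smul_add, smul_smul, add_smul]
      rw [mul_comm (A 0 0), mul_comm (A 0 1), mul_comm (A 1 0), mul_comm (A 1 1)]
      abel
    rw [e]
    exact X₀.sub_mem (X₀.sub_mem (hT _ hw) (X₀.smul_mem _ h1)) (X₀.smul_mem _ h2)
  exact ⟨⟨_, key⟩, psi_eq_of X₀ e₁ e₂ hinj _ _ key⟩

end psi

/-- the module-level main theorem -/
theorem mod_main [Finite W] [Finite Γ] (hp2 : p ≠ 2) (hD : QdStab2.DicksonLite.{u} p)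
    (ρ : Γ →* Module.End (ZMod p) W) (a b : Γ)
    (hA : (ρ a - 1) * (ρ a - 1) = 0) (hB : (ρ b - 1) * (ρ b - 1) = 0)
    (hnp : ∃ γ ∈ Subgroup.closure ({a, b} : Set Γ), ∀ k : ℕ, ρ (γ ^ (p ^ k)) ≠ 1) :
    ∃ (U : Submodule (ZMod p) W) (ψ : ↥U →ₗ[ZMod p] (Fin 2 → ZMod p)) (x y : Γ),
      x ∈ Subgroup.closure ({a, b} : Set Γ) ∧ y ∈ Subgroup.closure ({a, b} : Set Γ) ∧
      Function.Surjective ψ ∧
      (∀ w : ↥U, ∃ h : ρ x (w : W) ∈ U,
        ψ ⟨ρ x w, h⟩ = ((QdStab2.u1 : SL2 (ZMod p)) : M2 (ZMod p)) *ᵥ ψ w) ∧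
      (∀ w : ↥U, ∃ h : ρ y (w : W) ∈ U,
        ψ ⟨ρ y w, h⟩ = ((QdStab2.lm1 : SL2 (ZMod p)) : M2 (ZMod p)) *ᵥ ψ w) := by
  obtain ⟨X₀, x, hx, y, hy, e₁, e₂, hxX, hyX, h1, h2, h3, h4, h5⟩ := red hp2 hD ρ a b hA hB hnp
  have hinj := cbar_injective X₀ e₁ e₂ h5
  refine ⟨Usub X₀ e₁ e₂, psi X₀ e₁ e₂ hinj, x, y, hx, hy, psi_surjective X₀ e₁ e₂ hinj, ?_, ?_⟩
  · intro w
    apply psi_equiv X₀ e₁ e₂ hinj (ρ x) hxX
    · rw [QdStab2.coe_u1]
      simpa using h1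
    · rw [QdStab2.coe_u1]
      simpa using h2
  · intro w
    apply psi_equiv X₀ e₁ e₂ hinj (ρ y) hyX
    · rw [QdStab2.coe_lm1]
      simpa [sub_eq_add_neg] using h3
    · rw [QdStab2.coe_lm1]
      simpa using h4

end Cfsg.Agent.Lib.helper17.QdStab4
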