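import Mathlib
import Cfsg.Agent.Lib.helper17.QdStab4

set_option autoImplicit false

namespace Cfsg.Agent.Lib.helper17.QdStab5

open Matrix Cfsg.Agent.Lib.helper17

universe u

local notation "M2" => Matrix (Fin 2) (Fin 2)
local notation "SL2" => Matrix.SpecialLinearGroup (Fin 2)

variable {p : ℕ} [hp : Fact p.Prime]

/-- `SL₂(p)` is generated by the two standard transvections -/
theorem closure_u1_lm1 :
    Subgroup.closure ({QdStab2.u1, QdStab2.lm1} : Set (SL2 (ZMod p))) = ⊤ := by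
  rw [eq_top_iff]
  intro A _
  have hu : (QdStab2.u1 : SL2 (ZMod p)) ∈
      Subgroup.closure ({QdStab2.u1, QdStab2.lm1} : Set (SL2 (ZMod p))) :=
    Subgroup.subset_closure (by simp)
  have hl : (QdStab2.lm1 : SL2 (ZMod p)) ∈
      Subgroup.closure ({QdStab2.u1, QdStab2.lm1} : Set (SL2 (ZMod p))) :=
    Subgroup.subset_closure (by simp)
  refine Matrix.SL2.transvection_induction
    (fun A => A ∈ Subgroup.closure ({QdStab2.u1, QdStab2.lm1} : Set (SL2 (ZMod p)))) ?_
    (fun A B hA hB => Subgroup.mul_mem _ hA hB) A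
  intro i j hij c
  fin_cases i <;> fin_cases j
  · exact absurd rfl hij
  · have e : Matrix.SpecialLinearGroup.transvection hij c = (QdStab2.u1 : SL2 (ZMod p)) ^ c.val := by
      apply Subtype.ext
      rw [QdStab2.u1_pow, Matrix.SpecialLinearGroup.transvection_coe, ZMod.natCast_zmod_val]
      ext a b
      fin_cases a <;> fin_cases b <;> simp [Matrix.single]
    rw [e]
    exact Subgroup.pow_mem _ hu _
  · have e : Matrix.SpecialLinearGroup.transvection hij c =
        (QdStab2.lm1 : SL2 (ZMod p)) ^ (-c).val := by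
      apply Subtype.ext
      rw [QdStab2.lm1_pow, Matrix.SpecialLinearGroup.transvection_coe, ZMod.natCast_zmod_val]
      ext a b
      fin_cases a <;> fin_cases b <;> simp [Matrix.single]
    rw [e]
    exact Subgroup.pow_mem _ hl _
  · exact absurd rfl hij


section act

variable {W : Type u} [AddCommGroup W] [Module (ZMod p) W] {Γ : Type*} [Group Γ]
  (ρ : Γ →* Module.End (ZMod p) W) (X : Submodule (ZMod p) W)

theorem rho_inv_apply (γ : Γ) (w : W) : ρ γ⁻¹ (ρ γ w) = w := by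
  rw [← Module.End.mul_apply, ← map_mul, inv_mul_cancel, map_one, Module.End.one_apply]

theorem rho_apply_inv (γ : Γ) (w : W) : ρ γ (ρ γ⁻¹ w) = w := by
  rw [← Module.End.mul_apply, ← map_mul, mul_inv_cancel, map_one, Module.End.one_apply]

theorem mem_stab_of_finite [Finite W] (γ : Γ) (h : ∀ w ∈ X, ρ γ w ∈ X) : γ ∈ QdStab4.stab ρ X := by
  intro w
  refine ⟨fun hw => ?_, h w⟩
  have hinj : Function.Injective (fun v : ↥X => (⟨ρ γ v, h v v.2⟩ : ↥X)) := by
    intro v v' hvv'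
    have h1 : ρ γ (v : W) = ρ γ (v' : W) := congrArg Subtype.val hvv'
    apply Subtype.ext
    rw [← rho_inv_apply ρ γ v, h1, rho_inv_apply]
  have hsurj := Finite.injective_iff_surjective.mp hinj
  obtain ⟨v, hv⟩ := hsurj ⟨ρ γ w, hw⟩
  have h1 : ρ γ (v : W) = ρ γ w := congrArg Subtype.val hv
  have h2 : (v : W) = w := by rw [← rho_inv_apply ρ γ v, h1, rho_inv_apply]
  rw [← h2]
  exact v.2

/-- the action of the stabilizer on the submodule, multiplicatively -/
def actU : ↥(QdStab4.stab ρ X) →* MulAut (Multiplicative ↥X) where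
  toFun γ :=
    { toFun := fun u => Multiplicative.ofAdd
        ⟨ρ γ.1 (Multiplicative.toAdd u : ↥X), (γ.2 _).mpr (Multiplicative.toAdd u).2⟩
      invFun := fun u => Multiplicative.ofAdd
        ⟨ρ γ.1⁻¹ (Multiplicative.toAdd u : ↥X),
          (((QdStab4.stab ρ X).inv_mem γ.2) _).mpr (Multiplicative.toAdd u).2⟩
      left_inv := by
        intro u
        apply Multiplicative.toAdd.injective
        apply Subtype.ext
        exact rho_inv_apply ρ γ.1 _
      right_inv := by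
        intro u
        apply Multiplicative.toAdd.injective
        apply Subtype.ext
        exact rho_apply_inv ρ γ.1 _
      map_mul' := by
        intro u v
        apply Multiplicative.toAdd.injective
        apply Subtype.ext
        show ρ γ.1 ((Multiplicative.toAdd u : ↥X) + (Multiplicative.toAdd v : ↥X) : ↥X) = _
        rw [Submodule.coe_add, map_add]
        rfl }
  map_one' := by
    apply MulEquiv.ext
    intro u
    apply Multiplicative.toAdd.injective
    apply Subtype.ext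
    show ρ (1 : Γ) (Multiplicative.toAdd u : ↥X) = _
    rw [map_one, Module.End.one_apply]
    rfl
  map_mul' := by
    intro γ γ'
    apply MulEquiv.ext
    intro u
    apply Multiplicative.toAdd.injective
    apply Subtype.ext
    show ρ (γ.1 * γ'.1) (Multiplicative.toAdd u : ↥X) = ρ γ.1 (ρ γ'.1 (Multiplicative.toAdd u : ↥X))
    rw [map_mul, Module.End.mul_apply]

theorem actU_apply (γ : ↥(QdStab4.stab ρ X)) (u : Multiplicative ↥X) :
    ((Multiplicative.toAdd (actU ρ X γ u) : ↥X) : W) = ρ γ.1 (Multiplicative.toAdd u : ↥X) := rfl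

variable (ψ : ↥X →ₗ[ZMod p] (Fin 2 → ZMod p))

/-- the graph subgroup: pairs `(γ, A)` with `γ` acting on `X` through `A` -/
def graph : Subgroup (Γ × SL2 (ZMod p)) where
  carrier := {z | ∃ h : z.1 ∈ QdStab4.stab ρ X, ∀ w : ↥X,
    ψ ⟨ρ z.1 w, (h _).mpr w.2⟩ = ((z.2 : SL2 (ZMod p)) : M2 (ZMod p)) *ᵥ ψ w}
  one_mem' := by
    refine ⟨(QdStab4.stab ρ X).one_mem, fun w => ?_⟩
    show ψ ⟨ρ (1 : Γ) w, _⟩ = (((1 : SL2 (ZMod p)) : SL2 (ZMod p)) : M2 (ZMod p)) *ᵥ ψ w
    rw [Matrix.SpecialLinearGroup.coe_one, Matrix.one_mulVec]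
    congr 1
    apply Subtype.ext
    show ρ (1 : Γ) (w : W) = w
    rw [map_one, Module.End.one_apply]
  mul_mem' := by
    rintro z z' ⟨h, hz⟩ ⟨h', hz'⟩
    refine ⟨(QdStab4.stab ρ X).mul_mem h h', fun w => ?_⟩
    show ψ ⟨ρ (z.1 * z'.1) w, _⟩ = (((z.2 * z'.2 : SL2 (ZMod p)) : SL2 (ZMod p)) : M2 (ZMod p)) *ᵥ ψ w
    rw [Matrix.SpecialLinearGroup.coe_mul, ← Matrix.mulVec_mulVec, ← hz' w,
      ← hz ⟨ρ z'.1 w, (h' _).mpr w.2⟩]
    congr 1
    apply Subtype.ext
    show ρ (z.1 * z'.1) (w : W) = ρ z.1 (ρ z'.1 w)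
    rw [map_mul, Module.End.mul_apply]
  inv_mem' := by
    rintro z ⟨h, hz⟩
    refine ⟨(QdStab4.stab ρ X).inv_mem h, fun w => ?_⟩
    show ψ ⟨ρ (z.1⁻¹) w, _⟩ = (((z.2⁻¹ : SL2 (ZMod p)) : SL2 (ZMod p)) : M2 (ZMod p)) *ᵥ ψ w
    have h1 := hz ⟨ρ (z.1⁻¹) w, (((QdStab4.stab ρ X).inv_mem h) _).mpr w.2⟩
    have h2 : (⟨ρ z.1 (ρ (z.1⁻¹) (w : W)), (h _).mpr ((((QdStab4.stab ρ X).inv_mem h) _).mpr w.2)⟩ : ↥X)
        = w := Subtype.ext (rho_apply_inv ρ z.1 _)
    rw [h2] at h1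
    rw [h1, Matrix.mulVec_mulVec, ← Matrix.SpecialLinearGroup.coe_mul, inv_mul_cancel,
      Matrix.SpecialLinearGroup.coe_one, Matrix.one_mulVec]

theorem mem_graph (z : Γ × SL2 (ZMod p)) : z ∈ graph ρ X ψ ↔
    ∃ h : z.1 ∈ QdStab4.stab ρ X, ∀ w : ↥X,
      ψ ⟨ρ z.1 w, (h _).mpr w.2⟩ = ((z.2 : SL2 (ZMod p)) : M2 (ZMod p)) *ᵥ ψ w := Iff.rfl

end act

end Cfsg.Agent.Lib.helper17.QdStab5
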