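import Mathlib
import Cfsg.Prelude.Def_LocalEven
import Cfsg.Prelude.Def_PLocal
import Cfsg.Agent.Lib.helper17.QdStab5
import Cfsg.Agent.Lib.Helper5.QuadAbs

set_option autoImplicit false

namespace Cfsg.Agent.Lib.helper17.QdStab6

open Matrix Cfsg.Agent.Lib.helper17 Cfsg.Agent.Lib.Helper5

universe u

local notation "M2" => Matrix (Fin 2) (Fin 2)
local notation "SL2" => Matrix.SpecialLinearGroup (Fin 2)

variable {p : ℕ} [hp : Fact p.Prime]

/-- hypothesis form of the section-construction lemma (Frattini trick) -/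
def ActHyp (p : ℕ) [Fact p.Prime] : Prop :=
  ∀ (Y : Type u) [Group Y] [Finite Y] (U : Type u) [Group U] (_ : IsPGroup p U)
    (j : U →* Y) (_ : Function.Injective j)
    (H : Type u) [Group H] [Finite H] (ι : H →* Y) (ρ : H →* SL2 (ZMod p))
    (_ : Function.Surjective ρ)
    (φ : H →* MulAut U) (_ : ∀ h u, j (φ h u) = ι h * j u * (ι h)⁻¹)
    (ψ : U →* Multiplicative (Fin 2 → ZMod p)) (_ : Function.Surjective ψ)
    (_ : ∀ h u, ψ (φ h u) = Multiplicative.ofAdd
      (((ρ h : SL2 (ZMod p)) : M2 (ZMod p)) *ᵥ (Multiplicative.toAdd (ψ u)))),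
    Cfsg.Involves ↥(Cfsg.qd p) Y

section lin

variable {E : Type u} [CommGroup E] [Module (ZMod p) (Additive E)] {Y : Type*} [Group Y]

/-- linearization of an action on an elementary abelian group -/
def lin (β : Y →* MulAut E) : Y →* Module.End (ZMod p) (Additive E) where
  toFun g := (MonoidHom.toAdditive (β g).toMonoidHom).toZModLinearMap p
  map_one' := by
    apply LinearMap.ext
    intro v
    show Additive.ofMul (β 1 (Additive.toMul v)) = v
    rw [map_one]
    rfl
  map_mul' := by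
    intro g h
    apply LinearMap.ext
    intro v
    show Additive.ofMul (β (g * h) (Additive.toMul v)) =
      Additive.ofMul (β g (Additive.toMul (Additive.ofMul (β h (Additive.toMul v)))))
    rw [map_mul]
    rfl

theorem lin_apply (β : Y →* MulAut E) (g : Y) (v : Additive E) :
    lin (p := p) β g v = Additive.ofMul (β g (Additive.toMul v)) := rfl

theorem lin_quad (β : Y →* MulAut E) (g : Y)
    (h : ∀ v : E, β g (β g v / v) = β g v / v) :
    (lin (p := p) β g - 1) * (lin (p := p) β g - 1) = 0 := by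
  apply LinearMap.ext
  intro w
  simp only [Module.End.mul_apply, LinearMap.sub_apply, Module.End.one_apply,
    LinearMap.zero_apply]
  rw [sub_eq_zero]
  show Additive.ofMul (β g (β g (Additive.toMul w) / Additive.toMul w)) =
    Additive.ofMul (β g (Additive.toMul w) / Additive.toMul w)
  rw [h]

theorem lin_eq_one (β : Y →* MulAut E) (g : Y) (h : lin (p := p) β g = 1) : β g = 1 := by
  apply MulEquiv.ext
  intro v
  have := congrArg (fun f : Module.End (ZMod p) (Additive E) => Additive.toMul (f (Additive.ofMul v))) h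
  exact this

end lin


theorem finite_sl2 : Finite (SL2 (ZMod p)) := Finite.of_injective _ Subtype.val_injective

theorem core_abs {Y : Type u} [Group Y] [Finite Y] (hp2 : p ≠ 2) (hD : QdStab2.DicksonLite.{u} p)
    (hAct : ActHyp.{u} p)
    {E : Type u} [CommGroup E] [Finite E] [Module (ZMod p) (Additive E)]
    (j : E →* Y) (hj : Function.Injective j)
    {Γ : Type*} [Group Γ] [Finite Γ] (q : Y →* Γ) (hq : Function.Surjective q)
    (α : Γ →* MulAut E) (hα : Function.Injective α)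
    (hjα : ∀ g e, j (α (q g) e) = g * j e * g⁻¹)
    (x : Γ) (hx : QuadA α x) (hxO : x ∉ Cfsg.pCore p Γ) : Cfsg.Involves ↥(Cfsg.qd p) Y := by
  have hxp : x ^ p = 1 := quadA_pow_p α hα x hx
  obtain ⟨g, hg⟩ := Cfsg.Agent.S0595.exists_conj_not_pgroup x hxp hxO
  obtain ⟨a, rfl⟩ := hq x
  obtain ⟨g', rfl⟩ := hq g
  obtain ⟨b, hb⟩ : ∃ b : Y, b = g' * a * g'⁻¹ := ⟨_, rfl⟩
  have hqb : q b = q g' * q a * (q g')⁻¹ := by rw [hb, map_mul, map_mul, map_inv]
  obtain ⟨ρ, hρ⟩ : ∃ ρ : Y →* Module.End (ZMod p) (Additive E), ρ = lin (p := p) (α.comp q) :=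
    ⟨_, rfl⟩
  have hA : (ρ a - 1) * (ρ a - 1) = 0 := by
    rw [hρ]; exact lin_quad _ a (fun v => hx v)
  have hB : (ρ b - 1) * (ρ b - 1) = 0 := by
    rw [hρ]
    refine lin_quad _ b (fun v => ?_)
    show α (q b) (α (q b) v / v) = α (q b) v / v
    rw [hqb]; exact quadA_conj α (q a) (q g') hx v
  have hnp : ∃ γ ∈ Subgroup.closure ({a, b} : Set Y), ∀ k : ℕ, ρ (γ ^ (p ^ k)) ≠ 1 := by
    have hcl : Subgroup.closure ({q a, q g' * q a * (q g')⁻¹} : Set Γ) =
        (Subgroup.closure ({a, b} : Set Y)).map q := by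
      rw [MonoidHom.map_closure, Set.image_pair, hqb]
    by_contra hcon
    push Not at hcon
    apply hg
    rintro ⟨γb, hγb⟩
    have hγb' := hγb
    rw [hcl] at hγb'
    obtain ⟨γ, hγ, rfl⟩ := hγb'
    obtain ⟨k, hk⟩ := hcon γ hγ
    refine ⟨k, Subtype.ext ?_⟩
    rw [Subgroup.coe_pow, Subgroup.coe_one]
    show q γ ^ p ^ k = 1
    rw [hρ] at hk
    have h1 := lin_eq_one (α.comp q) _ hk
    rw [MonoidHom.comp_apply, map_pow] at h1
    apply hα
    rw [h1, map_one]
  obtain ⟨U, ψ, x', y', hx', hy', hψ, hxe, hye⟩ := QdStab4.mod_main hp2 hD ρ a b hA hB hnp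
  have hxS : x' ∈ QdStab4.stab ρ U :=
    QdStab5.mem_stab_of_finite ρ U x' (fun w hw => (hxe ⟨w, hw⟩).1)
  have hyS : y' ∈ QdStab4.stab ρ U :=
    QdStab5.mem_stab_of_finite ρ U y' (fun w hw => (hye ⟨w, hw⟩).1)
  have hxG : ((x', QdStab2.u1) : Y × SL2 (ZMod p)) ∈ QdStab5.graph ρ U ψ :=
    ⟨hxS, fun w => (hxe w).2⟩
  have hyG : ((y', QdStab2.lm1) : Y × SL2 (ZMod p)) ∈ QdStab5.graph ρ U ψ :=
    ⟨hyS, fun w => (hye w).2⟩
  obtain ⟨HH, hHH⟩ : ∃ HH : Subgroup (Y × SL2 (ZMod p)), HH = Subgroup.closure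
      ({((x', QdStab2.u1) : Y × SL2 (ZMod p)), (y', QdStab2.lm1)} : Set (Y × SL2 (ZMod p))) :=
    ⟨_, rfl⟩
  have hle : HH ≤ QdStab5.graph ρ U ψ := by
    rw [hHH, Subgroup.closure_le]
    intro z hz
    rcases hz with rfl | hz
    · exact hxG
    · rw [Set.mem_singleton_iff] at hz
      subst hz
      exact hyG
  have hfs : Finite (SL2 (ZMod p)) := finite_sl2
  have hρ' : Function.Surjective ((MonoidHom.snd Y (SL2 (ZMod p))).comp HH.subtype) := by
    rw [← MonoidHom.range_eq_top, MonoidHom.range_comp, Subgroup.range_subtype, hHH,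
      MonoidHom.map_closure, Set.image_pair]
    exact QdStab5.closure_u1_lm1
  have hst : ∀ h : ↥HH, ((MonoidHom.fst Y (SL2 (ZMod p))).comp HH.subtype) h ∈ QdStab4.stab ρ U :=
    fun h => (hle h.2).1
  have hPU : IsPGroup p (Multiplicative ↥U) := by
    intro u
    refine ⟨1, ?_⟩
    rw [pow_one]
    show Multiplicative.ofAdd (p • Multiplicative.toAdd u) = 1
    rw [← Nat.cast_smul_eq_nsmul (ZMod p), CharP.cast_eq_zero (ZMod p) p, zero_smul]
    rfl
  let incl : Multiplicative ↥U →* E :=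
    { toFun := fun u => Additive.toMul ((Multiplicative.toAdd u : ↥U) : Additive E)
      map_one' := rfl
      map_mul' := fun _ _ => rfl }
  have hincl : Function.Injective incl := by
    intro u v huv
    apply Multiplicative.toAdd.injective
    apply Subtype.ext
    exact Additive.toMul.injective huv
  refine hAct Y (Multiplicative ↥U) hPU (j.comp incl) (hj.comp hincl) ↥HH
    ((MonoidHom.fst Y (SL2 (ZMod p))).comp HH.subtype)
    ((MonoidHom.snd Y (SL2 (ZMod p))).comp HH.subtype) hρ'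
    ((QdStab5.actU ρ U).comp (((MonoidHom.fst Y (SL2 (ZMod p))).comp HH.subtype).codRestrict _ hst))
    ?_ ψ.toAddMonoidHom.toMultiplicative ?_ ?_
  · intro h u
    subst hρ
    exact hjα h.1.1 (incl u)
  · intro v
    obtain ⟨w, hw⟩ := hψ (Multiplicative.toAdd v)
    exact ⟨Multiplicative.ofAdd w, congrArg Multiplicative.ofAdd hw⟩
  · intro h u
    exact congrArg Multiplicative.ofAdd ((hle h.2).2 (Multiplicative.toAdd u))

end Cfsg.Agent.Lib.helper17.QdStab6
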