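import Mathlib
import Cfsg.Agent.Lib.helper17.QdStab6
import Cfsg.Agent.Lib.Helper10.NPStab1

set_option autoImplicit false

namespace Cfsg.Agent.Lib.helper17.QdStab7

open scoped Pointwise commutatorElement
open Cfsg.Agent.Lib.helper17 Cfsg.Agent.Lib.Helper5 Cfsg.Agent.Lib.Helper13

universe u

variable {p : ℕ} [hp : Fact p.Prime]

/-- `p`-stability of the action on an elementary abelian normal section of a `Qd(p)`-free group -/
theorem pstableOnSection_of_qdfree {G : Type u} [Group G] [Finite G] (hp2 : p ≠ 2)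
    (hD : QdStab2.DicksonLite.{u} p) (hAct : QdStab6.ActHyp.{u} p)
    (hfree : ¬ Cfsg.Involves ↥(Cfsg.qd p) G)
    (K N : Subgroup G) [K.Normal] [N.Normal] [hCn : (Cfsg.sectionKernel K N).Normal]
    (hcomm : ⁅K, K⁆ ≤ N) (hpow : ∀ k ∈ K, k ^ p ∈ N) : Cfsg.IsPStableOnSection p K N := by
  intro a hq
  have hKbn : (K.map (QuotientGroup.mk' N)).Normal :=
    Subgroup.Normal.map inferInstance _ (QuotientGroup.mk'_surjective N)
  have hKbc : ∀ u v : ↥(K.map (QuotientGroup.mk' N)), u * v = v * u := by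
    rintro ⟨_, ⟨k₁, hk₁, rfl⟩⟩ ⟨_, ⟨k₂, hk₂, rfl⟩⟩
    apply Subtype.ext
    show QuotientGroup.mk' N k₁ * QuotientGroup.mk' N k₂ = QuotientGroup.mk' N k₂ * QuotientGroup.mk' N k₁
    rw [← map_mul, ← map_mul]
    have h1 : ⁅k₁, k₂⁆ ∈ N := hcomm (Subgroup.commutator_mem_commutator hk₁ hk₂)
    have h2 : k₁ * k₂ = ⁅k₁, k₂⁆ * (k₂ * k₁) := by rw [commutatorElement_def]; group
    rw [h2, map_mul]
    have h3 : QuotientGroup.mk' N ⁅k₁, k₂⁆ = 1 := (QuotientGroup.eq_one_iff _).mpr h1
    rw [h3, one_mul]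
  let _ : CommGroup ↥(K.map (QuotientGroup.mk' N)) :=
    { (inferInstance : Group ↥(K.map (QuotientGroup.mk' N))) with mul_comm := hKbc }
  have hE : ∀ v : ↥(K.map (QuotientGroup.mk' N)), v ^ p = 1 := by
    rintro ⟨_, ⟨k, hk, rfl⟩⟩
    apply Subtype.ext
    rw [Subgroup.coe_pow, Subgroup.coe_one]
    show (QuotientGroup.mk' N k) ^ p = 1
    rw [← map_pow]
    exact (QuotientGroup.eq_one_iff _).mpr (hpow k hk)
  let _ : Module (ZMod p) (Additive ↥(K.map (QuotientGroup.mk' N))) :=
    AddCommGroup.zmodModule (n := p) (by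
      intro v
      show Additive.ofMul (v.toMul ^ p) = 0
      rw [hE]; rfl)
  have hker : Cfsg.sectionKernel K N ≤
      ((MulAut.conjNormal (H := K.map (QuotientGroup.mk' N))).comp (QuotientGroup.mk' N)).ker := by
    intro c hc
    rw [MonoidHom.mem_ker]
    ext v
    rw [MonoidHom.comp_apply, MulAut.conjNormal_apply, MulAut.one_apply]
    have hc' : QuotientGroup.mk' N c ∈
        Subgroup.centralizer ((K.map (QuotientGroup.mk' N) : Subgroup (G ⧸ N)) : Set (G ⧸ N)) := hc
    rw [Subgroup.mem_centralizer_iff] at hc'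
    rw [← hc' v v.2]
    group
  have hinj : Function.Injective (QuotientGroup.lift (Cfsg.sectionKernel K N)
      ((MulAut.conjNormal (H := K.map (QuotientGroup.mk' N))).comp (QuotientGroup.mk' N)) hker) := by
    rw [injective_iff_map_eq_one]
    intro q hq1
    induction q using QuotientGroup.induction_on with
    | H g =>
      rw [QuotientGroup.lift_mk] at hq1
      rw [QuotientGroup.eq_one_iff]
      show QuotientGroup.mk' N g ∈
        Subgroup.centralizer ((K.map (QuotientGroup.mk' N) : Subgroup (G ⧸ N)) : Set (G ⧸ N))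
      rw [Subgroup.mem_centralizer_iff]
      intro v hv
      have h1 := congrArg (fun f : MulAut ↥(K.map (QuotientGroup.mk' N)) =>
        ((f ⟨v, hv⟩ : ↥(K.map (QuotientGroup.mk' N))) : G ⧸ N)) hq1
      simp only [MonoidHom.comp_apply, MulAut.conjNormal_apply, MulAut.one_apply] at h1
      calc v * QuotientGroup.mk' N g
          = (QuotientGroup.mk' N g * v * (QuotientGroup.mk' N g)⁻¹) * QuotientGroup.mk' N g := by
            rw [h1]
        _ = QuotientGroup.mk' N g * v := by group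
  have hq' : ⁅⁅K.map (QuotientGroup.mk' N), Subgroup.zpowers (QuotientGroup.mk' N a)⁆,
      Subgroup.zpowers (QuotientGroup.mk' N a)⁆ = ⊥ := by
    rw [← MonoidHom.map_zpowers, ← Subgroup.map_commutator, ← Subgroup.map_commutator, eq_bot_iff]
    rintro _ ⟨y, hy, rfl⟩
    rw [Subgroup.mem_bot]
    exact (QuotientGroup.eq_one_iff _).mpr (hq hy)
  have hNle : N ≤ (Cfsg.sectionKernel K N).comap (MonoidHom.id G) := by
    intro n hn
    rw [Subgroup.mem_comap, MonoidHom.id_apply, mem_sectionKernel_iff]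
    intro t _
    have : n * t * n⁻¹ * t⁻¹ = n * (t * n⁻¹ * t⁻¹) := by group
    rw [this]
    exact N.mul_mem hn ((inferInstance : N.Normal).conj_mem _ (N.inv_mem hn) t)
  have hmem : (QuotientGroup.mk a : G ⧸ Cfsg.sectionKernel K N) ∈
      Cfsg.pCore p (G ⧸ Cfsg.sectionKernel K N) := by
    by_contra hxO
    apply hfree
    apply Cfsg.Agent.Lib.Helper1.GNPC2.involves_of_quotient' N
    refine QdStab6.core_abs hp2 hD hAct (E := ↥(K.map (QuotientGroup.mk' N)))
      (K.map (QuotientGroup.mk' N)).subtype (Subgroup.subtype_injective _)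
      (QuotientGroup.map N (Cfsg.sectionKernel K N) (MonoidHom.id G) hNle) ?_
      (QuotientGroup.lift (Cfsg.sectionKernel K N)
        ((MulAut.conjNormal (H := K.map (QuotientGroup.mk' N))).comp (QuotientGroup.mk' N)) hker)
      hinj ?_ (QuotientGroup.mk a) ?_ hxO
    · intro x
      induction x using QuotientGroup.induction_on with
      | H g => exact ⟨QuotientGroup.mk g, rfl⟩
    · intro g e
      induction g using QuotientGroup.induction_on with
      | H g =>
        rw [QuotientGroup.map_mk, MonoidHom.id_apply, QuotientGroup.lift_mk, MonoidHom.comp_apply]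
        rfl
    · intro v
      show QuotientGroup.lift _ _ hker (QuotientGroup.mk a)
        (QuotientGroup.lift _ _ hker (QuotientGroup.mk a) v / v) =
          QuotientGroup.lift _ _ hker (QuotientGroup.mk a) v / v
      rw [QuotientGroup.lift_mk, MonoidHom.comp_apply]
      apply Subtype.ext
      exact quadA_conjNormal (K.map (QuotientGroup.mk' N)) (fun a b => rfl) _ hq' v
  have : (Cfsg.pCore p (G ⧸ Cfsg.sectionKernel K N)).Normal :=
    Cfsg.Agent.Lib.Helper1.pCore_normal p
  refine ⟨(Cfsg.pCore p (G ⧸ Cfsg.sectionKernel K N)).comap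
    (QuotientGroup.mk' (Cfsg.sectionKernel K N)), inferInstance, ?_, ?_, hmem⟩
  · intro c hc
    rw [Subgroup.mem_comap]
    have : QuotientGroup.mk' (Cfsg.sectionKernel K N) c = 1 := (QuotientGroup.eq_one_iff _).mpr hc
    rw [this]
    exact Subgroup.one_mem _
  · have hPp : IsPGroup p ↥(Cfsg.pCore p (G ⧸ Cfsg.sectionKernel K N)) :=
      Cfsg.Agent.Lib.Helper1.pCore_isPGroup p
    obtain ⟨k, hk⟩ := hPp.exists_card_eq
    refine ⟨k, ?_⟩
    rw [relIndex_comap_mk, hk]


/-- the hypothesis: all elementary abelian normal sections are `p`-stable -/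
def SecHyp (p : ℕ) (Y : Type u) [Group Y] : Prop :=
  ∀ (K N : Subgroup Y) [K.Normal] [N.Normal] [(Cfsg.sectionKernel K N).Normal],
    ⁅K, K⁆ ≤ N → (∀ k ∈ K, k ^ p ∈ N) → Cfsg.IsPStableOnSection p K N

theorem quad_normal_pgroup'' {Y : Type u} [Group Y] [Finite Y] (hsecY : SecHyp p Y) :
    ∀ (n : ℕ) (P₀ : Subgroup Y) [P₀.Normal], IsPGroup p ↥P₀ → Nat.card ↥P₀ ≤ n →
      ∀ g : Y, ⁅⁅P₀, Subgroup.zpowers g⁆, Subgroup.zpowers g⁆ = ⊥ →
      ∃ D : Subgroup Y, D.Normal ∧ Subgroup.centralizer (P₀ : Set Y) ≤ D ∧ g ∈ D ∧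
        ∀ y ∈ D, ∃ k : ℕ, y ^ (p ^ k) ∈ Subgroup.centralizer (P₀ : Set Y) := by
  intro n
  induction n using Nat.strong_induction_on with
  | _ n IH =>
  intro P₀ hP₀n hP₀ hcard g hq
  by_cases hbot : P₀ = ⊥
  · refine ⟨⊤, inferInstance, le_top, Subgroup.mem_top _, fun y _ => ⟨0, ?_⟩⟩
    rw [hbot, Subgroup.mem_centralizer_iff]
    intro t ht
    have : t = 1 := ht
    rw [this]; simp
  · -- the Frattini subgroup of `P₀`
    obtain ⟨Φ, hΦ⟩ : ∃ Φ : Subgroup Y, Φ = (frattini ↥P₀).map P₀.subtype := ⟨_, rfl⟩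
    have hΦn : Φ.Normal := by rw [hΦ]; infer_instance
    have hΦP : Φ ≤ P₀ := by rw [hΦ]; exact Subgroup.map_subtype_le _
    have hΦp : IsPGroup p ↥Φ := hP₀.to_le hΦP
    have : Nontrivial ↥P₀ := by
      rw [Subgroup.nontrivial_iff_ne_bot]; exact hbot
    have hΦlt : Nat.card ↥Φ < Nat.card ↥P₀ := by
      have hne : frattini ↥P₀ ≠ ⊤ := by
        obtain ⟨M, hM⟩ := (eq_top_or_exists_le_coatom (⊥ : Subgroup ↥P₀)).resolve_left bot_ne_top
        intro h
        have := frattini_le_coatom hM.1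
        rw [h] at this
        exact hM.1.1 (top_le_iff.mp this)
      have h1 : Nat.card ↥Φ = Nat.card ↥(frattini ↥P₀) := by
        rw [hΦ]
        exact Nat.card_congr ((frattini ↥P₀).equivMapOfInjective _ P₀.subtype_injective).symm.toEquiv
      rw [h1]
      by_contra hle
      push Not at hle
      apply hne
      apply Subgroup.eq_top_of_card_eq
      exact le_antisymm (Subgroup.card_le_card_group _) hle
    have hqΦ : ⁅⁅Φ, Subgroup.zpowers g⁆, Subgroup.zpowers g⁆ = ⊥ := by
      rw [eq_bot_iff, ← hq]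
      exact Subgroup.commutator_mono (Subgroup.commutator_mono hΦP le_rfl) le_rfl
    obtain ⟨D₁, hD₁n, hCD₁, hgD₁, hD₁p⟩ := IH (Nat.card ↥Φ) (by omega) Φ hΦp le_rfl g hqΦ
    -- the elementary abelian section `P₀ / Φ`
    have hsk := Cfsg.Agent.Lib.Helper5.sectionKernel_normal P₀ Φ
    have hsec : Cfsg.IsPStableOnSection p P₀ Φ := by
      apply hsecY P₀ Φ
      · rw [Subgroup.commutator_le]
        intro k₁ hk₁ k₂ hk₂
        have h1 := Cfsg.Agent.Lib.Helper1.pgroup_commutator_le_frattini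
          (G := ↥P₀) (IsPGroup.of_equiv hP₀ (MulEquiv.refl _))
        have h3 : ⁅(⟨k₁, hk₁⟩ : ↥P₀), ⟨k₂, hk₂⟩⁆ ∈ commutator ↥P₀ :=
          Subgroup.commutator_mem_commutator (Subgroup.mem_top _) (Subgroup.mem_top _)
        rw [hΦ]
        exact ⟨_, h1 h3, rfl⟩
      · intro k hk
        have h1 := Cfsg.Agent.Lib.Helper1.pgroup_pow_mem_frattini
          (G := ↥P₀) (IsPGroup.of_equiv hP₀ (MulEquiv.refl _)) ⟨k, hk⟩
        rw [hΦ]
        exact ⟨_, h1, rfl⟩
    obtain ⟨D₂, hD₂n, hskD₂, ⟨k₂, hk₂⟩, hgD₂⟩ := hsec g (by rw [hq]; exact bot_le)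
    refine ⟨D₁ ⊓ D₂, inferInstance, ?_, Subgroup.mem_inf.mpr ⟨hgD₁, hgD₂⟩, ?_⟩
    · apply le_inf
      · exact (Subgroup.centralizer_le hΦP).trans hCD₁
      · refine le_trans ?_ hskD₂
        intro c hc
        rw [mem_sectionKernel_iff]
        intro t ht
        have := Subgroup.mem_centralizer_iff.mp hc t ht
        have e : c * t * c⁻¹ * t⁻¹ = 1 := by
          rw [← this]; group
        rw [e]; exact Subgroup.one_mem _
    · intro y hy
      obtain ⟨k₁, hk₁⟩ := hD₁p y (Subgroup.mem_inf.mp hy).1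
      have hy2 : y ^ (p ^ k₂) ∈ Cfsg.sectionKernel P₀ Φ := by
        have hyD₂ := (Subgroup.mem_inf.mp hy).2
        have : ((Cfsg.sectionKernel P₀ Φ).subgroupOf D₂).Normal := inferInstance
        have h1 : Nat.card (↥D₂ ⧸ (Cfsg.sectionKernel P₀ Φ).subgroupOf D₂) = p ^ k₂ := by
          rw [← hk₂]; rfl
        have h3 := pow_card_eq_one'
          (x := (QuotientGroup.mk (⟨y, hyD₂⟩ : ↥D₂) : ↥D₂ ⧸ (Cfsg.sectionKernel P₀ Φ).subgroupOf D₂))
        rw [h1, ← QuotientGroup.mk_pow, QuotientGroup.eq_one_iff, Subgroup.mem_subgroupOf] at h3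
        simpa using h3
      obtain ⟨c, hc⟩ := IsPGroup.iff_card.mp hΦp
      refine ⟨k₁ + k₂ + c, ?_⟩
      have hz1 : y ^ (p ^ (k₁ + k₂)) ∈ Subgroup.centralizer (Φ : Set Y) := by
        rw [pow_add, pow_mul]
        exact Subgroup.pow_mem _ hk₁ _
      have hz2 : y ^ (p ^ (k₁ + k₂)) ∈ Cfsg.sectionKernel P₀ Φ := by
        rw [pow_add, mul_comm, pow_mul]
        exact Subgroup.pow_mem _ hy2 _
      have := pow_card_mem_centralizer_of_two_step (P₀ := P₀) (Φ := Φ) _ hz1
        (mem_sectionKernel_iff.mp hz2)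
      rw [hc, ← pow_mul, ← pow_add] at this
      exact this

/-- If all elementary abelian normal sections of the normalizers of `p`-subgroups are `p`-stable,
the group is `p`-stable in the normalizer form. -/
theorem isNormalizerPStable_of_sec {Γ : Type u} [Group Γ] [Finite Γ]
    (h2 : ∀ P : Subgroup Γ, IsPGroup p ↥P → P ≠ ⊥ →
      SecHyp p ↥(Subgroup.normalizer (P : Set Γ))) : Cfsg.IsNormalizerPStable p Γ := by
  intro P hP g hg hq
  by_cases hPb : P = ⊥
  · have h1 : (QuotientGroup.mk (s := (Subgroup.centralizer (P : Set Γ)).subgroupOf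
        (Subgroup.normalizer (P : Set Γ))) (⟨g, hg⟩ : ↥(Subgroup.normalizer (P : Set Γ)))) = 1 := by
      rw [QuotientGroup.eq_one_iff, Subgroup.mem_subgroupOf, Subgroup.mem_centralizer_iff]
      intro t ht
      rw [hPb] at ht
      have : t = 1 := ht
      rw [this]; simp
    rw [h1]
    exact Subgroup.one_mem _
  have hY2 := h2 P hP hPb
  have hP₀n : (P.subgroupOf (Subgroup.normalizer (P : Set Γ))).Normal :=
    Subgroup.normal_in_normalizer
  have hP₀ : IsPGroup p ↥(P.subgroupOf (Subgroup.normalizer (P : Set Γ))) := hP.comap_subtype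
  have hmapP : (P.subgroupOf (Subgroup.normalizer (P : Set Γ))).map
      (Subgroup.normalizer (P : Set Γ)).subtype = P :=
    Subgroup.map_subgroupOf_eq_of_le Subgroup.le_normalizer
  have hq' : ⁅⁅P.subgroupOf (Subgroup.normalizer (P : Set Γ)),
      Subgroup.zpowers (⟨g, hg⟩ : ↥(Subgroup.normalizer (P : Set Γ)))⁆,
      Subgroup.zpowers (⟨g, hg⟩ : ↥(Subgroup.normalizer (P : Set Γ)))⁆ = ⊥ := by
    apply Subgroup.map_injective (Subgroup.normalizer (P : Set Γ)).subtype_injective
    rw [Subgroup.map_commutator, Subgroup.map_commutator, hmapP, MonoidHom.map_zpowers,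
      Subgroup.map_bot]
    exact hq
  obtain ⟨D, hDn, hCD, hgD, hDp⟩ := quad_normal_pgroup'' hY2 _
    (P.subgroupOf (Subgroup.normalizer (P : Set Γ))) hP₀ le_rfl ⟨g, hg⟩ hq'
  -- the two descriptions of the centralizer agree
  have hCeq : (Subgroup.centralizer (P : Set Γ)).subgroupOf (Subgroup.normalizer (P : Set Γ)) =
      Subgroup.centralizer ((P.subgroupOf (Subgroup.normalizer (P : Set Γ)) :
        Subgroup ↥(Subgroup.normalizer (P : Set Γ))) : Set ↥(Subgroup.normalizer (P : Set Γ))) := by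
    ext y
    rw [Subgroup.mem_subgroupOf, Subgroup.mem_centralizer_iff, Subgroup.mem_centralizer_iff]
    constructor
    · intro h t ht
      apply Subtype.ext
      exact h (t : Γ) (Subgroup.mem_subgroupOf.mp ht)
    · intro h t ht
      have := h ⟨t, Subgroup.le_normalizer ht⟩ (Subgroup.mem_subgroupOf.mpr ht)
      exact congrArg Subtype.val this
  have hCn : ((Subgroup.centralizer (P : Set Γ)).subgroupOf
      (Subgroup.normalizer (P : Set Γ))).Normal := by
    rw [hCeq]; infer_instance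
  have hnorm : (D.map (QuotientGroup.mk' ((Subgroup.centralizer (P : Set Γ)).subgroupOf
      (Subgroup.normalizer (P : Set Γ))))).Normal :=
    Subgroup.Normal.map hDn _ (QuotientGroup.mk'_surjective _)
  have hpg : IsPGroup p ↥(D.map (QuotientGroup.mk' ((Subgroup.centralizer (P : Set Γ)).subgroupOf
      (Subgroup.normalizer (P : Set Γ))))) := by
    rintro ⟨_, ⟨y, hy, rfl⟩⟩
    obtain ⟨k, hk⟩ := hDp y hy
    refine ⟨k, ?_⟩
    apply Subtype.ext
    rw [Subgroup.coe_pow, Subgroup.coe_one]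
    show (QuotientGroup.mk' _ y) ^ (p ^ k) = 1
    rw [← map_pow]
    apply (QuotientGroup.eq_one_iff _).mpr
    rw [hCeq]
    exact hk
  exact Cfsg.Agent.Lib.Helper1.le_pCore hnorm hpg ⟨⟨g, hg⟩, hgD, rfl⟩

/-- Glauberman: a `Qd(p)`-free finite group is `p`-stable in the normalizer form
(modulo the two hypotheses, instantiated later). -/
theorem qdfree_nps_of {G : Type u} [Group G] [Finite G] (hp2 : p ≠ 2)
    (hD : QdStab2.DicksonLite.{u} p) (hAct : QdStab6.ActHyp.{u} p)
    (hfree : ¬ Cfsg.Involves ↥(Cfsg.qd p) G) : Cfsg.IsNormalizerPStable p G := by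
  apply isNormalizerPStable_of_sec
  intro P _ _ K N _ _ _ hcomm hpow
  apply pstableOnSection_of_qdfree hp2 hD hAct _ K N hcomm hpow
  intro hinv
  exact hfree (Cfsg.Agent.Lib.Helper1.GNPC2.involves_of_injective
    (Subgroup.normalizer (P : Set G)).subtype (Subgroup.subtype_injective _) hinv)

end Cfsg.Agent.Lib.helper17.QdStab7
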