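import Mathlib
import Cfsg.Agent.Lib.helper17.QdStab7
import Cfsg.Agent.Lib.Helper10.NPStab2
import Cfsg.Agent.Lib.Helper9.ZJ16
import Cfsg.Agent.S0274

set_option autoImplicit false

namespace Cfsg.Agent.Lib.helper17.QdStab8

open Cfsg.Agent.Lib.helper17

universe u

variable {p : ℕ} [hp : Fact p.Prime]

theorem dickson (hp2 : p ≠ 2) : QdStab2.DicksonLite.{u} p :=
  fun _ _ _ _ H h => Cfsg.Agent.S0274.result p hp2 H h

omit hp in
/-- sections of `Qd(p)`-free groups are `Qd(p)`-free -/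
theorem section_free {G : Type u} [Group G] (hfree : ¬ Cfsg.Involves ↥(Cfsg.qd p) G)
    (K R : Subgroup G) [hR : (R.subgroupOf K).Normal] :
    ¬ Cfsg.Involves ↥(Cfsg.qd p) (↥K ⧸ R.subgroupOf K) := by
  intro h
  exact hfree (Cfsg.Agent.Lib.Helper10.NPStab.involves_of_inj_surj_trans K.subtype
    K.subtype_injective (QuotientGroup.mk' (R.subgroupOf K)) (QuotientGroup.mk'_surjective _) h)

theorem pstableOn_of_nps {G : Type u} [Group G] (h : Cfsg.IsNormalizerPStable p G)
    (V : Subgroup G) [V.Normal] (hV : IsPGroup p V) (a : G)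
    (hq : ⁅⁅V, Subgroup.zpowers a⁆, Subgroup.zpowers a⁆ = ⊥) :
    (QuotientGroup.mk a : G ⧸ Subgroup.centralizer (V : Set G)) ∈
      Cfsg.pCore p (G ⧸ Subgroup.centralizer (V : Set G)) := by
  have hN : Subgroup.normalizer (V : Set G) = ⊤ := Subgroup.normalizer_eq_top V
  have haN : a ∈ Subgroup.normalizer (V : Set G) := by rw [hN]; trivial
  have h1 := h V hV a haN hq
  have h2 := (Cfsg.Agent.Lib.Helper9.pstable_transfer_iff (p := p) (MonoidHom.id G) V V
    (Subgroup.map_id V) (by rw [hN, Subgroup.map_id]) (fun n _ hn => hn) a haN).mp h1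
  exact h2

end Cfsg.Agent.Lib.helper17.QdStab8
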