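import Mathlib
import Cfsg.Prelude.Def_LocalEven
import Cfsg.Agent.Lib.Helper5.PConstr2
import Cfsg.Agent.S0623

set_option autoImplicit false

namespace Cfsg.Agent.Lib.helper17.QdStab9

open Cfsg.Agent.Lib.Helper5

variable {p : ℕ} [hp : Fact p.Prime]

/-- normalizer-`p`-stability is invariant under isomorphism -/
theorem nps_of_mulEquiv {A B : Type*} [Group A] [Group B] (e : A ≃* B)
    (h : Cfsg.IsNormalizerPStable p A) : Cfsg.IsNormalizerPStable p B := by
  intro P' hP' g' hg' hq'
  obtain ⟨P, hP⟩ : ∃ P : Subgroup A, P = P'.comap e.toMonoidHom := ⟨_, rfl⟩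
  have hmemP : ∀ x : A, x ∈ P ↔ e x ∈ P' := by
    intro x; rw [hP]; rfl
  have hPmap : P.map e.toMonoidHom = P' := by
    rw [hP]
    exact Subgroup.map_comap_eq_self_of_surjective e.surjective P'
  have hPp : IsPGroup p P := by
    rw [hP]
    exact hP'.comap_of_injective e.toMonoidHom e.injective
  have hnorm : ∀ x : A, x ∈ Subgroup.normalizer (P : Set A) ↔
      e x ∈ Subgroup.normalizer (P' : Set B) := by
    intro x
    rw [Subgroup.mem_normalizer_iff, Subgroup.mem_normalizer_iff]
    constructor
    · intro hx y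
      have := hx (e.symm y)
      rw [hmemP, hmemP, map_mul, map_mul, map_inv, e.apply_symm_apply] at this
      exact this
    · intro hx y
      rw [hmemP, hmemP, map_mul, map_mul, map_inv]
      exact hx (e y)
  have hcent : ∀ x : A, x ∈ Subgroup.centralizer (P : Set A) ↔
      e x ∈ Subgroup.centralizer (P' : Set B) := by
    intro x
    rw [Subgroup.mem_centralizer_iff, Subgroup.mem_centralizer_iff]
    constructor
    · intro hx y hy
      have h1 : e.symm y ∈ P := by rw [hmemP, e.apply_symm_apply]; exact hy
      have := congrArg e (hx (e.symm y) h1)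
      rw [map_mul, map_mul, e.apply_symm_apply] at this
      exact this
    · intro hx y hy
      apply e.injective
      rw [map_mul, map_mul]
      exact hx (e y) ((hmemP y).mp hy)
  have hg : e.symm g' ∈ Subgroup.normalizer (P : Set A) := by
    rw [hnorm, e.apply_symm_apply]; exact hg'
  have hq : ⁅⁅P, Subgroup.zpowers (e.symm g')⁆, Subgroup.zpowers (e.symm g')⁆ = ⊥ := by
    apply Cfsg.Agent.S0623.quad_comap e.toMonoidHom e.injective
    rw [hPmap]
    show ⁅⁅P', Subgroup.zpowers (e (e.symm g'))⁆, Subgroup.zpowers (e (e.symm g'))⁆ = ⊥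
    rw [e.apply_symm_apply]
    exact hq'
  have h1 := h P hPp (e.symm g') hg hq
  -- the comparison homomorphism
  let f0 : ↥(Subgroup.normalizer (P : Set A)) →* ↥(Subgroup.normalizer (P' : Set B)) :=
    (e.toMonoidHom.comp (Subgroup.normalizer (P : Set A)).subtype).codRestrict _
      (fun x => (hnorm x).mp x.2)
  have hCn : ((Subgroup.centralizer (P' : Set B)).subgroupOf
      (Subgroup.normalizer (P' : Set B))).Normal := by
    rw [← Subgroup.normalizerMonoidHom_ker]
    infer_instance
  have hCn' : ((Subgroup.centralizer (P : Set A)).subgroupOf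
      (Subgroup.normalizer (P : Set A))).Normal := by
    rw [← Subgroup.normalizerMonoidHom_ker]
    infer_instance
  let f : ↥(Subgroup.normalizer (P : Set A)) →*
      ↥(Subgroup.normalizer (P' : Set B)) ⧸ (Subgroup.centralizer (P' : Set B)).subgroupOf
        (Subgroup.normalizer (P' : Set B)) :=
    (QuotientGroup.mk' _).comp f0
  have hf : Function.Surjective f := by
    intro y
    induction y using QuotientGroup.induction_on with
    | H y =>
      have hy : e.symm (y : B) ∈ Subgroup.normalizer (P : Set A) := by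
        rw [hnorm, e.apply_symm_apply]; exact y.2
      refine ⟨⟨e.symm y, hy⟩, ?_⟩
      show QuotientGroup.mk (f0 ⟨e.symm y, hy⟩) = QuotientGroup.mk y
      congr 1
      apply Subtype.ext
      exact e.apply_symm_apply _
  have hker : (Subgroup.centralizer (P : Set A)).subgroupOf (Subgroup.normalizer (P : Set A)) =
      f.ker := by
    ext x
    rw [MonoidHom.mem_ker, Subgroup.mem_subgroupOf]
    show _ ↔ QuotientGroup.mk (f0 x) = 1
    rw [QuotientGroup.eq_one_iff, Subgroup.mem_subgroupOf]
    exact hcent x
  let ε := (QuotientGroup.quotientMulEquivOfEq hker).trans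
    (QuotientGroup.quotientKerEquivOfSurjective f hf)
  have h2 := (h5_mem_pCore_equiv (p := p) ε _).mpr h1
  have h3 : ε (QuotientGroup.mk ⟨e.symm g', hg⟩) = QuotientGroup.mk ⟨g', hg'⟩ := by
    show QuotientGroup.mk (f0 ⟨e.symm g', hg⟩) = QuotientGroup.mk ⟨g', hg'⟩
    congr 1
    apply Subtype.ext
    exact e.apply_symm_apply _
  rw [h3] at h2
  exact h2

end Cfsg.Agent.Lib.helper17.QdStab9
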