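import Mathlib
import Cfsg.Agent.Lib.helper17.QdStab8
import Cfsg.Agent.Lib.helper17.QdStab9
import Cfsg.Agent.Lib.helper15.Qd
import Cfsg.Agent.Lib.helper15.NatMod

set_option autoImplicit false

namespace Cfsg.Agent.Lib.helper17.QdStab10

open Matrix Cfsg.Agent.Lib.helper15.Qd Cfsg.Agent.Lib.helper15.NatMod
open scoped commutatorElement

variable {p : ℕ} [hp : Fact p.Prime]

local notation "SL2" => Matrix.SpecialLinearGroup (Fin 2)

variable {F : Type*} [Field F]

theorem comm_transl (w : Fin 2 → F) (B : SL2 F) :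
    ⁅mk (1 : SL2 F) w, mk B 0⁆ = mk 1 (w - (B : Matrix (Fin 2) (Fin 2) F).mulVec w) := by
  have h : mk (1 : SL2 F) w * mk B 0 =
      mk 1 (w - (B : Matrix (Fin 2) (Fin 2) F).mulVec w) * mk B 0 * mk 1 w := by
    simp only [mk_mul, one_mul, mul_one, Matrix.mulVec_zero, zero_add]
    congr 1
    abel
  rw [commutatorElement_def, h]
  group

theorem commute_transl (z : Fin 2 → F) (B : SL2 F)
    (h : (B : Matrix (Fin 2) (Fin 2) F).mulVec z = z) : Commute (mk (1 : SL2 F) z) (mk B 0) := by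
  show mk (1 : SL2 F) z * mk B 0 = mk B 0 * mk 1 z
  simp only [mk_mul, one_mul, mul_one, Matrix.mulVec_zero, zero_add, add_zero, h]

theorem quad_qd :
    ⁅⁅(blk F).ker, Subgroup.zpowers (emb (uu (1 : F)))⁆, Subgroup.zpowers (emb (uu (1 : F)))⁆ = ⊥ := by
  rw [Cfsg.Agent.S0623.quad_iff]
  intro v hv i
  rw [(mem_ker_blk_iff' v).mp hv, ← map_zpow]
  have hB : (uu (1 : F)) ^ i ∈ (Uu : Subgroup (SL2 F)) := Subgroup.zpow_mem _ (uu_mem 1) i
  obtain ⟨c, hc⟩ := hB
  rw [← hc, emb_apply, emb_apply, comm_transl]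
  apply commute_transl
  rw [uu_mulVec, uu_mulVec]
  ext j
  fin_cases j <;> simp

theorem centralizer_le_ker :
    Subgroup.centralizer (((blk F).ker : Subgroup ↥(Cfsg.qdOver F)) : Set ↥(Cfsg.qdOver F)) ≤
      (blk F).ker := by
  intro c hc
  rw [Subgroup.mem_centralizer_iff] at hc
  rw [MonoidHom.mem_ker]
  apply mulVec_eq_self_imp
  intro w
  have h1 := hc (mk 1 w) (mk_one_mem_ker w)
  rw [← mk_blk_vec c, mk_mul, mk_mul, one_mul, mul_one, one_mulVec'] at h1
  have h2 := (mk_injective h1).2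
  have h3 : (blk F c : Matrix (Fin 2) (Fin 2) F).mulVec w + vec c = w + vec c := by
    rw [← h2, add_comm]
  exact add_right_cancel h3

theorem qdOver_not_nps [CharP F p] [Finite F] : ¬ Cfsg.IsNormalizerPStable p ↥(Cfsg.qdOver F) := by
  intro h
  have hfin : Finite ↥(Cfsg.qdOver F) := by
    have : Finite (Matrix.SpecialLinearGroup (Fin 3) F) :=
      Finite.of_injective _ Subtype.val_injective
    infer_instance
  have hn : ((blk F).ker).Normal := inferInstance
  have h1 := QdStab8.pstableOn_of_nps h (blk F).ker (isPGroup_ker (p := p)) (emb (uu (1 : F))) quad_qd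
  have hCn : (Subgroup.centralizer (((blk F).ker : Subgroup ↥(Cfsg.qdOver F)) :
      Set ↥(Cfsg.qdOver F))).Normal := inferInstance
  have hKn : ((Cfsg.pCore p (↥(Cfsg.qdOver F) ⧸ Subgroup.centralizer
      (((blk F).ker : Subgroup ↥(Cfsg.qdOver F)) : Set ↥(Cfsg.qdOver F)))).comap
      (QuotientGroup.mk' _)).Normal :=
    (Cfsg.Agent.Lib.Helper1.pCore_normal p).comap _
  have hKp : IsPGroup p ((Cfsg.pCore p (↥(Cfsg.qdOver F) ⧸ Subgroup.centralizer
      (((blk F).ker : Subgroup ↥(Cfsg.qdOver F)) : Set ↥(Cfsg.qdOver F)))).comap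
      (QuotientGroup.mk' _)) := by
    apply IsPGroup.comap_of_ker_isPGroup (Cfsg.Agent.Lib.Helper1.pCore_isPGroup p)
    rw [QuotientGroup.ker_mk']
    exact (isPGroup_ker (p := p)).to_le centralizer_le_ker
  have hK := Cfsg.Agent.Lib.Helper1.le_pCore hKn hKp
  have h2 : emb (uu (1 : F)) ∈ Cfsg.pCore p ↥(Cfsg.qdOver F) := hK h1
  rw [pCore_eq, MonoidHom.mem_ker, emb_apply, blk_mk] at h2
  have h3 := congrArg (fun A : SL2 F => (A : Matrix (Fin 2) (Fin 2) F) 0 1) h2
  simp [uu_coe] at h3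

theorem qd_not_nps : ¬ Cfsg.IsNormalizerPStable p ↥(Cfsg.qd p) :=
  qdOver_not_nps (F := ZMod p)

end Cfsg.Agent.Lib.helper17.QdStab10
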