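import Mathlib
import Cfsg.Agent.Lib.helper17.QdStab10
import Cfsg.Agent.Lib.Helper1.QdAction

set_option autoImplicit false

namespace Cfsg.Agent.Lib.helper17.QdStab11

open Cfsg.Agent.Lib.helper17

universe u

variable {p : ℕ} [hp : Fact p.Prime]

theorem actHyp (hp2 : p ≠ 2) : QdStab6.ActHyp.{u} p := by
  intro Y _ _ U _ hU j hj H _ _ ι ρ hρ φ hφ ψ hψ heq
  exact Cfsg.Agent.Lib.Helper1.QdAction.involves_qd_of_action hp2 hU j hj ι ρ hρ φ hφ ψ hψ heq

/-- Glauberman: a `Qd(p)`-free finite group (`p` odd) is `p`-stable in the normalizer form. -/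
theorem qdfree_nps {G : Type u} [Group G] [Finite G] (hp2 : p ≠ 2)
    (hfree : ¬ Cfsg.Involves ↥(Cfsg.qd p) G) : Cfsg.IsNormalizerPStable p G :=
  QdStab7.qdfree_nps_of hp2 (QdStab8.dickson hp2) (actHyp hp2) hfree

/-- every section of a `Qd(p)`-free finite group is `p`-stable in the normalizer form -/
theorem qdfree_section_nps {G : Type u} [Group G] [Finite G] (hp2 : p ≠ 2)
    (hfree : ¬ Cfsg.Involves ↥(Cfsg.qd p) G) (K R : Subgroup G) [hR : (R.subgroupOf K).Normal] :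
    Cfsg.IsNormalizerPStable p (↥K ⧸ R.subgroupOf K) :=
  qdfree_nps hp2 (QdStab8.section_free hfree K R)

/-- the two directions together -/
theorem qdfree_iff {G : Type u} [Group G] [Finite G] (hp2 : p ≠ 2) :
    ¬ Cfsg.Involves ↥(Cfsg.qd p) G ↔ ∀ (K R : Subgroup G) [hR : (R.subgroupOf K).Normal],
      Cfsg.IsNormalizerPStable p (↥K ⧸ R.subgroupOf K) := by
  constructor
  · intro hfree K R hR
    exact qdfree_section_nps hp2 hfree K R
  · intro h hinv
    obtain ⟨K, R, hR, ⟨e⟩⟩ := hinv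
    exact QdStab10.qd_not_nps (QdStab9.nps_of_mulEquiv e (h K R))

/-- `p`-stability of the action on normal `p`-subgroups -/
theorem qdfree_pstableOn {G : Type u} [Group G] [Finite G] (hp2 : p ≠ 2)
    (hfree : ¬ Cfsg.Involves ↥(Cfsg.qd p) G) (V : Subgroup G) [V.Normal] (hV : IsPGroup p V) (a : G)
    (hq : ⁅⁅V, Subgroup.zpowers a⁆, Subgroup.zpowers a⁆ = ⊥) :
    (QuotientGroup.mk a : G ⧸ Subgroup.centralizer (V : Set G)) ∈
      Cfsg.pCore p (G ⧸ Subgroup.centralizer (V : Set G)) :=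
  QdStab8.pstableOn_of_nps (qdfree_nps hp2 hfree) V hV a hq

end Cfsg.Agent.Lib.helper17.QdStab11
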