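import Mathlib
import Cfsg.Agent.Lib.Helper10.O4320.Defs
import Cfsg.Agent.Lib.Helper25.CharLinear
import Cfsg.Agent.S0840
import Cfsg.Agent.Lib.helper4.BTCNT
import Cfsg.Agent.Lib.helper6.BTCLS

/-!
# Project O4320 (S0977), piece CLEQ (helper17): Brauer's class equation for an involution inverting a self-centralising `P` of odd prime order
-/

set_option autoImplicit false
set_option linter.unusedVariables false
set_option linter.unusedSectionVars false

namespace Cfsg.Agent.Lib.Helper10.O4320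

open Classical
open scoped ComplexConjugate
open Cfsg.Agent.Lib.helper7.BR Cfsg.Agent.Lib.Helper25 Cfsg.Agent.Lib.Helper29

universe u

section generic

variable {G : Type u} [Group G] [Fintype G] {p : ℕ} [Fact p.Prime]

/-- CLEQ [M]: Brauer's class equation `p |C_G(t)|² = |G| ∑_χ χ(t)² conj(χ(x)) / χ(1)` for an involution `t` inverting a self-centralising `P`, `|P| = p` odd, `x ∈ P ∖ 1`. -/
theorem class_eq (hodd : p ≠ 2) (P : Sylow p G) (hP : Nat.card ↥(P : Subgroup G) = p)
    (hcen : cen P = (P : Subgroup G)) (t : G) (ht1 : t ≠ 1) (ht2 : t * t = 1)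
    (hinv : ∀ x ∈ (P : Subgroup G), t * x * t⁻¹ = x⁻¹) (x : G) (hx : x ∈ (P : Subgroup G)) (hx1 : x ≠ 1) :
    (p : ℂ) * (Nat.card ↥(Subgroup.centralizer ({t} : Set G)) : ℂ) ^ 2 =
      (Nat.card G : ℂ) * ∑ᶠ χ : Cfsg.IrrCharacter G,
        (χ : G → ℂ) t * (χ : G → ℂ) t * conj ((χ : G → ℂ) x) / (χ : G → ℂ) 1 := by
  have h1 := Cfsg.Agent.S0840.result t t x
  have h2 := (Cfsg.Agent.Lib.Helper13.BT.count_pairs hodd P hP hcen t ht1 ht2 hinv x hx hx1).1
  have h3 := Cfsg.Agent.Lib.Helper13.BT.card_conj_class t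
  rw [h2] at h1
  have hC : (Nat.card ↥(Subgroup.centralizer ({t} : Set G)) : ℂ) ≠ 0 := by
    exact_mod_cast Nat.card_pos.ne'
  have hG : (Nat.card G : ℂ) ≠ 0 := by
    exact_mod_cast Nat.card_pos.ne'
  have h3' : (Nat.card {y : G // IsConj t y} : ℂ) *
      (Nat.card ↥(Subgroup.centralizer ({t} : Set G)) : ℂ) = (Nat.card G : ℂ) := by
    exact_mod_cast h3
  have hcl : (Nat.card {y : G // IsConj t y} : ℂ) =
      (Nat.card G : ℂ) / (Nat.card ↥(Subgroup.centralizer ({t} : Set G)) : ℂ) := by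
    rw [eq_div_iff hC]
    exact h3'
  rw [h1, hcl]
  field_simp

end generic

end Cfsg.Agent.Lib.Helper10.O4320
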