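import Mathlib

set_option autoImplicit false

namespace Cfsg.Agent.Lib.helper17

open Polynomial

/-- The value of the `n`-th cyclotomic polynomial at the natural number `a`. -/
noncomputable def cycVal (n a : ℕ) : ℤ := (cyclotomic n ℤ).eval (a : ℤ)

theorem cycVal_pos (n : ℕ) {a : ℕ} (ha : 1 < a) : 0 < cycVal n a := by
  unfold cycVal
  exact cyclotomic_pos' n (by exact_mod_cast ha)

theorem cycVal_dvd (n a : ℕ) : cycVal n a ∣ (a : ℤ) ^ n - 1 := by
  have h := (cyclotomic.dvd_X_pow_sub_one n ℤ)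
  have h2 := eval_dvd (x := (a : ℤ)) h
  simpa [cycVal] using h2

theorem cycVal_zmod (n a r : ℕ) : ((cycVal n a : ℤ) : ZMod r) = (cyclotomic n (ZMod r)).eval (a : ZMod r) := by
  unfold cycVal
  have := cyclotomic.eval_apply (a : ℤ) n (Int.castRingHom (ZMod r))
  simpa using this.symm

/-- If the prime `r` divides `Φ_n(a)` and `n = r ^ k * m` with `r ∤ m`, then `a` has order `m` mod `r`. -/
theorem isPrimitiveRoot_of_dvd_cycVal {r : ℕ} [hr : Fact r.Prime] {n a k m : ℕ} (hn : n = r ^ k * m)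
    (hm : ¬ r ∣ m) (hdvd : (r : ℤ) ∣ cycVal n a) : IsPrimitiveRoot (a : ZMod r) m := by
  have h0 : ((cycVal n a : ℤ) : ZMod r) = 0 := (ZMod.intCast_zmod_eq_zero_iff_dvd _ _).mpr hdvd
  rw [cycVal_zmod, hn] at h0
  haveI : NeZero (m : ZMod r) := ⟨fun h => hm ((ZMod.natCast_eq_zero_iff m r).mp h)⟩
  exact isRoot_cyclotomic_prime_pow_mul_iff_of_charP.mp h0

theorem dvd_pow_sub_one_iff {r : ℕ} [hr : Fact r.Prime] {a : ℕ} (ha : 0 < a) (k : ℕ) :
    r ∣ a ^ k - 1 ↔ (a : ZMod r) ^ k = 1 := by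
  have h1 : 1 ≤ a ^ k := Nat.one_le_pow _ _ ha
  rw [← ZMod.natCast_eq_zero_iff, Nat.cast_sub h1, sub_eq_zero]
  simp

end Cfsg.Agent.Lib.helper17
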