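import Mathlib
import Cfsg.Agent.Lib.helper17.Zsig

set_option autoImplicit false

namespace Cfsg.Agent.Lib.helper17

open Polynomial

theorem primitive_of_dvd_cycVal_of_not_dvd {r : ℕ} [hr : Fact r.Prime] {n a : ℕ} (ha : 0 < a)
    (hdvd : (r : ℤ) ∣ cycVal n a) (hrn : ¬ r ∣ n) :
    r ∣ a ^ n - 1 ∧ ∀ k : ℕ, 0 < k → k < n → ¬ r ∣ a ^ k - 1 := by
  have hprim := isPrimitiveRoot_of_dvd_cycVal (r := r) (n := n) (a := a) (k := 0) (m := n) (by simp) hrn hdvd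
  refine ⟨(dvd_pow_sub_one_iff ha n).mpr hprim.pow_eq_one, ?_⟩
  intro k hk hkn hd
  have := hprim.dvd_of_pow_eq_one k ((dvd_pow_sub_one_iff ha k).mp hd)
  exact absurd (Nat.le_of_dvd hk this) (by omega)

theorem structure_of_dvd_cycVal {r : ℕ} [hr : Fact r.Prime] {n a : ℕ} (hn0 : n ≠ 0)
    (hdvd : (r : ℤ) ∣ cycVal n a) (hrn : r ∣ n) :
    ∃ k m : ℕ, 0 < k ∧ n = r ^ k * m ∧ ¬ r ∣ m ∧ m ∣ r - 1 ∧ 0 < m ∧ (a : ZMod r) ^ m = 1 := by
  obtain ⟨k, m, hm, hn⟩ := Nat.exists_eq_pow_mul_and_not_dvd hn0 r hr.out.ne_one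
  have hprim := isPrimitiveRoot_of_dvd_cycVal hn hm hdvd
  have hk : 0 < k := by
    rcases Nat.eq_zero_or_pos k with rfl | h
    · simp at hn; exact absurd (hn ▸ hrn) hm
    · exact h
  have hm0 : 0 < m := by
    rcases Nat.eq_zero_or_pos m with rfl | h
    · simp at hm
    · exact h
  have ha0 : (a : ZMod r) ≠ 0 := by
    intro h0
    have := hprim.pow_eq_one
    rw [h0, zero_pow hm0.ne'] at this
    exact zero_ne_one this
  refine ⟨k, m, hk, hn, hm, ?_, hm0, hprim.pow_eq_one⟩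
  exact hprim.dvd_of_pow_eq_one _ (ZMod.pow_card_sub_one_eq_one ha0)

/-- A prime dividing both `Φ_n(a)` and `n` is larger than every other prime divisor of `n`. -/
theorem lt_of_dvd_cycVal {r s : ℕ} [hr : Fact r.Prime] (hs : s.Prime) {n a : ℕ} (hn0 : n ≠ 0)
    (hdvd : (r : ℤ) ∣ cycVal n a) (hrn : r ∣ n) (hsn : s ∣ n) (hsr : s ≠ r) : s < r := by
  obtain ⟨k, m, hk, hn, hm, hmr, hm0, -⟩ := structure_of_dvd_cycVal hn0 hdvd hrn
  have h1 : s ∣ m := by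
    rw [hn] at hsn
    rcases (Nat.Prime.dvd_mul hs).mp hsn with h | h
    · exact absurd ((Nat.prime_dvd_prime_iff_eq hs hr.out).mp (hs.dvd_of_dvd_pow h)) hsr
    · exact h
  have h2 : s ≤ m := Nat.le_of_dvd hm0 h1
  have h3 : m ≤ r - 1 := Nat.le_of_dvd (Nat.sub_pos_of_lt hr.out.one_lt) hmr
  have := hr.out.one_lt
  omega

end Cfsg.Agent.Lib.helper17
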