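import Mathlib
import Cfsg.Agent.Lib.helper17.Zsig2

set_option autoImplicit false

namespace Cfsg.Agent.Lib.helper17

open Polynomial

theorem cycVal_eq_natAbs (n : ℕ) {a : ℕ} (ha : 1 < a) : cycVal n a = ((cycVal n a).natAbs : ℤ) := by
  rw [Int.natCast_natAbs, abs_of_pos (cycVal_pos n ha)]

theorem natAbs_cycVal_mul_dvd {n d a : ℕ} (ha : 1 < a) (hd : d ∈ n.properDivisors) :
    (a ^ d - 1) * (cycVal n a).natAbs ∣ a ^ n - 1 := by
  have h := X_pow_sub_one_mul_cyclotomic_dvd_X_pow_sub_one_of_dvd ℤ hd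
  have h2 := eval_dvd (x := (a : ℤ)) h
  simp only [eval_mul, eval_sub, eval_pow, eval_X, eval_one] at h2
  have e : eval (a : ℤ) (cyclotomic n ℤ) = cycVal n a := rfl
  rw [e, cycVal_eq_natAbs n ha] at h2
  have h1 : ∀ k : ℕ, (a : ℤ) ^ k - 1 = ((a ^ k - 1 : ℕ) : ℤ) := by
    intro k
    have : 1 ≤ a ^ k := Nat.one_le_pow _ _ (by omega)
    push_cast [Nat.cast_sub this]
    ring
  rw [h1, h1, ← Nat.cast_mul, Int.natCast_dvd_natCast] at h2
  exact h2

theorem not_sq_dvd_cycVal {r : ℕ} [hr : Fact r.Prime] (hodd : Odd r) {n a : ℕ} (ha : 1 < a) (hn0 : n ≠ 0)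
    (hdvd : (r : ℤ) ∣ cycVal n a) (hrn : r ∣ n) : ¬ (r ^ 2 ∣ (cycVal n a).natAbs) := by
  intro hsq
  obtain ⟨k, m, hk, hn, hm, hmr, hm0, ham⟩ := structure_of_dvd_cycVal hn0 hdvd hrn
  have hrpos := hr.out.pos
  have hd : n / r ∈ n.properDivisors := by
    rw [Nat.mem_properDivisors]
    exact ⟨Nat.div_dvd_of_dvd hrn, Nat.div_lt_self (Nat.pos_of_ne_zero hn0) hr.out.one_lt⟩
  have hdiv := natAbs_cycVal_mul_dvd ha hd
  have hnr : n / r = r ^ (k - 1) * m := by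
    rw [hn]
    have : r ^ k = r * r ^ (k - 1) := by
      rw [← pow_succ']; congr 1; omega
    rw [this, mul_assoc, Nat.mul_div_cancel_left _ hrpos]
  have hy1 : r ∣ a ^ (n / r) - 1 := by
    rw [dvd_pow_sub_one_iff (by omega), hnr, mul_comm, pow_mul, ham, one_pow]
  have hyr : (a ^ (n / r)) ^ r = a ^ n := by
    rw [← pow_mul, Nat.div_mul_cancel hrn]
  have hy2 : 1 < a ^ (n / r) := by
    apply Nat.one_lt_pow _ ha
    rw [hnr]
    exact (Nat.mul_pos (Nat.pow_pos hrpos) hm0).ne'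
  have hnd : ¬ r ∣ a ^ (n / r) := by
    intro h
    have h1 : r ∣ a ^ (n / r) - (a ^ (n / r) - 1) := Nat.dvd_sub h hy1
    have h2 : a ^ (n / r) - (a ^ (n / r) - 1) = 1 := by omega
    rw [h2] at h1
    exact hr.out.one_lt.ne' (Nat.dvd_one.mp h1)
  have hlte := padicValNat.pow_sub_pow hodd hy2 hy1 hnd (n := r) hr.out.ne_zero
  rw [one_pow, hyr, padicValNat_self] at hlte
  have hne : a ^ n - 1 ≠ 0 := by
    have : 1 < a ^ n := Nat.one_lt_pow hn0 ha
    omega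
  have h3 : r ^ (padicValNat r (a ^ (n / r) - 1) + 2) ∣ a ^ n - 1 := by
    rw [pow_add]
    exact (Nat.mul_dvd_mul pow_padicValNat_dvd hsq).trans hdiv
  have := (padicValNat_dvd_iff_le hne).mp h3
  omega

end Cfsg.Agent.Lib.helper17
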