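import Mathlib
import Cfsg.Agent.Lib.helper17.Zsig3

set_option autoImplicit false

namespace Cfsg.Agent.Lib.helper17

open Polynomial

theorem succ_lt_two_pow {r : ℕ} (hr : 2 ≤ r) : r + 1 < 2 ^ r := by
  induction r, hr using Nat.le_induction with
  | base => norm_num
  | succ k hk ih => rw [pow_succ]; omega

theorem three_mul_succ_le_two_pow {r : ℕ} (hr : 5 ≤ r) : 3 * r + 1 ≤ 2 ^ r := by
  induction r, hr using Nat.le_induction with
  | base => norm_num
  | succ k hk ih => rw [pow_succ]; omega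

theorem cycVal_one (a : ℕ) : cycVal 1 a = (a : ℤ) - 1 := by
  simp [cycVal]

theorem cycVal_two (a : ℕ) : cycVal 2 a = (a : ℤ) + 1 := by
  simp [cycVal]

theorem cycVal_two_pow (k a : ℕ) : cycVal (2 ^ (k + 1)) a = 1 + (a : ℤ) ^ (2 ^ k) := by
  unfold cycVal
  rw [cyclotomic_prime_pow_eq_geom_sum Nat.prime_two]
  simp [Finset.sum_range_succ]

theorem cycVal_mul_prime_of_dvd {r : ℕ} (hr : r.Prime) {n' : ℕ} (hdiv : r ∣ n') (a : ℕ) :
    cycVal (n' * r) a = cycVal n' (a ^ r) := by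
  unfold cycVal
  rw [← cyclotomic_expand_eq_cyclotomic hr hdiv ℤ, expand_eval]
  push_cast
  rfl

theorem cycVal_mul_prime_of_not_dvd {r : ℕ} (hr : r.Prime) {m : ℕ} (hdiv : ¬ r ∣ m) (a : ℕ) :
    cycVal m (a ^ r) = cycVal (m * r) a * cycVal m a := by
  unfold cycVal
  rw [← eval_mul, ← cyclotomic_expand_eq_cyclotomic_mul hr hdiv ℤ, expand_eval]
  push_cast
  rfl

theorem cycVal_two_le (m : ℕ) : cycVal m 2 ≤ 3 ^ m.totient := by
  have h := cyclotomic_eval_le_add_one_pow_totient (q := (2 : ℝ)) (by norm_num) m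
  have e := cyclotomic.eval_apply (2 : ℤ) m (algebraMap ℤ ℝ)
  have e2 : (algebraMap ℤ ℝ) 2 = (2 : ℝ) := by simp
  rw [e2] at e
  rw [e] at h
  have h3 : (2 : ℝ) + 1 = ((3 : ℤ) : ℝ) := by norm_num
  rw [h3] at h
  have : ((eval (2 : ℤ) (cyclotomic m ℤ) : ℤ) : ℝ) ≤ (((3 : ℤ) ^ m.totient : ℤ) : ℝ) := by
    push_cast
    simpa using h
  exact_mod_cast this

end Cfsg.Agent.Lib.helper17
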