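import Mathlib
import Cfsg.Agent.Lib.Helper26.FusionAut
import Cfsg.Agent.Lib.Helper26.FusionSat
import Cfsg.Agent.Lib.Helper26.FusionHyp
import Cfsg.Agent.Lib.Helper27.OmegaAut
import Cfsg.Agent.Lib.Helper27.FusInner

set_option autoImplicit false

/-! Fusion systems in which the maps between small cyclic subgroups of the hyperfocal subgroup are
inner: all automizers are `p`-groups (model-free argument). -/

namespace Cfsg.Agent.Lib.helper17.FusSmall

open Cfsg Cfsg.FusionSystem Cfsg.Agent.Lib.Helper26 Cfsg.Agent.Lib.Helper27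

open scoped commutatorElement

variable {Ω : Type*} [Group Ω] {S : Subgroup Ω}


/-- the restriction of an automorphism of `P` to an invariant finite subgroup `R ≤ P`, as a hom -/
def restrictHom {P : Subgroup Ω} (α : MulAut P) (R : Subgroup Ω) (hRP : R ≤ P)
    (h1 : ∀ z (hz : z ∈ R), ((α ⟨z, hRP hz⟩ : P) : Ω) ∈ R) : R →* R where
  toFun z := ⟨α ⟨z, hRP z.2⟩, h1 z z.2⟩
  map_one' := by
    apply Subtype.ext
    show ((α ⟨((1 : R) : Ω), _⟩ : P) : Ω) = 1
    have : (⟨((1 : R) : Ω), hRP (1 : R).2⟩ : P) = 1 := Subtype.ext rfl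
    rw [this, map_one]; rfl
  map_mul' a b := by
    apply Subtype.ext
    show ((α ⟨((a * b : R) : Ω), _⟩ : P) : Ω) = ((α ⟨a, _⟩ : P) : Ω) * ((α ⟨b, _⟩ : P) : Ω)
    have : (⟨((a * b : R) : Ω), hRP (a * b).2⟩ : P) = ⟨a, hRP a.2⟩ * ⟨b, hRP b.2⟩ := Subtype.ext rfl
    rw [this, map_mul]; rfl

theorem restrictHom_injective {P : Subgroup Ω} (α : MulAut P) (R : Subgroup Ω) (hRP : R ≤ P)
    (h1 : ∀ z (hz : z ∈ R), ((α ⟨z, hRP hz⟩ : P) : Ω) ∈ R) :
    Function.Injective (restrictHom α R hRP h1) := by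
  intro a b hab
  have h2 : ((α ⟨a, hRP a.2⟩ : P) : Ω) = ((α ⟨b, hRP b.2⟩ : P) : Ω) :=
    congrArg (fun z : R => (z : Ω)) hab
  have h3 := α.injective (Subtype.ext h2)
  exact Subtype.ext (congrArg (fun z : P => (z : Ω)) h3)

/-- the restriction of an automorphism of `P` to an invariant finite subgroup `R ≤ P` -/
noncomputable def restrictAut {P : Subgroup Ω} (α : MulAut P) (R : Subgroup Ω) [Finite R]
    (hRP : R ≤ P) (h1 : ∀ z (hz : z ∈ R), ((α ⟨z, hRP hz⟩ : P) : Ω) ∈ R) : MulAut R :=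
  MulEquiv.ofBijective (restrictHom α R hRP h1)
    ⟨restrictHom_injective α R hRP h1,
      Finite.injective_iff_surjective.mp (restrictHom_injective α R hRP h1)⟩

theorem restrictAut_apply {P : Subgroup Ω} (α : MulAut P) (R : Subgroup Ω) [Finite R]
    (hRP : R ≤ P) (h1 : ∀ z (hz : z ∈ R), ((α ⟨z, hRP hz⟩ : P) : Ω) ∈ R) (z : R) :
    ((restrictAut α R hRP h1 z : R) : Ω) = ((α ⟨z, hRP z.2⟩ : P) : Ω) := rfl

theorem restrictAut_mem_autGroup (F : FusionSystem S) {P : Subgroup Ω} (hPS : P ≤ S)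
    {α : MulAut P} (hα : α ∈ F.autGroup P) (R : Subgroup Ω) [Finite R]
    (hRP : R ≤ P) (h1 : ∀ z (hz : z ∈ R), ((α ⟨z, hRP hz⟩ : P) : Ω) ∈ R) :
    restrictAut α R hRP h1 ∈ F.autGroup R := by
  rw [mem_autGroup_iff F (hRP.trans hPS)]
  have h2 := (mem_autGroup_iff F hPS).mp hα
  exact mem_of_forall_eq F (restrict_mem F h2 hRP) (fun x => rfl)

theorem restrictAut_pow_apply {P : Subgroup Ω} (α : MulAut P) (R : Subgroup Ω) [Finite R]
    (hRP : R ≤ P) (h1 : ∀ z (hz : z ∈ R), ((α ⟨z, hRP hz⟩ : P) : Ω) ∈ R) (k : ℕ) (z : R) :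
    ((((restrictAut α R hRP h1) ^ k) z : R) : Ω) = (((α ^ k) ⟨z, hRP z.2⟩ : P) : Ω) := by
  induction k generalizing z with
  | zero => simp
  | succ k ih =>
    rw [pow_succ, pow_succ, MulAut.mul_apply, MulAut.mul_apply, ih]
    rfl



/-- the lower central series of `S`, viewed in the ambient group -/
abbrev L (S : Subgroup Ω) (n : ℕ) : Subgroup Ω := S.lowerCentralSeries n

theorem L_zero (S : Subgroup Ω) : L S 0 = S := rfl

theorem conj_mem_L {S : Subgroup Ω} {n : ℕ} {s y : Ω} (hs : s ∈ S) (hy : y ∈ L S n) :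
    s * y * s⁻¹ ∈ L S n := by
  have h := Subgroup.self_le_normalizer_lowerCentralSeries S n hs
  rw [Subgroup.mem_normalizer_iff] at h
  exact (h y).mp hy

theorem comm_mem_L_succ {S : Subgroup Ω} {n : ℕ} {s y : Ω} (hs : s ∈ S) (hy : y ∈ L S n) :
    s * y * s⁻¹ * y⁻¹ ∈ L S (n + 1) := by
  have h1 : ⁅y, s⁆ ∈ L S (n + 1) := by
    show ⁅y, s⁆ ∈ ⁅S.lowerCentralSeries n, S⁆
    exact Subgroup.commutator_mem_commutator hy hs
  have h2 := (L S (n + 1)).inv_mem h1
  convert h2 using 1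
  simp only [commutatorElement_def]
  group

theorem exists_L_eq_bot {S : Subgroup Ω} [Finite S] {p : ℕ} [Fact p.Prime] (hS : IsPGroup p S) :
    ∃ n, L S n = ⊥ := by
  have hnil : Group.IsNilpotent ↥S := hS.isNilpotent
  exact (Subgroup.isNilpotent_iff_lowerCentralSeries S).mp hnil

/-- the key group theoretic contradiction -/
theorem key {S : Subgroup Ω} [Finite S] {p : ℕ} [Fact p.Prime] (hS : IsPGroup p S)
    {P : Subgroup Ω} (hPS : P ≤ S) (a : MulAut P) (x : P) (hx : x ≠ 1)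
    (hgen : Subgroup.closure {y : Ω | ∃ k : ℕ, y = (((a ^ k) x : P) : Ω)} = P)
    (hconj : ∀ k : ℕ, ∃ s ∈ S, (((a ^ k) x : P) : Ω) = s * (x : Ω) * s⁻¹)
    (hcomm : Subgroup.closure {y : Ω | ∃ z : P, y = (z : Ω)⁻¹ * ((a z : P) : Ω)} = P) : False := by
  classical
  obtain ⟨n0, hn0⟩ := exists_L_eq_bot hS
  have hex : ∃ n, (x : Ω) ∉ L S n := by
    refine ⟨n0, ?_⟩
    rw [hn0, Subgroup.mem_bot]
    intro h
    exact hx (Subtype.ext h)
  have hspec := Nat.find_spec hex
  set n := Nat.find hex with hn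
  have hn_ne : n ≠ 0 := by
    intro h0
    rw [h0, L_zero] at hspec
    exact hspec (hPS x.2)
  obtain ⟨m, hm⟩ := Nat.exists_eq_succ_of_ne_zero hn_ne
  have hxm : (x : Ω) ∈ L S m := by
    by_contra hcon
    exact Nat.find_min hex (m := m) (by omega) hcon
  rw [hm] at hspec
  -- the subgroup D
  let D : Subgroup P :=
    { carrier := {z : P | (z : Ω)⁻¹ * ((a z : P) : Ω) ∈ L S (m + 1)}
      one_mem' := by
        show ((1 : P) : Ω)⁻¹ * ((a 1 : P) : Ω) ∈ L S (m + 1)
        rw [map_one]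
        simp
      mul_mem' := by
        intro z w hz hw
        show ((z * w : P) : Ω)⁻¹ * ((a (z * w) : P) : Ω) ∈ L S (m + 1)
        have hz' : (z : Ω)⁻¹ * ((a z : P) : Ω) ∈ L S (m + 1) := hz
        have hw' : (w : Ω)⁻¹ * ((a w : P) : Ω) ∈ L S (m + 1) := hw
        have h1 := conj_mem_L (S.inv_mem (hPS w.2)) hz'
        have h2 := (L S (m + 1)).mul_mem h1 hw'
        rw [map_mul]
        convert h2 using 1
        simp only [Subgroup.coe_mul, inv_inv]
        group
      inv_mem' := by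
        intro z hz
        show ((z⁻¹ : P) : Ω)⁻¹ * ((a z⁻¹ : P) : Ω) ∈ L S (m + 1)
        have hz' : (z : Ω)⁻¹ * ((a z : P) : Ω) ∈ L S (m + 1) := hz
        have h1 := conj_mem_L (hPS z.2) ((L S (m + 1)).inv_mem hz')
        rw [map_inv]
        convert h1 using 1
        simp only [Subgroup.coe_inv]
        group }
  have hD : ∀ z : P, z ∈ D := by
    have h1 : Subgroup.closure {y : Ω | ∃ k : ℕ, y = (((a ^ k) x : P) : Ω)} ≤ D.map P.subtype := by
      rw [Subgroup.closure_le]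
      rintro _ ⟨k, rfl⟩
      refine ⟨(a ^ k) x, ?_, rfl⟩
      show (((a ^ k) x : P) : Ω)⁻¹ * ((a ((a ^ k) x) : P) : Ω) ∈ L S (m + 1)
      have e : a ((a ^ k) x) = (a ^ (k + 1)) x := by
        rw [pow_succ', MulAut.mul_apply]
      rw [e]
      obtain ⟨s, hs, hsx⟩ := hconj k
      obtain ⟨t, ht, htx⟩ := hconj (k + 1)
      rw [hsx, htx]
      have hns := comm_mem_L_succ hs hxm
      have hnt := comm_mem_L_succ ht hxm
      have h3 := (L S (m + 1)).mul_mem ((L S (m + 1)).inv_mem hns) hnt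
      have h4 := conj_mem_L (S.inv_mem (hPS x.2)) h3
      convert h4 using 1
      group
    intro z
    have hz : (z : Ω) ∈ D.map P.subtype := h1 (by rw [hgen]; exact z.2)
    obtain ⟨z', hz', hzz⟩ := hz
    have : z' = z := Subtype.ext hzz
    rwa [this] at hz'
  have hle : P ≤ L S (m + 1) := by
    rw [← hcomm, Subgroup.closure_le]
    rintro _ ⟨z, rfl⟩
    exact hD z
  exact hspec (hle x.2)


theorem exists_prime_order' {A : Type*} [Group A] [Finite A] {p : ℕ} [Fact p.Prime]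
    (h : ¬ IsPGroup p A) : ∃ (q : ℕ) (β : A), q.Prime ∧ q ≠ p ∧ orderOf β = q := by
  by_contra hcon
  push Not at hcon
  apply h
  have hne : Nat.card A ≠ 0 := Nat.card_pos.ne'
  refine IsPGroup.of_card (Nat.eq_prime_pow_of_unique_prime_dvd hne ?_)
  intro q hq hdvd
  by_contra hqp
  have := Fact.mk hq
  obtain ⟨β, hβ⟩ := exists_prime_orderOf_dvd_card' q hdvd
  exact hcon q β hq hqp hβ

/-- an element of a `p`-group whose `q`-th power is trivial (`q ≠ p` primes) is trivial -/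
theorem eq_one_of_pow_prime {A : Type*} [Group A] {p q : ℕ} [Fact p.Prime] (hq : q.Prime)
    (hqp : q ≠ p) (hA : IsPGroup p A) {b : A} (hb : b ^ q = 1) : b = 1 := by
  obtain ⟨k, hk⟩ := hA b
  have h1 : orderOf b ∣ q := orderOf_dvd_of_pow_eq_one hb
  have h2 : orderOf b ∣ p ^ k := orderOf_dvd_of_pow_eq_one hk
  have hcop : Nat.Coprime q (p ^ k) :=
    Nat.Coprime.pow_right k ((Nat.coprime_primes hq (Fact.out : p.Prime)).mpr hqp)
  have h3 : orderOf b ∣ 1 := by
    have := Nat.dvd_gcd h1 h2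
    rwa [hcop] at this
  exact orderOf_eq_one_iff.mp (Nat.dvd_one.mp h3)


theorem card_lt_of_lt {K H : Subgroup Ω} [Finite H] (h : K < H) : Nat.card K < Nat.card H := by
  have hfin : (H : Set Ω).Finite := Set.toFinite _
  exact Set.ncard_lt_ncard (SetLike.coe_ssubset_coe.mpr h) hfin

theorem closure_invariant {P : Subgroup Ω} (a : MulAut P) (G : Set Ω)
    (hGP : Subgroup.closure G ≤ P)
    (hG : ∀ y (hy : y ∈ G),
      ((a ⟨y, hGP (Subgroup.subset_closure hy)⟩ : P) : Ω) ∈ Subgroup.closure G) :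
    ∀ z (hz : z ∈ Subgroup.closure G), ((a ⟨z, hGP hz⟩ : P) : Ω) ∈ Subgroup.closure G := by
  intro z hz
  refine Subgroup.closure_induction
    (p := fun z hz => ((a ⟨z, hGP hz⟩ : P) : Ω) ∈ Subgroup.closure G) ?_ ?_ ?_ ?_ hz
  · intro y hy
    exact hG y hy
  · have : (⟨(1 : Ω), hGP (Subgroup.one_mem _)⟩ : P) = 1 := rfl
    rw [this, map_one]
    exact Subgroup.one_mem _
  · intro x y hx hy hx' hy'
    have : (⟨x * y, hGP (Subgroup.mul_mem _ hx hy)⟩ : P) = ⟨x, hGP hx⟩ * ⟨y, hGP hy⟩ := rfl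
    rw [this, map_mul]
    exact Subgroup.mul_mem _ hx' hy'
  · intro x hx hx'
    have : (⟨x⁻¹, hGP (Subgroup.inv_mem _ hx)⟩ : P) = (⟨x, hGP hx⟩ : P)⁻¹ := rfl
    rw [this, map_inv]
    exact Subgroup.inv_mem _ hx'

/-- `a` with `a ^ q = 1` (`q ≠ p` primes) acts trivially on an invariant subgroup whose automizer is
a `p`-group -/
theorem fix_of_isPGroup_autGroup [Finite S] {p q : ℕ} [Fact p.Prime] (hq : q.Prime) (hqp : q ≠ p)
    (F : FusionSystem S) {P : Subgroup Ω} (hPS : P ≤ S) {a : MulAut P} (ha : a ∈ F.autGroup P)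
    (haq : a ^ q = 1) (R : Subgroup Ω) (hRP : R ≤ P)
    (h1 : ∀ z (hz : z ∈ R), ((a ⟨z, hRP hz⟩ : P) : Ω) ∈ R)
    (hR : IsPGroup p (F.autGroup R)) : ∀ z (hz : z ∈ R), ((a ⟨z, hRP hz⟩ : P) : Ω) = z := by
  have : Finite R := finite_of_le (hRP.trans hPS)
  have hb : restrictAut a R hRP h1 ∈ F.autGroup R := restrictAut_mem_autGroup F hPS ha R hRP h1
  have hbq : (restrictAut a R hRP h1) ^ q = 1 := by
    ext z
    rw [restrictAut_pow_apply, haq]
    rfl
  have hb1 : (⟨restrictAut a R hRP h1, hb⟩ : F.autGroup R) = 1 :=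
    eq_one_of_pow_prime hq hqp hR (Subtype.ext hbq)
  have hb2 : restrictAut a R hRP h1 = 1 := congrArg Subtype.val hb1
  intro z hz
  have h2 := restrictAut_apply a R hRP h1 ⟨z, hz⟩
  rw [hb2] at h2
  exact h2.symm

theorem isPGroup_autGroup_of_small [Finite S] (p : ℕ) [Fact p.Prime] (hS : IsPGroup p S)
    (F : FusionSystem S)
    (h : ∀ A B : Subgroup Ω, A ≤ F.hyperfocalSubgroup p → B ≤ F.hyperfocalSubgroup p →
      IsCyclic ↥A → (Nat.card ↥A = p ∨ Nat.card ↥A = 4) → IsCyclic ↥B →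
      (Nat.card ↥B = p ∨ Nat.card ↥B = 4) →
      F.homSet A B ⊆ (Cfsg.innerFusionSystem S).Hom A) :
    ∀ P : Subgroup Ω, P ≤ S → IsPGroup p (F.autGroup P) := by
  intro P
  induction' hn : Nat.card P using Nat.strong_induction_on with n ih generalizing P
  intro hPS
  by_contra hnp
  have : Finite P := finite_of_le hPS
  have hPp : IsPGroup p P := hS.to_le hPS
  obtain ⟨q, β, hq, hqp, hβ⟩ := exists_prime_order' hnp
  obtain ⟨a, ha⟩ := β
  have hao : orderOf a = q := by
    rw [← hβ]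
    exact (Subgroup.orderOf_mk a ha).symm
  have haq : a ^ q = 1 := by
    rw [← hao]
    exact pow_orderOf_eq_one a
  have ha1 : a ≠ 1 := by
    intro h1
    rw [h1, orderOf_one] at hao
    exact hq.one_lt.ne hao
  have hcop : Nat.Coprime q p := (Nat.coprime_primes hq (Fact.out : p.Prime)).mpr hqp
  have ih' : ∀ R : Subgroup Ω, R ≤ P → R ≠ P → IsPGroup p (F.autGroup R) := by
    intro R hRP hne
    have hlt : Nat.card R < Nat.card P := card_lt_of_lt (lt_of_le_of_ne hRP hne)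
    exact ih _ (hn ▸ hlt) R rfl (hRP.trans hPS)
  -- Step A : `P = [P, a]`
  have hR0P : Subgroup.closure {y : Ω | ∃ z : P, y = (z : Ω)⁻¹ * ((a z : P) : Ω)} ≤ P := by
    rw [Subgroup.closure_le]
    rintro _ ⟨z, rfl⟩
    exact P.mul_mem (P.inv_mem z.2) (a z).2
  have hR0inv := closure_invariant a _ hR0P (by
    rintro _ ⟨z, rfl⟩
    refine Subgroup.subset_closure ⟨a z, ?_⟩
    have e : (⟨(z : Ω)⁻¹ * ((a z : P) : Ω), hR0P (Subgroup.subset_closure ⟨z, rfl⟩)⟩ : P)
        = z⁻¹ * a z := rfl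
    rw [e, map_mul, map_inv]
    rfl)
  have hR0eq : Subgroup.closure {y : Ω | ∃ z : P, y = (z : Ω)⁻¹ * ((a z : P) : Ω)} = P := by
    by_contra hne
    have hfix := fix_of_isPGroup_autGroup hq hqp F hPS ha haq _ hR0P hR0inv (ih' _ hR0P hne)
    apply ha1
    ext z
    have hc : a (z⁻¹ * a z) = z⁻¹ * a z := by
      apply Subtype.ext
      exact hfix _ (Subgroup.subset_closure ⟨z, rfl⟩)
    have hpow : ∀ k : ℕ, (a ^ k) z = z * (z⁻¹ * a z) ^ k := by
      intro k
      induction k with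
      | zero => simp
      | succ k ihk =>
        rw [pow_succ', MulAut.mul_apply, ihk, map_mul, map_pow, hc, pow_succ']
        simp only [mul_assoc, mul_inv_cancel_left]
    have h2 := hpow q
    rw [haq, MulAut.one_apply] at h2
    have h3 : (z⁻¹ * a z) ^ q = 1 := by
      have := mul_left_cancel (a := z) (b := 1) (c := (z⁻¹ * a z) ^ q) (by rw [mul_one]; exact h2)
      exact this.symm
    have h4 : z⁻¹ * a z = 1 := eq_one_of_pow_prime hq hqp hPp h3
    have h5 : a z = z := by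
      have := congrArg (fun w => z * w) h4
      simpa using this
    rw [h5]
    rfl
  have hPhyp : P ≤ F.hyperfocalSubgroup p := by
    rw [← hR0eq, Subgroup.closure_le]
    rintro _ ⟨z, rfl⟩
    refine gen_mem_hyperfocal F p hPS ⟨a, ha⟩ ?_ z
    refine Subgroup.subset_closure ?_
    show Nat.Coprime (orderOf (⟨a, ha⟩ : F.autGroup P)) p
    rw [Subgroup.orderOf_mk, hao]
    exact hcop
  -- Step B
  have hsmall : ∀ x : P, (x ^ p = 1 ∨ (p = 2 ∧ x ^ 4 = 1)) → a x = x := by
    intro x hx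
    by_contra hax
    have hx1 : x ≠ 1 := by
      rintro rfl
      exact hax (map_one a)
    have hXP : Subgroup.closure {y : Ω | ∃ k : ℕ, y = (((a ^ k) x : P) : Ω)} ≤ P := by
      rw [Subgroup.closure_le]
      rintro _ ⟨k, rfl⟩
      exact ((a ^ k) x).2
    have hXinv := closure_invariant a _ hXP (by
      rintro _ ⟨k, rfl⟩
      refine Subgroup.subset_closure ⟨k + 1, ?_⟩
      rw [pow_succ', MulAut.mul_apply])
    by_cases hXeq : Subgroup.closure {y : Ω | ∃ k : ℕ, y = (((a ^ k) x : P) : Ω)} = P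
    · refine key hS hPS a x hx1 hXeq ?_ hR0eq
      intro k
      have hxo : orderOf (x : Ω) = p ∨ orderOf (x : Ω) = 4 := by
        rw [Subgroup.orderOf_coe]
        rcases hx with hx | ⟨hp2, hx⟩
        · left
          exact orderOf_eq_prime hx hx1
        · have hd : orderOf x ∣ 2 ^ 2 := orderOf_dvd_of_pow_eq_one (by norm_num; exact hx)
          obtain ⟨j, hj, hjo⟩ := (Nat.dvd_prime_pow Nat.prime_two).mp hd
          interval_cases j
          · exfalso
            exact hx1 (orderOf_eq_one_iff.mp (by simpa using hjo))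
          · left
            rw [hjo, hp2]
            norm_num
          · right
            rw [hjo]
            norm_num
      have hyo : orderOf ((((a ^ k) x : P)) : Ω) = orderOf (x : Ω) := by
        rw [Subgroup.orderOf_coe, Subgroup.orderOf_coe]
        exact MulEquiv.orderOf_eq (a ^ k) x
      have hAP : Subgroup.zpowers (x : Ω) ≤ P := Subgroup.zpowers_le.mpr x.2
      have hφ : (P.subtype.comp (a ^ k).toMonoidHom).comp (Subgroup.inclusion hAP) ∈
          F.Hom (Subgroup.zpowers (x : Ω)) :=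
        restrict_mem F ((mem_autGroup_iff F hPS).mp (pow_mem ha k)) hAP
      have hφB : ∀ z : Subgroup.zpowers (x : Ω),
          ((P.subtype.comp (a ^ k).toMonoidHom).comp (Subgroup.inclusion hAP)) z ∈
            Subgroup.zpowers ((((a ^ k) x : P)) : Ω) := by
        rintro ⟨z, m, rfl⟩
        refine ⟨m, ?_⟩
        show (((a ^ k) x : P) : Ω) ^ m = (((a ^ k) ⟨(x : Ω) ^ m, _⟩ : P) : Ω)
        have e : (⟨(x : Ω) ^ m, hAP ⟨m, rfl⟩⟩ : P) = x ^ m := Subtype.ext (by simp)
        rw [e, map_zpow]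
        simp
      have hin := h (Subgroup.zpowers (x : Ω)) (Subgroup.zpowers ((((a ^ k) x : P)) : Ω))
        (Subgroup.zpowers_le.mpr (hPhyp x.2)) (Subgroup.zpowers_le.mpr (hPhyp ((a ^ k) x).2))
        inferInstance (by rw [Nat.card_zpowers]; exact hxo) inferInstance
        (by rw [Nat.card_zpowers, hyo]; exact hxo) ⟨hφ, hφB⟩
      obtain ⟨-, g, hg, hgx⟩ := hin
      refine ⟨g, hg, ?_⟩
      have := hgx ⟨(x : Ω), Subgroup.mem_zpowers _⟩
      rw [← this]
      rfl
    · have hfix := fix_of_isPGroup_autGroup hq hqp F hPS ha haq _ hXP hXinv (ih' _ hXP hXeq)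
      apply hax
      apply Subtype.ext
      exact hfix (x : Ω) (Subgroup.subset_closure ⟨0, by simp⟩)
  have hfixall := aut_fix_of_fix_small a (by rw [hao]; exact hcop) ⊤ (hPp.to_subgroup ⊤)
    (fun _ _ => Subgroup.mem_top _) (fun _ _ => Subgroup.mem_top _) (fun x _ hx => hsmall x hx)
  apply ha1
  ext z
  rw [hfixall z (Subgroup.mem_top _)]
  rfl

end Cfsg.Agent.Lib.helper17.FusSmall
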