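import Mathlib
import Cfsg.Prelude.Def_Blocks
import Cfsg.Agent.Lib.Helper16.AP3
import Cfsg.Agent.Lib.Helper10.SLB.Defs

/-!
# SLB row C01 (`centralizer_UT`), helper17.  Verbatim statement of `Helper10/SLB/Skel.lean.txt`.
Own extras are prefixed `slbc01_`.
-/

set_option autoImplicit false

open Polynomial

namespace Cfsg.Agent.Lib.Helper10.SLB

open Cfsg.Agent.Lib.Helper16.AP

universe u

section C

variable {F : Type u} [Field F] [Fintype F]

/-- the transvection `1 + E_ab` as an element of `SL_n`. -/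
def slbc01_tv {n : ℕ} (a b : Fin n) (hab : a ≠ b) : Matrix.SpecialLinearGroup (Fin n) F :=
  ⟨Matrix.transvection a b 1, Matrix.det_transvection_of_ne a b hab 1⟩

theorem slbc01_tv_coe {n : ℕ} (a b : Fin n) (hab : a ≠ b) :
    ((slbc01_tv a b hab : Matrix.SpecialLinearGroup (Fin n) F) : Matrix (Fin n) (Fin n) F) =
      1 + Matrix.single a b 1 := rfl

theorem slbc01_tv_mem {n : ℕ} (a b : Fin n) (hab : a < b) :
    (slbc01_tv a b (ne_of_lt hab) : Matrix.SpecialLinearGroup (Fin n) F) ∈ UT n F := by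
  rw [mem_UT_iff, slbc01_tv_coe]
  constructor
  · intro i j hji
    rw [Matrix.add_apply, Matrix.one_apply_ne (ne_of_gt hji), zero_add, Matrix.single_apply,
      if_neg]
    rintro ⟨rfl, rfl⟩
    exact absurd hab (not_lt.mpr (le_of_lt hji))
  · intro i
    rw [Matrix.add_apply, Matrix.one_apply_eq, Matrix.single_apply, if_neg, add_zero]
    rintro ⟨rfl, h⟩
    exact absurd h.symm (ne_of_lt hab)

/-- commuting with the transvection `1 + E_ab` means commuting with `E_ab`. -/
theorem slbc01_comm {n : ℕ} (g : Matrix.SpecialLinearGroup (Fin n) F)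
    (hg : ∀ u ∈ UT n F, u * g = g * u) (a b : Fin n) (hab : a < b) :
    Matrix.single a b (1 : F) * (g : Matrix (Fin n) (Fin n) F) =
      (g : Matrix (Fin n) (Fin n) F) * Matrix.single a b (1 : F) := by
  have h := congrArg (fun x : Matrix.SpecialLinearGroup (Fin n) F => (x : Matrix (Fin n) (Fin n) F))
    (hg _ (slbc01_tv_mem (F := F) a b hab))
  simp only [Matrix.SpecialLinearGroup.coe_mul, slbc01_tv_coe, add_mul, mul_add, one_mul,
    mul_one] at h
  exact add_left_cancel h

/-- **C01**. -/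
theorem centralizer_UT (n : ℕ) (hn : 2 ≤ n) (g : Matrix.SpecialLinearGroup (Fin n) F)
    (hg : ∀ u ∈ UT n F, u * g = g * u) :
    (∀ i j : Fin n, i ≠ j → ¬ ((i : ℕ) = 0 ∧ (j : ℕ) = n - 1) →
      (g : Matrix (Fin n) (Fin n) F) i j = 0) ∧
    ∀ i j : Fin n, (g : Matrix (Fin n) (Fin n) F) i i = (g : Matrix (Fin n) (Fin n) F) j j := by
  have hc := slbc01_comm g hg
  -- rows `b ≠ 0`
  have hrow : ∀ b l : Fin n, (b : ℕ) ≠ 0 → l ≠ b → (g : Matrix (Fin n) (Fin n) F) b l = 0 := by
    intro b l hb hl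
    have ha : (⟨0, by omega⟩ : Fin n) < b := by
      rw [Fin.lt_def]; exact Nat.pos_of_ne_zero hb
    have h := congrFun (congrFun (hc ⟨0, by omega⟩ b ha) ⟨0, by omega⟩) l
    rw [Matrix.single_mul_apply_same, Matrix.mul_single_apply_of_ne _ _ _ _ _ hl, one_mul] at h
    exact h
  -- columns `a ≠ n - 1`
  have hcol : ∀ a k : Fin n, (a : ℕ) ≠ n - 1 → k ≠ a → (g : Matrix (Fin n) (Fin n) F) k a = 0 := by
    intro a k ha hk
    have hb : a < (⟨n - 1, by omega⟩ : Fin n) := by
      rw [Fin.lt_def]; have := a.2; show (a : ℕ) < n - 1; omega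
    have h := congrFun (congrFun (hc a ⟨n - 1, by omega⟩ hb) k) ⟨n - 1, by omega⟩
    rw [Matrix.single_mul_apply_of_ne _ _ _ _ _ hk, Matrix.mul_single_apply_same, mul_one] at h
    exact h.symm
  -- diagonal
  have hdiag : ∀ a b : Fin n, a < b →
      (g : Matrix (Fin n) (Fin n) F) a a = (g : Matrix (Fin n) (Fin n) F) b b := by
    intro a b hab
    have h := congrFun (congrFun (hc a b hab) a) b
    rw [Matrix.single_mul_apply_same, Matrix.mul_single_apply_same, one_mul, mul_one] at h
    exact h.symm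
  constructor
  · intro i j hij hne
    by_cases hi : (i : ℕ) = 0
    · have hj : (j : ℕ) ≠ n - 1 := fun h => hne ⟨hi, h⟩
      exact hcol j i hj hij
    · exact hrow i j hi hij.symm
  · intro i j
    rcases lt_trichotomy i j with h | h | h
    · exact hdiag i j h
    · rw [h]
    · exact (hdiag j i h).symm

end C

end Cfsg.Agent.Lib.Helper10.SLB
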