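import Mathlib
import Cfsg.Prelude.Def_Blocks
import Cfsg.Agent.Lib.Helper16.AP3
import Cfsg.Agent.Lib.Helper10.SLB.Defs
import Cfsg.Agent.Lib.helper17.SLBC01

/-!
# SLB row C02 (`pregular_centralizer_UT`), helper17.  Verbatim statement of `Helper10/SLB/Skel.lean.txt`.
Own extras are prefixed `slbc02_`.
-/

set_option autoImplicit false

open Polynomial

namespace Cfsg.Agent.Lib.Helper10.SLB

open Cfsg.Agent.Lib.Helper16.AP

universe u

section C

variable {F : Type u} [Field F] [Fintype F]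

/-- powers of `l • 1 + N` with `N * N = 0`. -/
theorem slbc02_pow {n : ℕ} (l : F) (N : Matrix (Fin n) (Fin n) F) (hNN : N * N = 0) (k : ℕ) :
    (l • (1 : Matrix (Fin n) (Fin n) F) + N) ^ (k + 1) =
      l ^ (k + 1) • (1 : Matrix (Fin n) (Fin n) F) + (((k + 1 : ℕ) : F) * l ^ k) • N := by
  induction k with
  | zero => simp
  | succ k ih =>
    rw [pow_succ, ih]
    simp only [add_mul, mul_add, smul_mul_assoc, mul_smul_comm, one_mul, mul_one, hNN, smul_zero,
      add_zero, smul_smul]
    push_cast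
    module

/-- the shape of an element centralising `UT`. -/
theorem slbc02_shape (n : ℕ) (hn : 2 ≤ n) (g : Matrix.SpecialLinearGroup (Fin n) F)
    (hg : ∀ u ∈ UT n F, u * g = g * u) :
    (g : Matrix (Fin n) (Fin n) F) =
      (g : Matrix (Fin n) (Fin n) F) ⟨0, by omega⟩ ⟨0, by omega⟩ • (1 : Matrix (Fin n) (Fin n) F) +
        Matrix.single (⟨0, by omega⟩ : Fin n) (⟨n - 1, by omega⟩ : Fin n)
          ((g : Matrix (Fin n) (Fin n) F) ⟨0, by omega⟩ ⟨n - 1, by omega⟩) := by
  obtain ⟨hoff, hdiag⟩ := centralizer_UT n hn g hg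
  ext i j
  rw [Matrix.add_apply, Matrix.smul_apply, smul_eq_mul, Matrix.single_apply]
  by_cases hij : i = j
  · subst hij
    rw [Matrix.one_apply_eq, mul_one, if_neg, add_zero]
    · exact hdiag i _
    · rintro ⟨h1, h2⟩
      have := congrArg Fin.val (h1.trans h2.symm)
      simp only at this
      omega
  · rw [Matrix.one_apply_ne hij, mul_zero, zero_add]
    by_cases h : (⟨0, by omega⟩ : Fin n) = i ∧ (⟨n - 1, by omega⟩ : Fin n) = j
    · rw [if_pos h]
      obtain ⟨rfl, rfl⟩ := h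
      rfl
    · rw [if_neg h]
      apply hoff i j hij
      rintro ⟨h1, h2⟩
      exact h ⟨Fin.ext h1.symm, Fin.ext h2.symm⟩

/-- **C02**. -/
theorem pregular_centralizer_UT (p : ℕ) [Fact p.Prime] [CharP F p] (n : ℕ) (hn : 2 ≤ n)
    (g : Matrix.SpecialLinearGroup (Fin n) F) (hg : ∀ u ∈ UT n F, u * g = g * u)
    (hreg : ¬ p ∣ orderOf g) : g ∈ Subgroup.center (Matrix.SpecialLinearGroup (Fin n) F) := by
  classical
  have hA := slbc02_shape n hn g hg
  set i0 : Fin n := ⟨0, by omega⟩ with hi0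
  set i1 : Fin n := ⟨n - 1, by omega⟩ with hi1
  have h01 : i0 ≠ i1 := by
    intro h
    have := congrArg Fin.val h
    simp only [hi0, hi1] at this
    omega
  set l : F := (g : Matrix (Fin n) (Fin n) F) i0 i0 with hl
  set c : F := (g : Matrix (Fin n) (Fin n) F) i0 i1 with hc
  have hNN : Matrix.single i0 i1 c * Matrix.single i0 i1 c = 0 :=
    Matrix.single_mul_single_of_ne _ _ _ _ h01.symm _
  obtain ⟨k, hk⟩ : ∃ k, orderOf g = k + 1 :=
    ⟨orderOf g - 1, (Nat.succ_pred_eq_of_pos (orderOf_pos g)).symm⟩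
  have hpow : ((g : Matrix (Fin n) (Fin n) F)) ^ (k + 1) = 1 := by
    rw [← Matrix.SpecialLinearGroup.coe_pow, ← hk, pow_orderOf_eq_one]
    rfl
  rw [hA, slbc02_pow l _ hNN k] at hpow
  have h00 := congrFun (congrFun hpow i0) i0
  have h0n := congrFun (congrFun hpow i0) i1
  rw [Matrix.add_apply, Matrix.smul_apply, Matrix.smul_apply, Matrix.one_apply_eq,
    Matrix.single_apply_of_col_ne i0 i0 h01.symm c, smul_eq_mul, smul_eq_mul, mul_one, mul_zero,
    add_zero] at h00
  rw [Matrix.add_apply, Matrix.smul_apply, Matrix.smul_apply, Matrix.one_apply_ne h01,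
    Matrix.single_apply_same, smul_eq_mul, smul_eq_mul, mul_zero, zero_add] at h0n
  have hl0 : l ≠ 0 := by
    intro h
    rw [h, zero_pow (Nat.succ_ne_zero k)] at h00
    exact zero_ne_one h00
  have hk0 : ((k + 1 : ℕ) : F) ≠ 0 := by
    intro h
    rw [CharP.cast_eq_zero_iff F p, ← hk] at h
    exact hreg h
  have hc0 : c = 0 := by
    rcases mul_eq_zero.mp h0n with h | h
    · exact absurd h (mul_ne_zero hk0 (pow_ne_zero _ hl0))
    · exact h
  rw [hc0, Matrix.single_zero, add_zero] at hA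
  rw [Matrix.SpecialLinearGroup.mem_center_iff]
  refine ⟨l, ?_, ?_⟩
  · have hdet := g.2
    rw [hA, Matrix.det_smul, Matrix.det_one, mul_one] at hdet
    exact hdet
  · rw [hA]
    ext i j
    by_cases hij : i = j
    · subst hij; simp
    · simp [hij]

end C

end Cfsg.Agent.Lib.Helper10.SLB
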