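import Mathlib
import Cfsg.Prelude.Def_Blocks
import Cfsg.Agent.Lib.Helper16.AP3
import Cfsg.Agent.Lib.Helper10.SLB.Defs

/-!
# SLB row C03 (`card_center_SL`), helper17.  Verbatim statement of `Helper10/SLB/Skel.lean.txt`.
-/

set_option autoImplicit false

open Polynomial

namespace Cfsg.Agent.Lib.Helper10.SLB

open Cfsg.Agent.Lib.Helper16.AP

universe u

section C

variable {F : Type u} [Field F] [Fintype F]

/-- **C03**. -/
theorem card_center_SL (n : ℕ) (hn : 1 ≤ n) :
    Nat.card (Subgroup.center (Matrix.SpecialLinearGroup (Fin n) F)) =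
      Nat.gcd n (Fintype.card F - 1) := by
  classical
  have e := Matrix.SpecialLinearGroup.center_equiv_rootsOfUnity' (n := Fin n) (R := F) ⟨0, by omega⟩
  rw [Nat.card_congr e.toEquiv, Fintype.card_fin]
  have h1 : (rootsOfUnity n F) = (powMonoidHom n : Fˣ →* Fˣ).ker := by
    ext x
    simp [mem_rootsOfUnity, MonoidHom.mem_ker]
  rw [h1, IsCyclic.card_powMonoidHom_ker, Nat.card_units, Nat.card_eq_fintype_card, Nat.gcd_comm]

end C

end Cfsg.Agent.Lib.Helper10.SLB
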