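import Mathlib
import Cfsg.Prelude.Def_LocalStructure
import Cfsg.Prelude.Def_LocalEven
import Cfsg.Agent.Lib.helper17.PClosed
import Cfsg.Agent.Lib.helper17.Cores
import Cfsg.Agent.Lib.helper17.Op

set_option autoImplicit false

namespace Cfsg.Agent.Lib.helper17

variable {G : Type*} [Group G]

/-! ### Elementary abelian subgroups, elementwise -/

theorem isElementaryAbelian_iff {p : ℕ} {V : Subgroup G} :
    Cfsg.IsElementaryAbelian p V ↔ (∀ a ∈ V, ∀ b ∈ V, a * b = b * a) ∧ ∀ a ∈ V, a ^ p = 1 := by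
  unfold Cfsg.IsElementaryAbelian
  constructor
  · rintro ⟨h1, h2⟩
    refine ⟨fun a ha b hb => ?_, h2⟩
    have := isMulCommutative_iff.mp h1 ⟨a, ha⟩ ⟨b, hb⟩
    exact congrArg Subtype.val this
  · rintro ⟨h1, h2⟩
    refine ⟨?_, h2⟩
    rw [isMulCommutative_iff]
    rintro ⟨a, ha⟩ ⟨b, hb⟩
    exact Subtype.ext (h1 a ha b hb)

theorem isElementaryAbelian_mono {p : ℕ} {V W : Subgroup G} (hW : Cfsg.IsElementaryAbelian p W)
    (h : V ≤ W) : Cfsg.IsElementaryAbelian p V := by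
  rw [isElementaryAbelian_iff] at hW ⊢
  exact ⟨fun a ha b hb => hW.1 a (h ha) b (h hb), fun a ha => hW.2 a (h ha)⟩

theorem isPGroup_of_isElementaryAbelian {p : ℕ} {V : Subgroup G} (hV : Cfsg.IsElementaryAbelian p V) :
    IsPGroup p V := by
  rintro ⟨y, hy⟩
  refine ⟨1, ?_⟩
  apply Subtype.ext
  rw [pow_one]
  exact hV.2 y hy

theorem isElementaryAbelian_map_subtype {p : ℕ} {R : Subgroup G} {X : Subgroup ↥R} :
    Cfsg.IsElementaryAbelian p (X.map R.subtype) ↔ Cfsg.IsElementaryAbelian p X := by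
  rw [isElementaryAbelian_iff, isElementaryAbelian_iff]
  constructor
  · rintro ⟨h1, h2⟩
    refine ⟨fun a ha b hb => ?_, fun a ha => ?_⟩
    · apply Subtype.ext
      exact h1 a ⟨a, ha, rfl⟩ b ⟨b, hb, rfl⟩
    · apply Subtype.ext
      have := h2 a ⟨a, ha, rfl⟩
      simpa using this
  · rintro ⟨h1, h2⟩
    refine ⟨?_, ?_⟩
    · rintro _ ⟨a, ha, rfl⟩ _ ⟨b, hb, rfl⟩
      exact congrArg Subtype.val (h1 a ha b hb)
    · rintro _ ⟨a, ha, rfl⟩
      have := congrArg Subtype.val (h2 a ha)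
      simpa using this

theorem mem_centralizer_map_subtype_iff {R : Subgroup G} {X : Subgroup ↥R} (r : ↥R) :
    (r : G) ∈ Subgroup.centralizer ((X.map R.subtype : Subgroup G) : Set G) ↔
      r ∈ Subgroup.centralizer (X : Set ↥R) := by
  rw [Subgroup.mem_centralizer_iff, Subgroup.mem_centralizer_iff]
  constructor
  · intro h x hx
    apply Subtype.ext
    exact h x ⟨x, hx, rfl⟩
  · rintro h _ ⟨x, hx, rfl⟩
    exact congrArg Subtype.val (h x hx)

/-! ### The elementwise form of `p`-reducedness -/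

/-- every element of `D` has a `p`-power in `C` -/
def PPowIn (p : ℕ) (D C : Subgroup G) : Prop := ∀ d ∈ D, ∃ k : ℕ, d ^ (p ^ k) ∈ C

theorem PPowIn.mono {p : ℕ} {D D' C C' : Subgroup G} (h : PPowIn p D C) (hD : D' ≤ D) (hC : C ≤ C') :
    PPowIn p D' C' := by
  intro d hd
  obtain ⟨k, hk⟩ := h d (hD hd)
  exact ⟨k, hC hk⟩

/-- `p`-reduced normal subgroup, elementwise form -/
def PRed (p : ℕ) (V : Subgroup G) : Prop :=
  V.Normal ∧ Cfsg.IsElementaryAbelian p V ∧
    ∀ D : Subgroup G, D.Normal → PPowIn p D (Subgroup.centralizer (V : Set G)) →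
      D ≤ Subgroup.centralizer (V : Set G)

/-- If `O_p(L/N) = 1`, `D` is normal and every element of `D` has a `p`-power in `N`, then `D ≤ N`. -/
theorem le_of_pCore_quotient_eq_bot' {p : ℕ} {N : Subgroup G} [N.Normal]
    (h : Cfsg.pCore p (G ⧸ N) = ⊥) {D : Subgroup G} (hD : D.Normal)
    (hp : PPowIn p D N) : D ≤ N := by
  have hn : (D.map (QuotientGroup.mk' N)).Normal :=
    Subgroup.Normal.map hD _ (QuotientGroup.mk'_surjective N)
  have hpg : IsPGroup p (D.map (QuotientGroup.mk' N)) := by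
    rintro ⟨_, d, hd, rfl⟩
    obtain ⟨k, hk⟩ := hp d hd
    refine ⟨k, ?_⟩
    apply Subtype.ext
    rw [Subgroup.coe_pow, Subgroup.coe_one]
    show (QuotientGroup.mk' N d) ^ (p ^ k) = 1
    rw [← map_pow]
    exact (QuotientGroup.eq_one_iff _).mpr hk
  have h1 := le_pCore hn hpg
  rw [h] at h1
  intro d hd
  have h2 : QuotientGroup.mk' N d ∈ (⊥ : Subgroup (G ⧸ N)) := h1 ⟨d, hd, rfl⟩
  rw [Subgroup.mem_bot] at h2
  exact (QuotientGroup.eq_one_iff d).mp h2

theorem isPReducedNormal_iff_pRed {p : ℕ} (V : Subgroup G) :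
    Cfsg.IsPReducedNormal p V ↔ PRed p V := by
  constructor
  · rintro ⟨hVn, hVel, hCn, hV⟩
    exact ⟨hVn, hVel, fun D hD hp => le_of_pCore_quotient_eq_bot' hV hD hp⟩
  · rintro ⟨hVn, hVel, hV⟩
    have hCn : (Subgroup.centralizer (V : Set G)).Normal := Subgroup.normal_centralizer
    refine ⟨hVn, hVel, hCn, ?_⟩
    rw [eq_bot_iff]
    intro x hx
    obtain ⟨d, rfl⟩ := QuotientGroup.mk'_surjective _ x
    rw [Subgroup.mem_bot, QuotientGroup.mk'_apply, QuotientGroup.eq_one_iff]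
    have hDn : ((Cfsg.pCore p (G ⧸ Subgroup.centralizer (V : Set G))).comap
        (QuotientGroup.mk' (Subgroup.centralizer (V : Set G)))).Normal := by
      have := pCore_normal p (G ⧸ Subgroup.centralizer (V : Set G))
      infer_instance
    apply hV _ hDn _ hx
    intro e he
    rw [Subgroup.mem_comap] at he
    obtain ⟨k, hk⟩ := (pCore_isPGroup p _) ⟨_, he⟩
    refine ⟨k, ?_⟩
    have h2 : (QuotientGroup.mk' (Subgroup.centralizer (V : Set G)) e) ^ (p ^ k) = 1 := by
      have := congrArg Subtype.val hk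
      simpa using this
    rw [← map_pow, QuotientGroup.mk'_apply, QuotientGroup.eq_one_iff] at h2
    exact h2

/-! ### The ambient form -/

/-- `V ≤ L` is a `p`-reduced normal subgroup of the subgroup `L`, stated in the ambient group. -/
def PRedIn (p : ℕ) (L V : Subgroup G) : Prop :=
  V ≤ L ∧ L ≤ Subgroup.normalizer (V : Set G) ∧ Cfsg.IsElementaryAbelian p V ∧
    ∀ D : Subgroup G, D ≤ L → L ≤ Subgroup.normalizer (D : Set G) →
      PPowIn p D (Subgroup.centralizer (V : Set G)) → D ≤ Subgroup.centralizer (V : Set G)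

theorem normal_iff_le_normalizer_map {R : Subgroup G} (X : Subgroup ↥R) :
    X.Normal ↔ R ≤ Subgroup.normalizer ((X.map R.subtype : Subgroup G) : Set G) := by
  constructor
  · intro hX
    apply le_normalizer_of_cj_le'
    intro r hr
    rintro _ ⟨_, ⟨x, hx, rfl⟩, rfl⟩
    exact ⟨⟨r, hr⟩ * x * ⟨r, hr⟩⁻¹, hX.conj_mem x hx ⟨r, hr⟩, rfl⟩
  · intro h
    constructor
    intro x hx r
    have h1 : (r : G) * (x : G) * (r : G)⁻¹ ∈ X.map R.subtype :=
      (Subgroup.mem_normalizer_iff.mp (h r.2) _).mp ⟨x, hx, rfl⟩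
    obtain ⟨y, hy, hyx⟩ := h1
    have : y = r * x * r⁻¹ := Subtype.ext (by simpa using hyx)
    rw [← this]
    exact hy

theorem pRed_iff_pRedIn_map {p : ℕ} (R : Subgroup G) (X : Subgroup ↥R) :
    PRed p X ↔ PRedIn p R (X.map R.subtype) := by
  constructor
  · rintro ⟨hXn, hXel, hX⟩
    refine ⟨Subgroup.map_subtype_le _, (normal_iff_le_normalizer_map X).mp hXn,
      isElementaryAbelian_map_subtype.mpr hXel, ?_⟩
    intro D hDR hRD hp
    have hDn : (D.subgroupOf R).Normal := (Subgroup.normal_subgroupOf_iff_le_normalizer hDR).mpr hRD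
    have h1 : D.subgroupOf R ≤ Subgroup.centralizer (X : Set ↥R) := by
      apply hX _ hDn
      intro d hd
      obtain ⟨k, hk⟩ := hp (d : G) (Subgroup.mem_subgroupOf.mp hd)
      refine ⟨k, ?_⟩
      rw [← mem_centralizer_map_subtype_iff]
      simpa using hk
    intro d hd
    have := h1 (Subgroup.mem_subgroupOf.mpr (show ((⟨d, hDR hd⟩ : ↥R) : G) ∈ D from hd))
    exact (mem_centralizer_map_subtype_iff (X := X) ⟨d, hDR hd⟩).mpr this
  · rintro ⟨-, hn, hel, h⟩
    refine ⟨(normal_iff_le_normalizer_map X).mpr hn, isElementaryAbelian_map_subtype.mp hel, ?_⟩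
    intro D hDn hp
    have h1 : D.map R.subtype ≤ Subgroup.centralizer ((X.map R.subtype : Subgroup G) : Set G) := by
      apply h _ (Subgroup.map_subtype_le _) ((normal_iff_le_normalizer_map D).mp hDn)
      rintro _ ⟨d, hd, rfl⟩
      obtain ⟨k, hk⟩ := hp d hd
      refine ⟨k, ?_⟩
      have := (mem_centralizer_map_subtype_iff (X := X) (d ^ (p ^ k))).mpr hk
      simpa using this
    intro d hd
    exact (mem_centralizer_map_subtype_iff d).mp (h1 ⟨d, hd, rfl⟩)

theorem isPReducedNormal_iff_pRedIn_map {p : ℕ} (R : Subgroup G) (X : Subgroup ↥R) :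
    Cfsg.IsPReducedNormal p X ↔ PRedIn p R (X.map R.subtype) := by
  rw [isPReducedNormal_iff_pRed, pRed_iff_pRedIn_map]

theorem pRed_iff_pRedIn_top {p : ℕ} (V : Subgroup G) : PRed p V ↔ PRedIn p ⊤ V := by
  constructor
  · rintro ⟨hn, hel, h⟩
    refine ⟨le_top, ?_, hel, ?_⟩
    · rw [Subgroup.normalizer_eq_top_iff.mpr hn]
    · intro D _ hD hp
      exact h D (Subgroup.normalizer_eq_top_iff.mp (top_le_iff.mp hD)) hp
  · rintro ⟨-, hn, hel, h⟩
    refine ⟨Subgroup.normalizer_eq_top_iff.mp (top_le_iff.mp hn), hel, ?_⟩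
    intro D hD hp
    apply h D le_top _ hp
    rw [Subgroup.normalizer_eq_top_iff.mpr hD]

theorem isPReducedNormal_iff_pRedIn_top {p : ℕ} (V : Subgroup G) :
    Cfsg.IsPReducedNormal p V ↔ PRedIn p ⊤ V := by
  rw [isPReducedNormal_iff_pRed, pRed_iff_pRedIn_top]

/-! ### Basic consequences -/

theorem PRedIn.pCoreOf_le_centralizer {p : ℕ} {L V : Subgroup G} (h : PRedIn p L V) :
    Cfsg.pCoreOf p L ≤ Subgroup.centralizer (V : Set G) := by
  obtain ⟨-, -, -, h4⟩ := h
  apply h4 _ (pCoreOf_le p L) (le_normalizer_pCoreOf p L)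
  intro d hd
  obtain ⟨k, hk⟩ := isPElt_of_mem (pCoreOf_isPGroup p L) hd
  refine ⟨k, ?_⟩
  rw [hk]
  exact Subgroup.one_mem _

theorem PRedIn.le_pCoreOf {p : ℕ} {L V : Subgroup G} (h : PRedIn p L V) :
    V ≤ Cfsg.pCoreOf p L :=
  Cfsg.Agent.Lib.helper17.le_pCoreOf h.1 (isPGroup_of_isElementaryAbelian h.2.2.1) h.2.1

theorem PRedIn.le_centralizer_pCoreOf {p : ℕ} {L V : Subgroup G} (h : PRedIn p L V) :
    V ≤ Subgroup.centralizer ((Cfsg.pCoreOf p L : Subgroup G) : Set G) := by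
  rw [← Subgroup.le_centralizer_iff]
  exact h.pCoreOf_le_centralizer

/-- `Ω₁` of a subgroup contains every element of order dividing `p`. -/
theorem mem_omegaOne {p : ℕ} {K : Subgroup G} {x : G} (hx : x ∈ K) (hp : x ^ p = 1) :
    x ∈ Cfsg.omegaOne p K := by
  unfold Cfsg.omegaOne
  exact Subgroup.subset_closure ⟨hx, hp⟩

theorem omegaOne_le {p : ℕ} (K : Subgroup G) : Cfsg.omegaOne p K ≤ K := by
  unfold Cfsg.omegaOne
  rw [Subgroup.closure_le]
  intro x hx
  exact hx.1

theorem omegaOne_mono {p : ℕ} {K K' : Subgroup G} (h : K ≤ K') : Cfsg.omegaOne p K ≤ Cfsg.omegaOne p K' := by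
  unfold Cfsg.omegaOne
  apply Subgroup.closure_mono
  intro x hx
  exact ⟨h hx.1, hx.2⟩

theorem PRedIn.le_omegaOne {p : ℕ} {L V : Subgroup G} (h : PRedIn p L V) :
    V ≤ Cfsg.omegaOne p (Cfsg.pCoreOf p L ⊓ Subgroup.centralizer ((Cfsg.pCoreOf p L : Subgroup G) : Set G)) := by
  intro v hv
  exact mem_omegaOne ⟨h.le_pCoreOf hv, h.le_centralizer_pCoreOf hv⟩ (h.2.2.1.2 v hv)

/-! ### The largest `p`-reduced normal subgroup -/

theorem PRed.pCore_le_centralizer {p : ℕ} {V : Subgroup G} (h : PRed p V) :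
    Cfsg.pCore p G ≤ Subgroup.centralizer (V : Set G) := by
  apply h.2.2 _ (pCore_normal p G)
  intro d hd
  obtain ⟨k, hk⟩ := isPElt_of_mem (pCore_isPGroup p G) hd
  refine ⟨k, ?_⟩
  rw [hk]
  exact Subgroup.one_mem _

theorem PRed.le_pCore {p : ℕ} {V : Subgroup G} (h : PRed p V) : V ≤ Cfsg.pCore p G :=
  Cfsg.Agent.Lib.helper17.le_pCore h.1 (isPGroup_of_isElementaryAbelian h.2.1)

theorem largestPReduced_pRed (p : ℕ) (G : Type*) [Group G] : PRed p (Cfsg.largestPReduced p G) := by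
  unfold Cfsg.largestPReduced
  have hYn : (sSup {V : Subgroup G | Cfsg.IsPReducedNormal p V}).Normal :=
    sSup_normal_of_forall (fun V hV => hV.1)
  have h1 : ∀ V : Subgroup G, Cfsg.IsPReducedNormal p V → V ≤ Cfsg.pCore p G ∧
      V ≤ Subgroup.centralizer (Cfsg.pCore p G : Set G) := by
    intro V hV
    have hV' := (isPReducedNormal_iff_pRed V).mp hV
    refine ⟨hV'.le_pCore, ?_⟩
    rw [← Subgroup.le_centralizer_iff]
    exact hV'.pCore_le_centralizer
  have hYle : sSup {V : Subgroup G | Cfsg.IsPReducedNormal p V} ≤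
      Cfsg.pCore p G ⊓ Subgroup.centralizer (Cfsg.pCore p G : Set G) :=
    sSup_le (fun V hV => le_inf (h1 V hV).1 (h1 V hV).2)
  have hcomm : ∀ a ∈ sSup {V : Subgroup G | Cfsg.IsPReducedNormal p V},
      ∀ b ∈ sSup {V : Subgroup G | Cfsg.IsPReducedNormal p V}, a * b = b * a := by
    intro a ha b hb
    have h2 := (hYle ha).2
    have h3 := (hYle hb).1
    exact (Subgroup.mem_centralizer_iff.mp h2 b h3).symm
  have hpow : ∀ a ∈ sSup {V : Subgroup G | Cfsg.IsPReducedNormal p V}, a ^ p = 1 := by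
    intro a ha
    have key : a ∈ sSup {V : Subgroup G | Cfsg.IsPReducedNormal p V} ∧ a ^ p = 1 := by
      have ha' := ha
      rw [sSup_eq_iSup'] at ha'
      refine Subgroup.iSup_induction _ (C := fun x => x ∈ sSup {V : Subgroup G | Cfsg.IsPReducedNormal p V} ∧ x ^ p = 1) ha' ?_ ?_ ?_
      · rintro ⟨V, hV⟩ x hx
        exact ⟨le_sSup hV hx, hV.2.1.2 x hx⟩
      · exact ⟨Subgroup.one_mem _, one_pow p⟩
      · rintro x y ⟨hx, hxp⟩ ⟨hy, hyp⟩
        refine ⟨Subgroup.mul_mem _ hx hy, ?_⟩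
        have hc : Commute x y := hcomm x hx y hy
        rw [hc.mul_pow, hxp, hyp, one_mul]
    exact key.2
  refine ⟨hYn, isElementaryAbelian_iff.mpr ⟨hcomm, hpow⟩, ?_⟩
  intro D hDn hp
  rw [Subgroup.le_centralizer_iff]
  apply sSup_le
  intro V hV
  rw [← Subgroup.le_centralizer_iff]
  have hV' := (isPReducedNormal_iff_pRed V).mp hV
  apply hV'.2.2 D hDn
  exact hp.mono le_rfl (Subgroup.centralizer_le (SetLike.coe_subset_coe.mpr (le_sSup hV)))

theorem le_largestPReduced {p : ℕ} {V : Subgroup G} (h : PRed p V) : V ≤ Cfsg.largestPReduced p G := by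
  unfold Cfsg.largestPReduced
  exact le_sSup ((isPReducedNormal_iff_pRed V).mpr h)

theorem largestPReducedOf_pRedIn (p : ℕ) (L : Subgroup G) : PRedIn p L (Cfsg.largestPReducedOf p L) := by
  unfold Cfsg.largestPReducedOf
  exact (pRed_iff_pRedIn_map L _).mp (largestPReduced_pRed p ↥L)

theorem le_largestPReducedOf {p : ℕ} {L V : Subgroup G} (h : PRedIn p L V) :
    V ≤ Cfsg.largestPReducedOf p L := by
  unfold Cfsg.largestPReducedOf
  have e : V = (V.subgroupOf L).map L.subtype := by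
    rw [Subgroup.subgroupOf_map_subtype, inf_eq_left.mpr h.1]
  have h' := h
  rw [e] at h'
  have h2 := (pRed_iff_pRedIn_map L _).mpr h'
  rw [e]
  exact Subgroup.map_mono (le_largestPReduced h2)

theorem largestPReduced_top (p : ℕ) :
    Cfsg.largestPReducedOf p (⊤ : Subgroup G) = Cfsg.largestPReduced p G := by
  apply le_antisymm
  · apply le_largestPReduced
    rw [pRed_iff_pRedIn_top]
    exact largestPReducedOf_pRedIn p ⊤
  · apply le_largestPReducedOf
    rw [← pRed_iff_pRedIn_top]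
    exact largestPReduced_pRed p G

end Cfsg.Agent.Lib.helper17
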