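import Mathlib
import Cfsg.Agent.Lib.helper17.PRed
import Cfsg.Agent.Lib.helper17.WC3
import Cfsg.Agent.Lib.helper17.WC4
import Cfsg.Agent.Lib.helper17.SylowNormal

set_option autoImplicit false

namespace Cfsg.Agent.Lib.helper17

variable {G : Type*} [Group G]

/-! ### The closure of `X` under conjugation by `L` -/

/-- the subgroup generated by the `L`-conjugates of `X` -/
def conjClosure (L X : Subgroup G) : Subgroup G := ⨆ l : ↥L, cj (l : G) X

theorem le_conjClosure (L X : Subgroup G) : X ≤ conjClosure L X := le_iSup_cj L X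

theorem cj_le_conjClosure (L X : Subgroup G) {l : G} (hl : l ∈ L) : cj l X ≤ conjClosure L X :=
  le_iSup (fun k : ↥L => cj (k : G) X) ⟨l, hl⟩

theorem le_normalizer_conjClosure (L X : Subgroup G) :
    L ≤ Subgroup.normalizer ((conjClosure L X : Subgroup G) : Set G) :=
  le_normalizer_of_cj_le' (fun _ hx => cj_iSup_le L X hx)

theorem conjClosure_le_of {L X K : Subgroup G} (hXK : X ≤ K)
    (hLK : L ≤ Subgroup.normalizer (K : Set G)) : conjClosure L X ≤ K := by
  apply iSup_le
  intro l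
  have := cj_mono (g := (l : G)) hXK
  rwa [cj_eq_self_iff.mpr (hLK l.2)] at this

theorem conjClosure_le {L X : Subgroup G} (hXL : X ≤ L) : conjClosure L X ≤ L :=
  conjClosure_le_of hXL Subgroup.le_normalizer

theorem conjClosure_top (X : Subgroup G) :
    conjClosure ⊤ X = Subgroup.normalClosure (X : Set G) := by
  apply le_antisymm
  · apply conjClosure_le_of Subgroup.le_normalClosure
    rw [Subgroup.normalizer_eq_top_iff.mpr Subgroup.normalClosure_normal]
  · have hn : (conjClosure ⊤ X).Normal := by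
      rw [← Subgroup.normalizer_eq_top_iff, ← top_le_iff]
      exact le_normalizer_conjClosure ⊤ X
    exact Subgroup.normalClosure_le_normal (SetLike.coe_subset_coe.mpr (le_conjClosure ⊤ X))

/-- An element all of whose `L`-conjugates centralize `X` centralizes `conjClosure L X`. -/
theorem mem_centralizer_conjClosure {L X : Subgroup G} {s : G}
    (h : ∀ l ∈ L, l⁻¹ * s * l ∈ Subgroup.centralizer (X : Set G)) :
    s ∈ Subgroup.centralizer ((conjClosure L X : Subgroup G) : Set G) := by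
  have h1 : Subgroup.zpowers s ≤ Subgroup.centralizer ((conjClosure L X : Subgroup G) : Set G) := by
    rw [Subgroup.le_centralizer_iff]
    apply iSup_le
    intro l
    rw [← Subgroup.le_centralizer_iff, Subgroup.zpowers_le, centralizer_cj, mem_cj]
    exact h l l.2
  exact h1 (Subgroup.mem_zpowers s)

/-! ### Sylow subgroups of subgroups normalised by a Sylow subgroup -/

theorem not_dvd_relIndex_of_le_normalizer [Finite G] {p : ℕ} [Fact p.Prime] (T : Sylow p G)
    {D : Subgroup G} (hTD : (T : Subgroup G) ≤ Subgroup.normalizer (D : Set G)) :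
    ¬ p ∣ (T : Subgroup G).relIndex D := by
  have h1 := not_dvd_relIndex_of_normal (T.subtype hTD) (D.subgroupOf (Subgroup.normalizer (D : Set G)))
  rw [Sylow.coe_subtype, Subgroup.relIndex_subgroupOf Subgroup.le_normalizer] at h1
  exact h1

/-- `T ∩ D` as a Sylow `p`-subgroup of `D`, when `T` normalises `D`. -/
noncomputable def sylowInfOfLeNormalizer [Finite G] {p : ℕ} [Fact p.Prime] (T : Sylow p G)
    {D : Subgroup G} (hTD : (T : Subgroup G) ≤ Subgroup.normalizer (D : Set G)) : Sylow p ↥D :=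
  IsPGroup.toSylow (P := (T : Subgroup G).subgroupOf D)
    (T.isPGroup'.comap_subtype) (not_dvd_relIndex_of_le_normalizer T hTD)

theorem sylowInfOfLeNormalizer_coe [Finite G] {p : ℕ} [Fact p.Prime] (T : Sylow p G)
    {D : Subgroup G} (hTD : (T : Subgroup G) ≤ Subgroup.normalizer (D : Set G)) :
    ((sylowInfOfLeNormalizer T hTD : Sylow p ↥D) : Subgroup ↥D) = (T : Subgroup G).subgroupOf D := rfl

/-- A `p'`-element with a `p`-power in `C` lies in `C`. -/
theorem mem_of_coprime_of_pow_mem [Finite G] {p : ℕ} [Fact p.Prime] {C : Subgroup G} {e : G}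
    (he : Nat.Coprime (orderOf e) p) {k : ℕ} (hk : e ^ (p ^ k) ∈ C) : e ∈ C := by
  have hcop : Nat.Coprime (orderOf e) (p ^ k) := Nat.Coprime.pow_right k he
  have h1 : e ∈ Subgroup.zpowers (e ^ (p ^ k)) := by
    rw [Subgroup.mem_zpowers_iff]
    obtain ⟨m, hm⟩ := exists_pow_eq_self_of_coprime hcop.symm
    exact ⟨m, by rw [zpow_natCast]; exact hm⟩
  exact (Subgroup.zpowers_le.mpr hk) h1

/-- If every element of `D` has a `p`-power in `C`, where `C` is normalised by `D`, then every element of `D` is a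
product of an element of `D ∩ C` and one of `D ∩ T`. -/
theorem exists_mul_of_pPowIn [Finite G] {p : ℕ} [Fact p.Prime] (T : Sylow p G)
    {D C : Subgroup G} (hTD : (T : Subgroup G) ≤ Subgroup.normalizer (D : Set G))
    (hp : PPowIn p D C) {d : G} (hd : d ∈ D) :
    ∃ c ∈ D ⊓ C, ∃ t ∈ D ⊓ (T : Subgroup G), d = c * t := by
  have h1 : Cfsg.pResidual p ↥D ≤ C.subgroupOf D := by
    unfold Cfsg.pResidual
    rw [Subgroup.closure_le]
    intro e he
    have he' : Nat.Coprime (orderOf e) p := he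
    rw [← Subgroup.orderOf_coe] at he'
    obtain ⟨k, hk⟩ := hp (e : G) e.2
    exact Subgroup.mem_subgroupOf.mpr (mem_of_coprime_of_pow_mem he' hk)
  have h2 := pResidual_sup_sylow (sylowInfOfLeNormalizer T hTD)
  have hn := pResidual_normal p ↥D
  have h3 : (⟨d, hd⟩ : ↥D) ∈ Cfsg.pResidual p ↥D ⊔ ((sylowInfOfLeNormalizer T hTD : Sylow p ↥D) : Subgroup ↥D) := by
    rw [h2]
    exact Subgroup.mem_top _
  have hle : ((sylowInfOfLeNormalizer T hTD : Sylow p ↥D) : Subgroup ↥D) ≤
      Subgroup.normalizer ((Cfsg.pResidual p ↥D : Subgroup ↥D) : Set ↥D) := by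
    rw [Subgroup.normalizer_eq_top_iff.mpr hn]
    exact le_top
  obtain ⟨c, hc, t, ht, hct⟩ := exists_mul_of_mem_sup_right hle h3
  refine ⟨(c : G), ⟨c.2, Subgroup.mem_subgroupOf.mp (h1 hc)⟩, (t : G), ⟨t.2, ?_⟩, ?_⟩
  · rw [sylowInfOfLeNormalizer_coe] at ht
    exact Subgroup.mem_subgroupOf.mp ht
  · have := congrArg Subtype.val hct
    simpa using this

/-- Every `p`-element of `D` lies in a `D`-conjugate of `D ∩ T`. -/
theorem exists_conj_mem_of_isPElt [Finite G] {p : ℕ} [Fact p.Prime] (T : Sylow p G)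
    {D : Subgroup G} (hTD : (T : Subgroup G) ≤ Subgroup.normalizer (D : Set G))
    {u : G} (hu : u ∈ D) (hup : IsPElt p u) :
    ∃ d ∈ D, ∃ t ∈ D ⊓ (T : Subgroup G), u = d * t * d⁻¹ := by
  have hup' : IsPElt p (⟨u, hu⟩ : ↥D) := (isPElt_coe_iff (N := D) ⟨u, hu⟩).mp hup
  obtain ⟨d, hd⟩ := exists_le_cj_sylow (sylowInfOfLeNormalizer T hTD) hup'.isPGroup_zpowers
  have h1 : (⟨u, hu⟩ : ↥D) ∈ cj d ((sylowInfOfLeNormalizer T hTD : Sylow p ↥D) : Subgroup ↥D) :=
    hd (Subgroup.mem_zpowers _)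
  obtain ⟨t, ht, hdt⟩ := h1
  rw [sylowInfOfLeNormalizer_coe] at ht
  refine ⟨(d : G), d.2, (t : G), ⟨t.2, Subgroup.mem_subgroupOf.mp ht⟩, ?_⟩
  have := congrArg Subtype.val hdt
  simpa using this.symm

/-! ### The Sylow criterion for `p`-reducedness -/

/-- **Criterion.** Let `T ≤ L` be a Sylow `p`-subgroup and `X ≤ L` with `W = ⟨X^L⟩` elementary abelian. If for every
subgroup `D ≤ L` normalised by `L` which acts on `W` as a `p`-group the intersection `D ∩ T` centralises `X`, then `W` is a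
`p`-reduced normal subgroup of `L`. -/
theorem pRedIn_conjClosure [Finite G] {p : ℕ} [Fact p.Prime] (T : Sylow p G) {L X : Subgroup G}
    (hTL : (T : Subgroup G) ≤ L) (hXL : X ≤ L)
    (hWel : Cfsg.IsElementaryAbelian p (conjClosure L X))
    (h : ∀ D : Subgroup G, D ≤ L → L ≤ Subgroup.normalizer (D : Set G) →
      PPowIn p D (Subgroup.centralizer ((conjClosure L X : Subgroup G) : Set G)) →
      D ⊓ (T : Subgroup G) ≤ Subgroup.centralizer (X : Set G)) :
    PRedIn p L (conjClosure L X) := by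
  refine ⟨conjClosure_le hXL, le_normalizer_conjClosure L X, hWel, ?_⟩
  intro D hDL hLD hp
  have hTD : (T : Subgroup G) ≤ Subgroup.normalizer (D : Set G) := hTL.trans hLD
  have hDT := h D hDL hLD hp
  have key : D ⊓ (T : Subgroup G) ≤ Subgroup.centralizer ((conjClosure L X : Subgroup G) : Set G) := by
    intro s hs
    apply mem_centralizer_conjClosure
    intro l hl
    have hu : l⁻¹ * s * l ∈ D := by
      have := (Subgroup.mem_normalizer_iff.mp (hLD (L.inv_mem hl)) s).mp hs.1
      simpa using this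
    have hup : IsPElt p (l⁻¹ * s * l) := by
      have := (isPElt_of_mem T.isPGroup' hs.2).conj l⁻¹
      simpa using this
    obtain ⟨d, hd, t, ht, hudt⟩ := exists_conj_mem_of_isPElt T hTD hu hup
    obtain ⟨c, hc, t', ht', hdct⟩ := exists_mul_of_pPowIn T hTD hp hd
    rw [Subgroup.mem_centralizer_iff]
    intro x hx
    have hxW : x ∈ conjClosure L X := le_conjClosure L X hx
    have hcx : x * c = c * x := (Subgroup.mem_centralizer_iff.mp hc.2) x hxW
    have htt : t' * t * t'⁻¹ ∈ D ⊓ (T : Subgroup G) :=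
      Subgroup.mul_mem _ (Subgroup.mul_mem _ ht' ht) (Subgroup.inv_mem _ ht')
    have htx : x * (t' * t * t'⁻¹) = (t' * t * t'⁻¹) * x :=
      (Subgroup.mem_centralizer_iff.mp (hDT htt)) x hx
    have e : d * t * d⁻¹ = c * (t' * t * t'⁻¹) * c⁻¹ := by rw [hdct]; group
    have hcx' : c⁻¹ * x = x * c⁻¹ := by
      calc c⁻¹ * x = c⁻¹ * (x * c) * c⁻¹ := by group
        _ = c⁻¹ * (c * x) * c⁻¹ := by rw [hcx]
        _ = x * c⁻¹ := by group
    rw [hudt, e]
    calc x * (c * (t' * t * t'⁻¹) * c⁻¹) = (x * c) * (t' * t * t'⁻¹) * c⁻¹ := by group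
      _ = c * (x * (t' * t * t'⁻¹)) * c⁻¹ := by rw [hcx]; group
      _ = c * ((t' * t * t'⁻¹) * x) * c⁻¹ := by rw [htx]
      _ = c * (t' * t * t'⁻¹) * (x * c⁻¹) := by group
      _ = c * (t' * t * t'⁻¹) * (c⁻¹ * x) := by rw [hcx']
      _ = c * (t' * t * t'⁻¹) * c⁻¹ * x := by group
  intro d hd
  obtain ⟨c, hc, t, ht, rfl⟩ := exists_mul_of_pPowIn T hTD hp hd
  exact Subgroup.mul_mem _ hc.2 (key ht)

end Cfsg.Agent.Lib.helper17
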