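import Mathlib
import Cfsg.Prelude.Def_LocalStructure
import Cfsg.Agent.Lib.helper17.CharP

set_option autoImplicit false

namespace Cfsg.Agent.Lib.helper17

open scoped commutatorElement

variable {G : Type*} [Group G]

theorem cj_centralizer_eq_of_mem {B : Subgroup G} {e : G} (he : e ∈ Subgroup.centralizer (B : Set G)) :
    cj e (Subgroup.centralizer (B : Set G)) = Subgroup.centralizer (B : Set G) := by
  have h1 : e ∈ Subgroup.normalizer (B : Set G) := Subgroup.centralizer_le_normalizer _ he
  rw [← centralizer_cj, cj_eq_self_iff.mpr h1]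

/-- Centralizers of `p`-subgroups acting on a group of characteristic `p` have characteristic `p`. -/
theorem charPSub_inf_centralizer [Finite G] {p : ℕ} [Fact p.Prime] {Y B : Subgroup G}
    (hY : CharPSub p Y) (hB : IsPGroup p B) (hBY : B ≤ Subgroup.normalizer (Y : Set G)) :
    CharPSub p (Y ⊓ Subgroup.centralizer (B : Set G)) := by
  have hYR : Y ≤ Subgroup.normalizer ((Cfsg.pCoreOf p Y : Subgroup G) : Set G) := le_normalizer_pCoreOf p Y
  have hBR : B ≤ Subgroup.normalizer ((Cfsg.pCoreOf p Y : Subgroup G) : Set G) :=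
    hBY.trans (normalizer_le_normalizer_pCoreOf p Y)
  have hRp : IsPGroup p (Cfsg.pCoreOf p Y) := pCoreOf_isPGroup p Y
  -- (i) `C_R(B) ≤ O_p(E)`
  have h1 : Cfsg.pCoreOf p Y ⊓ Subgroup.centralizer (B : Set G) ≤
      Cfsg.pCoreOf p (Y ⊓ Subgroup.centralizer (B : Set G)) := by
    apply le_pCoreOf (inf_le_inf_right _ (pCoreOf_le p Y)) (hRp.to_le inf_le_left)
    apply le_normalizer_of_cj_le'
    intro e he
    rw [cj_inf, cj_centralizer_eq_of_mem he.2, cj_eq_self_iff.mpr (hYR he.1)]
  -- (ii)
  unfold CharPSub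
  set E := Y ⊓ Subgroup.centralizer (B : Set G) with hE
  have hEn : E ≤ Subgroup.normalizer ((Cfsg.pCoreOf p E : Subgroup G) : Set G) := le_normalizer_pCoreOf p E
  have hKn : E ≤ Subgroup.normalizer ((E ⊓ Subgroup.centralizer ((Cfsg.pCoreOf p E : Subgroup G) : Set G) :
      Subgroup G) : Set G) := by
    apply le_normalizer_of_cj_le'
    intro e he
    rw [cj_inf, cj_eq_self_of_mem he, ← centralizer_cj, cj_eq_self_iff.mpr (hEn he)]
  apply le_pCoreOf inf_le_left _ hKn
  apply isPGroup_of_forall_coprime_eq_one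
  intro k hk hcop
  have hkY : k ∈ Y := hk.1.1
  have hkB : k ∈ Subgroup.centralizer (B : Set G) := hk.1.2
  have hkE : k ∈ Subgroup.centralizer ((Cfsg.pCoreOf p E : Subgroup G) : Set G) := hk.2
  have hQ : (Nat.card (Subgroup.zpowers k)).Coprime p := by
    rw [Nat.card_zpowers]
    exact hcop
  have hPQ : B ≤ Subgroup.centralizer ((Subgroup.zpowers k : Subgroup G) : Set G) := by
    rw [Subgroup.le_centralizer_iff, Subgroup.zpowers_le]
    exact hkB
  have hQU : Subgroup.zpowers k ≤ Subgroup.normalizer ((Cfsg.pCoreOf p Y : Subgroup G) : Set G) := by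
    rw [Subgroup.zpowers_le]
    exact hYR hkY
  have hC : Cfsg.pCoreOf p Y ⊓ Subgroup.centralizer (B : Set G) ≤
      Subgroup.centralizer ((Subgroup.zpowers k : Subgroup G) : Set G) := by
    refine h1.trans ?_
    rw [Subgroup.le_centralizer_iff, Subgroup.zpowers_le]
    exact hkE
  have h2 := Cfsg.Agent.S0028.result p B (Subgroup.zpowers k) (Cfsg.pCoreOf p Y) hB hQ hRp hPQ hBR hQU hC
  have hkR : k ∈ Cfsg.pCoreOf p Y := hY ⟨hkY, h2 (Subgroup.mem_zpowers k)⟩
  obtain ⟨j, hj⟩ := isPElt_of_mem hRp hkR
  have h6 : orderOf k ∣ Nat.gcd (orderOf k) (p ^ j) :=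
    Nat.dvd_gcd dvd_rfl (orderOf_dvd_of_pow_eq_one hj)
  have h7 : Nat.gcd (orderOf k) (p ^ j) = 1 := Nat.Coprime.pow_right j hcop
  rw [h7, Nat.dvd_one, orderOf_eq_one_iff] at h6
  exact h6

/-- Chain induction: if `C(B)` has characteristic `p` for some `B ≤ P` (`P` a `p`-group), so does `C(P)`. -/
theorem charPSub_centralizer_of_le [Finite G] {p : ℕ} [Fact p.Prime] {P : Subgroup G}
    (hP : IsPGroup p P) :
    ∀ n : ℕ, ∀ B : Subgroup G, B ≤ P → Nat.card P - Nat.card B = n →
      CharPSub p (Subgroup.centralizer (B : Set G)) → CharPSub p (Subgroup.centralizer (P : Set G)) := by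
  intro n
  induction n using Nat.strong_induction_on with
  | _ n ih =>
    intro B hBP hn hB
    by_cases heq : B = P
    · rw [← heq]
      exact hB
    · have hlt : B < P := lt_of_le_of_ne hBP heq
      obtain ⟨x, hxP, hxN, hxB⟩ := exists_mem_normalizer_not_mem hP hlt
      have hlt' : B < P ⊓ Subgroup.normalizer (B : Set G) := by
        refine lt_of_le_of_ne (le_inf hBP Subgroup.le_normalizer) ?_
        intro h
        apply hxB
        rw [h]
        exact ⟨hxP, hxN⟩
      have hc1 := card_lt_card_of_lt hlt'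
      have hc2 : Nat.card (P ⊓ Subgroup.normalizer (B : Set G) : Subgroup G) ≤ Nat.card P :=
        Subgroup.card_le_of_le inf_le_left
      have hB'N : P ⊓ Subgroup.normalizer (B : Set G) ≤
          Subgroup.normalizer ((Subgroup.centralizer (B : Set G) : Subgroup G) : Set G) :=
        inf_le_right.trans (normalizer_le_normalizer_centralizer' B)
      have h3 := charPSub_inf_centralizer hB (hP.to_le inf_le_left) hB'N
      have h4 : Subgroup.centralizer (B : Set G) ⊓
          Subgroup.centralizer ((P ⊓ Subgroup.normalizer (B : Set G) : Subgroup G) : Set G) =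
          Subgroup.centralizer ((P ⊓ Subgroup.normalizer (B : Set G) : Subgroup G) : Set G) := by
        apply inf_of_le_right
        exact Subgroup.centralizer_le (SetLike.coe_subset_coe.mpr hlt'.le)
      rw [h4] at h3
      exact ih (Nat.card P - Nat.card (P ⊓ Subgroup.normalizer (B : Set G) : Subgroup G)) (by omega)
        _ inf_le_left rfl h3

end Cfsg.Agent.Lib.helper17
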