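import Mathlib
import Cfsg.Prelude.Def_LocalStructure
import Cfsg.Agent.Lib.helper17.CharP2

set_option autoImplicit false

namespace Cfsg.Agent.Lib.helper17

open scoped commutatorElement

variable {G : Type*} [Group G]

/-- The subgroup of elements normalizing `V` and `Z` and acting trivially on `V/Z`. -/
def chainKer (V Z : Subgroup G) : Subgroup G where
  carrier := {g | g ∈ Subgroup.normalizer (V : Set G) ∧ g ∈ Subgroup.normalizer (Z : Set G) ∧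
    ∀ v ∈ V, g * v * g⁻¹ * v⁻¹ ∈ Z}
  one_mem' := by
    refine ⟨Subgroup.one_mem _, Subgroup.one_mem _, ?_⟩
    intro v _
    simp
  mul_mem' := by
    rintro g h ⟨hg1, hg2, hg3⟩ ⟨hh1, hh2, hh3⟩
    refine ⟨Subgroup.mul_mem _ hg1 hh1, Subgroup.mul_mem _ hg2 hh2, ?_⟩
    intro v hv
    have e : g * h * v * (g * h)⁻¹ * v⁻¹ = g * (h * v * h⁻¹ * v⁻¹) * g⁻¹ * (g * v * g⁻¹ * v⁻¹) := by
      group
    rw [e]
    refine Z.mul_mem ?_ (hg3 v hv)
    exact (Subgroup.mem_normalizer_iff.mp hg2 _).mp (hh3 v hv)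
  inv_mem' := by
    rintro g ⟨hg1, hg2, hg3⟩
    refine ⟨Subgroup.inv_mem _ hg1, Subgroup.inv_mem _ hg2, ?_⟩
    intro v hv
    have hw : g⁻¹ * v * g ∈ V := by
      have := (Subgroup.mem_normalizer_iff.mp (Subgroup.inv_mem _ hg1) v).mp hv
      simpa using this
    have h1 := hg3 _ hw
    have e : g * (g⁻¹ * v * g) * g⁻¹ * (g⁻¹ * v * g)⁻¹ = (g⁻¹ * v * g⁻¹⁻¹ * v⁻¹)⁻¹ := by
      group
    rw [e] at h1
    exact (Z.inv_mem_iff).mp h1

theorem mem_chainKer {V Z : Subgroup G} {g : G} :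
    g ∈ chainKer V Z ↔ g ∈ Subgroup.normalizer (V : Set G) ∧ g ∈ Subgroup.normalizer (Z : Set G) ∧
      ∀ v ∈ V, g * v * g⁻¹ * v⁻¹ ∈ Z := Iff.rfl

theorem conj_mem_chainKer {V Z : Subgroup G} {n g : G} (hn1 : n ∈ Subgroup.normalizer (V : Set G))
    (hn2 : n ∈ Subgroup.normalizer (Z : Set G)) (hg : g ∈ chainKer V Z) :
    n * g * n⁻¹ ∈ chainKer V Z := by
  obtain ⟨hg1, hg2, hg3⟩ := hg
  refine ⟨?_, ?_, ?_⟩
  · exact Subgroup.mul_mem _ (Subgroup.mul_mem _ hn1 hg1) (Subgroup.inv_mem _ hn1)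
  · exact Subgroup.mul_mem _ (Subgroup.mul_mem _ hn2 hg2) (Subgroup.inv_mem _ hn2)
  · intro v hv
    have hw : n⁻¹ * v * n ∈ V := by
      have := (Subgroup.mem_normalizer_iff.mp (Subgroup.inv_mem _ hn1) v).mp hv
      simpa using this
    have h1 := hg3 _ hw
    have e : n * g * n⁻¹ * v * (n * g * n⁻¹)⁻¹ * v⁻¹ =
        n * (g * (n⁻¹ * v * n) * g⁻¹ * (n⁻¹ * v * n)⁻¹) * n⁻¹ := by
      group
    rw [e]
    exact (Subgroup.mem_normalizer_iff.mp hn2 _).mp h1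

/-- If `Q ≤ chainKer V Z` and `D` normalizes `V` and `Z`, then `[D, Q] ≤ chainKer V Z`. -/
theorem commutator_le_chainKer {V Z D Q : Subgroup G} (hQ : Q ≤ chainKer V Z)
    (hD1 : D ≤ Subgroup.normalizer (V : Set G)) (hD2 : D ≤ Subgroup.normalizer (Z : Set G)) :
    ⁅D, Q⁆ ≤ chainKer V Z := by
  rw [Subgroup.commutator_le]
  intro d hd q hq
  rw [commutatorElement_def]
  exact Subgroup.mul_mem _ (conj_mem_chainKer (hD1 hd) (hD2 hd) (hQ hq)) (Subgroup.inv_mem _ (hQ hq))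

end Cfsg.Agent.Lib.helper17
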