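import Mathlib
import Cfsg.Prelude.Def_LocalStructure
import Cfsg.Agent.Lib.helper17.CharP3

set_option autoImplicit false

namespace Cfsg.Agent.Lib.helper17

open scoped commutatorElement

variable {G : Type*} [Group G]

theorem le_normalizer_inf' {K A B : Subgroup G} (hA : K ≤ Subgroup.normalizer (A : Set G))
    (hB : K ≤ Subgroup.normalizer (B : Set G)) : K ≤ Subgroup.normalizer ((A ⊓ B : Subgroup G) : Set G) := by
  intro k hk
  rw [← cj_eq_self_iff, cj_inf, cj_eq_self_iff.mpr (hA hk), cj_eq_self_iff.mpr (hB hk)]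

/-- Main lemma: a weakly closed `p`-subgroup `Q` with `C(Q) ≤ Q`, `Q ≤ L`, and `D = C(O_p(L))` of
characteristic `p`. -/
theorem wc_charp_main [Finite G] {p : ℕ} [Fact p.Prime] {Q L : Subgroup G} (hs : WCStrong p Q)
    (hQ : IsPGroup p Q) (hCQ : Subgroup.centralizer (Q : Set G) ≤ Q) (hQL : Q ≤ L)
    (hD : CharPSub p (Subgroup.centralizer ((Cfsg.pCoreOf p L : Subgroup G) : Set G))) :
    ⁅Q, Subgroup.centralizer ((Cfsg.pCoreOf p L : Subgroup G) : Set G)⁆ ≤ Q ⊓ Cfsg.pCoreOf p L ∧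
      IsPGroup p (Subgroup.centralizer ((Cfsg.pCoreOf p L : Subgroup G) : Set G)) ∧ CharPSub p L := by
  set P := Cfsg.pCoreOf p L with hPdef
  set D := Subgroup.centralizer (P : Set G) with hDdef
  set Dp := Cfsg.pCoreOf p D with hDpdef
  have hLP : L ≤ Subgroup.normalizer (P : Set G) := le_normalizer_pCoreOf p L
  have hLD : L ≤ Subgroup.normalizer (D : Set G) := hLP.trans (normalizer_le_normalizer_centralizer' P)
  have hLDp : L ≤ Subgroup.normalizer (Dp : Set G) := hLD.trans (normalizer_le_normalizer_pCoreOf p D)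
  have hDDp : D ≤ Subgroup.normalizer (Dp : Set G) := le_normalizer_pCoreOf p D
  have hDpD : Dp ≤ D := pCoreOf_le p D
  have hDpp : IsPGroup p Dp := pCoreOf_isPGroup p D
  have hQDp : Q ≤ Subgroup.normalizer (Dp : Set G) := hQL.trans hLDp
  have hQD : Q ≤ Subgroup.normalizer (D : Set G) := hQL.trans hLD
  -- step 1
  have h1 : Dp ⊓ L ≤ P := by
    apply le_pCoreOf inf_le_right (hDpp.to_le inf_le_left)
    exact le_normalizer_inf' hLDp Subgroup.le_normalizer
  -- step 2
  have hDpQ : IsPGroup p (Dp ⊔ Q : Subgroup G) := hDpp.to_sup_of_normal_left' hQ hQDp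
  have hNQ : Subgroup.normalizer ((Dp ⊔ Q : Subgroup G) : Set G) ≤ Subgroup.normalizer (Q : Set G) :=
    hs.normalizer_le hDpQ le_sup_right
  have hDpNQ : Dp ≤ Subgroup.normalizer (Q : Set G) :=
    le_sup_left.trans (Subgroup.le_normalizer.trans hNQ)
  -- `Z₁ = Dp ⊓ Q`
  have hZ1P : Dp ⊓ Q ≤ P := (inf_le_inf_left _ hQL).trans h1
  have hZ1c : ∀ d ∈ D, ∀ z ∈ Dp ⊓ Q, d * z = z * d := by
    intro d hd z hz
    exact ((Subgroup.mem_centralizer_iff.mp hd) z (hZ1P hz)).symm
  have hDZ1 : D ≤ Subgroup.normalizer ((Dp ⊓ Q : Subgroup G) : Set G) := by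
    intro d hd
    rw [Subgroup.mem_normalizer_iff]
    intro z
    constructor
    · intro hz
      have : d * z * d⁻¹ = z := by rw [hZ1c d hd z hz, mul_inv_cancel_right]
      rwa [this]
    · intro hz
      have h2 : d⁻¹ * (d * z * d⁻¹) * d⁻¹⁻¹ = d * z * d⁻¹ := by
        have := hZ1c d⁻¹ (D.inv_mem hd) _ hz
        rw [this, mul_inv_cancel_right]
      have h3 : d⁻¹ * (d * z * d⁻¹) * d⁻¹⁻¹ = z := by group
      rw [h3] at h2
      rwa [h2]
  have hQZ1 : Q ≤ Subgroup.normalizer ((Dp ⊓ Q : Subgroup G) : Set G) :=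
    le_normalizer_inf' hQDp Subgroup.le_normalizer
  -- step 4: `Q ≤ chainKer Dp Z₁`
  have hQK : Q ≤ chainKer Dp (Dp ⊓ Q) := by
    intro q hq
    refine ⟨hQDp hq, hQZ1 hq, ?_⟩
    intro v hv
    refine ⟨?_, ?_⟩
    · exact Dp.mul_mem ((Subgroup.mem_normalizer_iff.mp (hQDp hq) v).mp hv) (Dp.inv_mem hv)
    · have h2 : v * q⁻¹ * v⁻¹ ∈ Q := (Subgroup.mem_normalizer_iff.mp (hDpNQ hv) _).mp (Q.inv_mem hq)
      have e : q * v * q⁻¹ * v⁻¹ = q * (v * q⁻¹ * v⁻¹) := by group
      rw [e]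
      exact Q.mul_mem hq h2
  have hcK : ⁅D, Q⁆ ≤ chainKer Dp (Dp ⊓ Q) := commutator_le_chainKer hQK hDDp hDZ1
  have hcD : ⁅D, Q⁆ ≤ D := Subgroup.le_normalizer_iff_commutator_le_left.mp hQD
  have hcp : IsPGroup p (⁅D, Q⁆ : Subgroup G) := by
    apply isPGroup_of_forall_coprime_eq_one
    intro c hc hcop
    have hcent : ∀ v ∈ Dp, c * v = v * c := by
      apply centralizes_of_stabilizes_chain hcop (hDpp.to_le inf_le_left)
      · intro v hv
        rw [commutatorElement_def]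
        exact (hcK hc).2.2 v hv
      · exact hZ1c c (hcD hc)
    have hcDp : c ∈ Dp := by
      apply hD
      refine ⟨hcD hc, ?_⟩
      change c ∈ Subgroup.centralizer (Dp : Set G)
      rw [Subgroup.mem_centralizer_iff]
      intro v hv
      exact (hcent v hv).symm
    obtain ⟨j, hj⟩ := isPElt_of_mem hDpp hcDp
    have h6 : orderOf c ∣ Nat.gcd (orderOf c) (p ^ j) :=
      Nat.dvd_gcd dvd_rfl (orderOf_dvd_of_pow_eq_one hj)
    have h7 : Nat.gcd (orderOf c) (p ^ j) = 1 := Nat.Coprime.pow_right j hcop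
    rw [h7, Nat.dvd_one, orderOf_eq_one_iff] at h6
    exact h6
  -- step 5
  have hcDp : ⁅D, Q⁆ ≤ Dp := le_pCoreOf hcD hcp (Subgroup.normalizer_commutator_ge_left D Q)
  -- step 6
  have hDN : D ≤ Subgroup.normalizer ((Dp ⊔ Q : Subgroup G) : Set G) := by
    apply le_normalizer_of_cj_le'
    intro d hd
    unfold cj
    rw [Subgroup.map_sup]
    apply sup_le
    · have : cj d Dp = Dp := cj_eq_self_iff.mpr (hDDp hd)
      unfold cj at this
      rw [this]
      exact le_sup_left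
    · rintro _ ⟨q, hq, rfl⟩
      have h5 : d * q * d⁻¹ = ⁅d, q⁆ * q := by
        rw [commutatorElement_def]
        group
      change d * q * d⁻¹ ∈ _
      rw [h5]
      exact Subgroup.mul_mem_sup (hcDp (Subgroup.commutator_mem_commutator hd hq)) hq
  have hDNQ : D ≤ Subgroup.normalizer (Q : Set G) := hDN.trans hNQ
  -- step 7
  have hcQ : ⁅D, Q⁆ ≤ Q := Subgroup.le_normalizer_iff_commutator_le_right.mp hDNQ
  have hcZ1 : ⁅D, Q⁆ ≤ Dp ⊓ Q := le_inf hcDp hcQ
  -- step 8
  have hDpgroup : IsPGroup p D := by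
    apply isPGroup_of_forall_coprime_eq_one
    intro x hx hcop
    have hcent : ∀ q ∈ Q, x * q = q * x := by
      apply centralizes_of_stabilizes_chain hcop (hDpp.to_le inf_le_left)
      · intro q hq
        exact hcZ1 (Subgroup.commutator_mem_commutator hx hq)
      · exact hZ1c x hx
    have hxQ : x ∈ Q := by
      apply hCQ
      rw [Subgroup.mem_centralizer_iff]
      intro q hq
      exact (hcent q hq).symm
    obtain ⟨j, hj⟩ := isPElt_of_mem hQ hxQ
    have h6 : orderOf x ∣ Nat.gcd (orderOf x) (p ^ j) :=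
      Nat.dvd_gcd dvd_rfl (orderOf_dvd_of_pow_eq_one hj)
    have h7 : Nat.gcd (orderOf x) (p ^ j) = 1 := Nat.Coprime.pow_right j hcop
    rw [h7, Nat.dvd_one, orderOf_eq_one_iff] at h6
    exact h6
  refine ⟨?_, hDpgroup, ?_⟩
  · rw [Subgroup.commutator_comm]
    exact le_inf hcQ (hcZ1.trans hZ1P)
  · unfold CharPSub
    apply le_pCoreOf inf_le_left (hDpgroup.to_le inf_le_right)
    exact le_normalizer_inf' Subgroup.le_normalizer hLD

end Cfsg.Agent.Lib.helper17
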