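import Mathlib
import Cfsg.Prelude.Def_Local
import Cfsg.Prelude.Def_LocalStructure
import Cfsg.Agent.Lib.Helper9.Components
import Cfsg.Agent.Lib.Helper10.Components
import Cfsg.Agent.Lib.helper17.PIrr
import Cfsg.Agent.Lib.helper17.Subn

set_option autoImplicit false

namespace Cfsg.Agent.Lib.helper17

open scoped commutatorElement

variable {G : Type*} [Group G]

/-- Quasisimple subgroup `K`, any `X` with `⁅K,X⁆ ≤ K`: `⁅K,X⁆ = K` or `⊥`. -/
theorem commutator_quasisimple_eq_or_bot {K X : Subgroup G} (hq : Cfsg.IsQuasisimple ↥K)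
    (hle : ⁅K, X⁆ ≤ K) : ⁅K, X⁆ = K ∨ ⁅K, X⁆ = ⊥ := by
  have hn : ((⁅K, X⁆ : Subgroup G).subgroupOf K).Normal := by
    rw [Subgroup.normal_subgroupOf_iff_le_normalizer hle]
    exact Cfsg.Agent.Lib.Helper10.le_normalizer_commutator_left K X
  rcases Cfsg.Agent.Lib.Helper9.quasisimple_normal_top_or_central hq _ hn with h | h
  · left
    apply le_antisymm hle
    rwa [Subgroup.subgroupOf_eq_top] at h
  · right
    have h1 : ⁅⁅K, X⁆, K⁆ = ⊥ := by
      rw [Subgroup.commutator_eq_bot_iff_le_centralizer]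
      intro x hx k hk
      have h2 := h (show (⟨x, hle hx⟩ : K) ∈ (⁅K,X⁆).subgroupOf K from hx)
      rw [Subgroup.mem_center_iff] at h2
      have h3 := h2 ⟨k, hk⟩
      exact congrArg Subtype.val h3
    have h2 : ⁅⁅X, K⁆, K⁆ = ⊥ := by rwa [Subgroup.commutator_comm X K]
    have h3 := Subgroup.commutator_commutator_eq_bot_of_rotate h1 h2
    have := hq.1
    rwa [Subgroup.commutator_eq_self] at h3

theorem map_pResidual_subtype_le (p : ℕ) (C : Subgroup G) :
    (Cfsg.pResidual p C).map C.subtype ≤ Cfsg.pResidual p G := by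
  unfold Cfsg.pResidual
  rw [MonoidHom.map_closure, Subgroup.closure_le]
  rintro _ ⟨x, hx, rfl⟩
  apply Subgroup.subset_closure
  simpa using hx

/-- If `O_p(G) = 1` and `K = O^p(G)` is quasisimple, any normal subgroup not containing `K` is a
`p'`-group. -/
theorem coprime_card_of_normal_not_ge [Finite G] {p : ℕ} [Fact p.Prime] (hO : Cfsg.pCore p G = ⊥)
    (hq : Cfsg.IsQuasisimple ↥(Cfsg.pResidual p G)) {C : Subgroup G} (hC : C.Normal)
    (hKC : ¬ Cfsg.pResidual p G ≤ C) : (Nat.card C).Coprime p := by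
  have hKn : (Cfsg.pResidual p G).Normal := pResidual_normal p G
  have hcomm : ⁅Cfsg.pResidual p G, C⁆ = ⊥ := by
    rcases commutator_quasisimple_eq_or_bot hq (Subgroup.commutator_le_left _ C) with h | h
    · exact absurd (h ▸ Subgroup.commutator_le_right _ C) hKC
    · exact h
  by_contra hcop
  have hdvd : p ∣ Nat.card C := by
    rwa [Nat.coprime_comm, Nat.Prime.coprime_iff_not_dvd Fact.out, not_not] at hcop
  obtain ⟨P⟩ := (inferInstance : Nonempty (Sylow p C))
  have hPne : (P : Subgroup C) ≠ ⊥ := P.ne_bot_of_dvd_card hdvd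
  have hP'C : (P : Subgroup C).map C.subtype ≤ C := Subgroup.map_subtype_le _
  have hP'p : IsPGroup p ((P : Subgroup C).map C.subtype) := P.2.map _
  have h1 : Cfsg.pResidual p C ⊔ (P : Subgroup C) = ⊤ := pResidual_sup_sylow P
  have h3 : C ≤ (Cfsg.pResidual p C).map C.subtype ⊔ (P : Subgroup C).map C.subtype := by
    rw [← Subgroup.map_sup, h1, ← MonoidHom.range_eq_map, Subgroup.range_subtype]
  have h4 : C ≤ Subgroup.normalizer (((P : Subgroup C).map C.subtype : Subgroup G) : Set G) := by
    refine h3.trans (sup_le ?_ Subgroup.le_normalizer)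
    rw [Subgroup.commutator_eq_bot_iff_le_centralizer] at hcomm
    exact ((map_pResidual_subtype_le p C).trans hcomm).trans
      ((Subgroup.centralizer_le hP'C).trans (Subgroup.centralizer_le_normalizer _))
  have hsub : ((P : Subgroup C).map C.subtype).IsSubnormal := by
    refine Subgroup.IsSubnormal.step _ C hP'C (Subgroup.Normal.isSubnormal hC) ?_
    rw [Subgroup.normal_subgroupOf_iff_le_normalizer hP'C]
    exact h4
  have h5 := le_pCore_of_subnormal_isPGroup hsub hP'p
  rw [hO, le_bot_iff, Subgroup.map_eq_bot_iff_of_injective _ C.subtype_injective] at h5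
  exact hPne h5

end Cfsg.Agent.Lib.helper17
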