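import Mathlib
import Cfsg.Agent.Lib.helper17.QS
import Cfsg.Agent.Lib.helper17.CharP4
import Cfsg.Agent.S0026
import Cfsg.Agent.S0027

set_option autoImplicit false

namespace Cfsg.Agent.Lib.helper17

open scoped commutatorElement

variable {G : Type*} [Group G]

/-- `M = [M,Y] C_M(Y)` and `[M,Y,Y] = [M,Y]`. -/
def SplitsUnder (M Y : Subgroup G) : Prop :=
  ⁅M, Y⁆ ⊔ (M ⊓ Subgroup.centralizer (Y : Set G)) = M ∧ ⁅⁅M, Y⁆, Y⁆ = ⁅M, Y⁆

theorem SplitsUnder.commutator_le {M Y : Subgroup G} (h : SplitsUnder M Y) : ⁅M, Y⁆ ≤ M := by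
  conv_rhs => rw [← h.1]
  exact le_sup_left

theorem SplitsUnder.le_normalizer {M Y : Subgroup G} (h : SplitsUnder M Y) :
    Y ≤ Subgroup.normalizer (M : Set G) :=
  Subgroup.le_normalizer_iff_commutator_le_left.mpr h.commutator_le

theorem splitsUnder_of_commutator_eq_self {M Y : Subgroup G} (h : ⁅M, Y⁆ = M) : SplitsUnder M Y := by
  constructor
  · rw [h]; exact sup_eq_left.mpr inf_le_left
  · rw [h, h]

theorem splitsUnder_of_commutator_eq_bot {M Y : Subgroup G} (h : ⁅M, Y⁆ = ⊥) : SplitsUnder M Y := by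
  constructor
  · rw [h, bot_sup_eq]
    rw [Subgroup.commutator_eq_bot_iff_le_centralizer] at h
    exact inf_eq_left.mpr h
  · rw [h]
    exact Subgroup.commutator_bot_left Y

theorem splitsUnder_of_coprime [Finite G] {M Y : Subgroup G}
    (hYM : Y ≤ Subgroup.normalizer (M : Set G)) (hcop : (Nat.card Y).Coprime (Nat.card M))
    (hsolv : Group.IsSolvable Y) : SplitsUnder M Y :=
  ⟨Cfsg.Agent.S0026.result Y M hYM hcop (Or.inl hsolv),
    Cfsg.Agent.S0027.result Y M hYM hcop (Or.inl hsolv)⟩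

theorem commutatorElement_mul_left' (x x' y : G) : ⁅x * x', y⁆ = x * ⁅x', y⁆ * x⁻¹ * ⁅x, y⁆ := by
  simp only [commutatorElement_def]; group

/-- Gluing. -/
theorem splitsUnder_iSup {ι : Sort*} {M : ι → Subgroup G} {Y : Subgroup G}
    (h : ∀ i, SplitsUnder (M i) Y) : SplitsUnder (⨆ i, M i) Y := by
  have hYL : Y ≤ Subgroup.normalizer ((⨆ i, M i : Subgroup G) : Set G) := by
    intro y hy
    rw [← cj_eq_self_iff]
    unfold cj
    rw [Subgroup.map_iSup]
    congr 1
    funext i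
    exact cj_eq_self_iff.mpr ((h i).le_normalizer hy)
  have hcl : ⁅(⨆ i, M i : Subgroup G), Y⁆ ≤ ⨆ i, M i :=
    Subgroup.le_normalizer_iff_commutator_le_left.mp hYL
  have h1 : ⁅(⨆ i, M i : Subgroup G), Y⁆ ⊔ ((⨆ i, M i) ⊓ Subgroup.centralizer (Y : Set G)) = ⨆ i, M i := by
    apply le_antisymm (sup_le hcl inf_le_left)
    apply iSup_le
    intro i
    conv_lhs => rw [← (h i).1]
    exact sup_le_sup (Subgroup.commutator_mono (le_iSup M i) le_rfl)
      (inf_le_inf_right _ (le_iSup M i))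
  refine ⟨h1, ?_⟩
  have hLN : (⨆ i, M i : Subgroup G) ≤
      Subgroup.normalizer ((⁅⁅(⨆ i, M i : Subgroup G), Y⁆, Y⁆ : Subgroup G) : Set G) := by
    conv_lhs => rw [← h1]
    apply sup_le
    · exact Cfsg.Agent.Lib.Helper10.le_normalizer_commutator_left _ _
    · apply le_normalizer_commutator
      · exact inf_le_left.trans (Cfsg.Agent.Lib.Helper10.le_normalizer_commutator_left _ _)
      · exact inf_le_right.trans (Subgroup.centralizer_le_normalizer _)
  apply le_antisymm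
  · exact Subgroup.commutator_mono hcl le_rfl
  · rw [Subgroup.commutator_le]
    intro x hx
    have key : x ∈ Subgroup.normalizer ((⁅⁅(⨆ i, M i : Subgroup G), Y⁆, Y⁆ : Subgroup G) : Set G) ∧
        ∀ y ∈ Y, ⁅x, y⁆ ∈ ⁅⁅(⨆ i, M i : Subgroup G), Y⁆, Y⁆ := by
      refine Subgroup.iSup_induction M (C := fun x => x ∈ Subgroup.normalizer
        ((⁅⁅(⨆ i, M i : Subgroup G), Y⁆, Y⁆ : Subgroup G) : Set G) ∧
        ∀ y ∈ Y, ⁅x, y⁆ ∈ ⁅⁅(⨆ i, M i : Subgroup G), Y⁆, Y⁆) hx ?_ ?_ ?_
      · intro i x hx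
        refine ⟨hLN (Subgroup.mem_iSup_of_mem i hx), ?_⟩
        intro y hy
        have h2 : ⁅x, y⁆ ∈ ⁅⁅M i, Y⁆, Y⁆ := by
          rw [(h i).2]
          exact Subgroup.commutator_mem_commutator hx hy
        exact Subgroup.commutator_mono (Subgroup.commutator_mono (le_iSup M i) le_rfl) le_rfl h2
      · refine ⟨Subgroup.one_mem _, ?_⟩
        intro y hy
        rw [commutatorElement_one_left]
        exact Subgroup.one_mem _
      · intro x x' hx hx'
        refine ⟨Subgroup.mul_mem _ hx.1 hx'.1, ?_⟩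
        intro y hy
        rw [commutatorElement_mul_left']
        apply Subgroup.mul_mem _ _ (hx.2 y hy)
        exact (Subgroup.mem_normalizer_iff.mp hx.1 _).mp (hx'.2 y hy)
    exact key.2

theorem splitsUnder_sup {A B Y : Subgroup G} (hA : SplitsUnder A Y) (hB : SplitsUnder B Y) :
    SplitsUnder (A ⊔ B) Y := by
  have := splitsUnder_iSup (M := fun b : Bool => if b then A else B) (Y := Y)
    (fun b => by cases b <;> simpa)
  rw [iSup_bool_eq] at this
  simpa using this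

theorem splitsUnder_sSup {S : Set (Subgroup G)} {Y : Subgroup G}
    (h : ∀ M ∈ S, SplitsUnder M Y) : SplitsUnder (sSup S) Y := by
  rw [sSup_eq_iSup']
  exact splitsUnder_iSup (fun i => h i.1 i.2)

end Cfsg.Agent.Lib.helper17
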