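import Mathlib
import Cfsg.Agent.Lib.helper17.QS2
import Cfsg.Agent.Lib.helper17.PRed2

set_option autoImplicit false

namespace Cfsg.Agent.Lib.helper17

open scoped commutatorElement

variable {G : Type*} [Group G]

/-- The product of the `Y`-conjugates of a quasisimple subgroup `K`, where `K` commutes with its
distinct `Y`-conjugates, splits under `Y`. -/
theorem splitsUnder_orbit {K Y : Subgroup G} (hq : Cfsg.IsQuasisimple ↥K)
    (hcomm : ∀ y ∈ Y, cj y K ≠ K → ⁅K, cj y K⁆ = ⊥) :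
    SplitsUnder (conjClosure Y K) Y := by
  have hKM : K ≤ conjClosure Y K := le_conjClosure Y K
  have hYM := le_normalizer_conjClosure Y K
  by_cases hall : ∀ y ∈ Y, cj y K = K
  · have hMK : (conjClosure Y K) = K :=
      le_antisymm (iSup_le fun y => (hall y y.2).le) hKM
    rw [hMK]
    have hYK : Y ≤ Subgroup.normalizer (K : Set G) := fun y hy => cj_eq_self_iff.mp (hall y hy)
    rcases commutator_quasisimple_eq_or_bot hq
      (Subgroup.le_normalizer_iff_commutator_le_left.mp hYK) with h | h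
    · exact splitsUnder_of_commutator_eq_self h
    · exact splitsUnder_of_commutator_eq_bot h
  · push Not at hall
    obtain ⟨y₀, hy₀, hne⟩ := hall
    apply splitsUnder_of_commutator_eq_self
    have hR : ⁅(conjClosure Y K), Y⁆ ≤ conjClosure Y K :=
      Subgroup.le_normalizer_iff_commutator_le_left.mp hYM
    apply le_antisymm hR
    have hKR : K ≤ ⁅(conjClosure Y K), Y⁆ := by
      have hperf : ⁅K, K⁆ = K := by
        have := hq.1
        exact Subgroup.commutator_eq_self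
      conv_lhs => rw [← hperf]
      rw [Subgroup.commutator_le]
      intro k hk k' hk'
      have hc : ⁅k, y₀⁆ ∈ ⁅(conjClosure Y K), Y⁆ :=
        Subgroup.commutator_mem_commutator (hKM hk) hy₀
      have hck : ⁅⁅k, y₀⁆, k'⁆ ∈ ⁅(conjClosure Y K), Y⁆ := by
        have hn := Cfsg.Agent.Lib.Helper10.le_normalizer_commutator_left
          (conjClosure Y K) Y (hKM hk')
        have e : ⁅⁅k, y₀⁆, k'⁆ = ⁅k, y₀⁆ * (k' * ⁅k, y₀⁆⁻¹ * k'⁻¹) := by
          rw [commutatorElement_def ⁅k, y₀⁆ k']; group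
        rw [e]
        exact Subgroup.mul_mem _ hc
          ((Subgroup.mem_normalizer_iff.mp hn _).mp (Subgroup.inv_mem _ hc))
      have hu : y₀ * k⁻¹ * y₀⁻¹ ∈ cj y₀ K := conj_mem_cj (K.inv_mem hk)
      have hcm := hcomm y₀ hy₀ hne
      rw [Subgroup.commutator_eq_bot_iff_le_centralizer] at hcm
      have e1 : (y₀ * k⁻¹ * y₀⁻¹) * k' = k' * (y₀ * k⁻¹ * y₀⁻¹) := hcm hk' _ hu
      have e2 : ⁅⁅k, y₀⁆, k'⁆ = ⁅k, k'⁆ := by
        have hc_eq : ⁅k, y₀⁆ = k * (y₀ * k⁻¹ * y₀⁻¹) := by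
          rw [commutatorElement_def]; group
        rw [hc_eq, commutatorElement_def, commutatorElement_def]
        calc k * (y₀ * k⁻¹ * y₀⁻¹) * k' * (k * (y₀ * k⁻¹ * y₀⁻¹))⁻¹ * k'⁻¹
            = k * ((y₀ * k⁻¹ * y₀⁻¹) * k') * (y₀ * k⁻¹ * y₀⁻¹)⁻¹ * k⁻¹ * k'⁻¹ := by group
          _ = k * (k' * (y₀ * k⁻¹ * y₀⁻¹)) * (y₀ * k⁻¹ * y₀⁻¹)⁻¹ * k⁻¹ * k'⁻¹ := by rw [e1]
          _ = k * k' * k⁻¹ * k'⁻¹ := by group
      rwa [e2] at hck
    apply iSup_le
    intro y
    have hYR : Y ≤ Subgroup.normalizer ((⁅(conjClosure Y K), Y⁆ : Subgroup G) : Set G) :=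
      le_normalizer_commutator hYM Subgroup.le_normalizer
    have h1 := cj_mono (g := (y : G)) hKR
    rwa [cj_eq_self_iff.mpr (hYR y.2)] at h1

end Cfsg.Agent.Lib.helper17
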