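import Mathlib
import Cfsg.Agent.Lib.helper17.QS3
import Cfsg.Agent.Lib.Helper1.Cores

set_option autoImplicit false

namespace Cfsg.Agent.Lib.helper17

open scoped commutatorElement

universe u

variable {G : Type u} [Group G]

theorem mem_centralizer_sup {A B : Subgroup G} {x : G}
    (hA : x ∈ Subgroup.centralizer (A : Set G)) (hB : x ∈ Subgroup.centralizer (B : Set G)) :
    x ∈ Subgroup.centralizer ((A ⊔ B : Subgroup G) : Set G) := by
  have h : A ⊔ B ≤ Subgroup.centralizer ({x} : Set G) := by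
    apply sup_le
    · intro a ha
      rw [Subgroup.mem_centralizer_iff]
      intro h hh
      rw [Set.mem_singleton_iff] at hh
      subst hh
      exact ((Subgroup.mem_centralizer_iff.mp hA) a ha).symm
    · intro a ha
      rw [Subgroup.mem_centralizer_iff]
      intro h hh
      rw [Set.mem_singleton_iff] at hh
      subst hh
      exact ((Subgroup.mem_centralizer_iff.mp hB) a ha).symm
  rw [Subgroup.mem_centralizer_iff]
  intro y hy
  have := (Subgroup.mem_centralizer_iff.mp (h hy)) x rfl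
  exact this.symm

/-- The centre of the layer lies in the Fitting subgroup. -/
theorem center_layer_le_fitting :
    Cfsg.layer G ⊓ Subgroup.centralizer (Cfsg.layer G : Set G) ≤ Cfsg.fittingSubgroup G := by
  have h1 : (Cfsg.layer G).Normal := inferInstance
  have h2 : (Subgroup.centralizer (Cfsg.layer G : Set G)).Normal := inferInstance
  have h3 : (Cfsg.layer G ⊓ Subgroup.centralizer (Cfsg.layer G : Set G)).Normal := inferInstance
  apply Cfsg.Agent.Lib.Helper1.le_fittingSubgroup h3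
  have hc : IsMulCommutative ↥(Cfsg.layer G ⊓ Subgroup.centralizer (Cfsg.layer G : Set G)) := by
    refine ⟨⟨?_⟩⟩
    rintro ⟨a, ha⟩ ⟨b, hb⟩
    apply Subtype.ext
    exact ((Subgroup.mem_centralizer_iff.mp hb.2) a ha.1)
  exact ⟨⟨1, Subgroup.upperCentralSeries_one_eq_top_iff.mpr hc⟩⟩

/-- A subnormal subgroup of `F*(G)` is the product of the components it contains and its
intersection with `F(G)`. -/
theorem subnormal_le_gfs_decomp [Finite G] {L : Subgroup G} (hL : L.IsSubnormal)
    (hLF : L ≤ Cfsg.generalizedFittingSubgroup G) :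
    L = (L ⊓ Cfsg.fittingSubgroup G) ⊔ sSup {K : Subgroup G | Cfsg.IsComponent K ∧ K ≤ L} := by
  have hE₁L : sSup {K : Subgroup G | Cfsg.IsComponent K ∧ K ≤ L} ≤ L := sSup_le fun K hK => hK.2
  have hlayer : Cfsg.layer G ≤ sSup {K : Subgroup G | Cfsg.IsComponent K ∧ K ≤ L} ⊔
      sSup {K : Subgroup G | Cfsg.IsComponent K ∧ ¬ K ≤ L} := by
    unfold Cfsg.layer
    apply sSup_le
    intro K hK
    by_cases h : K ≤ L
    · exact (le_sSup (show K ∈ {K : Subgroup G | Cfsg.IsComponent K ∧ K ≤ L} from ⟨hK, h⟩)).trans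
        le_sup_left
    · exact (le_sSup (show K ∈ {K : Subgroup G | Cfsg.IsComponent K ∧ ¬ K ≤ L} from ⟨hK, h⟩)).trans
        le_sup_right
  have hE₂lay : sSup {K : Subgroup G | Cfsg.IsComponent K ∧ ¬ K ≤ L} ≤ Cfsg.layer G :=
    sSup_le fun K hK => le_sSup hK.1
  have h1 : sSup {K : Subgroup G | Cfsg.IsComponent K ∧ ¬ K ≤ L} ≤
      Subgroup.centralizer (L : Set G) := by
    apply sSup_le
    rintro K ⟨hK, hKL⟩
    rcases Cfsg.Agent.Lib.Helper9.component_le_or_commute K L hK hL with h | h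
    · exact absurd h hKL
    · rwa [Subgroup.commutator_eq_bot_iff_le_centralizer] at h
  have h1' : L ≤ Subgroup.centralizer
      ((sSup {K : Subgroup G | Cfsg.IsComponent K ∧ ¬ K ≤ L} : Subgroup G) : Set G) :=
    Subgroup.le_centralizer_iff.mp h1
  have h2 : Cfsg.fittingSubgroup G ≤ Subgroup.centralizer (Cfsg.layer G : Set G) := by
    have := Cfsg.Agent.Lib.Helper10.commutator_fitting_layer (G := G)
    rwa [Subgroup.commutator_eq_bot_iff_le_centralizer] at this
  have hFn : (Cfsg.fittingSubgroup G).Normal := Cfsg.Agent.Lib.Helper1.fittingSubgroup_normal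
  apply le_antisymm
  · intro x hx
    have hx' : x ∈ (sSup {K : Subgroup G | Cfsg.IsComponent K ∧ K ≤ L} ⊔
      sSup {K : Subgroup G | Cfsg.IsComponent K ∧ ¬ K ≤ L}) ⊔ Cfsg.fittingSubgroup G :=
      (sup_le_sup_right hlayer _) (hLF hx)
    rw [Subgroup.mem_sup_of_normal_right] at hx'
    obtain ⟨e, he, f, hf, rfl⟩ := hx'
    have he' : e ∈ ((sSup {K : Subgroup G | Cfsg.IsComponent K ∧ K ≤ L} ⊔
      sSup {K : Subgroup G | Cfsg.IsComponent K ∧ ¬ K ≤ L} : Subgroup G) : Set G) := he
    rw [Subgroup.coe_mul_of_left_le_normalizer_right _ _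
      (hE₁L.trans (h1'.trans (Subgroup.centralizer_le_normalizer _)))] at he'
    obtain ⟨e₁, he₁, e₂, he₂, rfl⟩ := he'
    have hz : e₂ * f ∈ L := by
      have e : e₂ * f = e₁⁻¹ * (e₁ * e₂ * f) := by group
      rw [e]
      exact L.mul_mem (L.inv_mem (hE₁L he₁)) hx
    have hfc : f ∈ Subgroup.centralizer (Cfsg.layer G : Set G) := h2 hf
    have he₂c : e₂ ∈ Subgroup.centralizer
        ((sSup {K : Subgroup G | Cfsg.IsComponent K ∧ ¬ K ≤ L} : Subgroup G) : Set G) := by
      have e : e₂ = (e₂ * f) * f⁻¹ := by group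
      rw [e]
      exact Subgroup.mul_mem _ (h1' hz)
        (Subgroup.inv_mem _ (Subgroup.centralizer_le hE₂lay hfc))
    have he₂c1 : e₂ ∈ Subgroup.centralizer
        ((sSup {K : Subgroup G | Cfsg.IsComponent K ∧ K ≤ L} : Subgroup G) : Set G) :=
      Subgroup.centralizer_le hE₁L (h1 he₂)
    have he₂cl : e₂ ∈ Subgroup.centralizer (Cfsg.layer G : Set G) :=
      Subgroup.centralizer_le hlayer (mem_centralizer_sup he₂c1 he₂c)
    have he₂F : e₂ ∈ Cfsg.fittingSubgroup G := center_layer_le_fitting ⟨hE₂lay he₂, he₂cl⟩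
    have hzF : e₂ * f ∈ Cfsg.fittingSubgroup G := Subgroup.mul_mem _ he₂F hf
    rw [mul_assoc]
    exact Subgroup.mul_mem _ (Subgroup.mem_sup_right he₁) (Subgroup.mem_sup_left ⟨hz, hzF⟩)
  · exact sup_le inf_le_left hE₁L

end Cfsg.Agent.Lib.helper17
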