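import Mathlib
import Cfsg.Agent.Lib.helper17.QS4
import Cfsg.Agent.Lib.Helper12.Local
import Cfsg.Agent.Lib.Helper1.Fitting
import Cfsg.Agent.Lib.Lead.Coprime

set_option autoImplicit false

namespace Cfsg.Agent.Lib.helper17

open scoped commutatorElement

universe u

variable {G : Type u} [Group G]

/-- Distinct components commute. -/
theorem component_commute_of_ne [Finite G] {K₁ K₂ : Subgroup G} (h₁ : Cfsg.IsComponent K₁)
    (h₂ : Cfsg.IsComponent K₂) (hne : K₁ ≠ K₂) : ⁅K₁, K₂⁆ = ⊥ := by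
  rcases Cfsg.Agent.Lib.Helper9.component_le_or_commute K₁ K₂ h₁ h₂.1 with h | h
  · rcases Cfsg.Agent.Lib.Helper9.component_le_or_commute K₂ K₁ h₂ h₁.1 with h' | h'
    · exact absurd (le_antisymm h h') hne
    · rwa [Subgroup.commutator_comm]
  · exact h

/-- A normal nilpotent subgroup of a group with `O_p = 1` is a `p'`-group. -/
theorem coprime_card_of_normal_nilpotent [Finite G] {p : ℕ} [Fact p.Prime]
    (hO : Cfsg.pCore p G = ⊥) {N : Subgroup G} (hN : N.Normal) (hnil : Group.IsNilpotent N) :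
    (Nat.card N).Coprime p := by
  by_contra hcop
  have hdvd : p ∣ Nat.card N := by
    rwa [Nat.coprime_comm, Nat.Prime.coprime_iff_not_dvd Fact.out, not_not] at hcop
  obtain ⟨P⟩ := (inferInstance : Nonempty (Sylow p N))
  have hPne : (P : Subgroup N) ≠ ⊥ := P.ne_bot_of_dvd_card hdvd
  have hPn : (P : Subgroup N).Normal := by
    have h := (Group.isNilpotent_of_finite_tfae (G := N)).out 0 3
    exact (h.mp hnil) p inferInstance P
  have hsub : ((P : Subgroup N).map N.subtype).IsSubnormal :=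
    (Subgroup.Normal.isSubnormal hPn).trans' (Subgroup.Normal.isSubnormal hN)
  have h5 := le_pCore_of_subnormal_isPGroup hsub (P.2.map N.subtype)
  rw [hO, le_bot_iff, Subgroup.map_eq_bot_iff_of_injective _ N.subtype_injective] at h5
  exact hPne h5

theorem coprime_card_fitting_of_pCore_eq_bot [Finite G] {p : ℕ} [Fact p.Prime]
    (hO : Cfsg.pCore p G = ⊥) : (Nat.card (Cfsg.fittingSubgroup G)).Coprime p :=
  coprime_card_of_normal_nilpotent hO Cfsg.Agent.Lib.Helper1.fittingSubgroup_normal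
    Cfsg.Agent.Lib.Helper1.fittingSubgroup_nilpotent

/-- conjugation by a normalizing element, transported to the subgroup -/
theorem map_conjAut_map_subtype (H : Subgroup G) {y : G}
    (hy : y ∈ Subgroup.normalizer (H : Set G)) (K' : Subgroup H) :
    (K'.map (Cfsg.Agent.Lib.Lead.conjAut H y hy).toMonoidHom).map H.subtype =
      cj y (K'.map H.subtype) := by
  ext x
  constructor
  · rintro ⟨_, ⟨k, hk, rfl⟩, rfl⟩
    exact ⟨k.1, ⟨k, hk, rfl⟩, by simp [Cfsg.Agent.Lib.Lead.conjAut_coe]⟩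
  · rintro ⟨_, ⟨k, hk, rfl⟩, rfl⟩
    exact ⟨_, ⟨k, hk, rfl⟩, by simp [Cfsg.Agent.Lib.Lead.conjAut_coe]⟩

theorem isComponent_map_conjAut (H : Subgroup G) {y : G}
    (hy : y ∈ Subgroup.normalizer (H : Set G)) {K' : Subgroup H} (hK' : Cfsg.IsComponent K') :
    Cfsg.IsComponent (K'.map (Cfsg.Agent.Lib.Lead.conjAut H y hy).toMonoidHom) :=
  Cfsg.Agent.Lib.Helper10.isComponent_map_equiv _ hK'

end Cfsg.Agent.Lib.helper17
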