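import Mathlib
import Cfsg.Agent.Lib.helper17.QS5

set_option autoImplicit false

namespace Cfsg.Agent.Lib.helper17

open scoped commutatorElement

universe u

variable {G : Type u} [Group G]

theorem isSolvable_of_isPGroup [Finite G] {p : ℕ} [Fact p.Prime] {Y : Subgroup G}
    (hY : IsPGroup p Y) : Group.IsSolvable Y := by
  have : Group.IsNilpotent Y := hY.isNilpotent
  infer_instance

theorem coprime_card_of_isPGroup_of_coprime [Finite G] {p : ℕ} [Fact p.Prime] {Y N : Subgroup G}
    (hY : IsPGroup p Y) (hN : (Nat.card N).Coprime p) : (Nat.card Y).Coprime (Nat.card N) := by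
  obtain ⟨n, hn⟩ := hY.exists_card_eq
  rw [hn]
  exact Nat.Coprime.pow_left n hN.symm

/-- S2812 in `SplitsUnder` form. -/
theorem splitsUnder_of_subnormal_le_gfs [Finite G] {p : ℕ} [Fact p.Prime] (H : Subgroup G)
    (hO : Cfsg.pCore p ↥H = ⊥) (Y : Subgroup G) (hY : IsPGroup p ↥Y)
    (hYH : Y ≤ Subgroup.normalizer (H : Set G)) (L : Subgroup G)
    (hLF : L ≤ (Cfsg.generalizedFittingSubgroup ↥H).map H.subtype)
    (hLsn : (L.subgroupOf H).IsSubnormal) (hYL : Y ≤ Subgroup.normalizer (L : Set G)) :
    SplitsUnder L Y := by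
  have hLH : L ≤ H := hLF.trans (Subgroup.map_subtype_le _)
  have hL'F : L.subgroupOf H ≤ Cfsg.generalizedFittingSubgroup ↥H := by
    intro x hx
    obtain ⟨y, hy, hyx⟩ := hLF (Subgroup.mem_subgroupOf.mp hx)
    have : y = x := Subtype.ext hyx
    rwa [← this]
  have hdec := subnormal_le_gfs_decomp hLsn hL'F
  -- map to G
  have hLmap : L = ((L.subgroupOf H) ⊓ Cfsg.fittingSubgroup ↥H).map H.subtype ⊔
      ⨆ K' : {K : Subgroup ↥H | Cfsg.IsComponent K ∧ K ≤ L.subgroupOf H},
        (K' : Subgroup ↥H).map H.subtype := by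
    conv_lhs => rw [← Subgroup.map_subgroupOf_eq_of_le hLH, hdec]
    rw [Subgroup.map_sup, sSup_eq_iSup', Subgroup.map_iSup]
  have hL2 : L = ((L.subgroupOf H) ⊓ Cfsg.fittingSubgroup ↥H).map H.subtype ⊔
      ⨆ K' : {K : Subgroup ↥H | Cfsg.IsComponent K ∧ K ≤ L.subgroupOf H},
        conjClosure Y ((K' : Subgroup ↥H).map H.subtype) := by
    apply le_antisymm
    · conv_lhs => rw [hLmap]
      exact sup_le_sup_left (iSup_mono fun K' => le_conjClosure Y _) _
    · apply sup_le
      · conv_rhs => rw [hLmap]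
        exact le_sup_left
      · apply iSup_le
        intro K'
        apply conjClosure_le_of _ hYL
        conv_rhs => rw [← Subgroup.map_subgroupOf_eq_of_le hLH]
        exact Subgroup.map_mono K'.2.2
  rw [hL2]
  apply splitsUnder_sup
  · -- the p'-part
    have hchar : (Cfsg.fittingSubgroup ↥H).Characteristic :=
      Cfsg.Agent.Lib.Helper12.fittingSubgroup_characteristic _
    have hYF : Y ≤ Subgroup.normalizer
        (((Cfsg.fittingSubgroup ↥H).map H.subtype : Subgroup G) : Set G) :=
      Cfsg.Agent.Lib.Lead.le_normalizer_map_characteristic H Y hYH _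
    have hNeq : ((L.subgroupOf H) ⊓ Cfsg.fittingSubgroup ↥H).map H.subtype =
        L ⊓ (Cfsg.fittingSubgroup ↥H).map H.subtype := by
      rw [Subgroup.map_inf _ _ _ H.subtype_injective, Subgroup.map_subgroupOf_eq_of_le hLH]
    rw [hNeq]
    have hcopF : (Nat.card ((Cfsg.fittingSubgroup ↥H).map H.subtype)).Coprime p := by
      rw [Subgroup.card_map_of_injective H.subtype_injective]
      exact coprime_card_fitting_of_pCore_eq_bot hO
    have hcopN : (Nat.card (L ⊓ (Cfsg.fittingSubgroup ↥H).map H.subtype : Subgroup G)).Coprime p :=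
      Nat.Coprime.coprime_dvd_left (Subgroup.card_dvd_of_le inf_le_right) hcopF
    exact splitsUnder_of_coprime (le_normalizer_inf' hYL hYF)
      (coprime_card_of_isPGroup_of_coprime hY hcopN) (isSolvable_of_isPGroup hY)
  · apply splitsUnder_iSup
    rintro ⟨K', hK', hK'L⟩
    have hfin : Finite ↥H := inferInstance
    apply splitsUnder_orbit
    · exact Cfsg.Agent.Lib.Helper9.isQuasisimple_of_mulEquiv
        (K'.equivMapOfInjective _ H.subtype_injective) hK'.2
    · intro y hy hne
      have hyH := hYH hy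
      rw [← map_conjAut_map_subtype H hyH K'] at hne ⊢
      have hne' : K' ≠ K'.map (Cfsg.Agent.Lib.Lead.conjAut H y hyH).toMonoidHom := by
        intro h
        apply hne
        rw [← h]
      have hc := component_commute_of_ne hK' (isComponent_map_conjAut H hyH hK') hne'
      rw [← Subgroup.map_commutator, hc, Subgroup.map_bot]

end Cfsg.Agent.Lib.helper17
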