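import Mathlib
import Cfsg.Agent.Lib.helper17.QS6
import Cfsg.Agent.Lib.Helper9.GenFitting
import Cfsg.Agent.S1265

set_option autoImplicit false

namespace Cfsg.Agent.Lib.helper17

open scoped commutatorElement

universe u

variable {G : Type u} [Group G]

theorem pCore_eq_bot_of_subnormal {p : ℕ} [Fact p.Prime] (hO : Cfsg.pCore p G = ⊥)
    {K : Subgroup G} (hK : K.IsSubnormal) : Cfsg.pCore p ↥K = ⊥ := by
  have hsub : ((Cfsg.pCore p ↥K).map K.subtype).IsSubnormal :=
    (Subgroup.Normal.isSubnormal (pCore_normal p ↥K)).trans' hK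
  have h5 := le_pCore_of_subnormal_isPGroup hsub ((pCore_isPGroup p ↥K).map K.subtype)
  rwa [hO, le_bot_iff, Subgroup.map_eq_bot_iff_of_injective _ K.subtype_injective] at h5

theorem gfs_top_map :
    (Cfsg.generalizedFittingSubgroup ↥(⊤ : Subgroup G)).map (⊤ : Subgroup G).subtype =
      Cfsg.generalizedFittingSubgroup G :=
  Cfsg.Agent.Lib.Helper12.generalizedFittingSubgroup_map_mulEquiv Subgroup.topEquiv

/-- S2812 with `H` the whole group. -/
theorem splitsUnder_of_subnormal_le_gfs_top [Finite G] {p : ℕ} [Fact p.Prime]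
    (hO : Cfsg.pCore p G = ⊥) (Y : Subgroup G) (hY : IsPGroup p ↥Y) (L : Subgroup G)
    (hLF : L ≤ Cfsg.generalizedFittingSubgroup G)
    (hLsn : L.IsSubnormal) (hYL : Y ≤ Subgroup.normalizer (L : Set G)) :
    SplitsUnder L Y := by
  apply splitsUnder_of_subnormal_le_gfs (⊤ : Subgroup G)
    (pCore_eq_bot_of_subnormal hO (Subgroup.Normal.isSubnormal inferInstance)) Y hY
    (by rw [Subgroup.normalizer_eq_top]; exact le_top) L _ hLsn.subgroupOf hYL
  rw [gfs_top_map]
  exact hLF

/-- If `X = [X, Y]` and `Y` lies in the subnormal subgroup `K`, then `X ≤ K`. -/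
theorem le_of_commutator_eq_self_of_subnormal {K : Subgroup G} (hK : K.IsSubnormal)
    {X Y : Subgroup G} (hX : ⁅X, Y⁆ = X) (hYK : Y ≤ K) : X ≤ K := by
  induction hK with
  | top => exact le_top
  | step A B hle hB hn ih =>
    have h1 : X ≤ B := ih (hYK.trans hle)
    have h2 : B ≤ Subgroup.normalizer (A : Set G) :=
      (Subgroup.normal_subgroupOf_iff_le_normalizer hle).mp hn
    have h3 : ⁅B, A⁆ ≤ A := Subgroup.le_normalizer_iff_commutator_le_right.mp h2
    rw [← hX]
    exact (Subgroup.commutator_mono h1 hYK).trans h3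

theorem layer_map_le_of_subnormal {K : Subgroup G} (hK : K.IsSubnormal) :
    (Cfsg.layer ↥K).map K.subtype ≤ Cfsg.layer G := by
  unfold Cfsg.layer
  rw [sSup_eq_iSup', Subgroup.map_iSup]
  apply iSup_le
  rintro ⟨C, hC⟩
  exact le_sSup (Cfsg.Agent.Lib.Helper10.isComponent_map_subtype hK hC)

theorem gfs_map_le_of_subnormal [Finite G] {K : Subgroup G} (hK : K.IsSubnormal) :
    (Cfsg.generalizedFittingSubgroup ↥K).map K.subtype ≤ Cfsg.generalizedFittingSubgroup G := by
  unfold Cfsg.generalizedFittingSubgroup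
  rw [Subgroup.map_sup]
  exact sup_le_sup (layer_map_le_of_subnormal hK)
    (Cfsg.Agent.Lib.Helper9.fitting_map_le_of_subnormal K hK)

theorem isNilpotent_of_injective' {A B : Type*} [Group A] [Group B] (f : A →* B)
    (hf : Function.Injective f) [Group.IsNilpotent B] : Group.IsNilpotent A := by
  apply Subgroup.isNilpotent_of_ker_le_center f
  rw [(MonoidHom.ker_eq_bot_iff f).mpr hf]
  exact bot_le

theorem inf_gfs_le_map_gfs [Finite G] {K : Subgroup G} (hK : K.IsSubnormal) :
    K ⊓ Cfsg.generalizedFittingSubgroup G ≤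
      (Cfsg.generalizedFittingSubgroup ↥K).map K.subtype := by
  have hFn : (Cfsg.generalizedFittingSubgroup G).Normal :=
    Cfsg.Agent.Lib.Helper12.generalizedFittingSubgroup_normal G
  have hD : (K ⊓ Cfsg.generalizedFittingSubgroup G).IsSubnormal :=
    hK.inf (Subgroup.Normal.isSubnormal hFn)
  have hdec := subnormal_le_gfs_decomp hD inf_le_right
  rw [hdec]
  apply sup_le
  · -- nilpotent part
    have hfn : (Cfsg.fittingSubgroup G).Normal := Cfsg.Agent.Lib.Helper1.fittingSubgroup_normal
    have hn : ((Cfsg.fittingSubgroup G).subgroupOf K).Normal := hfn.subgroupOf K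
    have hnil : Group.IsNilpotent ((Cfsg.fittingSubgroup G).subgroupOf K) := by
      have : Group.IsNilpotent (Cfsg.fittingSubgroup G) :=
        Cfsg.Agent.Lib.Helper1.fittingSubgroup_nilpotent
      have hle : (Cfsg.fittingSubgroup G).subgroupOf K ≤ ⊤ := le_top
      let f : ((Cfsg.fittingSubgroup G).subgroupOf K) →* (Cfsg.fittingSubgroup G) :=
        { toFun := fun x => ⟨x.1.1, x.2⟩
          map_one' := rfl
          map_mul' := fun _ _ => rfl }
      apply isNilpotent_of_injective' f
      intro x y hxy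
      apply Subtype.ext
      apply Subtype.ext
      exact congrArg (fun z : Cfsg.fittingSubgroup G => (z : G)) hxy
    have h1 := Cfsg.Agent.Lib.Helper1.le_fittingSubgroup hn hnil
    intro x hx
    have hxK : x ∈ K := hx.1.1
    refine ⟨⟨x, hxK⟩, ?_, rfl⟩
    apply Subgroup.mem_sup_right
    apply h1
    exact hx.2
  · apply sSup_le
    rintro C ⟨hC, hCD⟩
    have hCK : C ≤ K := hCD.trans inf_le_left
    have h1 := Cfsg.Agent.Lib.Helper9.isComponent_subgroupOf hC hCK
    have h2 : C.subgroupOf K ≤ Cfsg.generalizedFittingSubgroup ↥K :=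
      (Cfsg.Agent.Lib.Helper10.component_le_layer h1).trans le_sup_left
    have h3 := Subgroup.map_mono (f := K.subtype) h2
    rwa [Subgroup.map_subgroupOf_eq_of_le hCK] at h3

end Cfsg.Agent.Lib.helper17

namespace Cfsg.Agent.Lib.helper17

universe u

variable {G : Type u} [Group G]

theorem eq_bot_of_isPGroup_le_of_coprime [Finite G] {p : ℕ} [Fact p.Prime]
    {Y C : Subgroup G} (hY : IsPGroup p Y) (hYC : Y ≤ C) (hcop : (Nat.card C).Coprime p) :
    Y = ⊥ := by
  apply Subgroup.eq_bot_of_card_eq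
  rcases hY.card_eq_or_dvd with h1 | h1
  · exact h1
  · exfalso
    have hp : p.Prime := Fact.out
    have h2 : (Nat.card Y).Coprime p :=
      Nat.Coprime.coprime_dvd_left (Subgroup.card_dvd_of_le hYC) hcop
    exact (hp.coprime_iff_not_dvd.1 h2.symm) h1

theorem isNilpotent_inf_centralizer (X : Subgroup G) :
    Group.IsNilpotent ↥(X ⊓ Subgroup.centralizer (X : Set G)) := by
  have hc : IsMulCommutative ↥(X ⊓ Subgroup.centralizer (X : Set G)) := by
    refine ⟨⟨?_⟩⟩
    rintro ⟨a, ha⟩ ⟨b, hb⟩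
    apply Subtype.ext
    exact ((Subgroup.mem_centralizer_iff.mp hb.2) a ha.1)
  exact ⟨⟨1, Subgroup.upperCentralSeries_one_eq_top_iff.mpr hc⟩⟩

end Cfsg.Agent.Lib.helper17
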