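import Mathlib
import Cfsg.Prelude.Def_Involutions
import Cfsg.Agent.Lib.helper6.AbCent.Defs
import Cfsg.Agent.Lib.helper2.AbCentB
import Cfsg.Agent.S1224
import Cfsg.Agent.S1225

set_option autoImplicit false

namespace Cfsg.Agent.Lib.helper17.AbCent
open Cfsg.Agent.Lib.helper6.AbCent

universe u
variable {G : Type u} [Group G] [Finite G]

theorem nI_eq (P Q : Sylow 2 G) : nI (P : Subgroup G) = nI (Q : Subgroup G) := by
  obtain ⟨g, rfl⟩ := MulAction.exists_smul_eq G P Q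
  unfold nI
  refine Nat.card_congr ⟨fun t => ⟨g * t.1 * g⁻¹, ?_, ?_⟩, fun t => ⟨g⁻¹ * t.1 * g, ?_, ?_⟩, ?_, ?_⟩
  · show g * t.1 * g⁻¹ ∈ g • P
    rw [Cfsg.Agent.Lib.helper2.AbCent.mem_smul_sylow]
    have : g⁻¹ * (g * t.1 * g⁻¹) * g = t.1 := by group
    rw [this]; exact t.2.1
  · have : g * t.1 * g⁻¹ = MulAut.conj g t.1 := by simp
    rw [this, MulEquiv.orderOf_eq]; exact t.2.2
  · have := t.2.1
    change t.1 ∈ g • P at this
    rwa [Cfsg.Agent.Lib.helper2.AbCent.mem_smul_sylow] at this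
  · have : g⁻¹ * t.1 * g = MulAut.conj g⁻¹ t.1 := by simp
    rw [this, MulEquiv.orderOf_eq]; exact t.2.2
  · intro t; apply Subtype.ext; simp; group
  · intro t; apply Subtype.ext; simp; group

theorem invol_conj (hS : Setup G) (s t : G) (hs : orderOf s = 2) (ht : orderOf t = 2) :
    IsConj s t := by
  obtain ⟨P⟩ : Nonempty (Sylow 2 G) := inferInstance
  exact Cfsg.Agent.Lib.Helper9.se_isConj (Cfsg.Agent.Lib.helper2.AbCent.stronglyEmbedded hS P) hs ht

theorem nI_NN (P : Sylow 2 G) :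
    Nat.card {t : G // orderOf t = 2 ∧ t ∈ NN P} = nI (P : Subgroup G) := by
  unfold nI
  apply Nat.card_congr
  apply Equiv.subtypeEquivRight
  intro t
  constructor
  · rintro ⟨h1, h2⟩
    exact ⟨Cfsg.Agent.Lib.helper2.AbCent.mem_sylow_of_normalizes P ⟨1, by rw [h1, pow_one]⟩ h2, h1⟩
  · rintro ⟨h1, h2⟩
    exact ⟨h2, Subgroup.le_normalizer h1⟩

theorem swap_count (hS : Setup G) (P Q : Sylow 2 G) (hPQ : P ≠ Q) :
    Nat.card {i : G // orderOf i = 2 ∧ i • P = Q} = nI (P : Subgroup G) := by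
  obtain ⟨g, rfl⟩ := MulAction.exists_smul_eq G P Q
  have hse := Cfsg.Agent.Lib.helper2.AbCent.stronglyEmbedded hS P
  have hxy : ((1 : G) : G ⧸ NN P) ≠ ((g : G) : G ⧸ NN P) := by
    intro h
    rw [QuotientGroup.eq] at h
    apply hPQ
    have : g ∈ NN P := by simpa using h
    exact (Sylow.smul_eq_iff_mem_normalizer.2 this).symm
  have h1 := Cfsg.Agent.S1224.result (NN P) hse _ _ hxy
  rw [← nI_NN, ← h1]
  apply Nat.card_congr
  apply Equiv.subtypeEquivRight
  intro i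
  apply and_congr Iff.rfl
  rw [MulAction.Quotient.smul_mk, QuotientGroup.eq, smul_eq_mul, mul_one]
  have key : i⁻¹ * g ∈ NN P ↔ (i⁻¹ * g) • P = P :=
    (Sylow.smul_eq_iff_mem_normalizer (g := i⁻¹ * g) (P := P)).symm
  rw [key, mul_smul, inv_smul_eq_iff]
  exact eq_comm

omit [Finite G] in
theorem map_conj_NN (P : Sylow 2 G) (u : G) :
    (NN P).map (MulAut.conj u).toMonoidHom = NN (u • P) := by
  unfold NN
  rw [Subgroup.map_equiv_normalizer_eq]
  rfl

theorem D_trans (hS : Setup G) (P Q : Sylow 2 G) (hPQ : P ≠ Q) {s t : G} (hs : orderOf s = 2)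
    (hsP : s ∈ P) (ht : orderOf t = 2) (htP : t ∈ P) :
    ∃ d ∈ NN P ⊓ NN Q, d * s * d⁻¹ = t := by
  have h3 := Cfsg.Agent.Lib.helper2.AbCent.three_le_nI hS P
  have hne : Nonempty {i : G // orderOf i = 2 ∧ i • P = Q} := by
    have : Nat.card {i : G // orderOf i = 2 ∧ i • P = Q} ≠ 0 := by
      rw [swap_count hS P Q hPQ]; omega
    exact (Nat.card_ne_zero.1 this).1
  obtain ⟨u, hu, huP⟩ := hne
  have huH : u ∉ NN P := by
    intro h
    apply hPQ
    rw [← huP]
    exact (Sylow.smul_eq_iff_mem_normalizer.2 h).symm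
  have := (Cfsg.Agent.S1225.result (NN P) (Cfsg.Agent.Lib.helper2.AbCent.stronglyEmbedded hS P) u hu huH s t hs
    (Subgroup.le_normalizer hsP) ht (Subgroup.le_normalizer htP)).1
  rw [map_conj_NN, huP] at this
  exact this

theorem exists_swap (hS : Setup G) (P Q : Sylow 2 G) (hPQ : P ≠ Q) :
    ∃ u : G, orderOf u = 2 ∧ u • P = Q := by
  have h3 := Cfsg.Agent.Lib.helper2.AbCent.three_le_nI hS P
  have hne : Nonempty {i : G // orderOf i = 2 ∧ i • P = Q} := by
    have : Nat.card {i : G // orderOf i = 2 ∧ i • P = Q} ≠ 0 := by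
      rw [swap_count hS P Q hPQ]; omega
    exact (Nat.card_ne_zero.1 this).1
  obtain ⟨u, hu, huP⟩ := hne
  exact ⟨u, hu, huP⟩

omit [Finite G] in
theorem inv_eq_self' {z : G} (hz : orderOf z = 2) : z⁻¹ = z := by
  have h := pow_orderOf_eq_one z
  rw [hz, pow_two] at h
  exact inv_eq_of_mul_eq_one_left h

end Cfsg.Agent.Lib.helper17.AbCent
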