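import Mathlib
import Cfsg.Prelude.Def_Involutions
import Cfsg.Prelude.Def_LieExceptional
import Cfsg.Agent.Lib.helper6.AbCent.Defs
import Cfsg.Agent.Lib.Helper21.AbCentR
import Cfsg.Agent.Lib.helper17.AbCentT
import Cfsg.Agent.Lib.helper2.AbCentB
import Cfsg.Agent.Lib.helper2.AbCentK
import Cfsg.Agent.S0001

/-!
# AbCent, piece C: the clean case (`K(P) = 1`)
(project of helper6 for S2202; statements verbatim from the project skeleton)
-/

set_option autoImplicit false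

namespace Cfsg.Agent.Lib.helper17.AbCent
open Cfsg.Agent.Lib.helper6.AbCent

open scoped Pointwise

universe u
variable {G : Type u} [Group G] [Finite G]

/-- Schur–Zassenhaus conjugacy inside the normalizer of a Sylow 2-subgroup -/
theorem sz_conj_in_NN (P : Sylow 2 G) (A B : Subgroup G)
    (hA : A ≤ Subgroup.normalizer ((P : Subgroup G) : Set G))
    (hB : B ≤ Subgroup.normalizer ((P : Subgroup G) : Set G))
    (hAodd : Odd (Nat.card A))
    (hcardA : Nat.card (P : Subgroup G) * Nat.card A =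
      Nat.card (Subgroup.normalizer ((P : Subgroup G) : Set G)))
    (hcardB : Nat.card B = Nat.card A) :
    ∃ g ∈ Subgroup.normalizer ((P : Subgroup G) : Set G), ∀ a ∈ A, g * a * g⁻¹ ∈ B := by
  set L := Subgroup.normalizer ((P : Subgroup G) : Set G) with hL
  set N : Subgroup L := (P : Subgroup G).subgroupOf L with hN
  set H : Subgroup L := A.subgroupOf L with hH
  set K : Subgroup L := B.subgroupOf L with hK
  have : N.Normal := Subgroup.normal_in_normalizer
  have hcN : Nat.card N = Nat.card (P : Subgroup G) :=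
    Cfsg.Agent.S0001.card_subgroupOf_of_le Subgroup.le_normalizer
  have hcH : Nat.card H = Nat.card A := Cfsg.Agent.S0001.card_subgroupOf_of_le hA
  have hcK : Nat.card K = Nat.card A := by
    rw [← hcardB]; exact Cfsg.Agent.S0001.card_subgroupOf_of_le hB
  obtain ⟨k, hk⟩ : ∃ k : ℕ, Nat.card (P : Subgroup G) = 2 ^ k :=
    (IsPGroup.iff_card.1 P.isPGroup')
  have hcop : (Nat.card N).Coprime (Nat.card H) := by
    rw [hcN, hcH, hk]
    exact Nat.Coprime.pow_left _ (Nat.coprime_two_left.2 hAodd)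
  have hcompH : Subgroup.IsComplement' N H := by
    apply Subgroup.isComplement'_of_coprime _ hcop
    rw [hcN, hcH]; exact hcardA
  have hcompK : Subgroup.IsComplement' N K := by
    apply Subgroup.isComplement'_of_coprime
    · rw [hcN, hcK]; exact hcardA
    · rw [hcK, ← hcH]; exact hcop
  have hidx : N.index = Nat.card H := by
    have h1 := N.card_mul_index
    have h2 : Nat.card N * Nat.card H = Nat.card L := by rw [hcN, hcH]; exact hcardA
    have hpos : 0 < Nat.card N := Nat.card_pos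
    exact Nat.eq_of_mul_eq_mul_left hpos (h1.trans h2.symm)
  have hNp : IsPGroup 2 N := P.isPGroup'.comap_subtype
  have : Group.IsNilpotent N := hNp.isNilpotent
  obtain ⟨g, hg⟩ := Cfsg.Agent.S0001.result N (by rw [hidx]; exact hcop) (Or.inl inferInstance)
    H K hcompH hcompK
  refine ⟨g.1, g.2, fun a ha => ?_⟩
  have h1 : (⟨a, hA ha⟩ : L) ∈ H := by rw [hH, Subgroup.mem_subgroupOf]; exact ha
  have h2 : MulAut.conj g • (⟨a, hA ha⟩ : L) ∈ MulAut.conj g • H :=
    Subgroup.smul_mem_pointwise_smul _ _ _ h1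
  rw [hg, hK, Subgroup.mem_subgroupOf] at h2
  simpa [MulAut.smul_def] using h2

theorem clean_KK (hS : Setup G) (hc : Clean G) (P : Sylow 2 G) : KK P = ⊥ :=
  (Cfsg.Agent.Lib.helper2.AbCent.clean_iff_KK hS P).1 hc

theorem clean_CC (hS : Setup G) (hc : Clean G) (P : Sylow 2 G) : CC P = (P : Subgroup G) := by
  rw [Cfsg.Agent.Lib.helper2.AbCent.CC_eq_sup hS P, clean_KK hS hc P, sup_bot_eq]

theorem clean_card_D (hS : Setup G) (hc : Clean G) (P Q : Sylow 2 G) (hPQ : P ≠ Q) :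
    Nat.card ↥(NN P ⊓ NN Q) = nI (P : Subgroup G) := by
  rw [Cfsg.Agent.Lib.Helper21.AbCent.card_D hS P Q hPQ, clean_KK hS hc P, inf_bot_eq, Subgroup.card_bot, mul_one]

theorem clean_inverted (hS : Setup G) (hc : Clean G) (P Q : Sylow 2 G) (hPQ : P ≠ Q) {u : G}
    (hu : orderOf u = 2) (huP : u • P = Q) : ∀ y ∈ NN P ⊓ NN Q, u * y * u⁻¹ = y⁻¹ := by
  intro y hy
  obtain ⟨y', hy', hinv, hk⟩ := Cfsg.Agent.Lib.Helper21.AbCent.exists_inverted hS P Q hPQ hu huP hy
  rw [clean_KK hS hc P, Subgroup.mem_bot] at hk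
  have : y' = y := by
    have := congrArg (fun z => y * z) hk
    simpa using this
  rw [← this]; exact hinv

omit [Finite G] in
theorem mem_sylow_two_pow (P : Sylow 2 G) {x : G} (hx : x ∈ P) : ∃ n : ℕ, orderOf x = 2 ^ n := by
  obtain ⟨k, hk⟩ := (IsPGroup.iff_orderOf.1 P.isPGroup') ⟨x, hx⟩
  exact ⟨k, by rw [← hk, Subgroup.orderOf_mk]⟩

/-- an element of `P` normalizing another Sylow subgroup is trivial -/
theorem P_inf_NN (h : AC G) (P Q : Sylow 2 G) (hPQ : P ≠ Q) {x : G} (hxP : x ∈ P) (hxQ : x ∈ NN Q) :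
    x = 1 := by
  by_contra hx1
  have hxQ' : x ∈ Q := Cfsg.Agent.Lib.helper2.AbCent.mem_sylow_of_normalizes Q (mem_sylow_two_pow P hxP) hxQ
  exact hPQ (Cfsg.Agent.Lib.helper2.AbCent.sylow_TI h P Q hx1 hxP hxQ')

omit [Finite G] in
theorem eq_one_of_sq_of_odd (H : Subgroup G) (hodd : Odd (Nat.card H)) {y : G} (hy : y ∈ H)
    (h2 : y * y = 1) : y = 1 := by
  have h1 : orderOf y ∣ 2 := orderOf_dvd_of_pow_eq_one (by rw [pow_two]; exact h2)
  have h3 : orderOf y ∣ Nat.card H := by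
    have := orderOf_dvd_natCard (⟨y, hy⟩ : H)
    rwa [Subgroup.orderOf_mk] at this
  have h4 : orderOf y = 1 := by
    rcases (Nat.dvd_prime Nat.prime_two).1 h1 with h | h
    · exact h
    · exfalso
      rw [h] at h3
      exact (Nat.not_even_iff_odd.2 hodd) (even_iff_two_dvd.2 h3)
  exact orderOf_eq_one_iff.1 h4

theorem D_eq_of_le (hS : Setup G) (hc : Clean G) (P Q R : Sylow 2 G) (hPQ : P ≠ Q) (hPR : P ≠ R)
    (hR : NN P ⊓ NN Q ≤ NN R) : NN P ⊓ NN Q = NN P ⊓ NN R := by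
  apply Subgroup.eq_of_le_of_card_ge (le_inf inf_le_left hR)
  rw [clean_card_D hS hc P Q hPQ, clean_card_D hS hc P R hPR]

theorem clean_D_comm (hS : Setup G) (hc : Clean G) (P Q : Sylow 2 G) (hPQ : P ≠ Q) :
    ∀ y ∈ NN P ⊓ NN Q, ∀ z ∈ NN P ⊓ NN Q, y * z = z * y := by
  intro y hy z hz
  obtain ⟨u, hu, huP⟩ := exists_swap hS P Q hPQ
  have hi := clean_inverted hS hc P Q hPQ hu huP
  have h1 := hi y hy
  have h2 := hi z hz
  have h3 := hi (y * z) (Subgroup.mul_mem _ hy hz)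
  have h4 : u * (y * z) * u⁻¹ = (u * y * u⁻¹) * (u * z * u⁻¹) := by group
  rw [h4, h1, h2, mul_inv_rev] at h3
  have := congrArg (fun w => w⁻¹) h3
  have h5 : z * y = y * z := by simpa using this
  exact h5.symm

theorem clean_fix (hS : Setup G) (hc : Clean G) (P Q R : Sylow 2 G) (hPQ : P ≠ Q)
    (hR : NN P ⊓ NN Q ≤ NN R) : R = P ∨ R = Q := by
  by_contra hcon
  push Not at hcon
  obtain ⟨hRP, hRQ⟩ := hcon
  have hPR : P ≠ R := fun h => hRP h.symm
  have hDR : NN P ⊓ NN Q = NN P ⊓ NN R := D_eq_of_le hS hc P Q R hPQ hPR hR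
  obtain ⟨u, hu, huP⟩ := exists_swap hS P Q hPQ
  obtain ⟨v, hv, hvP⟩ := exists_swap hS P R hPR
  have hui : ∀ y ∈ NN P ⊓ NN Q, u * y * u⁻¹ = y⁻¹ := clean_inverted hS hc P Q hPQ hu huP
  have hvi : ∀ y ∈ NN P ⊓ NN Q, v * y * v⁻¹ = y⁻¹ := by
    rw [hDR]; exact clean_inverted hS hc P R hPR hv hvP
  have hnc : ∀ y ∈ NN P ⊓ NN Q, (u * v) * y * (u * v)⁻¹ = y := by
    intro y hy
    have h1 := hvi y hy
    have h2 := hui y⁻¹ (Subgroup.inv_mem _ hy)
    calc u * v * y * (u * v)⁻¹ = u * (v * y * v⁻¹) * u⁻¹ := by group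
      _ = u * y⁻¹ * u⁻¹ := by rw [h1]
      _ = y := by rw [h2, inv_inv]
  have hnN : u * v ∉ NN P := by
    intro h
    have h1 : (u * v) • P = P := Sylow.smul_eq_iff_mem_normalizer.2 h
    rw [mul_smul, hvP] at h1
    apply hRQ
    have h2 : R = u⁻¹ • P := by rw [← h1, inv_smul_smul]
    rw [h2, inv_eq_self' hu, huP]
  have hPR' : P ≠ (u * v) • P := by
    intro h; apply hnN; exact Sylow.smul_eq_iff_mem_normalizer.1 h.symm
  have hDR' : NN P ⊓ NN Q ≤ NN ((u * v) • P) := by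
    intro y hy
    apply Sylow.smul_eq_iff_mem_normalizer.1
    have h1 : y * (u * v) = (u * v) * y := by
      have := hnc y hy
      calc y * (u * v) = ((u * v) * y * (u * v)⁻¹) * (u * v) := by rw [this]
        _ = (u * v) * y := by group
    rw [← mul_smul, h1, mul_smul, Sylow.smul_eq_iff_mem_normalizer.2 hy.1]
  have hDR'' : NN P ⊓ NN Q = NN P ⊓ NN ((u * v) • P) := D_eq_of_le hS hc P Q _ hPQ hPR' hDR'
  obtain ⟨v', hv', hv'P⟩ := exists_swap hS P _ hPR'
  have hv'i : ∀ y ∈ NN P ⊓ NN Q, v' * y * v'⁻¹ = y⁻¹ := by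
    rw [hDR'']; exact clean_inverted hS hc P _ hPR' hv' hv'P
  have hmN : v' * (u * v) ∈ NN P := by
    apply Sylow.smul_eq_iff_mem_normalizer.1
    rw [mul_smul, ← hv'P, ← mul_smul]
    have : v' * v' = 1 := by
      have h := pow_orderOf_eq_one v'
      rwa [hv', pow_two] at h
    rw [this, one_smul]
  have hmi : ∀ y ∈ NN P ⊓ NN Q, (v' * (u * v)) * y * (v' * (u * v))⁻¹ = y⁻¹ := by
    intro y hy
    calc v' * (u * v) * y * (v' * (u * v))⁻¹ = v' * ((u * v) * y * (u * v)⁻¹) * v'⁻¹ := by group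
      _ = v' * y * v'⁻¹ := by rw [hnc y hy]
      _ = y⁻¹ := hv'i y hy
  obtain ⟨d, hd, c, hcC, hmdc⟩ := Cfsg.Agent.Lib.Helper21.AbCent.NN_eq_D_mul_CC hS P Q hPQ hmN
  rw [clean_CC hS hc P] at hcC
  have hcomm := clean_D_comm hS hc P Q hPQ
  have hci : ∀ y ∈ NN P ⊓ NN Q, c * y * c⁻¹ = y⁻¹ := by
    intro y hy
    have h1 : c = d⁻¹ * (v' * (u * v)) := by rw [hmdc]; group
    calc c * y * c⁻¹ = d⁻¹ * ((v' * (u * v)) * y * (v' * (u * v))⁻¹) * d := by rw [h1]; group
      _ = d⁻¹ * y⁻¹ * d := by rw [hmi y hy]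
      _ = y⁻¹ := by
        have := hcomm y⁻¹ (Subgroup.inv_mem _ hy) d hd
        rw [mul_assoc, this, ← mul_assoc, inv_mul_cancel, one_mul]
  have hodd := Cfsg.Agent.Lib.helper2.AbCent.odd_inf_normalizer hS.ac P Q hPQ
  have hy1 : ∀ y ∈ NN P ⊓ NN Q, y = 1 := by
    intro y hy
    have h1 : y⁻¹ * y⁻¹ ∈ (P : Subgroup G) := by
      have h2 : y⁻¹ * y⁻¹ = c * (y * c⁻¹ * y⁻¹) := by
        have := hci y hy
        calc y⁻¹ * y⁻¹ = (c * y * c⁻¹) * y⁻¹ := by rw [this]
          _ = c * (y * c⁻¹ * y⁻¹) := by group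
      rw [h2]
      apply Subgroup.mul_mem _ hcC
      exact (Subgroup.mem_normalizer_iff.1 hy.1 c⁻¹).1 (Subgroup.inv_mem _ hcC)
    have hyi : y⁻¹ ∈ NN P ⊓ NN Q := Subgroup.inv_mem _ hy
    have h3 : y⁻¹ * y⁻¹ = 1 := P_inf_NN hS.ac P Q hPQ h1 (Subgroup.mul_mem _ hyi hyi).2
    have h4 : y⁻¹ = 1 := eq_one_of_sq_of_odd _ hodd hyi h3
    simpa using h4
  have hbot : NN P ⊓ NN Q = ⊥ := by
    rw [Subgroup.eq_bot_iff_forall]; exact hy1
  have hcard := clean_card_D hS hc P Q hPQ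
  rw [hbot, Subgroup.card_bot] at hcard
  have := Cfsg.Agent.Lib.helper2.AbCent.three_le_nI hS P
  omega

theorem clean_card_NN (hS : Setup G) (hc : Clean G) (P : Sylow 2 G) :
    Nat.card (P : Subgroup G) * nI (P : Subgroup G) = Nat.card (NN P) := by
  have h1 := Cfsg.Agent.Lib.Helper21.AbCent.relIndex_CC hS P
  rw [clean_CC hS hc P] at h1
  have h2 := ((P : Subgroup G).subgroupOf (NN P)).card_mul_index
  rw [Cfsg.Agent.S0001.card_subgroupOf_of_le Subgroup.le_normalizer] at h2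
  rw [← h1]; exact h2

theorem clean_trans (hS : Setup G) (hc : Clean G) (P Q R : Sylow 2 G) (hQ : Q ≠ P) (hR : R ≠ P) :
    ∃ x ∈ P, x • Q = R := by
  have hPQ : P ≠ Q := hQ.symm
  have hPR : P ≠ R := hR.symm
  obtain ⟨g, hgN, hg⟩ := sz_conj_in_NN P (NN P ⊓ NN Q) (NN P ⊓ NN R) inf_le_left inf_le_left
    (Cfsg.Agent.Lib.helper2.AbCent.odd_inf_normalizer hS.ac P Q hPQ)
    (by rw [clean_card_D hS hc P Q hPQ]; exact clean_card_NN hS hc P)
    (by rw [clean_card_D hS hc P Q hPQ, clean_card_D hS hc P R hPR])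
  have hD : NN P ⊓ NN Q ≤ NN (g⁻¹ • R) := by
    intro d hd
    apply Sylow.smul_eq_iff_mem_normalizer.1
    have h1 : (g * d * g⁻¹) • R = R := Sylow.smul_eq_iff_mem_normalizer.2 (hg d hd).2
    rw [← mul_smul]
    have : d * g⁻¹ = g⁻¹ * (g * d * g⁻¹) := by group
    rw [this, mul_smul, h1]
  have hne : g⁻¹ • R ≠ P := by
    intro h
    apply hR
    have : R = g • P := by rw [← h, smul_inv_smul]
    rw [this]; exact Sylow.smul_eq_iff_mem_normalizer.2 hgN
  rcases clean_fix hS hc P Q (g⁻¹ • R) hPQ hD with h | h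
  · exact absurd h hne
  · have hRg : R = g • Q := by rw [← h, smul_inv_smul]
    obtain ⟨d, hd, c, hcC, hdc⟩ := Cfsg.Agent.Lib.Helper21.AbCent.NN_eq_D_mul_CC hS P Q hPQ (Subgroup.inv_mem _ hgN)
    rw [clean_CC hS hc P] at hcC
    refine ⟨c⁻¹, Subgroup.inv_mem _ hcC, ?_⟩
    have hg' : g = c⁻¹ * d⁻¹ := by
      have := congrArg (fun z => z⁻¹) hdc
      simpa using this
    rw [hRg, hg', mul_smul]
    congr 1
    exact (Sylow.smul_eq_iff_mem_normalizer.2 (Subgroup.inv_mem _ hd.2)).symm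

theorem clean_three (hS : Setup G) (hc : Clean G) (P Q R : Sylow 2 G) (hPQ : P ≠ Q) (hQR : Q ≠ R)
    (hPR : P ≠ R) : NN P ⊓ NN Q ⊓ NN R = ⊥ := by
  rw [Subgroup.eq_bot_iff_forall]
  rintro d ⟨hd, hdR⟩
  obtain ⟨x, hxP, hxQ⟩ := clean_trans hS hc P Q R hPQ.symm hPR.symm
  have hx1 : x ≠ 1 := by
    rintro rfl
    rw [one_smul] at hxQ
    exact hQR hxQ
  have hxN : x ∈ NN P := Subgroup.le_normalizer hxP
  -- x⁻¹ d x ∈ D
  have h1 : x⁻¹ * d * x ∈ NN P ⊓ NN Q := by
    refine ⟨Subgroup.mul_mem _ (Subgroup.mul_mem _ (Subgroup.inv_mem _ hxN) hd.1) hxN, ?_⟩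
    apply Sylow.smul_eq_iff_mem_normalizer.1
    have h2 : d • R = R := Sylow.smul_eq_iff_mem_normalizer.2 hdR
    rw [mul_smul, mul_smul, hxQ, h2, ← hxQ, inv_smul_smul]
  -- commutator in P ⊓ D
  have h3 : x⁻¹ * d * x * d⁻¹ = 1 := by
    apply P_inf_NN hS.ac P Q hPQ
    · have : x⁻¹ * d * x * d⁻¹ = x⁻¹ * (d * x * d⁻¹) := by group
      rw [this]
      exact Subgroup.mul_mem _ (Subgroup.inv_mem _ hxP)
        ((Subgroup.mem_normalizer_iff.1 hd.1 x).1 hxP)
    · exact (Subgroup.mul_mem _ h1 (Subgroup.inv_mem _ hd)).2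
  have hcomm : d * x = x * d := by
    have := congrArg (fun z => x * z * d) h3
    simpa [mul_assoc] using this
  -- an involution in ⟨x⟩
  obtain ⟨k, hk⟩ := mem_sylow_two_pow P hxP
  have hk0 : k ≠ 0 := by
    rintro rfl
    rw [pow_zero, orderOf_eq_one_iff] at hk
    exact hx1 hk
  obtain ⟨j, rfl⟩ := Nat.exists_eq_succ_of_ne_zero hk0
  set t := x ^ (2 ^ j) with ht
  have hto : orderOf t = 2 := by
    rw [ht, orderOf_pow' x (by positivity), hk, pow_succ]
    rw [Nat.gcd_eq_right (Dvd.intro _ rfl)]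
    exact Nat.mul_div_cancel_left 2 (by positivity)
  have htP : t ∈ P := Subgroup.pow_mem _ hxP _
  have hdt : d ∈ Subgroup.centralizer ({t} : Set G) := by
    rw [Subgroup.mem_centralizer_iff]
    intro h hh
    rw [Set.mem_singleton_iff.1 hh, ht]
    exact ((Commute.pow_right (show Commute d x from hcomm) _).eq).symm
  rw [Cfsg.Agent.Lib.helper2.AbCent.cent_invol hS.ac P hto htP, clean_CC hS hc P] at hdt
  exact P_inf_NN hS.ac P Q hPQ hdt hd.2

omit [Finite G] in
theorem exists_ne_sylow (hS : Setup G) (P : Sylow 2 G) : ∃ Q : Sylow 2 G, Q ≠ P := by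
  by_contra hcon
  push Not at hcon
  apply hS.nn P
  rw [← Subgroup.normalizer_eq_top_iff]
  rw [eq_top_iff]
  intro g _
  exact Sylow.smul_eq_iff_mem_normalizer.1 (hcon (g • P))

theorem clean_card_sylow (hS : Setup G) (hc : Clean G) (P : Sylow 2 G) :
    Nat.card (Sylow 2 G) = Nat.card ↥(P : Subgroup G) + 1 := by
  classical
  obtain ⟨Q, hQ⟩ := exists_ne_sylow hS P
  have hne : ∀ x : (P : Subgroup G), (x : G) • Q ≠ P := by
    intro x h
    apply hQ
    have h0 : Q = (x : G)⁻¹ • P := eq_inv_smul_iff.2 h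
    rw [h0]
    exact Sylow.smul_eq_iff_mem_normalizer.2
      (Subgroup.inv_mem _ (Subgroup.le_normalizer x.2))
  have hbij : Function.Bijective
      (fun x : (P : Subgroup G) => (⟨(x : G) • Q, hne x⟩ : {R : Sylow 2 G // R ≠ P})) := by
    constructor
    · intro x y hxy
      have h1 : (x : G) • Q = (y : G) • Q := congrArg Subtype.val hxy
      have h2 : ((y : G)⁻¹ * (x : G)) • Q = Q := by
        rw [mul_smul, h1, inv_smul_smul]
      have h3 : (y : G)⁻¹ * (x : G) = 1 :=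
        P_inf_NN hS.ac P Q hQ.symm (Subgroup.mul_mem _ (Subgroup.inv_mem _ y.2) x.2)
          (Sylow.smul_eq_iff_mem_normalizer.1 h2)
      apply Subtype.ext
      have := congrArg (fun z => (y : G) * z) h3
      simpa using this
    · rintro ⟨R, hR⟩
      obtain ⟨x, hx, hxQ⟩ := clean_trans hS hc P Q R hQ hR
      exact ⟨⟨x, hx⟩, Subtype.ext hxQ⟩
  have h1 : Nat.card ↥(P : Subgroup G) = Nat.card {R : Sylow 2 G // R ≠ P} :=
    Nat.card_congr (Equiv.ofBijective _ hbij)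
  rw [h1, ← Finite.card_option]
  exact Nat.card_congr (Equiv.optionSubtypeNe P).symm

theorem clean_card (hS : Setup G) (hc : Clean G) (P : Sylow 2 G) :
    Nat.card G = (Nat.card ↥(P : Subgroup G) + 1) * Nat.card ↥(P : Subgroup G) * nI (P : Subgroup G) := by
  have h1 := (NN P).card_mul_index
  have h2 : (NN P).index = Nat.card (Sylow 2 G) := (Sylow.card_eq_index_normalizer P).symm
  rw [h2, clean_card_sylow hS hc P, ← clean_card_NN hS hc P] at h1
  rw [← h1]; ring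

theorem clean_card_invol (hS : Setup G) (hc : Clean G) (P : Sylow 2 G) :
    Nat.card {t : G // orderOf t = 2} = (Nat.card ↥(P : Subgroup G) + 1) * nI (P : Subgroup G) := by
  classical
  let _ : Fintype (Sylow 2 G) := Fintype.ofFinite _
  have hbij : Function.Bijective
      (fun z : (Σ R : Sylow 2 G, {t : G // t ∈ (R : Subgroup G) ∧ orderOf t = 2}) =>
        (⟨z.2.1, z.2.2.2⟩ : {t : G // orderOf t = 2})) := by
    constructor
    · rintro ⟨R, t, htR, hto⟩ ⟨R', t', htR', hto'⟩ h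
      have htt : t = t' := congrArg Subtype.val h
      subst htt
      have ht1 : t ≠ 1 := by
        rintro rfl
        rw [orderOf_one] at hto
        omega
      have hRR : R = R' := Cfsg.Agent.Lib.helper2.AbCent.sylow_TI hS.ac R R' ht1 htR htR'
      subst hRR
      rfl
    · rintro ⟨t, hto⟩
      have hp : IsPGroup 2 (Subgroup.zpowers t) := by
        apply IsPGroup.of_card (n := 1)
        rw [Nat.card_zpowers, hto, pow_one]
      obtain ⟨R, hR⟩ := hp.exists_le_sylow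
      exact ⟨⟨R, ⟨t, hR (Subgroup.mem_zpowers t), hto⟩⟩, rfl⟩
  rw [← Nat.card_congr (Equiv.ofBijective _ hbij), Nat.card_sigma]
  have : ∀ R : Sylow 2 G, Nat.card {t : G // t ∈ (R : Subgroup G) ∧ orderOf t = 2} =
      nI (P : Subgroup G) := fun R => nI_eq R P
  simp_rw [this]
  rw [Finset.sum_const, Finset.card_univ, smul_eq_mul, ← Nat.card_eq_fintype_card,
    clean_card_sylow hS hc P]

theorem exists_ne_one_mem (hS : Setup G) (P : Sylow 2 G) : ∃ x ∈ P, x ≠ 1 := by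
  have h3 := Cfsg.Agent.Lib.helper2.AbCent.three_le_nI hS P
  have hne : Nonempty {t : G // t ∈ (P : Subgroup G) ∧ orderOf t = 2} := by
    have : Nat.card {t : G // t ∈ (P : Subgroup G) ∧ orderOf t = 2} ≠ 0 := by
      change nI (P : Subgroup G) ≠ 0
      omega
    exact (Nat.card_ne_zero.1 this).1
  obtain ⟨t, htP, hto⟩ := hne
  refine ⟨t, htP, ?_⟩
  rintro rfl
  rw [orderOf_one] at hto
  omega

theorem exists_three (hS : Setup G) (P : Sylow 2 G) :
    ∃ Q R : Sylow 2 G, P ≠ Q ∧ Q ≠ R ∧ P ≠ R := by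
  obtain ⟨Q, hQ⟩ := exists_ne_sylow hS P
  obtain ⟨x, hxP, hx1⟩ := exists_ne_one_mem hS P
  refine ⟨Q, x • Q, hQ.symm, ?_, ?_⟩
  · intro h
    apply hx1
    exact P_inf_NN hS.ac P Q hQ.symm hxP (Sylow.smul_eq_iff_mem_normalizer.1 h.symm)
  · intro h
    apply hQ
    have h0 : Q = x⁻¹ • P := eq_inv_smul_iff.2 h.symm
    rw [h0]
    exact Sylow.smul_eq_iff_mem_normalizer.2
      (Subgroup.inv_mem _ (Subgroup.le_normalizer hxP))

theorem clean_zassenhaus (hS : Setup G) (hc : Clean G) : Cfsg.IsZassenhausGroup G (Sylow 2 G) := by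
  obtain ⟨P⟩ : Nonempty (Sylow 2 G) := inferInstance
  obtain ⟨Q, R, hPQ, hQR, hPR⟩ := exists_three hS P
  have h3 := Cfsg.Agent.Lib.helper2.AbCent.three_le_nI hS P
  have hfix3 : ∀ g : G, ∀ a b c : Sylow 2 G, a ≠ b → b ≠ c → a ≠ c → g • a = a → g • b = b →
      g • c = c → g = 1 := by
    intro g a b c hab hbc hac ha hb hcc
    have : g ∈ NN a ⊓ NN b ⊓ NN c :=
      ⟨⟨Sylow.smul_eq_iff_mem_normalizer.1 ha, Sylow.smul_eq_iff_mem_normalizer.1 hb⟩,
        Sylow.smul_eq_iff_mem_normalizer.1 hcc⟩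
    rw [clean_three hS hc a b c hab hbc hac, Subgroup.mem_bot] at this
    exact this
  refine ⟨⟨?_⟩, ?_, hfix3, ?_, ?_⟩
  · intro g g' h
    have hk : ∀ a : Sylow 2 G, (g'⁻¹ * g) • a = a := by
      intro a
      rw [mul_smul, h a, inv_smul_smul]
    have := hfix3 _ P Q R hPQ hQR hPR (hk P) (hk Q) (hk R)
    have h2 := congrArg (fun z => g' * z) this
    simpa using h2
  · rw [MulAction.is_two_pretransitive_iff]
    intro a b c d hab hcd
    obtain ⟨g₁, hg₁⟩ := MulAction.exists_smul_eq G a c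
    have hne : g₁ • b ≠ c := by
      intro h
      apply hab
      rw [← hg₁] at h
      exact (MulAction.injective g₁ h).symm
    obtain ⟨x, hx, hxd⟩ := clean_trans hS hc c (g₁ • b) d hne hcd.symm
    refine ⟨x * g₁, ?_, ?_⟩
    · rw [mul_smul, hg₁]
      exact Sylow.smul_eq_iff_mem_normalizer.2 (Subgroup.le_normalizer hx)
    · rw [mul_smul, hxd]
  · have hcard := clean_card_D hS hc P Q hPQ
    have hex : ∃ d ∈ NN P ⊓ NN Q, d ≠ 1 := by
      by_contra hcon
      push Not at hcon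
      have hbot : NN P ⊓ NN Q = ⊥ := by
        rw [Subgroup.eq_bot_iff_forall]; exact hcon
      rw [hbot, Subgroup.card_bot] at hcard
      omega
    obtain ⟨d, hd, hd1⟩ := hex
    exact ⟨d, hd1, P, Q, hPQ, Sylow.smul_eq_iff_mem_normalizer.2 hd.1,
      Sylow.smul_eq_iff_mem_normalizer.2 hd.2⟩
  · intro N hN htr
    by_contra hcon
    push Not at hcon
    have h1 : (MulAction.stabilizer N P).index = Nat.card (Sylow 2 G) :=
      MulAction.index_stabilizer_of_transitive N P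
    rw [hcon P, Subgroup.index_bot, clean_card_sylow hS hc P] at h1
    obtain ⟨k, hk⟩ : ∃ k : ℕ, Nat.card (P : Subgroup G) = 2 ^ k :=
      (IsPGroup.iff_card.1 P.isPGroup')
    have hk0 : k ≠ 0 := by
      rintro rfl
      rw [pow_zero] at hk
      obtain ⟨x, hxP, hx1⟩ := exists_ne_one_mem hS P
      have hb := (Subgroup.card_eq_one (H := (P : Subgroup G))).1 hk
      have hxP' : x ∈ (P : Subgroup G) := hxP
      rw [hb, Subgroup.mem_bot] at hxP'
      exact hx1 hxP'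
    have hodd : Odd (Nat.card N) := by
      rw [h1, hk]
      exact Even.add_one ((Nat.even_pow' hk0).2 even_two)
    have hle := Cfsg.Agent.Lib.helper2.AbCent.odd_le_CC hS P N hodd (by
      rw [Subgroup.normalizer_eq_top_iff.2 hN]; exact le_top)
    rw [clean_KK hS hc P, le_bot_iff] at hle
    rw [hle, Subgroup.card_bot, hk] at h1
    have : 0 < 2 ^ k := by positivity
    omega

end Cfsg.Agent.Lib.helper17.AbCent
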