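import Mathlib
import Cfsg.Agent.Lib.Lead.BCS.Defs
import Cfsg.Agent.Lib.Helper24.ElB
import Cfsg.Agent.Lib.Helper24.ElD

set_option autoImplicit false

/-!
# Project BCS, row A4 (`bcs_inv_dvd`) (helper17).
-/

namespace Cfsg.Agent.Lib.Lead.BCS

open Polynomial Module Matrix Cfsg.Agent.Lib.Helper13.S5955 Cfsg.Agent.Lib.helper15.S5972
  Cfsg.Agent.Lib.Helper18.ONE

/-- A4 [S] -/
theorem bcs_inv_dvd {F : Type*} [Field F] [Fintype F] {p : ℕ} [Fact p.Prime] [CharP F p]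
    {V : Type*} [AddCommGroup V] [Module F V] [FiniteDimensional F V]
    {ℓ : ℕ} [Fact ℓ.Prime] (hℓp : ℓ ≠ p) (y : Module.End F V) (K : Submodule F V)
    (hK : SInv y K) (hKc : K ≤ cycS ℓ y) :
    orderOf ((Fintype.card F : ℕ) : ZMod ℓ) ∣ finrank F K := by
  refine Cfsg.Agent.Lib.Helper24.el_dvd_dim y K hK (cyclotomic ℓ F) (cyclotomic_ne_zero ℓ F) ?_ _
    (Cfsg.Agent.Lib.Helper24.el_ord_pos (F := F) (p := p) ℓ hℓp) ?_
  · intro u hu
    have := hKc hu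
    unfold cycS at this
    exact LinearMap.mem_ker.mp this
  · intro P hP hPd
    exact Cfsg.Agent.Lib.Helper24.el_cyc_deg (p := p) ℓ hℓp P hP hPd

end Cfsg.Agent.Lib.Lead.BCS
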