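import Mathlib
import Cfsg.Agent.Lib.Lead.BCS.Defs
import Cfsg.Agent.Lib.Helper24.S5972SPLIT
import Cfsg.Agent.Lib.helper23.ONECYCLADDER
import Cfsg.Agent.Lib.Helper24.ElC

set_option autoImplicit false

/-!
# Project BCS, row A1 (`bcs_cyc_dim`) (helper17).
-/

namespace Cfsg.Agent.Lib.Lead.BCS

open Polynomial Module Matrix Cfsg.Agent.Lib.Helper13.S5955 Cfsg.Agent.Lib.helper15.S5972
  Cfsg.Agent.Lib.Helper18.ONE

/-- A1 [M] -/
theorem bcs_cyc_dim {F : Type*} [Field F] [Fintype F] {p : ℕ} [Fact p.Prime] [CharP F p]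
    {V : Type*} [AddCommGroup V] [Module F V] [FiniteDimensional F V]
    {ℓ : ℕ} [Fact ℓ.Prime] (hℓp : ℓ ≠ p) (hℓ2 : ℓ ≠ 2) {B : LinearMap.BilinForm F V}
    {y : Module.End F V} (h : OCtx ℓ B y) (hy : y ≠ 1) (m : ℕ) (hm : 2 ≤ m)
    (hV : finrank F V = 2 * m + 3) (hi : OrdC (Fintype.card F) m ℓ) :
    finrank F (cycS ℓ y) = 2 * m ∧ finrank F (fixS y) = 3 := by
  obtain ⟨-, hcompl, -, hnd⟩ := Cfsg.Agent.Lib.helper15.S5972.o_split (p := p) hℓp h
  have hsum : finrank F (fixS y) + finrank F (cycS ℓ y) = 2 * m + 3 := by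
    rw [Submodule.finrank_add_eq_of_isCompl hcompl, hV]
  have hne : cycS ℓ y ≠ ⊥ := by
    intro hbot
    apply hy
    have htop : fixS y = ⊤ := by
      have := hcompl.sup_eq_top
      rw [hbot, sup_bot_eq] at this
      exact this
    apply LinearMap.ext
    intro v
    rw [Module.End.one_apply]
    exact (bcs_mem_fixS y v).mp (by rw [htop]; exact Submodule.mem_top)
  have hpos : 0 < finrank F (cycS ℓ y) := by
    rw [Nat.pos_iff_ne_zero]
    intro h0
    exact hne (Submodule.finrank_eq_zero.mp h0)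
  have hinv : SInv y (cycS ℓ y) := by
    unfold cycS
    exact Cfsg.Agent.Lib.Helper24.el_inv_ker y (cyclotomic ℓ F)
  have hdvd : 2 * m ∣ finrank F (cycS ℓ y) :=
    Cfsg.Agent.Lib.Helper18.ONE.o_cyc_nd_dvd (p := p) hℓp hℓ2 h _ (2 * m) rfl (ordc_c hi) (cycS ℓ y) hinv
      le_rfl hnd
  obtain ⟨k, hk⟩ := hdvd
  have hk1 : k = 1 := by
    have hle : 2 * m * k ≤ 2 * m + 3 := by omega
    have hkpos : 0 < k := by
      rcases Nat.eq_zero_or_pos k with h0 | h0
      · rw [h0, mul_zero] at hk; omega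
      · exact h0
    by_contra hne1
    have h2k : 2 ≤ k := by omega
    have : 2 * m * 2 ≤ 2 * m * k := Nat.mul_le_mul_left _ h2k
    omega
  rw [hk1, mul_one] at hk
  exact ⟨hk, by omega⟩

end Cfsg.Agent.Lib.Lead.BCS
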