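import Mathlib
import Cfsg.Agent.Lib.Helper18.ONE.Defs
import Cfsg.Agent.Lib.Helper18.ONETYCLASS
import Cfsg.Agent.Lib.Helper1.ONEREPR
import Cfsg.Agent.Lib.Helper24.S5972SPLIT
import Cfsg.Agent.Lib.helper17.ONETYBOT
import Cfsg.Agent.Lib.helper17.ONENDSUPS
import Cfsg.Agent.Lib.helper17.ONENDPERPS
import Cfsg.Agent.Lib.helper17.ONETYSUM
import Cfsg.Agent.Lib.helper17.ONEPLANETY

set_option autoImplicit false

/-!
# Project ONE, row INVOL (helper17), core: involutory isometries fix nondegenerate subspaces of every even dimension and type.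
The row TYEX (`ty_ex`) enters as the hypothesis `hTYEX`.
-/

namespace Cfsg.Agent.Lib.Helper18.ONE

open Polynomial Module Cfsg.Agent.Lib.Helper13.S5955 Cfsg.Agent.Lib.helper15.S5972

/-- a nondegenerate subspace of type `1` of every even dimension `k < dim N` -/
theorem oneinvol_subplus {F : Type*} [Field F] [Fintype F]
    {V : Type*} [AddCommGroup V] [Module F V] [FiniteDimensional F V]
    (B : LinearMap.BilinForm F V)
    (hTYEX : ∀ (N : Submodule F V), SND B N → ∀ e : ℕ, Even e → 0 < e → e < finrank F N →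
      ∀ s : ℤ, (s = 1 ∨ s = -1) →
      ∃ W : Submodule F V, W ≤ N ∧ SND B W ∧ finrank F W = e ∧ OTy B W s)
    (N : Submodule F V) (hN : SND B N) (k : ℕ) (hk : Even k) (hkN : k < finrank F N) :
    ∃ W : Submodule F V, W ≤ N ∧ SND B W ∧ finrank F W = k ∧ OTy B W 1 := by
  by_cases hk0 : k = 0
  · subst hk0
    refine ⟨⊥, bot_le, ?_, finrank_bot F V, (ty_bot B 1).mpr rfl⟩
    intro u hu _
    exact (Submodule.mem_bot F).mp hu
  · exact hTYEX N hN k hk (Nat.pos_of_ne_zero hk0) hkN 1 (Or.inl rfl)

/-- a nondegenerate subspace of some type of every even dimension `k ≤ dim N` (`dim N` even) -/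
theorem oneinvol_subany {F : Type*} [Field F] [Fintype F] (h2 : (2 : F) ≠ 0)
    {V : Type*} [AddCommGroup V] [Module F V] [FiniteDimensional F V]
    (B : LinearMap.BilinForm F V) (hsymm : ∀ u v, B u v = B v u)
    (hTYEX : ∀ (N : Submodule F V), SND B N → ∀ e : ℕ, Even e → 0 < e → e < finrank F N →
      ∀ s : ℤ, (s = 1 ∨ s = -1) →
      ∃ W : Submodule F V, W ≤ N ∧ SND B W ∧ finrank F W = e ∧ OTy B W s)
    (N : Submodule F V) (hN : SND B N) (hNe : Even (finrank F N)) (k : ℕ) (hk : Even k)
    (hkN : k ≤ finrank F N) :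
    ∃ W : Submodule F V, W ≤ N ∧ SND B W ∧ finrank F W = k ∧
      ∃ s' : ℤ, (s' = 1 ∨ s' = -1) ∧ OTy B W s' := by
  by_cases hkN' : k = finrank F N
  · rcases ty_class h2 B hsymm N hN hNe with ⟨_, h⟩ | ⟨_, h⟩
    · exact ⟨N, le_refl _, hN, hkN'.symm, 1, Or.inl rfl, h⟩
    · exact ⟨N, le_refl _, hN, hkN'.symm, -1, Or.inr rfl, h⟩
  · obtain ⟨W, hWN, hW, hWd, hWt⟩ := oneinvol_subplus B hTYEX N hN k hk (by omega)
    exact ⟨W, hWN, hW, hWd, 1, Or.inl rfl, hWt⟩

/-- abstract INVOL: `V ⊇ N_o ⟂ N_e`, every subspace of either is invariant -/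
theorem oneinvol_abs {F : Type*} [Field F] [Fintype F] (h2 : (2 : F) ≠ 0)
    {V : Type*} [AddCommGroup V] [Module F V] [FiniteDimensional F V]
    (B : LinearMap.BilinForm F V) (hsymm : ∀ u v, B u v = B v u) (x : Module.End F V)
    (hTYEX : ∀ (N : Submodule F V), SND B N → ∀ e : ℕ, Even e → 0 < e → e < finrank F N →
      ∀ s : ℤ, (s = 1 ∨ s = -1) →
      ∃ W : Submodule F V, W ≤ N ∧ SND B W ∧ finrank F W = e ∧ OTy B W s)
    (No Ne : Submodule F V) (hNo : SND B No) (hNe : SND B Ne) (horth : SOrth B No Ne)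
    (hio : ∀ W : Submodule F V, W ≤ No → SInv x W) (hie : ∀ W : Submodule F V, W ≤ Ne → SInv x W)
    (d m : ℕ) (hodd : Odd (finrank F No)) (hdim : finrank F No + finrank F Ne = 2 * d + 1)
    (hm : 2 ≤ m) (hme : Even m) (hmd : m ≤ 2 * d) (s : ℤ) (hs : s = 1 ∨ s = -1) :
    NDt B x m s := by
  classical
  obtain ⟨o', ho'⟩ := hodd
  have heven : Even (finrank F Ne) := by
    refine ⟨d - o', ?_⟩
    omega
  by_cases ho3 : 3 ≤ finrank F No
  · -- the generic case
    set a := min m (finrank F No - 1) with ha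
    have ha_even : Even a := by
      rcases min_choice m (finrank F No - 1) with h | h
      · rw [ha, h]; exact hme
      · rw [ha, h]; exact ⟨o', by omega⟩
    have ha_pos : 0 < a := by
      rw [ha]; exact lt_min (by omega) (by omega)
    have ha_lt : a < finrank F No := by
      have : a ≤ finrank F No - 1 := min_le_right _ _
      omega
    have ha_le : a ≤ m := min_le_left _ _
    have hk_le : m - a ≤ finrank F Ne := by
      rcases min_choice m (finrank F No - 1) with h | h
      · rw [ha, h]; omega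
      · rw [ha, h]; omega
    have hk_even : Even (m - a) := (Nat.even_sub ha_le).mpr ⟨fun _ => ha_even, fun _ => hme⟩
    obtain ⟨We, hWeN, hWe, hWed, s', hs', hWet⟩ :=
      oneinvol_subany h2 B hsymm hTYEX Ne hNe heven (m - a) hk_even hk_le
    have hss : s * s' = 1 ∨ s * s' = -1 := by
      rcases hs with rfl | rfl <;> rcases hs' with rfl | rfl <;> simp
    obtain ⟨Wo, hWoN, hWo, hWod, hWot⟩ := hTYEX No hNo a ha_even ha_pos ha_lt (s * s') hss
    have hor : SOrth B Wo We := fun u hu w hw => horth u (hWoN hu) w (hWeN hw)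
    obtain ⟨hnd, -, hdimW⟩ := nd_sup_symm B hsymm Wo We hWo hWe hor
    have hty := ty_sum h2 B hsymm Wo We hWo hWe hor (by rw [hWod]; exact ha_even)
      (by rw [hWed]; exact hk_even) (s * s') s' hWot hWet
    have hsss : s * s' * s' = s := by
      rcases hs' with rfl | rfl <;> ring
    rw [hsss] at hty
    refine ⟨Wo ⊔ We, Cfsg.Agent.Lib.Helper24.el_inv_sup (hio Wo hWoN) (hie We hWeN), hnd, ?_, hty⟩
    rw [hdimW, hWod, hWed]
    omega
  · have ho1 : finrank F No = 1 := by omega
    have hNe2d : finrank F Ne = 2 * d := by omega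
    by_cases hm2d : m < 2 * d
    · obtain ⟨W, hWN, hW, hWd, hWt⟩ := hTYEX Ne hNe m hme (by omega) (by omega) s hs
      exact ⟨W, hie W hWN, hW, hWd, hWt⟩
    · have hm2d' : m = 2 * d := by omega
      -- the line `N_o`
      haveI : Nontrivial ↥No := Module.nontrivial_of_finrank_pos (R := F) (by omega)
      obtain ⟨v0', hv0'⟩ := exists_ne (0 : ↥No)
      obtain ⟨v₀, hv₀N⟩ := v0'
      have hv₀0 : v₀ ≠ 0 := fun h => hv0' (Subtype.ext h)
      have hline : ∀ w ∈ No, ∃ c : F, w = c • v₀ := by
        intro w hw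
        have hsp := (finrank_eq_one_iff_of_nonzero' (⟨v₀, hv₀N⟩ : ↥No) hv0').mp ho1 ⟨w, hw⟩
        obtain ⟨c, hc⟩ := hsp
        exact ⟨c, (congrArg Subtype.val hc).symm⟩
      have hv₀v₀ : B v₀ v₀ ≠ 0 := by
        intro h0
        apply hv₀0
        apply hNo v₀ hv₀N
        intro w hw
        obtain ⟨c, rfl⟩ := hline w hw
        rw [map_smul, h0, smul_zero]
      -- `W_b`
      have hd1 : 1 ≤ d := by omega
      obtain ⟨Wb, hWbN, hWb, hWbd, hWbt⟩ :=
        oneinvol_subplus B hTYEX Ne hNe (2 * d - 2) ⟨d - 1, by omega⟩ (by omega)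
      obtain ⟨-, -, hP'nd, hP'orth, hP'dim⟩ := nd_perp_symm B hsymm Ne Wb hNe hWbN hWb
      have hP'2 : finrank F ↥(Ne ⊓ B.orthogonal Wb) = 2 := by omega
      -- the value of `B u u`
      obtain ⟨t, ht0, htsq⟩ : ∃ t : F, t ≠ 0 ∧
          ((s = 1 → IsSquare (-(B v₀ v₀ * t))) ∧ (s = -1 → ¬ IsSquare (-(B v₀ v₀ * t)))) := by
        rcases hs with rfl | rfl
        · refine ⟨-(B v₀ v₀), neg_ne_zero.mpr hv₀v₀, fun _ => ⟨B v₀ v₀, by ring⟩, fun h => ?_⟩
          norm_num at h
        · have hchar : ringChar F ≠ 2 := by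
            intro hc
            apply h2
            have := ringChar.Nat.cast_ringChar (R := F)
            rw [hc] at this
            exact_mod_cast this
          obtain ⟨ν, hν⟩ := FiniteField.exists_nonsquare hchar
          have hν0 : ν ≠ 0 := by
            intro h
            apply hν
            rw [h]
            exact ⟨0, by ring⟩
          refine ⟨-(ν / B v₀ v₀), neg_ne_zero.mpr (div_ne_zero hν0 hv₀v₀), fun h => ?_, fun _ => ?_⟩
          · norm_num at h
          · have : -(B v₀ v₀ * -(ν / B v₀ v₀)) = ν := by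
              field_simp
            rw [this]
            exact hν
      obtain ⟨u, huP, huu⟩ := repr_symm h2 B hsymm (Ne ⊓ B.orthogonal Wb) hP'nd (by omega) t ht0
      have huNe : u ∈ Ne := (Submodule.mem_inf.mp huP).1
      have h12 : B v₀ u = 0 := horth v₀ hv₀N u huNe
      have huu0 : B u u ≠ 0 := by rw [huu]; exact ht0
      obtain ⟨hPnd, hPdim, hPplus, hPminus⟩ := plane_ty h2 B hsymm v₀ u h12 hv₀v₀ huu0
      have hPty : OTy B (Submodule.span F {v₀, u}) s := by
        rcases hs with rfl | rfl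
        · apply hPplus
          rw [huu]
          exact htsq.1 rfl
        · apply hPminus
          rw [huu]
          exact htsq.2 rfl
      have hor : SOrth B (Submodule.span F {v₀, u}) Wb := by
        intro z hz w hw
        obtain ⟨α, β, rfl⟩ := Submodule.mem_span_pair.mp hz
        have e1 : B v₀ w = 0 := horth v₀ hv₀N w (hWbN hw)
        have e2 : B u w = 0 := by
          rw [hsymm]
          exact hP'orth w hw u huP
        rw [map_add, LinearMap.add_apply, map_smul, map_smul, LinearMap.smul_apply,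
          LinearMap.smul_apply, e1, e2, smul_zero, smul_zero, add_zero]
      obtain ⟨hnd, -, hdimW⟩ := nd_sup_symm B hsymm _ Wb hPnd hWb hor
      have hty := ty_sum h2 B hsymm _ Wb hPnd hWb hor (by rw [hPdim]; exact even_two)
        (by rw [hWbd]; exact ⟨d - 1, by omega⟩) s 1 hPty hWbt
      rw [mul_one] at hty
      have hinvP : SInv x (Submodule.span F {v₀, u}) := by
        have : Submodule.span F ({v₀, u} : Set V) = Submodule.span F {v₀} ⊔ Submodule.span F {u} := by
          rw [Submodule.span_insert]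
        rw [this]
        apply Cfsg.Agent.Lib.Helper24.el_inv_sup
        · apply hio
          rw [Submodule.span_singleton_le_iff_mem]
          exact hv₀N
        · apply hie
          rw [Submodule.span_singleton_le_iff_mem]
          exact huNe
      refine ⟨Submodule.span F {v₀, u} ⊔ Wb, Cfsg.Agent.Lib.Helper24.el_inv_sup hinvP (hie Wb hWbN),
        hnd, ?_, hty⟩
      rw [hdimW, hPdim, hWbd]
      omega

/-- INVOL with the row TYEX as a hypothesis -/
theorem oneinvol_core {F : Type*} [Field F] [Fintype F] {p : ℕ} [Fact p.Prime] [CharP F p]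
    (hp2 : p ≠ 2) {V : Type*} [AddCommGroup V] [Module F V] [FiniteDimensional F V]
    {B : LinearMap.BilinForm F V} {x : Module.End F V} (h : OCtx 2 B x)
    (hTYEX : ∀ (N : Submodule F V), SND B N → ∀ e : ℕ, Even e → 0 < e → e < finrank F N →
      ∀ s : ℤ, (s = 1 ∨ s = -1) →
      ∃ W : Submodule F V, W ≤ N ∧ SND B W ∧ finrank F W = e ∧ OTy B W s)
    (d m : ℕ) (hV : finrank F V = 2 * d + 1) (hd : 1 ≤ d) (hm : 2 ≤ m) (hme : Even m)
    (hmd : m ≤ 2 * d) (s : ℤ) (hs : s = 1 ∨ s = -1) : NDt B x m s := by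
  classical
  have h2 : (2 : F) ≠ 0 := by
    have := Cfsg.Agent.Lib.Helper24.el_cast_ne_zero (F := F) (p := p) 2 (Ne.symm hp2)
    exact_mod_cast this
  obtain ⟨horth, hcompl, hfix, hcyc⟩ := o_split (p := p) (r := 2) (Ne.symm hp2) h
  have hdim : finrank F (fixS x) + finrank F (cycS 2 x) = 2 * d + 1 := by
    rw [Submodule.finrank_add_eq_of_isCompl hcompl, hV]
  have hifix : ∀ W : Submodule F V, W ≤ fixS x → SInv x W := by
    intro W hW w hw
    have : x w = w := by
      have := hW hw
      unfold fixS at this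
      rw [LinearMap.mem_ker, map_sub, aeval_X, map_one, LinearMap.sub_apply, Module.End.one_apply,
        sub_eq_zero] at this
      exact this
    rw [this]
    exact hw
  have hicyc : ∀ W : Submodule F V, W ≤ cycS 2 x → SInv x W := by
    intro W hW w hw
    have : x w = -w := by
      have := hW hw
      unfold cycS at this
      rw [LinearMap.mem_ker, cyclotomic_two, map_add, aeval_X, map_one, LinearMap.add_apply,
        Module.End.one_apply] at this
      exact eq_neg_of_add_eq_zero_left this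
    rw [this]
    exact W.neg_mem hw
  rcases Nat.even_or_odd (finrank F (fixS x)) with hev | hod
  · have hod' : Odd (finrank F (cycS 2 x)) := by
      obtain ⟨k, hk⟩ := hev
      exact ⟨d - k, by omega⟩
    have horth' : SOrth B (cycS 2 x) (fixS x) := by
      intro u hu w hw
      rw [h.symm]
      exact horth w hw u hu
    exact oneinvol_abs h2 B h.symm x hTYEX (cycS 2 x) (fixS x) hcyc hfix horth' hicyc hifix d m hod'
      (by omega) hm hme hmd s hs
  · exact oneinvol_abs h2 B h.symm x hTYEX (fixS x) (cycS 2 x) hfix hcyc horth hifix hicyc d m hod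
      hdim hm hme hmd s hs

end Cfsg.Agent.Lib.Helper18.ONE
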