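import Mathlib
import Cfsg.Agent.Lib.Helper18.ONE.Defs
import Cfsg.Agent.Lib.helper17.ONEINVOLcore
import Cfsg.Agent.Lib.Helper19.ONETYEX

set_option autoImplicit false

/-!
# Project ONE, row INVOL (helper17): verbatim wrapper of `oneinvol_core` with `ty_ex`.
-/

namespace Cfsg.Agent.Lib.Helper18.ONE

open Polynomial Module Cfsg.Agent.Lib.Helper13.S5955 Cfsg.Agent.Lib.helper15.S5972

/-- INVOL [L]: an involutory isometry (`x = 1` allowed) of a `(2d+1)`-space fixes nondegenerate subspaces of every even dimension `2 ≤ m ≤ 2d` of both types. -/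
theorem one_invol {F : Type*} [Field F] [Fintype F] {p : ℕ} [Fact p.Prime] [CharP F p]
    (hp2 : p ≠ 2) {V : Type*} [AddCommGroup V] [Module F V] [FiniteDimensional F V]
    {B : LinearMap.BilinForm F V} {x : Module.End F V} (h : OCtx 2 B x)
    (d m : ℕ) (hV : finrank F V = 2 * d + 1) (hd : 1 ≤ d) (hm : 2 ≤ m) (hme : Even m)
    (hmd : m ≤ 2 * d) (s : ℤ) (hs : s = 1 ∨ s = -1) : NDt B x m s := by
  have h2 : (2 : F) ≠ 0 := by
    have := Cfsg.Agent.Lib.Helper24.el_cast_ne_zero (F := F) (p := p) 2 (Ne.symm hp2)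
    exact_mod_cast this
  exact oneinvol_core hp2 h
    (fun N hN e he he0 heN s hs => ty_ex h2 B h.symm N hN e he he0 heN s hs)
    d m hV hd hm hme hmd s hs

end Cfsg.Agent.Lib.Helper18.ONE
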