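import Mathlib
import Cfsg.Agent.Lib.helper23.P4S.Defs

set_option autoImplicit false

/-!
# P4S rows U2 (`quartic_factor`) and U3 (`frob_y`), verbatim.
-/

namespace Cfsg.Agent.Lib.helper23.P4S

open Matrix Polynomial

theorem p4su2_root {K : Type*} [Field K] [IsAlgClosed K] (s t : K) : ∃ y : K, y ^ 2 - s * y + t = 0 := by
  have hdeg : (X ^ 2 - C s * X + C t : K[X]).degree ≠ 0 := by
    have h2 : (X ^ 2 - C s * X + C t : K[X]).degree = 2 := by compute_degree!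
    rw [h2]
    norm_num
  obtain ⟨y, hy⟩ := IsAlgClosed.exists_root _ hdeg
  exact ⟨y, by simpa [IsRoot] using hy⟩

theorem p4su2_pair {K : Type*} [Field K] (l : K) (hl : l ≠ 0) :
    ((X - C l) * (X - C l⁻¹) : K[X]) = X ^ 2 - C (l + l⁻¹) * X + 1 := by
  have h1 : (C l * C l⁻¹ : K[X]) = 1 := by
    rw [← C_mul, mul_inv_cancel₀ hl, C_1]
  rw [C_add]
  linear_combination h1

theorem quartic_factor {K : Type*} [Field K] [IsAlgClosed K] (a b : K) :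
    ∃ l1 l2 : K, l1 ≠ 0 ∧ l2 ≠ 0 ∧
      (X ^ 4 - C a * X ^ 3 + C b * X ^ 2 - C a * X + 1 : K[X]) =
        (X - C l1) * (X - C l1⁻¹) * ((X - C l2) * (X - C l2⁻¹)) ∧
      (l1 + l1⁻¹) + (l2 + l2⁻¹) = a ∧ (l1 + l1⁻¹) * (l2 + l2⁻¹) = b - 2 := by
  obtain ⟨y1, hy1⟩ := p4su2_root a (b - 2)
  obtain ⟨l1, hl1⟩ := p4su2_root y1 1
  obtain ⟨l2, hl2⟩ := p4su2_root (a - y1) 1
  have h10 : l1 ≠ 0 := by
    intro h
    rw [h] at hl1
    simp at hl1
  have h20 : l2 ≠ 0 := by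
    intro h
    rw [h] at hl2
    simp at hl2
  have hi1 : l1⁻¹ = y1 - l1 := by
    rw [inv_eq_iff_eq_inv, eq_comm, inv_eq_iff_eq_inv, eq_comm]
    symm
    apply eq_inv_of_mul_eq_one_left
    linear_combination (-1 : K) * hl1
  have hi2 : l2⁻¹ = (a - y1) - l2 := by
    rw [inv_eq_iff_eq_inv, eq_comm, inv_eq_iff_eq_inv, eq_comm]
    symm
    apply eq_inv_of_mul_eq_one_left
    linear_combination (-1 : K) * hl2
  have hs1 : l1 + l1⁻¹ = y1 := by rw [hi1]; ring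
  have hs2 : l2 + l2⁻¹ = a - y1 := by rw [hi2]; ring
  refine ⟨l1, l2, h10, h20, ?_, ?_, ?_⟩
  · rw [p4su2_pair l1 h10, p4su2_pair l2 h20, hs1, hs2]
    have hb : b = y1 * (a - y1) + 2 := by linear_combination hy1
    rw [hb]
    simp only [C_add, C_sub, C_mul, C_ofNat]
    ring
  · rw [hs1, hs2]; ring
  · rw [hs1, hs2]
    linear_combination (-1 : K) * hy1

theorem frob_y {K : Type*} [Field K] (p : ℕ) [Fact p.Prime] [CharP K p] (f : ℕ) (a b y1 y2 : K)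
    (ha : a ^ p ^ f = a) (hb : b ^ p ^ f = b) (h1 : y1 + y2 = a) (h2 : y1 * y2 = b - 2) :
    (y1 ^ p ^ f = y1 ∧ y2 ^ p ^ f = y2) ∨ (y1 ^ p ^ f = y2 ∧ y2 ^ p ^ f = y1) := by
  have hφ : ∀ x : K, iterateFrobenius K p f x = x ^ p ^ f := fun x => iterateFrobenius_def p f x
  have e1 : y1 ^ p ^ f + y2 ^ p ^ f = a := by
    rw [← hφ, ← hφ, ← map_add, h1, hφ, ha]
  have e2 : y1 ^ p ^ f * y2 ^ p ^ f = b - 2 := by
    rw [← hφ, ← hφ, ← map_mul, h2, map_sub, map_ofNat, hφ, hb]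
  have key : (y1 ^ p ^ f - y1) * (y1 ^ p ^ f - y2) = 0 := by
    linear_combination (y1 ^ p ^ f) * e1 - e2 - (y1 ^ p ^ f) * h1 + h2
  rcases mul_eq_zero.mp key with h | h
  · left
    have h' : y1 ^ p ^ f = y1 := sub_eq_zero.mp h
    refine ⟨h', ?_⟩
    linear_combination e1 - h1 - h'
  · right
    have h' : y1 ^ p ^ f = y2 := sub_eq_zero.mp h
    refine ⟨h', ?_⟩
    linear_combination e1 - h1 - h'

end Cfsg.Agent.Lib.helper23.P4S
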