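import Mathlib
import Cfsg.Agent.Lib.Helper19.S5954.Defs

set_option autoImplicit false

/-!
# Project S5954, part T, row TEIGSPLIT (`t_eig_split`): eigen-components of a vector inside an invariant subspace
for `x * x = (μ * μ) • 1`, `2 μ ≠ 0`.
-/

namespace Cfsg.Agent.Lib.Helper19.S5954

open Polynomial Module Cfsg.Agent.Lib.Helper13.S5955

variable {F : Type*} [Field F] {V : Type*} [AddCommGroup V] [Module F V]

/-- `x (x u) = (μ * μ) • u` -/
theorem s5954teigsplit_sq {x : Module.End F V} (c : F) (hsq : x * x = c • 1) (u : V) :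
    x (x u) = c • u := by
  have := LinearMap.congr_fun hsq u
  simpa using this

/-- TEIGSPLIT -/
theorem t_eig_split {x : Module.End F V} (h2 : (2 : F) ≠ 0) (μ : F) (hμ0 : μ ≠ 0) (hsq : x * x = (μ * μ) • 1)
    (N : Submodule F V) (hN : SInv x N) (v : V) (hv : v ∈ N) :
    ∃ a b : V, a ∈ N ∧ b ∈ N ∧ x a = μ • a ∧ x b = -(μ • b) ∧ v = a + b := by
  have hxx : x (x v) = (μ * μ) • v := s5954teigsplit_sq (μ * μ) hsq v
  have hxv : x v ∈ N := hN v hv
  have h2μ : (2 * μ) ≠ 0 := mul_ne_zero h2 hμ0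
  refine ⟨(2 * μ)⁻¹ • (μ • v + x v), (2 * μ)⁻¹ • (μ • v - x v), ?_, ?_, ?_, ?_, ?_⟩
  · exact N.smul_mem _ (N.add_mem (N.smul_mem _ hv) hxv)
  · exact N.smul_mem _ (N.sub_mem (N.smul_mem _ hv) hxv)
  · rw [map_smul, map_add, map_smul, hxx]
    module
  · rw [map_smul, map_sub, map_smul, hxx]
    module
  · have : (2 * μ)⁻¹ • (μ • v + x v) + (2 * μ)⁻¹ • (μ • v - x v) = ((2 * μ)⁻¹ * (2 * μ)) • v := by
      module
    rw [this, inv_mul_cancel₀ h2μ, one_smul]

end Cfsg.Agent.Lib.Helper19.S5954
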