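import Mathlib
import Cfsg.Agent.Lib.Helper19.S5954.Defs
import Cfsg.Agent.Lib.helper17.S5954TEIGSPLIT

set_option autoImplicit false

/-!
# Project S5954, part T, row TPLANE (`t_plane`): case B (`σ μ * μ = -1`): every nonzero invariant nondegenerate subspace
contains an invariant nondegenerate (hyperbolic) plane spanned by two eigenvectors.
-/

namespace Cfsg.Agent.Lib.Helper19.S5954

open Polynomial Module Cfsg.Agent.Lib.Helper13.S5955

variable {F : Type*} [Field F] {V : Type*} [AddCommGroup V] [Module F V]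

/-- two eigenvectors for the same eigenvalue `c` with `σ c * c = -1` are orthogonal (row TEIGTI in one-eigenvalue form) -/
theorem s5954tplane_ti {R : ℕ} {σ : F →+* F} {B : V →ₛₗ[σ] V →ₗ[F] F} {x : Module.End F V}
    (h : HCtx R σ B x) (h2 : (2 : F) ≠ 0) (c : F) (hc : σ c * c = -1)
    (u v : V) (hu : x u = c • u) (hv : x v = c • v) : B u v = 0 := by
  have h1 : B (x u) (x v) = B u v := h.pres u v
  rw [hu, hv, LinearMap.map_smulₛₗ₂, map_smul, smul_eq_mul, smul_eq_mul, ← mul_assoc, hc] at h1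
  have h3 : (2 : F) * B u v = 0 := by
    have : B u v + B u v = 0 := by
      nth_rewrite 1 [← h1]
      ring
    rw [two_mul]; exact this
  exact (mul_eq_zero.mp h3).resolve_left h2

/-- the core: an eigenvector `a ≠ 0` in `N` for an eigenvalue `c` with `σ c * c = -1` lies in an invariant hyperbolic plane of `N` -/
theorem s5954tplane_core {R : ℕ} {σ : F →+* F} {B : V →ₛₗ[σ] V →ₗ[F] F} {x : Module.End F V}
    (h : HCtx R σ B x) (h2 : (2 : F) ≠ 0) (c : F) (hsq : x * x = (c * c) • 1) (hc : σ c * c = -1)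
    (N : Submodule F V) (hN : SInv x N) (hNnd : HND B N) (a : V) (haN : a ∈ N) (ha0 : a ≠ 0)
    (hxa : x a = c • a) :
    ∃ U : Submodule F V, U ≤ N ∧ SInv x U ∧ HND B U ∧ finrank F U = 2 := by
  have hc0 : c ≠ 0 := by
    rintro rfl
    simp at hc
  -- a partner `b`
  obtain ⟨u, huN, hau⟩ : ∃ u ∈ N, B a u ≠ 0 := by
    by_contra hcon
    push_neg at hcon
    exact ha0 (hNnd a haN hcon)
  obtain ⟨u₁, b, hu₁N, hbN, hxu₁, hxb, hu⟩ := t_eig_split h2 c hc0 hsq N hN u huN
  have hxb' : x b = (-c) • b := by rw [hxb, neg_smul]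
  have hc' : σ (-c) * (-c) = -1 := by rw [map_neg, neg_mul_neg, hc]
  have hab : B a b ≠ 0 := by
    intro h0
    apply hau
    rw [hu, map_add, s5954tplane_ti h h2 c hc a u₁ hxa hxu₁, h0, add_zero]
  have haa : B a a = 0 := s5954tplane_ti h h2 c hc a a hxa hxa
  have hbb : B b b = 0 := s5954tplane_ti h h2 (-c) hc' b b hxb' hxb'
  have hba : B b a ≠ 0 := by
    rw [← h.symm a b]
    intro h0
    apply hab
    have := congrArg σ h0
    rwa [h.inv, map_zero] at this
  have hσinj : ∀ t : F, σ t = 0 → t = 0 := fun t ht => by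
    have := congrArg σ ht
    rwa [h.inv, map_zero] at this
  -- the key computation
  have key : ∀ s t : F, (B (s • a + t • b) a = 0) → (B (s • a + t • b) b = 0) → s = 0 ∧ t = 0 := by
    intro s t h1 h3
    rw [map_add, LinearMap.add_apply, LinearMap.map_smulₛₗ₂, LinearMap.map_smulₛₗ₂, haa, smul_zero, zero_add,
      smul_eq_mul] at h1
    rw [map_add, LinearMap.add_apply, LinearMap.map_smulₛₗ₂, LinearMap.map_smulₛₗ₂, hbb, smul_zero, add_zero,
      smul_eq_mul] at h3
    exact ⟨hσinj s ((mul_eq_zero.mp h3).resolve_right hab), hσinj t ((mul_eq_zero.mp h1).resolve_right hba)⟩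
  refine ⟨Submodule.span F {a, b}, ?_, ?_, ?_, ?_⟩
  · rw [Submodule.span_le]
    intro w hw
    rcases hw with rfl | rfl
    · exact haN
    · exact hbN
  · intro w hw
    obtain ⟨s, t, rfl⟩ := Submodule.mem_span_pair.mp hw
    rw [map_add, map_smul, map_smul, hxa, hxb']
    refine Submodule.mem_span_pair.mpr ⟨s * c, t * (-c), ?_⟩
    rw [mul_smul, mul_smul]
  · intro w hw hall
    obtain ⟨s, t, rfl⟩ := Submodule.mem_span_pair.mp hw
    have hamem : a ∈ Submodule.span F {a, b} := Submodule.subset_span (by simp)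
    have hbmem : b ∈ Submodule.span F {a, b} := Submodule.subset_span (by simp)
    obtain ⟨hs, ht⟩ := key s t (hall a hamem) (hall b hbmem)
    rw [hs, ht, zero_smul, zero_smul, add_zero]
  · have hli : LinearIndependent F ![a, b] := by
      rw [LinearIndependent.pair_iff]
      intro s t hst
      apply key s t
      · rw [hst, map_zero, LinearMap.zero_apply]
      · rw [hst, map_zero, LinearMap.zero_apply]
    have hr : Set.range ![a, b] = {a, b} := by
      simp [Matrix.range_cons, Set.pair_comm]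
    have := finrank_span_eq_card hli
    rw [hr] at this
    rw [this]
    simp

/-- TPLANE -/
theorem t_plane {R : ℕ} {σ : F →+* F} {B : V →ₛₗ[σ] V →ₗ[F] F} {x : Module.End F V}
    (h : HCtx R σ B x) (h2 : (2 : F) ≠ 0) (μ : F) (hsq : x * x = (μ * μ) • 1) (hμ : σ μ * μ = -1)
    (N : Submodule F V) (hN : SInv x N) (hNnd : HND B N) (hN0 : N ≠ ⊥) :
    ∃ U : Submodule F V, U ≤ N ∧ SInv x U ∧ HND B U ∧ finrank F U = 2 := by
  have hμ0 : μ ≠ 0 := by
    rintro rfl
    simp at hμ
  obtain ⟨v, hvN, hv0⟩ := Submodule.exists_mem_ne_zero_of_ne_bot hN0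
  obtain ⟨a, b, haN, hbN, hxa, hxb, hv⟩ := t_eig_split h2 μ hμ0 hsq N hN v hvN
  by_cases ha0 : a = 0
  · have hb0 : b ≠ 0 := by
      intro hb0
      apply hv0
      rw [hv, ha0, hb0, add_zero]
    have hxb' : x b = (-μ) • b := by rw [hxb, neg_smul]
    have hc' : σ (-μ) * (-μ) = -1 := by rw [map_neg, neg_mul_neg, hμ]
    have hsq' : x * x = ((-μ) * (-μ)) • 1 := by rw [neg_mul_neg]; exact hsq
    exact s5954tplane_core h h2 (-μ) hsq' hc' N hN hNnd b hbN hb0 hxb'
  · exact s5954tplane_core h h2 μ hsq hμ N hN hNnd a haN ha0 hxa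

end Cfsg.Agent.Lib.Helper19.S5954
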