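import Mathlib
import Cfsg.Agent.Lib.Helper19.S5954.Defs
import Cfsg.Agent.Lib.helper17.S5954TPLANE
import Cfsg.Agent.Lib.Helper10.S5954UPEEL
import Cfsg.Agent.Lib.Helper20.S5954USUPND

set_option autoImplicit false

/-!
# Project S5954, part T, rows TEVEN (`t_even_dims`) and TEVENONLY (`t_even_only`): case B (`σ μ * μ = -1`): the invariant
nondegenerate subspaces have exactly the even dimensions.
-/

namespace Cfsg.Agent.Lib.Helper19.S5954

open Polynomial Module Cfsg.Agent.Lib.Helper13.S5955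

variable {F : Type*} [Field F] {V : Type*} [AddCommGroup V] [Module F V]

/-- TEVENONLY -/
theorem t_even_only [FiniteDimensional F V] {R : ℕ} (hR : 0 < R) {σ : F →+* F} {B : V →ₛₗ[σ] V →ₗ[F] F} {x : Module.End F V}
    (h : HCtx R σ B x) (h2 : (2 : F) ≠ 0) (μ : F) (hsq : x * x = (μ * μ) • 1) (hμ : σ μ * μ = -1)
    (W : Submodule F V) (hW : SInv x W) (hWnd : HND B W) : Even (finrank F W) := by
  induction' hd : finrank F W using Nat.strong_induction_on with d ih generalizing W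
  by_cases hW0 : W = ⊥
  · subst hW0
    rw [← hd]
    simp
  · obtain ⟨U, hUW, hU, hUnd, hU2⟩ := t_plane h h2 μ hsq hμ W hW hWnd hW0
    obtain ⟨W', hW'W, hW', hW'nd, _, _, hdim⟩ := h_peel hR h W U hW hWnd hUW hU hUnd
    have h1 := ih (finrank F W') (by omega) W' hW' hW'nd rfl
    rw [← hd, ← hdim, hU2]
    exact h1.add even_two

/-- TEVEN -/
theorem t_even_dims [FiniteDimensional F V] {R : ℕ} (hR : 0 < R) {σ : F →+* F} {B : V →ₛₗ[σ] V →ₗ[F] F} {x : Module.End F V}
    (h : HCtx R σ B x) (h2 : (2 : F) ≠ 0) (μ : F) (hsq : x * x = (μ * μ) • 1) (hμ : σ μ * μ = -1)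
    (N : Submodule F V) (hN : SInv x N) (hNnd : HND B N) (k : ℕ) (hk : 2 * k ≤ finrank F N) :
    ∃ W : Submodule F V, W ≤ N ∧ SInv x W ∧ HND B W ∧ finrank F W = 2 * k := by
  induction k with
  | zero =>
    refine ⟨⊥, bot_le, ?_, ?_, by simp⟩
    · intro w hw
      rw [Submodule.mem_bot] at hw
      rw [hw, map_zero]
      exact Submodule.zero_mem _
    · intro u hu _
      exact (Submodule.mem_bot F).mp hu
  | succ k ih =>
    obtain ⟨W, hWN, hW, hWnd, hWk⟩ := ih (by omega)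
    obtain ⟨N', hN'N, hN', hN'nd, horth, _, hdim⟩ := h_peel hR h N W hN hNnd hWN hW hWnd
    have hN'0 : N' ≠ ⊥ := by
      rintro rfl
      rw [finrank_bot] at hdim
      omega
    obtain ⟨U, hUN', hU, hUnd, hU2⟩ := t_plane h h2 μ hsq hμ N' hN' hN'nd hN'0
    have horth' : HOrth B W U := fun u hu w hw => horth u hu w (hUN' hw)
    obtain ⟨h1, h3, h4⟩ := h_sup_nd h W U hW hU hWnd hUnd horth'
    refine ⟨W ⊔ U, sup_le hWN (hUN'.trans hN'N), h1, h3, ?_⟩
    rw [h4, hWk, hU2]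
    ring

end Cfsg.Agent.Lib.Helper19.S5954
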