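import Mathlib
import Cfsg.Agent.Lib.Helper19.S5954.Defs
import Cfsg.Agent.Lib.helper17.S5954TPLANE

set_option autoImplicit false

/-!
# Project S5954, part T, rows TEIGTI (`t_eig_ti`) and TEIGORTH (`t_eig_orth`).
-/

namespace Cfsg.Agent.Lib.Helper19.S5954

open Polynomial Module Cfsg.Agent.Lib.Helper13.S5955

variable {F : Type*} [Field F] {V : Type*} [AddCommGroup V] [Module F V]

/-- TEIGTI -/
theorem t_eig_ti {R : ℕ} {σ : F →+* F} {B : V →ₛₗ[σ] V →ₗ[F] F} {x : Module.End F V}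
    (h : HCtx R σ B x) (h2 : (2 : F) ≠ 0) (μ : F) (hμ : σ μ * μ = -1) (c : F) (hc : c = μ ∨ c = -μ)
    (u v : V) (hu : x u = c • u) (hv : x v = c • v) : B u v = 0 := by
  have hc' : σ c * c = -1 := by
    rcases hc with rfl | rfl
    · exact hμ
    · rw [map_neg, neg_mul_neg, hμ]
  exact s5954tplane_ti h h2 c hc' u v hu hv

/-- TEIGORTH -/
theorem t_eig_orth {R : ℕ} {σ : F →+* F} {B : V →ₛₗ[σ] V →ₗ[F] F} {x : Module.End F V}
    (h : HCtx R σ B x) (h2 : (2 : F) ≠ 0) (w : F) (hw : σ w * w = 1)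
    (u v : V) (hu : x u = w • u) (hv : x v = -(w • v)) : B u v = 0 ∧ B v u = 0 := by
  have h1 : B (x u) (x v) = B u v := h.pres u v
  rw [hu, hv, LinearMap.map_smulₛₗ₂, map_neg, map_smul, smul_eq_mul, smul_eq_mul] at h1
  have h3 : (2 : F) * B u v = 0 := by
    have h4 : B u v + B u v = 0 := by
      nth_rewrite 1 [← h1]
      have : σ w * -(w * B u v) = -((σ w * w) * B u v) := by ring
      rw [this, hw]
      ring
    rw [two_mul]; exact h4
  have h5 : B u v = 0 := (mul_eq_zero.mp h3).resolve_left h2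
  refine ⟨h5, ?_⟩
  rw [← h.symm u v, h5, map_zero]

end Cfsg.Agent.Lib.Helper19.S5954
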