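import Mathlib
import Cfsg.Agent.Lib.Helper19.S5954.Defs
import Cfsg.Agent.Lib.helper17.S5954TEIGTI
import Cfsg.Agent.Lib.helper8.S5954UANISO
import Cfsg.Agent.Lib.Helper10.S5954UPEEL
import Cfsg.Agent.Lib.Helper20.S5954USUPND

set_option autoImplicit false

/-!
# Project S5954, part T, rows TLINE (`t_line`) and TALL (`t_all_dims`): case A (`σ w * w = 1`): invariant nondegenerate
subspaces of every dimension.
-/

namespace Cfsg.Agent.Lib.Helper19.S5954

open Polynomial Module Cfsg.Agent.Lib.Helper13.S5955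

variable {F : Type*} [Field F] {V : Type*} [AddCommGroup V] [Module F V]

/-- a nonzero nondegenerate subspace has a non-isotropic vector (`h_aniso` for `x = 1`, `s = 1`) -/
theorem s5954tline_aniso {R : ℕ} {σ : F →+* F} {B : V →ₛₗ[σ] V →ₗ[F] F} {x : Module.End F V}
    (h : HCtx R σ B x) (N : Submodule F V) (hNnd : HND B N) (hN0 : N ≠ ⊥) :
    ∃ v ∈ N, B v v ≠ 0 := by
  have h1 : HCtx 1 σ B (1 : Module.End F V) :=
    ⟨h.inv, h.ne, h.symm, h.nd, fun u v => rfl, pow_one 1⟩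
  obtain ⟨v₀, hv₀N, hv₀⟩ := Submodule.exists_mem_ne_zero_of_ne_bot hN0
  obtain ⟨v, hvN, hv⟩ := h_aniso (r := 1) one_pos h1 N (fun w hw => hw) hNnd 1 le_rfl
    (fun v _ => by simp) ⟨v₀, hv₀N, by simpa using hv₀⟩
  exact ⟨v, hvN, by simpa using hv⟩

/-- the span of a non-isotropic eigenvector is an invariant nondegenerate line -/
theorem s5954tline_span {σ : F →+* F} {B : V →ₛₗ[σ] V →ₗ[F] F} {x : Module.End F V}
    (hinv : ∀ a, σ (σ a) = a) (N : Submodule F V) (v : V) (hvN : v ∈ N) (c : F) (hxv : x v = c • v)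
    (hvv : B v v ≠ 0) :
    ∃ U : Submodule F V, U ≤ N ∧ SInv x U ∧ HND B U ∧ finrank F U = 1 := by
  have hv0 : v ≠ 0 := by
    rintro rfl
    simp at hvv
  refine ⟨Submodule.span F {v}, ?_, ?_, ?_, finrank_span_singleton hv0⟩
  · rw [Submodule.span_le]
    intro u hu
    rw [Set.mem_singleton_iff] at hu
    rw [hu]; exact hvN
  · intro u hu
    obtain ⟨s, rfl⟩ := Submodule.mem_span_singleton.mp hu
    rw [map_smul, hxv]
    exact Submodule.smul_mem _ _ (Submodule.smul_mem _ _ (Submodule.mem_span_singleton_self v))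
  · intro u hu hall
    obtain ⟨s, rfl⟩ := Submodule.mem_span_singleton.mp hu
    have h1 := hall v (Submodule.mem_span_singleton_self v)
    rw [LinearMap.map_smulₛₗ₂, smul_eq_mul] at h1
    have h3 : σ s = 0 := (mul_eq_zero.mp h1).resolve_right hvv
    have h4 : s = 0 := by
      have := congrArg σ h3
      rwa [hinv, map_zero] at this
    rw [h4, zero_smul]

/-- TLINE -/
theorem t_line {R : ℕ} {σ : F →+* F} {B : V →ₛₗ[σ] V →ₗ[F] F} {x : Module.End F V}
    (h : HCtx R σ B x) (h2 : (2 : F) ≠ 0) (w : F) (hsq : x * x = (w * w) • 1) (hw : σ w * w = 1)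
    (N : Submodule F V) (hN : SInv x N) (hNnd : HND B N) (hN0 : N ≠ ⊥) :
    ∃ U : Submodule F V, U ≤ N ∧ SInv x U ∧ HND B U ∧ finrank F U = 1 := by
  have hw0 : w ≠ 0 := by
    rintro rfl
    simp at hw
  obtain ⟨v, hvN, hvv⟩ := s5954tline_aniso h N hNnd hN0
  obtain ⟨a, b, haN, hbN, hxa, hxb, hv⟩ := t_eig_split h2 w hw0 hsq N hN v hvN
  obtain ⟨hab, hba⟩ := t_eig_orth h h2 w hw a b hxa hxb
  have hsum : B v v = B a a + B b b := by
    rw [hv, map_add (B (a + b)), map_add B, LinearMap.add_apply, LinearMap.add_apply, hab, hba]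
    ring
  by_cases haa : B a a = 0
  · have hbb : B b b ≠ 0 := by
      intro hbb
      apply hvv
      rw [hsum, haa, hbb, add_zero]
    have hxb' : x b = (-w) • b := by rw [hxb, neg_smul]
    exact s5954tline_span h.inv N b hbN (-w) hxb' hbb
  · exact s5954tline_span h.inv N a haN w hxa haa

/-- TALL -/
theorem t_all_dims [FiniteDimensional F V] {R : ℕ} (hR : 0 < R) {σ : F →+* F} {B : V →ₛₗ[σ] V →ₗ[F] F} {x : Module.End F V}
    (h : HCtx R σ B x) (h2 : (2 : F) ≠ 0) (w : F) (hsq : x * x = (w * w) • 1) (hw : σ w * w = 1)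
    (N : Submodule F V) (hN : SInv x N) (hNnd : HND B N) (k : ℕ) (hk : k ≤ finrank F N) :
    ∃ W : Submodule F V, W ≤ N ∧ SInv x W ∧ HND B W ∧ finrank F W = k := by
  induction k with
  | zero =>
    refine ⟨⊥, bot_le, ?_, ?_, by simp⟩
    · intro u hu
      rw [Submodule.mem_bot] at hu
      rw [hu, map_zero]
      exact Submodule.zero_mem _
    · intro u hu _
      exact (Submodule.mem_bot F).mp hu
  | succ k ih =>
    obtain ⟨W, hWN, hW, hWnd, hWk⟩ := ih (by omega)
    obtain ⟨N', hN'N, hN', hN'nd, horth, _, hdim⟩ := h_peel hR h N W hN hNnd hWN hW hWnd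
    have hN'0 : N' ≠ ⊥ := by
      rintro rfl
      rw [finrank_bot] at hdim
      omega
    obtain ⟨U, hUN', hU, hUnd, hU1⟩ := t_line h h2 w hsq hw N' hN' hN'nd hN'0
    have horth' : HOrth B W U := fun u hu v hv => horth u hu v (hUN' hv)
    obtain ⟨h1, h3, h4⟩ := h_sup_nd h W U hW hU hWnd hUnd horth'
    refine ⟨W ⊔ U, sup_le hWN (hUN'.trans hN'N), h1, h3, ?_⟩
    rw [h4, hWk, hU1]

end Cfsg.Agent.Lib.Helper19.S5954
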