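import Mathlib
import Cfsg.Prelude.Def_Classical
import Cfsg.Agent.Lib.Helper1.S8U.Defs
import Cfsg.Agent.Lib.helper14.OrthInv2

set_option autoImplicit false

/-!
# Project S8U, row ORINV (helper17): an involution of a 2-dimensional space has `rank (g - 1) = 1` (characteristic 2).
-/

namespace Cfsg.Agent.Lib.Helper1.S8U

open Matrix Module Polynomial Cfsg.Agent.Lib.Helper16 Cfsg.Agent.Lib.Helper13.OTS Cfsg.Agent.Lib.Helper19.SO8
  Cfsg.Agent.Lib.helper14.OrthInv

/-- ORINV [M] -/
theorem or_inv {F : Type*} [Field F] [Fintype F] [CharP F 2] (s : ℤ) (h : OReal F 1 s 2) :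
    OR F 1 s 2 1 False := by
  obtain ⟨ι, i1, i2, Qs, hs, g, hg⟩ := h
  refine ⟨ι, i1, i2, Qs, hs, g, hg, ?_, fun hf => hf.elim⟩
  have hcard : Fintype.card ι = 2 := by rw [hs.card]
  have hsq : mat g * mat g = 1 := mat_sq g hg
  have hne : mat g - 1 ≠ 0 := by
    intro e
    apply ne_one_of_order g hg
    apply mat_injective
    rw [mat_one]
    exact sub_eq_zero.mp e
  have h2 : (2 : F) = 0 := by
    have : ((2 : ℕ) : F) = 0 := CharP.cast_eq_zero F 2
    exact_mod_cast this
  have hdbl : ∀ M : Matrix ι ι F, M + M = 0 := by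
    intro M
    rw [← two_smul F M, h2, zero_smul]
  have hMM : (mat g - 1) * (mat g - 1) = 0 := by
    have : (mat g - 1) * (mat g - 1) = mat g * mat g - (mat g + mat g) + 1 := by noncomm_ring
    rw [this, hsq, hdbl, sub_zero, hdbl]
  have hle := Matrix.rank_add_rank_le_card_of_mul_eq_zero hMM
  rw [hcard] at hle
  have hpos := rank_pos_of_ne_zero (mat g - 1) hne
  show (mat g - 1).rank % 2 = 1
  omega

end Cfsg.Agent.Lib.Helper1.S8U
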