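import Mathlib
import Cfsg.Prelude.Def_Classical
import Cfsg.Agent.Lib.Helper19.SO8.Defs
import Cfsg.Agent.Lib.Helper26.SO8C5

set_option autoImplicit false

/-!
# Project SO8, row PEELP (helper17): peeling a pair `f`, `f.reverse` of non-associated irreducible factors off a
self-reciprocal polynomial.
-/

namespace Cfsg.Agent.Lib.Helper19.SO8

open Polynomial Cfsg.Agent.Lib.Helper13.OTS

/-- `reverse` commutes with powers over a domain -/
theorem so8peelp_reverse_pow {F : Type*} [Field F] (f : F[X]) (n : ℕ) :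
    (f ^ n).reverse = f.reverse ^ n := by
  induction n with
  | zero => rw [pow_zero, pow_zero, ← C_1, reverse_C]
  | succ n ih => rw [pow_succ, reverse_mul_of_domain, ih, pow_succ]

/-- PEELP [M-L] -/
theorem peel_pair {F : Type*} [Field F] (χ f : F[X]) (hχ : χ ≠ 0) (h0 : χ.coeff 0 ≠ 0) (hr : χ.reverse = χ)
    (hf : Irreducible f) (hfr : ¬ Associated f.reverse f) (hdvd : f ∣ χ) :
    ∃ (j : ℕ) (g : F[X]), 1 ≤ j ∧ χ = (f * f.reverse) ^ j * g ∧ IsCoprime (f * f.reverse) g ∧
      g.reverse = g ∧ IsCoprime f f.reverse := by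
  -- the constant coefficient of `f`
  have hf0 : f.coeff 0 ≠ 0 := by
    obtain ⟨c, hc⟩ := hdvd
    intro h
    apply h0
    rw [hc, mul_coeff_zero, h, zero_mul]
  obtain ⟨hrr, hf'⟩ := reverse_irreducible f hf hf0
  -- coprimality of `f` and `f.reverse`
  have hcop : IsCoprime f f.reverse := by
    rw [hf.coprime_iff_not_dvd]
    intro h
    exact hfr (hf.associated_of_dvd hf' h).symm
  -- maximal power of `f`
  obtain ⟨j, g₁, hng₁, hχ₁⟩ := WfDvdMonoid.max_power_factor hχ hf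
  have hj : 1 ≤ j := by
    rcases Nat.eq_zero_or_pos j with h | h
    · exfalso
      rw [h, pow_zero, one_mul] at hχ₁
      exact hng₁ (hχ₁ ▸ hdvd)
    · exact h
  -- reverse the factorisation
  have hχ₂ : χ = f.reverse ^ j * g₁.reverse := by
    conv_lhs => rw [← hr, hχ₁, reverse_mul_of_domain, so8peelp_reverse_pow]
  have hdvd₂ : f.reverse ^ j ∣ g₁ := by
    have h1 : f.reverse ^ j ∣ f ^ j * g₁ := ⟨g₁.reverse, by rw [← hχ₁, hχ₂]⟩
    exact (hcop.symm.pow (m := j) (n := j)).dvd_of_dvd_mul_left h1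
  obtain ⟨g, hg⟩ := hdvd₂
  have hχ₃ : χ = (f * f.reverse) ^ j * g := by
    rw [hχ₁, hg, mul_pow, mul_assoc]
  have hnf : ¬ f ∣ g := by
    intro h
    apply hng₁
    rw [hg]
    exact Dvd.dvd.mul_left h _
  have hfj0 : f ^ j ≠ 0 := pow_ne_zero _ hf.ne_zero
  have hnf' : ¬ f.reverse ∣ g := by
    rintro ⟨h, hh⟩
    apply hng₁
    -- χ = f^j * f'^(j+1) * h, reversed: χ = f'^j * f^(j+1) * h.reverse
    have h1 : χ = f ^ j * (f.reverse ^ (j + 1) * h) := by
      rw [hχ₁, hg, hh, pow_succ, mul_assoc]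
    have h2 : χ = f ^ j * (f * (f.reverse ^ j * h.reverse)) := by
      conv_lhs => rw [← hr, h1, reverse_mul_of_domain, reverse_mul_of_domain, so8peelp_reverse_pow,
        so8peelp_reverse_pow, hrr, pow_succ]
      ring
    have h3 : g₁ = f * (f.reverse ^ j * h.reverse) := by
      apply mul_left_cancel₀ hfj0
      rw [← hχ₁, h2]
    rw [h3]
    exact dvd_mul_right _ _
  have hcop₂ : IsCoprime (f * f.reverse) g :=
    IsCoprime.mul_left (hf.coprime_iff_not_dvd.2 hnf) (hf'.coprime_iff_not_dvd.2 hnf')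
  have hgr : g.reverse = g := by
    have hP0 : (f * f.reverse) ^ j ≠ 0 := pow_ne_zero _ (mul_ne_zero hf.ne_zero hf'.ne_zero)
    apply mul_left_cancel₀ hP0
    rw [← hχ₃]
    conv_rhs => rw [← hr, hχ₃, reverse_mul_of_domain, so8peelp_reverse_pow, reverse_mul_of_domain, hrr,
      mul_comm f.reverse f]
  exact ⟨j, g, hj, hχ₃, hcop₂, hgr, hcop⟩

end Cfsg.Agent.Lib.Helper19.SO8
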