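import Mathlib
import Cfsg.Prelude.Def_Classical
import Cfsg.Agent.Lib.Helper1.S8U.Defs

set_option autoImplicit false

/-!
# Project S8U, row MUP (helper17): the multiplicity of the root `1` of a divisor of `(X^m - 1)^(2^t)` in characteristic 2.
-/

namespace Cfsg.Agent.Lib.Helper1.S8U

open Matrix Module Polynomial Cfsg.Agent.Lib.Helper16 Cfsg.Agent.Lib.Helper13.OTS Cfsg.Agent.Lib.Helper19.SO8
  Cfsg.Agent.Lib.helper14.OrthInv

/-- an odd natural number is `1` in characteristic 2 -/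
theorem s8umup_odd_cast {F : Type*} [Field F] [CharP F 2] (m : ℕ) (hm : Odd m) : (m : F) = 1 := by
  obtain ⟨k, rfl⟩ := hm
  have h2 : ((2 : ℕ) : F) = 0 := CharP.cast_eq_zero F 2
  push_cast at h2 ⊢
  rw [h2, zero_mul, zero_add]

/-- `(X^m' - 1)^(2^T)` has the root `1` with multiplicity exactly `2^T` when `m'` is odd -/
theorem s8umup_mult {F : Type*} [Field F] [CharP F 2] (m' T : ℕ) (hm' : Odd m') :
    ((X ^ m' - 1 : F[X]) ^ (2 ^ T)) ≠ 0 ∧
      ((X ^ m' - 1 : F[X]) ^ (2 ^ T)).rootMultiplicity 1 = 2 ^ T := by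
  set h : F[X] := ∑ i ∈ Finset.range m', X ^ i with hh
  have hfac : (X ^ m' - 1 : F[X]) = h * (X - C 1) := by
    rw [hh, C_1, geom_sum_mul]
  have heval : h.eval 1 = 1 := by
    rw [hh, eval_geom_sum]
    simp only [one_pow, Finset.sum_const, Finset.card_range, nsmul_eq_mul, mul_one]
    exact s8umup_odd_cast m' hm'
  have hh0 : h ≠ 0 := by
    intro e
    rw [e, eval_zero] at heval
    exact zero_ne_one heval
  have hpow0 : h ^ (2 ^ T) ≠ 0 := pow_ne_zero _ hh0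
  have hnr : ¬ IsRoot (h ^ (2 ^ T)) 1 := by
    intro hr
    rw [IsRoot.def, eval_pow, heval, one_pow] at hr
    exact one_ne_zero hr
  have hX : (X - C (1 : F)) ≠ 0 := X_sub_C_ne_zero 1
  refine ⟨?_, ?_⟩
  · rw [hfac, mul_pow]
    exact mul_ne_zero hpow0 (pow_ne_zero _ hX)
  · rw [hfac, mul_pow, rootMultiplicity_mul_X_sub_C_pow hpow0, rootMultiplicity_eq_zero hnr, zero_add]

/-- MUP [M] -/
theorem mult_upper {F : Type*} [Field F] [CharP F 2] (χ : F[X]) (m t : ℕ) (hm : m ≠ 0)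
    (h : χ ∣ (X ^ m - 1 : F[X]) ^ (2 ^ t)) :
    ∃ m' T : ℕ, Odd m' ∧ m * 2 ^ t = m' * 2 ^ T ∧ χ.rootMultiplicity 1 ≤ 2 ^ T := by
  obtain ⟨j, m', hm', rfl⟩ := Nat.exists_eq_two_pow_mul_odd hm
  haveI : Fact (Nat.Prime 2) := ⟨Nat.prime_two⟩
  refine ⟨m', j + t, hm', by rw [pow_add]; ring, ?_⟩
  have e1 : (X ^ (2 ^ j * m') - 1 : F[X]) = (X ^ m' - 1) ^ (2 ^ j) := by
    rw [sub_pow_char_pow, one_pow, ← pow_mul, mul_comm]
  have e2 : ((X ^ (2 ^ j * m') - 1 : F[X])) ^ (2 ^ t) = (X ^ m' - 1) ^ (2 ^ (j + t)) := by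
    rw [e1, ← pow_mul, ← pow_add]
  rw [e2] at h
  obtain ⟨h0, hmul⟩ := s8umup_mult (F := F) m' (j + t) hm'
  calc χ.rootMultiplicity 1 ≤ ((X ^ m' - 1 : F[X]) ^ (2 ^ (j + t))).rootMultiplicity 1 :=
        rootMultiplicity_le_rootMultiplicity_of_dvd h0 h 1
    _ = 2 ^ (j + t) := hmul

end Cfsg.Agent.Lib.Helper1.S8U
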