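import Mathlib
import Cfsg.Prelude.Def_Characters
import Cfsg.Agent.Lib.helper7.BD.D1Defs
import Cfsg.Agent.Lib.helper7.PM2.Defs
import Cfsg.Agent.Lib.helper7.PM2.FrontDefs
import Cfsg.Agent.Lib.helper23.PSLZCHI

/-!
# Project PM2 (S4705), piece BAS2G : a faithful irreducible character has full norm only on the centre.
-/

set_option autoImplicit false
set_option linter.unusedVariables false
set_option linter.unusedSectionVars false

namespace Cfsg.Agent.Lib.helper7.PM2

open Cfsg.Agent.Lib.helper7.BD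
open scoped ComplexConjugate

universe u

section generic2

variable {G : Type u} [Group G] [Fintype G]

/-- BAS2G : a faithful irreducible character has full norm only on the centre -/
theorem central_of_norm_eq {ζ : G → ℂ} (hζ : Cfsg.IsIrrCharacter G ζ) (hfaith : ∀ g : G, ζ g = ζ 1 → g = 1)
    (g : G) (h : ‖ζ g‖ = ‖ζ 1‖) : g ∈ Subgroup.center G := by
  apply Cfsg.Agent.Lib.helper15.PSL.center_of_norm_eq (⟨ζ, hζ⟩ : Cfsg.IrrCharacter G) hfaith g
  show ζ g * conj (ζ g) = ζ 1 * ζ 1
  obtain ⟨n, ρ, -, hχ⟩ := hζ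
  have h1 : ζ 1 = (Module.finrank ℂ (Fin n → ℂ) : ℂ) := by
    rw [← hχ, Representation.char_one]
  rw [Complex.mul_conj, Complex.normSq_eq_norm_sq, h, h1]
  have : ‖((Module.finrank ℂ (Fin n → ℂ) : ℕ) : ℂ)‖ = ((Module.finrank ℂ (Fin n → ℂ) : ℕ) : ℝ) :=
    Complex.norm_natCast _
  rw [this]
  push_cast
  ring

end generic2

end Cfsg.Agent.Lib.helper7.PM2
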