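import Mathlib
import Cfsg.Prelude.Def_Characters
import Cfsg.Agent.Lib.helper7.BD.D1Defs
import Cfsg.Agent.Lib.helper7.PM2.Defs
import Cfsg.Agent.Lib.helper7.PM2.FrontDefs

/-!
# Project PM2 (S4705), piece TW3 : the Sylow subgroup of the quotient by a central subgroup.
-/

set_option autoImplicit false
set_option linter.unusedVariables false
set_option linter.unusedSectionVars false

namespace Cfsg.Agent.Lib.helper7.PM2

open Cfsg.Agent.Lib.helper7.BD
open scoped ComplexConjugate Pointwise

universe u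

section twist

variable {G : Type u} [Group G] [Finite G]

/-- a central subgroup is normal -/
theorem pm2tw3_normal_of_le_center (H : Subgroup G) (hH : H ≤ Subgroup.center G) : H.Normal := by
  constructor
  intro n hn g
  have := Subgroup.mem_center_iff.mp (hH hn) g
  rw [this, mul_inv_cancel_right]
  exact hn

/-- a Sylow subgroup of prime order which is not normal meets a central subgroup trivially -/
theorem pm2tw3_not_le (p : ℕ) [Fact p.Prime] (P : Sylow p G)
    (hnn : ¬ (P : Subgroup G).Normal) (L : Subgroup G) (hL : L ≤ Subgroup.center G) :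
    ¬ ((P : Subgroup G) ≤ L) := fun h =>
  hnn (pm2tw3_normal_of_le_center _ (le_trans h hL))

/-- every element of a subgroup of prime order is a power of a nontrivial one -/
theorem pm2tw3_le_of_mem (p : ℕ) [hp : Fact p.Prime] (P : Subgroup G) (hP : Nat.card P = p)
    (l : G) (hl : l ∈ P) (hl1 : l ≠ 1) (L : Subgroup G) (hlL : l ∈ L) : P ≤ L := by
  have htop : Subgroup.zpowers (⟨l, hl⟩ : P) = ⊤ := by
    apply zpowers_eq_top_of_prime_card hP
    intro h
    exact hl1 (congrArg Subtype.val h)
  intro x hx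
  have : (⟨x, hx⟩ : P) ∈ Subgroup.zpowers (⟨l, hl⟩ : P) := by rw [htop]; trivial
  obtain ⟨k, hk⟩ := Subgroup.mem_zpowers_iff.mp this
  have hk' : l ^ k = x := by
    have := congrArg Subtype.val hk
    simpa using this
  rw [← hk']
  exact Subgroup.zpow_mem _ hlL k

/-- the central subgroup has no element of order `p` -/
theorem pm2tw3_coprime (p : ℕ) [hp : Fact p.Prime] (P : Sylow p G) (hP : Nat.card P = p)
    (hnn : ¬ (P : Subgroup G).Normal) (L : Subgroup G) (hL : L ≤ Subgroup.center G)
    (l : G) (hlL : l ∈ L) (hlp : l ^ p = 1) : l = 1 := by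
  by_contra hl1
  have hord : orderOf l = p := orderOf_eq_prime hlp hl1
  have hpg : IsPGroup p (Subgroup.zpowers l) := by
    apply IsPGroup.of_card (n := 1)
    rw [Nat.card_zpowers, hord, pow_one]
  obtain ⟨P', hP'⟩ := hpg.exists_le_sylow
  obtain ⟨g, hg⟩ := MulAction.exists_smul_eq G P' P
  have hlP' : l ∈ (P' : Subgroup G) := hP' (Subgroup.mem_zpowers l)
  have hlP : l ∈ (P : Subgroup G) := by
    have h2 : MulAut.conj g • l ∈ MulAut.conj g • (P' : Subgroup G) :=
      Subgroup.smul_mem_pointwise_smul l (MulAut.conj g) _ hlP'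
    have hc : MulAut.conj g • l = l := by
      rw [MulAut.smul_def, MulAut.conj_apply]
      have := Subgroup.mem_center_iff.mp (hL hlL) g
      rw [this, mul_inv_cancel_right]
    rw [hc] at h2
    rw [← hg, Sylow.coe_subgroup_smul]
    exact h2
  exact pm2tw3_not_le p P hnn L hL (pm2tw3_le_of_mem p (P : Subgroup G) hP l hlP hl1 L hlL)

/-- TW3 : the Sylow subgroup of the quotient by a central subgroup -/
theorem twist_sylow (p : ℕ) [Fact p.Prime] (P : Sylow p G) (hP : Nat.card P = p)
    (hnn : ¬ (P : Subgroup G).Normal) (L : Subgroup G) [L.Normal] (hL : L ≤ Subgroup.center G) :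
    ∃ Q : Sylow p (G ⧸ L), Nat.card Q = p ∧ ¬ (Q : Subgroup (G ⧸ L)).Normal := by
  classical
  have hp : p.Prime := Fact.out
  set π := QuotientGroup.mk' L with hπ
  have hQ₀ : IsPGroup p ((P : Subgroup G).map π) := P.isPGroup'.map π
  obtain ⟨Q, hQ⟩ := hQ₀.exists_le_sylow
  -- an element of `P` outside `L`
  have hnle := pm2tw3_not_le p P hnn L hL
  obtain ⟨x, hxP, hxL⟩ := SetLike.not_le_iff_exists.mp hnle
  have hπx : π x ∈ (Q : Subgroup (G ⧸ L)) := hQ ⟨x, hxP, rfl⟩
  have hπx1 : π x ≠ 1 := by
    intro h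
    exact hxL ((QuotientGroup.eq_one_iff x).mp h)
  -- the order of `Q`
  obtain ⟨n, hn⟩ := IsPGroup.iff_card.mp Q.isPGroup'
  have hdvd : Nat.card Q ∣ Nat.card G := by
    have h1 : Nat.card Q ∣ Nat.card (G ⧸ L) := Subgroup.card_subgroup_dvd_card _
    have h2 : Nat.card (G ⧸ L) ∣ Nat.card G := by
      rw [Subgroup.card_eq_card_quotient_mul_card_subgroup L]
      exact dvd_mul_right _ _
    exact dvd_trans h1 h2
  have hPcard : Nat.card P = p ^ (Nat.card G).factorization p := P.card_eq_multiplicity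
  have hfac : (Nat.card G).factorization p = 1 := by
    rw [hP] at hPcard
    have := Nat.pow_right_injective hp.two_le (show p ^ 1 = p ^ (Nat.card G).factorization p by
      rw [pow_one]; exact hPcard)
    exact this.symm
  have hn1 : n ≤ 1 := by
    rw [hn] at hdvd
    have hG0 : Nat.card G ≠ 0 := Nat.card_pos.ne'
    have := (hp.pow_dvd_iff_le_factorization hG0).mp hdvd
    rw [hfac] at this
    exact this
  have hn0 : n ≠ 0 := by
    intro h0
    rw [h0, pow_zero] at hn
    have hsub : Subsingleton (Q : Subgroup (G ⧸ L)) := (Nat.card_eq_one_iff_unique.mp hn).1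
    have := congrArg Subtype.val (Subsingleton.elim (⟨π x, hπx⟩ : (Q : Subgroup (G ⧸ L))) 1)
    exact hπx1 this
  have hn' : n = 1 := by omega
  have hQcard : Nat.card Q = p := by rw [hn, hn', pow_one]
  refine ⟨Q, hQcard, ?_⟩
  intro hQn
  apply hnn
  -- every element of `Q` is the image of an element of `P`
  have hQle : (Q : Subgroup (G ⧸ L)) ≤ (P : Subgroup G).map π := by
    have h := pm2tw3_le_of_mem p (Q : Subgroup (G ⧸ L)) hQcard (π x) hπx hπx1
      ((P : Subgroup G).map π) ⟨x, hxP, rfl⟩
    exact h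
  constructor
  intro y hy g
  have h1 : π (g * y * g⁻¹) ∈ (Q : Subgroup (G ⧸ L)) := by
    rw [map_mul, map_mul, map_inv]
    exact hQn.conj_mem _ (hQ ⟨y, hy, rfl⟩) _
  obtain ⟨x', hx'P, hx'⟩ := hQle h1
  -- `g y g⁻¹ = x' l` with `l ∈ L`
  have hl : x'⁻¹ * (g * y * g⁻¹) ∈ L := by
    rw [← QuotientGroup.eq_one_iff]
    show π (x'⁻¹ * (g * y * g⁻¹)) = 1
    rw [map_mul, map_inv, hx', inv_mul_cancel]
  set l := x'⁻¹ * (g * y * g⁻¹) with hldef
  have hx'p : x' ^ p = 1 := by
    have : (⟨x', hx'P⟩ : (P : Subgroup G)) ^ Nat.card P = 1 := pow_card_eq_one'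
    rw [hP] at this
    have := congrArg Subtype.val this
    simpa using this
  have hyp : y ^ p = 1 := by
    have : (⟨y, hy⟩ : (P : Subgroup G)) ^ Nat.card P = 1 := pow_card_eq_one'
    rw [hP] at this
    have := congrArg Subtype.val this
    simpa using this
  have hcomm : Commute x' l := by
    have := Subgroup.mem_center_iff.mp (hL hl) x'
    exact this
  have hprod : x' * l = g * y * g⁻¹ := by rw [hldef, mul_inv_cancel_left]
  have hlp : l ^ p = 1 := by
    have h2 : (x' * l) ^ p = 1 := by
      rw [hprod, conj_pow, hyp, mul_one, mul_inv_cancel]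
    rw [hcomm.mul_pow, hx'p, one_mul] at h2
    exact h2
  have hl1 := pm2tw3_coprime p P hP hnn L hL l hl hlp
  rw [← hprod, hl1, mul_one]
  exact hx'P

end twist

end Cfsg.Agent.Lib.helper7.PM2
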