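import Mathlib
import Cfsg.Prelude.Def_Characters
import Cfsg.Agent.Lib.helper7.BD.D1Defs
import Cfsg.Agent.Lib.helper7.PM2.Defs
import Cfsg.Agent.Lib.helper7.PM2.FrontDefs
import Cfsg.Agent.Lib.helper2.CharNat

/-!
# Project PM2 (S4705), piece PROJP : the `μ`-eigenpart of a character with respect to a central element `y`,
`y ^ p = 1` (pattern of `helper23/PM2PROJ.lean`, which is the case `p = 2`).
-/

set_option autoImplicit false
set_option linter.unusedVariables false
set_option linter.unusedSectionVars false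

namespace Cfsg.Agent.Lib.helper7.PM2

open Cfsg.Agent.Lib.helper7.BD
open scoped ComplexConjugate

universe u

section generic2

variable {G : Type u} [Group G] [Fintype G]

/-- shifting a sum over `range p` when the summand has period `p` -/
theorem pm2projp_sum_shift {A : Type*} [AddCommGroup A] (f : ℕ → A) (p : ℕ) (h : f p = f 0) :
    ∑ m ∈ Finset.range p, f (m + 1) = ∑ m ∈ Finset.range p, f m := by
  have h1 := Finset.sum_range_succ f p
  have h2 := Finset.sum_range_succ' f p
  rw [h1, h] at h2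
  exact (add_right_cancel h2).symm

/-- PROJP : the `μ`-eigenpart of a character with respect to a central element `y`, `y ^ p = 1` -/
theorem proj_central_pow {χ : G → ℂ} (hχ : Cfsg.IsCharacter G χ) (y : G) (hy : y ∈ Subgroup.center G)
    (p : ℕ) (hp : 0 < p) (hyp : y ^ p = 1) (μ : ℂ) (hμ : μ ^ p = 1) :
    Cfsg.IsCharacter G (fun g => (p : ℂ)⁻¹ * ∑ m ∈ Finset.range p, μ⁻¹ ^ m * χ (y ^ m * g)) := by
  classical
  obtain ⟨n, ρ, rfl⟩ := hχ
  have hμ0 : μ ≠ 0 := by
    intro h
    rw [h, zero_pow hp.ne'] at hμ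
    exact zero_ne_one hμ
  have hp0 : (p : ℂ) ≠ 0 := by exact_mod_cast hp.ne'
  set M : G → Matrix (Fin n) (Fin n) ℂ := fun g => LinearMap.toMatrix' (ρ g) with hM
  have hM1 : M 1 = 1 := by
    simp only [hM, map_one]
    exact LinearMap.toMatrix'_one
  have hMmul : ∀ g h : G, M (g * h) = M g * M h := by
    intro g h
    simp only [hM, map_mul]
    exact LinearMap.toMatrix'_mul _ _
  have hchar : ∀ g : G, ρ.character g = Matrix.trace (M g) := by
    intro g
    simp only [Representation.character, hM]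
    rw [LinearMap.trace_eq_matrix_trace ℂ (Pi.basisFun ℂ (Fin n)), LinearMap.toMatrix_eq_toMatrix']
  set S := M y with hS
  have hMpow : ∀ m : ℕ, M (y ^ m) = S ^ m := by
    intro m
    induction m with
    | zero => rw [pow_zero, pow_zero, hM1]
    | succ k ih => rw [pow_succ, pow_succ, hMmul, ih]
  have hSp : S ^ p = 1 := by rw [← hMpow, hyp, hM1]
  have hSK : ∀ g : G, Commute S (M g) := by
    intro g
    show S * M g = M g * S
    rw [hS, ← hMmul, ← hMmul, (Subgroup.mem_center_iff.mp hy g)]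
  set P : Matrix (Fin n) (Fin n) ℂ := (p : ℂ)⁻¹ • ∑ m ∈ Finset.range p, (μ⁻¹ ^ m) • S ^ m with hP
  -- `S P = μ P`
  have hSP : S * P = μ • P := by
    have key : S * ∑ m ∈ Finset.range p, (μ⁻¹ ^ m) • S ^ m =
        μ • ∑ m ∈ Finset.range p, (μ⁻¹ ^ m) • S ^ m := by
      rw [Finset.mul_sum, Finset.smul_sum]
      have e1 : ∀ m ∈ Finset.range p, S * (μ⁻¹ ^ m • S ^ m) =
          (fun k : ℕ => (μ * μ⁻¹ ^ k) • S ^ k) (m + 1) := by
        intro m _
        show S * (μ⁻¹ ^ m • S ^ m) = (μ * μ⁻¹ ^ (m + 1)) • S ^ (m + 1)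
        have hs : μ * μ⁻¹ ^ (m + 1) = μ⁻¹ ^ m := by
          rw [pow_succ, mul_comm (μ⁻¹ ^ m), ← mul_assoc, mul_inv_cancel₀ hμ0, one_mul]
        rw [hs, Matrix.mul_smul, ← pow_succ']
      have e2 : ∀ m ∈ Finset.range p, μ • (μ⁻¹ ^ m • S ^ m) =
          (fun k : ℕ => (μ * μ⁻¹ ^ k) • S ^ k) m := by
        intro m _
        show μ • (μ⁻¹ ^ m • S ^ m) = (μ * μ⁻¹ ^ m) • S ^ m
        rw [smul_smul]
      rw [Finset.sum_congr rfl e1, Finset.sum_congr rfl e2]
      refine pm2projp_sum_shift (fun k : ℕ => (μ * μ⁻¹ ^ k) • S ^ k) p ?_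
      show (μ * μ⁻¹ ^ p) • S ^ p = (μ * μ⁻¹ ^ 0) • S ^ 0
      rw [inv_pow, hμ, hSp, pow_zero, pow_zero, inv_one]
    rw [hP, Matrix.mul_smul, key, smul_comm]
  have hSmP : ∀ m : ℕ, S ^ m * P = μ ^ m • P := by
    intro m
    induction m with
    | zero => rw [pow_zero, pow_zero, one_mul, one_smul]
    | succ k ih =>
      rw [pow_succ, mul_assoc, hSP, Matrix.mul_smul, ih, smul_smul, pow_succ, mul_comm]
  have hPP : P * P = P := by
    conv_lhs => rw [hP]
    rw [Matrix.smul_mul, Finset.sum_mul]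
    have e : ∀ m ∈ Finset.range p, (μ⁻¹ ^ m • S ^ m) * P = P := by
      intro m _
      rw [Matrix.smul_mul, hSmP, smul_smul, inv_pow, inv_mul_cancel₀ (pow_ne_zero m hμ0), one_smul]
    rw [Finset.sum_congr rfl e, Finset.sum_const, Finset.card_range, ← Nat.cast_smul_eq_nsmul ℂ,
      smul_smul, inv_mul_cancel₀ hp0, one_smul]
  have hPK : ∀ g : G, P * M g = M g * P := by
    intro g
    have hc : Commute P (M g) := by
      rw [hP]
      apply Commute.smul_left
      apply Commute.sum_left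
      intro m _
      apply Commute.smul_left
      exact (hSK g).pow_left m
    exact hc
  let E : Submodule ℂ (Fin n → ℂ) := LinearMap.range (Matrix.toLin' P)
  have hinv : ∀ g : G, ∀ x ∈ E, Matrix.toLin' (M g) x ∈ E := by
    rintro g _ ⟨z, rfl⟩
    refine ⟨Matrix.toLin' (M g) z, ?_⟩
    rw [← LinearMap.comp_apply, ← Matrix.toLin'_mul, hPK, Matrix.toLin'_mul, LinearMap.comp_apply]
  let ρE : Representation ℂ G E :=
    { toFun := fun g => (Matrix.toLin' (M g)).restrict (hinv g)
      map_one' := by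
        apply LinearMap.ext
        intro x
        apply Subtype.ext
        rw [LinearMap.coe_restrict_apply, hM1, Matrix.toLin'_one]
        rfl
      map_mul' := by
        intro g h
        apply LinearMap.ext
        intro x
        apply Subtype.ext
        rw [LinearMap.coe_restrict_apply, hMmul, Matrix.toLin'_mul]
        rfl }
  have hρE : ∀ g : G, ρE g = (Matrix.toLin' (M g)).restrict (hinv g) := fun g => rfl
  have hchE := Cfsg.Agent.Lib.helper2.isCharacter_of_rep ρE
  have hfun : (fun g => (p : ℂ)⁻¹ * ∑ m ∈ Finset.range p, μ⁻¹ ^ m * ρ.character (y ^ m * g)) =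
      ρE.character := by
    funext g
    show (p : ℂ)⁻¹ * ∑ m ∈ Finset.range p, μ⁻¹ ^ m * ρ.character (y ^ m * g) =
      LinearMap.trace ℂ E (ρE g)
    let π : (Fin n → ℂ) →ₗ[ℂ] E := (Matrix.toLin' P).rangeRestrict
    let ι : E →ₗ[ℂ] (Fin n → ℂ) := E.subtype
    have hπι : π ∘ₗ ι = LinearMap.id := by
      apply LinearMap.ext
      rintro ⟨_, ⟨z, rfl⟩⟩
      apply Subtype.ext
      show Matrix.toLin' P (Matrix.toLin' P z) = Matrix.toLin' P z
      rw [← LinearMap.comp_apply, ← Matrix.toLin'_mul, hPP]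
    have h1 : ρE g = (ρE g ∘ₗ π) ∘ₗ ι := by
      rw [LinearMap.comp_assoc, hπι, LinearMap.comp_id]
    have h2 : ι ∘ₗ (ρE g ∘ₗ π) = Matrix.toLin' (M g * P) := by
      apply LinearMap.ext
      intro z
      rw [Matrix.toLin'_mul]
      rfl
    have h3 : ∀ m : ℕ, M g * S ^ m = M (y ^ m * g) := by
      intro m
      rw [hMmul, hMpow]
      exact (((hSK g).pow_left m).eq).symm
    have ht : (M g * ∑ m ∈ Finset.range p, (μ⁻¹ ^ m) • S ^ m).trace =
        ∑ m ∈ Finset.range p, μ⁻¹ ^ m * ρ.character (y ^ m * g) := by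
      rw [Matrix.mul_sum, Matrix.trace_sum]
      refine Finset.sum_congr rfl fun m _ => ?_
      rw [Matrix.mul_smul, Matrix.trace_smul, h3, hchar, smul_eq_mul]
    rw [h1, LinearMap.trace_comp_comm', h2, Matrix.trace_toLin'_eq, hP, Matrix.mul_smul,
      Matrix.trace_smul, ht, smul_eq_mul]
  rw [hfun]
  exact hchE

end generic2

end Cfsg.Agent.Lib.helper7.PM2
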