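import Mathlib
import Cfsg.Agent.Lib.helper17.SLP.Defs
import Cfsg.Agent.Lib.helper2.SLPM1
import Cfsg.Agent.Lib.helper3.SP4.Defs

/-!
# Project SP4 (S2293, designer helper3): helper17's toolkit for rows T5 T6 T7 W2 W3 C7.

Own-name copies (`sp4kit_*`) of the small facts of rows R3 R5 R6 T1 T2 T3 T4 T9, so that the rows written on
top of this file do not wait for the verbatim rows of their owners.  Nothing here carries a Skel name.
-/

set_option autoImplicit false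

namespace Cfsg.Agent.Lib.helper3.SP4

open Cfsg.Agent.Lib.helper17.SLP

universe u v

section Kit

variable {F : Type u} [Field F] {G : Type v} [Group G]

theorem sp4kit_rx_add (φ : Matrix.SpecialLinearGroup (Fin 2) F →* G) (s t : F) :
    rx φ (s + t) = rx φ s * rx φ t := by
  unfold rx
  rw [← map_mul, xM_mul]

theorem sp4kit_rx_zero (φ : Matrix.SpecialLinearGroup (Fin 2) F →* G) : rx φ 0 = 1 := by
  unfold rx
  rw [xM_zero, map_one]

theorem sp4kit_rx_neg (φ : Matrix.SpecialLinearGroup (Fin 2) F →* G) (t : F) :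
    rx φ (-t) = (rx φ t)⁻¹ := by
  rw [eq_inv_iff_mul_eq_one, ← sp4kit_rx_add, neg_add_cancel, sp4kit_rx_zero]

theorem sp4kit_rh_mul (φ : Matrix.SpecialLinearGroup (Fin 2) F →* G) (s r : Fˣ) :
    rh φ (s * r) = rh φ s * rh φ r := by
  unfold rh
  rw [← map_mul, hM_mul]

theorem sp4kit_rh_one (φ : Matrix.SpecialLinearGroup (Fin 2) F →* G) : rh φ 1 = 1 := by
  unfold rh
  rw [slpm1_hM_one, map_one]

theorem sp4kit_rh_inv (φ : Matrix.SpecialLinearGroup (Fin 2) F →* G) (s : Fˣ) :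
    rh φ s⁻¹ = (rh φ s)⁻¹ := by
  unfold rh
  rw [← map_inv, slpm1_hM_inv]

theorem sp4kit_rh_zpow (φ : Matrix.SpecialLinearGroup (Fin 2) F →* G) (s : Fˣ) (i : ℤ) :
    rh φ (s ^ i) = rh φ s ^ i := by
  unfold rh
  rw [← map_zpow, slpm1_hM_zpow]

theorem sp4kit_rh_sq (φ : Matrix.SpecialLinearGroup (Fin 2) F →* G) (s : Fˣ) :
    rh φ (s ^ 2) = rh φ s ^ 2 := by
  rw [pow_two, pow_two, sp4kit_rh_mul]

theorem sp4kit_rh_act (φ : Matrix.SpecialLinearGroup (Fin 2) F →* G) (s : Fˣ) :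
    Act (rh φ s) (rx φ) ((s : F) ^ 2) := by
  intro t
  unfold rh rx
  rw [← map_inv, ← map_mul, ← map_mul, hM_conj]

theorem sp4kit_rn_rh (φ : Matrix.SpecialLinearGroup (Fin 2) F →* G) (s : Fˣ) :
    rn φ * rh φ s * (rn φ)⁻¹ = (rh φ s)⁻¹ := by
  unfold rn rh
  rw [← map_inv, ← map_mul, ← map_mul, wM_hM, map_inv]

theorem sp4kit_rn_rh' (φ : Matrix.SpecialLinearGroup (Fin 2) F →* G) (s : Fˣ) :
    (rn φ)⁻¹ * rh φ s * rn φ = (rh φ s)⁻¹ := by
  have h := sp4kit_rn_rh φ s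
  have h2 : rh φ s = (rn φ)⁻¹ * (rh φ s)⁻¹ * rn φ := by
    rw [← h]; group
  calc (rn φ)⁻¹ * rh φ s * rn φ = ((rn φ)⁻¹ * (rh φ s)⁻¹ * rn φ)⁻¹ := by group
    _ = (rh φ s)⁻¹ := by rw [← h2]

theorem sp4kit_rn_sq (φ : Matrix.SpecialLinearGroup (Fin 2) F →* G) : rn φ ^ 2 = rh φ (-1) := by
  unfold rn rh
  rw [← map_pow, wM_sq]

/-- own copy of the statement of row R3 (`r_basic`). -/
theorem sp4kit_r_basic (φ : Matrix.SpecialLinearGroup (Fin 2) F →* G) :
    (∀ s t, rx φ (s + t) = rx φ s * rx φ t) ∧ rx φ 0 = 1 ∧ (∀ t, rx φ (-t) = (rx φ t)⁻¹) ∧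
      (∀ s r : Fˣ, rh φ (s * r) = rh φ s * rh φ r) ∧ rh φ 1 = 1 ∧ (∀ s : Fˣ, rh φ s⁻¹ = (rh φ s)⁻¹) ∧
      (∀ (s : Fˣ) (i : ℤ), rh φ (s ^ i) = rh φ s ^ i) ∧ (∀ s : Fˣ, Act (rh φ s) (rx φ) ((s : F) ^ 2)) ∧
      (∀ s : Fˣ, rn φ * rh φ s * (rn φ)⁻¹ = (rh φ s)⁻¹) ∧ rn φ ^ 2 = rh φ (-1) :=
  ⟨sp4kit_rx_add φ, sp4kit_rx_zero φ, sp4kit_rx_neg φ, sp4kit_rh_mul φ, sp4kit_rh_one φ,
    sp4kit_rh_inv φ, sp4kit_rh_zpow φ, sp4kit_rh_act φ, sp4kit_rn_rh φ, sp4kit_rn_sq φ⟩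

/-! ### `Act` calculus (rows R5 R6) -/

theorem sp4kit_act_mul (g g' : G) (X : F → G) (c c' : F) (h : Act g X c) (h' : Act g' X c') :
    Act (g * g') X (c * c') := by
  intro t
  calc g * g' * X t * (g * g')⁻¹ = g * (g' * X t * g'⁻¹) * g⁻¹ := by group
    _ = X (c * c' * t) := by rw [h' t, h (c' * t), mul_assoc]

theorem sp4kit_act_inv (g : G) (X : F → G) (c : F) (hc : c ≠ 0) (h : Act g X c) : Act g⁻¹ X c⁻¹ := by
  intro t
  have h1 := h (c⁻¹ * t)
  rw [← mul_assoc, mul_inv_cancel₀ hc, one_mul] at h1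
  rw [← h1]
  group

theorem sp4kit_act_one (X : F → G) : Act (1 : G) X 1 := by
  intro t
  simp

theorem sp4kit_act_congr (g : G) (X : F → G) (c c' : F) (hcc : c = c') (h : Act g X c) : Act g X c' :=
  hcc ▸ h

theorem sp4kit_act_conj (g n : G) (X : F → G) (c : F) (h : Act (n * g * n⁻¹) X c) :
    Act g (fun t => n⁻¹ * X t * n) c := by
  intro t
  have h1 := h t
  show g * (n⁻¹ * X t * n) * g⁻¹ = n⁻¹ * X (c * t) * n
  rw [← h1]
  group

theorem sp4kit_act_zpow (g : G) (X : F → G) (c : F) (hc : c ≠ 0) (h : Act g X c) (i : ℤ) :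
    Act (g ^ i) X (c ^ i) := by
  have hn : ∀ n : ℕ, Act (g ^ n) X (c ^ n) := by
    intro n
    induction n with
    | zero => simpa using sp4kit_act_one (G := G) X
    | succ n ih =>
      rw [pow_succ, pow_succ]
      exact sp4kit_act_mul _ _ X _ _ ih h
  cases i with
  | ofNat n =>
    simpa using hn n
  | negSucc n =>
    rw [zpow_negSucc, zpow_negSucc]
    exact sp4kit_act_inv _ X _ (pow_ne_zero _ hc) (hn (n + 1))

/-! ### additive spans (rows T3 T4 C1-like) -/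

/-- closure induction over an additively spanning set. -/
theorem sp4kit_span_induction (P : F → Prop) (S : Set F) (hS : AddSubgroup.closure S = ⊤)
    (hmem : ∀ t ∈ S, P t) (h0 : P 0) (hadd : ∀ s t, P s → P t → P (s + t)) (hneg : ∀ t, P t → P (-t)) :
    ∀ t, P t := by
  intro t
  have ht : t ∈ AddSubgroup.closure S := by rw [hS]; exact AddSubgroup.mem_top t
  induction ht using AddSubgroup.closure_induction with
  | mem x hx => exact hmem x hx
  | zero => exact h0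
  | add x y _ _ hx hy => exact hadd x y hx hy
  | neg x _ hx => exact hneg x hx

theorem sp4kit_add_zero (X : F → G) (hX : ∀ s t, X (s + t) = X s * X t) : X 0 = 1 := by
  have h := hX 0 0
  rw [add_zero] at h
  exact (mul_eq_left.mp h.symm)

theorem sp4kit_add_neg (X : F → G) (hX : ∀ s t, X (s + t) = X s * X t) (t : F) : X (-t) = (X t)⁻¹ := by
  rw [eq_inv_iff_mul_eq_one, ← hX, neg_add_cancel, sp4kit_add_zero X hX]

/-- own copy of row T4 (`act_span`). -/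
theorem sp4kit_act_span (X X' : F → G) (hX : ∀ s t, X (s + t) = X s * X t)
    (hX' : ∀ s t, X' (s + t) = X' s * X' t)
    (g : G) (c : F) (S : Set F) (hS : AddSubgroup.closure S = ⊤)
    (h : ∀ t ∈ S, g * X t * g⁻¹ = X' (c * t)) : ∀ t, g * X t * g⁻¹ = X' (c * t) := by
  apply sp4kit_span_induction (fun t => g * X t * g⁻¹ = X' (c * t)) S hS h
  · show g * X 0 * g⁻¹ = X' (c * 0)
    rw [mul_zero, sp4kit_add_zero X hX, sp4kit_add_zero X' hX']
    group
  · intro s t hs ht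
    show g * X (s + t) * g⁻¹ = X' (c * (s + t))
    rw [mul_add, hX, hX', ← hs, ← ht]
    group
  · intro t ht
    show g * X (-t) * g⁻¹ = X' (c * -t)
    rw [mul_neg, sp4kit_add_neg X hX, sp4kit_add_neg X' hX', ← ht]
    group

end Kit

section KitFin

variable {F : Type u} [Field F] [Fintype F] {G : Type v} [Group G]

/-- own copy of row T3 (`sq_span`): the squares of the units span `F` additively. -/
theorem sp4kit_sq_span : AddSubgroup.closure (Set.range fun s : Fˣ => ((s : F)) ^ 2) = ⊤ := by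
  rw [eq_top_iff]
  intro t _
  have hsq : ∀ a : F, a ^ 2 ∈ AddSubgroup.closure (Set.range fun s : Fˣ => ((s : F)) ^ 2) := by
    intro a
    by_cases ha : a = 0
    · rw [ha]
      simp
    · exact AddSubgroup.subset_closure ⟨Units.mk0 a ha, rfl⟩
  by_cases h2 : (2 : F) = 0
  · -- characteristic two: every element is a square
    have hchar : ringChar F = 2 := by
      have hp := CharP.ringChar_of_prime_eq_zero (R := F) Nat.prime_two (by exact_mod_cast h2)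
      exact hp
    obtain ⟨a, ha⟩ := FiniteField.isSquare_of_char_two hchar t
    rw [ha, ← pow_two]
    exact hsq a
  · have ht : t = ((t + 1) / 2) ^ 2 - ((t - 1) / 2) ^ 2 := by
      field_simp
      ring
    rw [ht]
    exact sub_mem (hsq _) (hsq _)

end KitFin

section KitTorus

variable {F : Type u} [Field F] {G : Type v} [Group G]

/-- own copy of row T1 (`tor_comm`). -/
theorem sp4kit_tor_comm (ζ : Fˣ) (hζ : ∀ y : Fˣ, y ∈ Subgroup.zpowers ζ)
    (φa φb : Matrix.SpecialLinearGroup (Fin 2) F →* G) (H : Hyp ζ φa φb) :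
    ∀ s r : Fˣ, Commute (rh φa s) (rh φb r) := by
  intro s r
  obtain ⟨i, hi⟩ := Subgroup.mem_zpowers_iff.mp (hζ s)
  obtain ⟨j, hj⟩ := Subgroup.mem_zpowers_iff.mp (hζ r)
  rw [← hi, ← hj, sp4kit_rh_zpow, sp4kit_rh_zpow]
  exact Commute.zpow_zpow H.T1 i j

/-- own copy of row T2 (`tor_weyl`). -/
theorem sp4kit_tor_weyl (ζ : Fˣ) (hζ : ∀ y : Fˣ, y ∈ Subgroup.zpowers ζ)
    (φa φb : Matrix.SpecialLinearGroup (Fin 2) F →* G) (H : Hyp ζ φa φb) :
    (∀ r : Fˣ, rn φa * rh φb r * (rn φa)⁻¹ = rh φb r * rh φa r) ∧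
      (∀ s : Fˣ, rn φb * rh φa s * (rn φb)⁻¹ = rh φa s * rh φb (s ^ 2)) ∧
      (∀ r : Fˣ, (rn φa)⁻¹ * rh φb r * rn φa = rh φb r * rh φa r) ∧
      (∀ s : Fˣ, (rn φb)⁻¹ * rh φa s * rn φb = rh φa s * rh φb (s ^ 2)) := by
  have hcomm := sp4kit_tor_comm ζ hζ φa φb H
  have hconj : ∀ (w g : G) (j : ℤ), w * g ^ j * w⁻¹ = (w * g * w⁻¹) ^ j := by
    intro w g j
    have := map_zpow (MulAut.conj w) g j
    simpa [MulAut.conj_apply] using this
  have h1 : ∀ r : Fˣ, rn φa * rh φb r * (rn φa)⁻¹ = rh φb r * rh φa r := by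
    intro r
    obtain ⟨j, hj⟩ := Subgroup.mem_zpowers_iff.mp (hζ r)
    rw [← hj, sp4kit_rh_zpow, sp4kit_rh_zpow, hconj, H.N4]
    exact (hcomm ζ ζ).symm.mul_zpow j
  have h2 : ∀ s : Fˣ, rn φb * rh φa s * (rn φb)⁻¹ = rh φa s * rh φb (s ^ 2) := by
    intro s
    obtain ⟨i, hi⟩ := Subgroup.mem_zpowers_iff.mp (hζ s)
    have e : (ζ ^ i) ^ 2 = (ζ ^ 2) ^ i := by
      rw [← zpow_natCast, ← zpow_natCast, ← zpow_mul, ← zpow_mul, mul_comm]
    rw [← hi, e, sp4kit_rh_zpow, sp4kit_rh_zpow, hconj, H.N5, sp4kit_rh_sq]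
    exact ((hcomm ζ ζ).pow_right 2).mul_zpow i
  refine ⟨h1, h2, ?_, ?_⟩
  · intro r
    have e1 := h1 r
    have e2 := sp4kit_rn_rh' φa r
    -- rh φb r = (w⁻¹ hb w) * (w⁻¹ ha w)
    have e3 : rh φb r = ((rn φa)⁻¹ * rh φb r * rn φa) * ((rn φa)⁻¹ * rh φa r * rn φa) := by
      calc rh φb r = (rn φa)⁻¹ * (rn φa * rh φb r * (rn φa)⁻¹) * rn φa := by group
        _ = (rn φa)⁻¹ * (rh φb r * rh φa r) * rn φa := by rw [e1]
        _ = _ := by group
    rw [e2] at e3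
    calc (rn φa)⁻¹ * rh φb r * rn φa
        = ((rn φa)⁻¹ * rh φb r * rn φa * (rh φa r)⁻¹) * rh φa r := by group
      _ = rh φb r * rh φa r := by rw [← e3]
  · intro s
    have e1 := h2 s
    have e2 := sp4kit_rn_rh' φb (s ^ 2)
    have e3 : rh φa s = ((rn φb)⁻¹ * rh φa s * rn φb) * ((rn φb)⁻¹ * rh φb (s ^ 2) * rn φb) := by
      calc rh φa s = (rn φb)⁻¹ * (rn φb * rh φa s * (rn φb)⁻¹) * rn φb := by group
        _ = (rn φb)⁻¹ * (rh φa s * rh φb (s ^ 2)) * rn φb := by rw [e1]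
        _ = _ := by group
    rw [e2] at e3
    calc (rn φb)⁻¹ * rh φa s * rn φb
        = ((rn φb)⁻¹ * rh φa s * rn φb * (rh φb (s ^ 2))⁻¹) * rh φb (s ^ 2) := by group
      _ = rh φa s * rh φb (s ^ 2) := by rw [← e3]

/-- own copy of row T9 (`xcd_add`). -/
theorem sp4kit_xcd_add (φa φb : Matrix.SpecialLinearGroup (Fin 2) F →* G) :
    (∀ s t, xc φa φb (s + t) = xc φa φb s * xc φa φb t) ∧
      (∀ s t, xd φa φb (s + t) = xd φa φb s * xd φa φb t) ∧
      xc φa φb 0 = 1 ∧ xd φa φb 0 = 1 ∧ (∀ t, xc φa φb (-t) = (xc φa φb t)⁻¹) ∧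
      (∀ t, xd φa φb (-t) = (xd φa φb t)⁻¹) := by
  have hc : ∀ s t, xc φa φb (s + t) = xc φa φb s * xc φa φb t := by
    intro s t
    unfold xc
    rw [sp4kit_rx_add]
    group
  have hd : ∀ s t, xd φa φb (s + t) = xd φa φb s * xd φa φb t := by
    intro s t
    unfold xd
    rw [sp4kit_rx_add]
    group
  exact ⟨hc, hd, sp4kit_add_zero _ hc, sp4kit_add_zero _ hd, sp4kit_add_neg _ hc, sp4kit_add_neg _ hd⟩

end KitTorus

end Cfsg.Agent.Lib.helper3.SP4
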