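import Mathlib
import Cfsg.Agent.Lib.helper17.SLP.Defs
import Cfsg.Agent.Lib.helper3.SP4.Defs
import Cfsg.Agent.Lib.helper17.SP4Kit
import Cfsg.Agent.Lib.Helper29.SP4C2

/-!
# Project SP4 (S2293, designer helper3), row C7 (`cm_ab`), verbatim.
On helper17's `SP4Kit` (own copies of R3 R5 T3 T9) and helper29's C2 (`cm_mul_right`, `cm_conj`).
-/

set_option autoImplicit false

namespace Cfsg.Agent.Lib.helper3.SP4

open Cfsg.Agent.Lib.helper17.SLP

universe u v

section C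

variable {F : Type u} [Field F] [Fintype F] {G : Type v} [Group G]

omit [Fintype F] in
/-- `H.C9` conjugated by `h_a(σ) h_b(ρ)` with `σ = r s`, `ρ = r² s`: the relation at `(s, r²)`. -/
theorem sp4c7_sq (ζ : Fˣ) (φa φb : Matrix.SpecialLinearGroup (Fin 2) F →* G) (H : Hyp ζ φa φb)
    (R : Tor4 φa φb) (s r : Fˣ) :
    cm (rx φa (s : F)) (rx φb ((r : F) ^ 2))
      = xc φa φb ((s : F) * (r : F) ^ 2) * xd φa φb ((s : F) ^ 2 * (r : F) ^ 2) := by
  set σ : Fˣ := r * s with hσ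
  set ρ : Fˣ := r ^ 2 * s with hρ
  set τ : G := rh φa σ * rh φb ρ with hτ
  have hs0 : (s : F) ≠ 0 := Units.ne_zero s
  have hr0 : (r : F) ≠ 0 := Units.ne_zero r
  have Aa : Act τ (rx φa) (s : F) := by
    refine sp4kit_act_congr _ _ _ _ ?_ (sp4kit_act_mul _ _ _ _ _ (R.aa σ) (R.ab ρ))
    rw [Units.val_inv_eq_inv_val, hσ, hρ, Units.val_mul, Units.val_mul, Units.val_pow_eq_pow_val]
    field_simp
  have Ab : Act τ (rx φb) ((r : F) ^ 2) := by
    refine sp4kit_act_congr _ _ _ _ ?_ (sp4kit_act_mul _ _ _ _ _ (R.ba σ) (R.bb ρ))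
    rw [Units.val_inv_eq_inv_val, hσ, hρ, Units.val_mul, Units.val_mul, Units.val_pow_eq_pow_val]
    field_simp
  have Ac : Act τ (xc φa φb) ((s : F) * (r : F) ^ 2) := by
    refine sp4kit_act_congr _ _ _ _ ?_ (sp4kit_act_mul _ _ _ _ _ (R.ca σ) (R.cb ρ))
    rw [hρ, Units.val_mul, Units.val_pow_eq_pow_val]
    ring
  have Ad : Act τ (xd φa φb) ((s : F) ^ 2 * (r : F) ^ 2) := by
    refine sp4kit_act_congr _ _ _ _ ?_ (sp4kit_act_mul _ _ _ _ _ (R.da σ) (R.db ρ))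
    rw [hσ, Units.val_mul]
    ring
  have h9 : τ * cm (rx φa 1) (rx φb 1) * τ⁻¹ = τ * (xc φa φb 1 * xd φa φb 1) * τ⁻¹ := by
    rw [H.C9]
  rw [cm_conj, Aa 1, Ab 1, mul_one, mul_one] at h9
  rw [h9]
  calc τ * (xc φa φb 1 * xd φa φb 1) * τ⁻¹
      = (τ * xc φa φb 1 * τ⁻¹) * (τ * xd φa φb 1 * τ⁻¹) := by group
    _ = _ := by rw [Ac 1, Ad 1, mul_one, mul_one]

/-- C7 [M]  deps C2 T3 T9.  `H.C9` is the case `s = t = 1`.  Conjugate by `h_a(σ) h_b(ρ)`: `cm (x_a(σ²ρ⁻¹)) (x_b(σ⁻²ρ²)) = x_c(ρ) x_d(σ²)`; for units `s`, `r` take `σ := r s`, `ρ := r² s`: the statement for `(s, r²)`.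
Fix a unit `s`: additive in `t` (`cm_mul_right`; `cm a b' ∈ x_c x_d` commutes with `b ∈ x_b`: `hbc hbd`; `x_c`, `x_d` additive and commute: `hcd`); squares span (T3).  `s = 0`: both sides `1`. -/
theorem cm_ab (ζ : Fˣ) (φa φb : Matrix.SpecialLinearGroup (Fin 2) F →* G) (H : Hyp ζ φa φb)
    (R : Tor4 φa φb) (hbd : ∀ s t, Commute (rx φb s) (xd φa φb t))
    (hcd : ∀ s t, Commute (xc φa φb s) (xd φa φb t)) (hbc : ∀ s t, Commute (rx φb s) (xc φa φb t)) :
    ∀ s t, cm (rx φa s) (rx φb t) = xc φa φb (s * t) * xd φa φb (s ^ 2 * t) := by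
  obtain ⟨hcadd, hdadd, hc0, hd0, hcneg, hdneg⟩ := sp4kit_xcd_add φa φb
  intro s
  by_cases hs : s = 0
  · subst hs
    intro t
    rw [zero_mul, sp4kit_rx_zero, hc0]
    have : (0 : F) ^ 2 * t = 0 := by ring
    rw [this, hd0]
    unfold cm
    group
  · set us : Fˣ := Units.mk0 s hs with hus
    have hust : (us : F) = s := Units.val_mk0 hs
    apply sp4kit_span_induction
      (fun t => cm (rx φa s) (rx φb t) = xc φa φb (s * t) * xd φa φb (s ^ 2 * t))
      (Set.range fun r : Fˣ => ((r : F)) ^ 2) (sp4kit_sq_span (F := F))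
    · rintro t ⟨r, rfl⟩
      have := sp4c7_sq ζ φa φb H R us r
      rw [hust] at this
      exact this
    · show cm (rx φa s) (rx φb 0) = xc φa φb (s * 0) * xd φa φb (s ^ 2 * 0)
      rw [mul_zero, mul_zero, sp4kit_rx_zero, hc0, hd0]
      unfold cm
      group
    · intro t t' ht ht'
      show cm (rx φa s) (rx φb (t + t')) = xc φa φb (s * (t + t')) * xd φa φb (s ^ 2 * (t + t'))
      have hcomm : Commute (rx φb t) (xc φa φb (s * t') * xd φa φb (s ^ 2 * t')) :=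
        (hbc t (s * t')).mul_right (hbd t (s ^ 2 * t'))
      have e1 : rx φb t * (xc φa φb (s * t') * xd φa φb (s ^ 2 * t')) * (rx φb t)⁻¹
          = xc φa φb (s * t') * xd φa φb (s ^ 2 * t') := by
        rw [hcomm.eq]
        group
      have hcd' : Commute (xd φa φb (s ^ 2 * t)) (xc φa φb (s * t')) := (hcd _ _).symm
      rw [sp4kit_rx_add, cm_mul_right, ht, ht', e1, mul_add, mul_add, hcadd, hdadd]
      calc xc φa φb (s * t) * xd φa φb (s ^ 2 * t) * (xc φa φb (s * t') * xd φa φb (s ^ 2 * t'))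
          = xc φa φb (s * t) * (xd φa φb (s ^ 2 * t) * xc φa φb (s * t')) * xd φa φb (s ^ 2 * t') := by
            group
        _ = xc φa φb (s * t) * (xc φa φb (s * t') * xd φa φb (s ^ 2 * t)) * xd φa φb (s ^ 2 * t') := by
            rw [hcd'.eq]
        _ = _ := by group
    · intro t ht
      show cm (rx φa s) (rx φb (-t)) = xc φa φb (s * -t) * xd φa φb (s ^ 2 * -t)
      have hcomm : Commute (rx φb t) (xc φa φb (s * t) * xd φa φb (s ^ 2 * t)) :=
        (hbc t (s * t)).mul_right (hbd t (s ^ 2 * t))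
      have e0 : cm (rx φa s) ((rx φb t)⁻¹) = (rx φb t)⁻¹ * (cm (rx φa s) (rx φb t))⁻¹ * rx φb t := by
        unfold cm
        group
      have e1 : (rx φb t)⁻¹ * (xc φa φb (s * t) * xd φa φb (s ^ 2 * t))⁻¹ * rx φb t
          = (xc φa φb (s * t) * xd φa φb (s ^ 2 * t))⁻¹ := by
        have := hcomm.inv_right.eq
        calc (rx φb t)⁻¹ * (xc φa φb (s * t) * xd φa φb (s ^ 2 * t))⁻¹ * rx φb t
            = (rx φb t)⁻¹ * (rx φb t * (xc φa φb (s * t) * xd φa φb (s ^ 2 * t))⁻¹) := by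
              rw [this]; group
          _ = _ := by group
      have hcd' : Commute (xd φa φb (s ^ 2 * t))⁻¹ (xc φa φb (s * t))⁻¹ :=
        ((hcd (s * t) (s ^ 2 * t)).symm.inv_left).inv_right
      rw [sp4kit_rx_neg, e0, ht, e1, mul_neg, mul_neg, hcneg, hdneg, mul_inv_rev, hcd'.eq]

end C

end Cfsg.Agent.Lib.helper3.SP4
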