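import Mathlib
import Cfsg.Agent.Lib.helper17.SLP.Defs
import Cfsg.Agent.Lib.helper3.SP4.Defs
import Cfsg.Agent.Lib.helper17.SP4Kit

/-!
# Project SP4 (S2293, designer helper3), rows T5 (`act_ab`) and T6 (`act_ba`), verbatim.
On helper17's `SP4Kit` (own copies of R3 R5 T1 T3 T4).
-/

set_option autoImplicit false

namespace Cfsg.Agent.Lib.helper3.SP4

open Cfsg.Agent.Lib.helper17.SLP

universe u v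

section T

variable {F : Type u} [Field F] [Fintype F] {G : Type v} [Group G]

/-- T5 at the generator: `Act (h_b(ζ)) x_a ζ⁻¹`. -/
theorem sp4t5_gen (ζ : Fˣ) (hζ : ∀ y : Fˣ, y ∈ Subgroup.zpowers ζ)
    (φa φb : Matrix.SpecialLinearGroup (Fin 2) F →* G) (H : Hyp ζ φa φb) :
    Act (rh φb ζ) (rx φa) ((ζ : F)⁻¹) := by
  have hcomm := sp4kit_tor_comm ζ hζ φa φb H
  have hg : ∀ t, (rh φb ζ)⁻¹ * rx φa t * ((rh φb ζ)⁻¹)⁻¹ = rx φa ((ζ : F) * t) := by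
    apply sp4kit_act_span (rx φa) (rx φa) (sp4kit_rx_add φa) (sp4kit_rx_add φa) _ _ _
      (sp4kit_sq_span (F := F))
    rintro t ⟨s, rfl⟩
    show (rh φb ζ)⁻¹ * rx φa ((s : F) ^ 2) * ((rh φb ζ)⁻¹)⁻¹ = rx φa ((ζ : F) * (s : F) ^ 2)
    have e1 : rx φa ((s : F) ^ 2) = rh φa s * rx φa 1 * (rh φa s)⁻¹ := by
      rw [sp4kit_rh_act φa s 1, mul_one]
    have e2 : rx φa ((ζ : F) * (s : F) ^ 2) = rh φa s * rx φa (ζ : F) * (rh φa s)⁻¹ := by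
      rw [sp4kit_rh_act φa s (ζ : F), mul_comm]
    have hc : Commute (rh φa s) (rh φb ζ)⁻¹ := (hcomm s ζ).inv_right
    rw [e1, e2, ← H.T2]
    calc (rh φb ζ)⁻¹ * (rh φa s * rx φa 1 * (rh φa s)⁻¹) * ((rh φb ζ)⁻¹)⁻¹
        = ((rh φb ζ)⁻¹ * rh φa s) * rx φa 1 * ((rh φb ζ)⁻¹ * rh φa s)⁻¹ := by group
      _ = (rh φa s * (rh φb ζ)⁻¹) * rx φa 1 * (rh φa s * (rh φb ζ)⁻¹)⁻¹ := by rw [hc.eq]
      _ = rh φa s * ((rh φb ζ)⁻¹ * rx φa 1 * rh φb ζ) * (rh φa s)⁻¹ := by group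
  have h1 : Act ((rh φb ζ)⁻¹) (rx φa) (ζ : F) := hg
  have h2 := sp4kit_act_inv _ _ _ (Units.ne_zero ζ) h1
  rwa [inv_inv] at h2

/-- T5 [M]  deps T1 T3 T4 R3 R5.  `g := h_b(ζ)⁻¹`.  For a square `t = s²`: `x_a(s²) = h_a(s) x_a(1) h_a(s)⁻¹` (R3), `g` commutes with `h_a(s)` (T1), `g x_a(1) g⁻¹ = x_a(ζ)` (`H.T2`): `g x_a(s²) g⁻¹ = x_a(s² ζ)`.
T4 (`c = ζ`, `S` = squares): `Act (h_b(ζ)⁻¹) x_a ζ`; invert (R5) and take `zpow`s (`r = ζ^j`, R3, induction with `act_mul` / `act_inv`). -/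
theorem act_ab (ζ : Fˣ) (hζ : ∀ y : Fˣ, y ∈ Subgroup.zpowers ζ)
    (φa φb : Matrix.SpecialLinearGroup (Fin 2) F →* G) (H : Hyp ζ φa φb) :
    ∀ r : Fˣ, Act (rh φb r) (rx φa) ((r⁻¹ : Fˣ) : F) := by
  intro r
  obtain ⟨j, hj⟩ := Subgroup.mem_zpowers_iff.mp (hζ r)
  have h := sp4kit_act_zpow _ _ _ (inv_ne_zero (Units.ne_zero ζ)) (sp4t5_gen ζ hζ φa φb H) j
  rw [← hj, sp4kit_rh_zpow]
  refine sp4kit_act_congr _ _ _ _ ?_ h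
  rw [Units.val_inv_eq_inv_val, Units.val_zpow_eq_zpow_val, inv_zpow]

/-- T6 at the generator: `Act (h_a(ζ)) x_b (ζ⁻¹)²`. -/
theorem sp4t6_gen (ζ : Fˣ) (hζ : ∀ y : Fˣ, y ∈ Subgroup.zpowers ζ)
    (φa φb : Matrix.SpecialLinearGroup (Fin 2) F →* G) (H : Hyp ζ φa φb) :
    Act (rh φa ζ) (rx φb) (((ζ⁻¹ : Fˣ) : F) ^ 2) := by
  have hcomm := sp4kit_tor_comm ζ hζ φa φb H
  have h0 : rh φa ζ * rx φb 1 * (rh φa ζ)⁻¹ = rx φb (((ζ⁻¹ : Fˣ) : F) ^ 2) := by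
    rw [H.T3]
    have := sp4kit_rh_act φb ζ⁻¹ 1
    rw [mul_one, sp4kit_rh_inv, inv_inv] at this
    exact this
  apply sp4kit_act_span (rx φb) (rx φb) (sp4kit_rx_add φb) (sp4kit_rx_add φb) _ _ _
    (sp4kit_sq_span (F := F))
  rintro t ⟨r, rfl⟩
  show rh φa ζ * rx φb ((r : F) ^ 2) * (rh φa ζ)⁻¹ = rx φb (((ζ⁻¹ : Fˣ) : F) ^ 2 * (r : F) ^ 2)
  have e1 : rx φb ((r : F) ^ 2) = rh φb r * rx φb 1 * (rh φb r)⁻¹ := by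
    rw [sp4kit_rh_act φb r 1, mul_one]
  have e2 : rx φb (((ζ⁻¹ : Fˣ) : F) ^ 2 * (r : F) ^ 2)
      = rh φb r * rx φb (((ζ⁻¹ : Fˣ) : F) ^ 2) * (rh φb r)⁻¹ := by
    rw [sp4kit_rh_act φb r _, mul_comm]
  have hc : Commute (rh φa ζ) (rh φb r) := hcomm ζ r
  rw [e1, e2, ← h0]
  calc rh φa ζ * (rh φb r * rx φb 1 * (rh φb r)⁻¹) * (rh φa ζ)⁻¹
      = (rh φa ζ * rh φb r) * rx φb 1 * (rh φa ζ * rh φb r)⁻¹ := by group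
    _ = (rh φb r * rh φa ζ) * rx φb 1 * (rh φb r * rh φa ζ)⁻¹ := by rw [hc.eq]
    _ = rh φb r * (rh φa ζ * rx φb 1 * (rh φa ζ)⁻¹) * (rh φb r)⁻¹ := by group

/-- T6 [M]  deps T1 T3 T4 R3 R5.  `H.T3` and R3 for `φb`: `h_a(ζ) x_b(1) h_a(ζ)⁻¹ = h_b(ζ⁻¹) x_b(1) h_b(ζ⁻¹)⁻¹ = x_b(ζ⁻²)`.  Squares `t = r²`: `x_b(r²) = h_b(r) x_b(1) h_b(r)⁻¹`, `h_a(ζ)` commutes with `h_b(r)`.
T4: `Act (h_a(ζ)) x_b (ζ⁻¹)²`; `zpow`s. -/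
theorem act_ba (ζ : Fˣ) (hζ : ∀ y : Fˣ, y ∈ Subgroup.zpowers ζ)
    (φa φb : Matrix.SpecialLinearGroup (Fin 2) F →* G) (H : Hyp ζ φa φb) :
    ∀ s : Fˣ, Act (rh φa s) (rx φb) (((s⁻¹ : Fˣ) : F) ^ 2) := by
  intro s
  obtain ⟨i, hi⟩ := Subgroup.mem_zpowers_iff.mp (hζ s)
  have hne : (((ζ⁻¹ : Fˣ) : F) ^ 2) ≠ 0 := pow_ne_zero _ (Units.ne_zero _)
  have h := sp4kit_act_zpow _ _ _ hne (sp4t6_gen ζ hζ φa φb H) i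
  rw [← hi, sp4kit_rh_zpow]
  refine sp4kit_act_congr _ _ _ _ ?_ h
  rw [← inv_zpow, Units.val_zpow_eq_zpow_val]
  generalize ((ζ⁻¹ : Fˣ) : F) = a
  rw [← zpow_natCast (a ^ i) 2, ← zpow_mul, mul_comm, zpow_mul, zpow_natCast]

end T

end Cfsg.Agent.Lib.helper3.SP4
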