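import Mathlib
import Cfsg.Agent.Lib.helper17.SLP.Defs
import Cfsg.Agent.Lib.helper3.SP4.Defs
import Cfsg.Agent.Lib.helper17.SP4Kit
import Cfsg.Agent.Lib.helper17.SP4T5

/-!
# Project SP4 (S2293, designer helper3), row T7 (`act_cd`), verbatim.
On helper17's `SP4Kit` (own copies of R3 R5 R6 T2) and `SP4T5` (`act_ab`, `act_ba`).
-/

set_option autoImplicit false

namespace Cfsg.Agent.Lib.helper3.SP4

open Cfsg.Agent.Lib.helper17.SLP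

universe u v

section T

variable {F : Type u} [Field F] [Fintype F] {G : Type v} [Group G]

/-- T7 [M]  deps T2 T5 T6 R3 R5 R6.  `x_c = w_b⁻¹ x_a w_b`: R6 with `n = w_b`; `w_b h_a(s) w_b⁻¹ = h_a(s) h_b(s²)` acts on `x_a` through `s² (s²)⁻¹ = 1`; `w_b h_b(r) w_b⁻¹ = h_b(r)⁻¹` through `r`.
`x_d = w_a⁻¹ x_b w_a`: `w_a h_a(s) w_a⁻¹ = h_a(s)⁻¹` acts on `x_b` through `s²`; `w_a h_b(r) w_a⁻¹ = h_b(r) h_a(r)` through `r² r⁻² = 1`. -/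
theorem act_cd (ζ : Fˣ) (hζ : ∀ y : Fˣ, y ∈ Subgroup.zpowers ζ)
    (φa φb : Matrix.SpecialLinearGroup (Fin 2) F →* G) (H : Hyp ζ φa φb) :
    (∀ s : Fˣ, Act (rh φa s) (xc φa φb) 1) ∧ (∀ r : Fˣ, Act (rh φb r) (xc φa φb) (r : F)) ∧
      (∀ s : Fˣ, Act (rh φa s) (xd φa φb) ((s : F) ^ 2)) ∧ (∀ r : Fˣ, Act (rh φb r) (xd φa φb) 1) := by
  obtain ⟨w1, w2, -, -⟩ := sp4kit_tor_weyl ζ hζ φa φb H
  have hab := act_ab ζ hζ φa φb H
  have hba := act_ba ζ hζ φa φb H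
  refine ⟨?_, ?_, ?_, ?_⟩
  · intro s
    apply sp4kit_act_conj (rh φa s) (rn φb) (rx φa) 1
    rw [w2 s]
    refine sp4kit_act_congr _ _ _ _ ?_
      (sp4kit_act_mul _ _ _ _ _ (sp4kit_rh_act φa s) (hab (s ^ 2)))
    rw [Units.val_inv_eq_inv_val, Units.val_pow_eq_pow_val]
    exact mul_inv_cancel₀ (pow_ne_zero _ (Units.ne_zero s))
  · intro r
    apply sp4kit_act_conj (rh φb r) (rn φb) (rx φa) (r : F)
    rw [sp4kit_rn_rh φb r, ← sp4kit_rh_inv]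
    refine sp4kit_act_congr _ _ _ _ ?_ (hab r⁻¹)
    rw [inv_inv]
  · intro s
    apply sp4kit_act_conj (rh φa s) (rn φa) (rx φb) ((s : F) ^ 2)
    rw [sp4kit_rn_rh φa s, ← sp4kit_rh_inv]
    refine sp4kit_act_congr _ _ _ _ ?_ (hba s⁻¹)
    rw [inv_inv]
  · intro r
    apply sp4kit_act_conj (rh φb r) (rn φa) (rx φb) 1
    rw [w1 r]
    refine sp4kit_act_congr _ _ _ _ ?_
      (sp4kit_act_mul _ _ _ _ _ (sp4kit_rh_act φb r) (hba r))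
    rw [Units.val_inv_eq_inv_val, ← mul_pow]
    rw [mul_inv_cancel₀ (Units.ne_zero r), one_pow]

end T

end Cfsg.Agent.Lib.helper3.SP4
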