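import Mathlib
import Cfsg.Agent.Lib.helper17.SLP.Defs
import Cfsg.Agent.Lib.helper3.SP4.Defs
import Cfsg.Agent.Lib.helper17.SP4Kit

/-!
# Project SP4 (S2293, designer helper3), rows W2 (`wact_ac`) and W3 (`wact_bd`), verbatim.
On helper17's `SP4Kit` (own copies of R3 T3 T4).
-/

set_option autoImplicit false

namespace Cfsg.Agent.Lib.helper3.SP4

open Cfsg.Agent.Lib.helper17.SLP

universe u v

section W

variable {F : Type u} [Field F] [Fintype F] {G : Type v} [Group G]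

omit [Fintype F] in
/-- `w_b (h_b(r) h_a(r)) w_b⁻¹ = h_a(r) h_b(r)` from the torus table. -/
theorem sp4w2_wb_prod (φa φb : Matrix.SpecialLinearGroup (Fin 2) F →* G) (R : Tor4 φa φb) (r : Fˣ) :
    rn φb * (rh φb r * rh φa r) * (rn φb)⁻¹ = rh φa r * rh φb r := by
  have e1 := sp4kit_rn_rh φb r
  have e2 := R.wb_ha r
  have hc : Commute (rh φa r) (rh φb r) := R.comm r r
  calc rn φb * (rh φb r * rh φa r) * (rn φb)⁻¹
      = (rn φb * rh φb r * (rn φb)⁻¹) * (rn φb * rh φa r * (rn φb)⁻¹) := by group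
    _ = (rh φb r)⁻¹ * (rh φa r * rh φb (r ^ 2)) := by rw [e1, e2]
    _ = (rh φb r)⁻¹ * (rh φa r * (rh φb r * rh φb r)) := by rw [sp4kit_rh_sq, pow_two]
    _ = (rh φb r)⁻¹ * ((rh φa r * rh φb r) * rh φb r) := by rw [mul_assoc]
    _ = (rh φb r)⁻¹ * ((rh φb r * rh φa r) * rh φb r) := by rw [hc.eq]
    _ = rh φa r * rh φb r := by group

omit [Fintype F] in
/-- the reflection `n = w_b w_a w_b⁻¹` inverts every `x_a(t)`. -/
theorem sp4w2_key (ζ : Fˣ) (φa φb : Matrix.SpecialLinearGroup (Fin 2) F →* G) (H : Hyp ζ φa φb)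
    (R : Tor4 φa φb) (t : F) :
    (rn φb * rn φa * (rn φb)⁻¹) * rx φa t * (rn φb * rn φa * (rn φb)⁻¹)⁻¹ = rx φa (-t) := by
  by_cases ht : t = 0
  · subst ht
    rw [neg_zero, sp4kit_rx_zero]
    group
  · set n : G := rn φb * rn φa * (rn φb)⁻¹ with hn
    set r : Fˣ := Units.mk0 t ht with hr
    have hrt : (r : F) = t := Units.val_mk0 ht
    have hAct : rh φb r⁻¹ * rx φa 1 * (rh φb r⁻¹)⁻¹ = rx φa t := by
      have := R.ab r⁻¹ 1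
      rw [inv_inv, mul_one, hrt] at this
      exact this
    have hτ : n * rh φb r⁻¹ * n⁻¹ = rh φa r * rh φb r := by
      have e1 : (rn φb)⁻¹ * rh φb r⁻¹ * rn φb = rh φb r := by
        rw [sp4kit_rn_rh', ← sp4kit_rh_inv, inv_inv]
      calc n * rh φb r⁻¹ * n⁻¹
          = rn φb * (rn φa * ((rn φb)⁻¹ * rh φb r⁻¹ * rn φb) * (rn φa)⁻¹) * (rn φb)⁻¹ := by
            rw [hn]; group
        _ = rn φb * (rh φb r * rh φa r) * (rn φb)⁻¹ := by rw [e1, R.wa_hb r]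
        _ = rh φa r * rh φb r := sp4w2_wb_prod φa φb R r
    have hτact : Act (rh φa r * rh φb r) (rx φa) t := by
      refine sp4kit_act_congr _ _ _ _ ?_ (sp4kit_act_mul _ _ _ _ _ (R.aa r) (R.ab r))
      rw [Units.val_inv_eq_inv_val, hrt, pow_two, mul_assoc, mul_inv_cancel₀ ht, mul_one]
    calc n * rx φa t * n⁻¹ = n * (rh φb r⁻¹ * rx φa 1 * (rh φb r⁻¹)⁻¹) * n⁻¹ := by rw [hAct]
      _ = (n * rh φb r⁻¹ * n⁻¹) * (n * rx φa 1 * n⁻¹) * (n * rh φb r⁻¹ * n⁻¹)⁻¹ := by group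
      _ = (rh φa r * rh φb r) * (rx φa 1)⁻¹ * (rh φa r * rh φb r)⁻¹ := by rw [hτ, hn, H.W7]
      _ = (rh φa r * rh φb r) * rx φa (-1) * (rh φa r * rh φb r)⁻¹ := by rw [sp4kit_rx_neg]
      _ = rx φa (t * -1) := hτact (-1)
      _ = rx φa (-t) := by rw [mul_neg_one]

/-- W2 [M]  deps R3.  `n := w_b w_a w_b⁻¹`; `w_a x_c(t) w_a⁻¹ = w_b⁻¹ (n x_a(t) n⁻¹) w_b`, so it suffices: `n x_a(t) n⁻¹ = x_a(-t)` for all `t`.  `t = 0` clear.  `t ≠ 0` a unit: `x_a(t) = h x_a(1) h⁻¹` with `h := h_b(t⁻¹)` (`R.ab`);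
`n h n⁻¹ = w_b w_a h_b(t) w_a⁻¹ w_b⁻¹ = w_b h_b(t) h_a(t) w_b⁻¹ = h_b(t)⁻¹ h_a(t) h_b(t²) = h_a(t) h_b(t)` (`R.wa_hb`, `R.wb_ha`, R3, `R.comm`), which acts on `x_a` through `t² t⁻¹ = t` (`R.aa`, `R.ab`);
`n x_a(1) n⁻¹ = x_a(-1)` is `H.W7` (`x_a(-1) = x_a(1)⁻¹`): `n x_a(t) n⁻¹ = (n h n⁻¹) x_a(-1) (n h n⁻¹)⁻¹ = x_a(-t)`. -/
theorem wact_ac (ζ : Fˣ) (φa φb : Matrix.SpecialLinearGroup (Fin 2) F →* G) (H : Hyp ζ φa φb)
    (R : Tor4 φa φb) : ∀ t, rn φa * xc φa φb t * (rn φa)⁻¹ = xc φa φb (-t) := by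
  intro t
  have key := sp4w2_key ζ φa φb H R t
  unfold xc
  rw [← key]
  group

/-- the reflection `n = w_a w_b w_a⁻¹` centralises every `x_b(t)`. -/
theorem sp4w3_key (ζ : Fˣ) (φa φb : Matrix.SpecialLinearGroup (Fin 2) F →* G) (H : Hyp ζ φa φb)
    (R : Tor4 φa φb) (t : F) :
    (rn φa * rn φb * (rn φa)⁻¹) * rx φb t * (rn φa * rn φb * (rn φa)⁻¹)⁻¹ = rx φb t := by
  have h := sp4kit_act_span (rx φb) (rx φb) (sp4kit_rx_add φb) (sp4kit_rx_add φb)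
    (rn φa * rn φb * (rn φa)⁻¹) 1 _ (sp4kit_sq_span (F := F)) ?_ t
  · rw [one_mul] at h
    exact h
  · rintro t ⟨r, rfl⟩
    show (rn φa * rn φb * (rn φa)⁻¹) * rx φb ((r : F) ^ 2) * (rn φa * rn φb * (rn φa)⁻¹)⁻¹
      = rx φb (1 * (r : F) ^ 2)
    rw [one_mul]
    set n : G := rn φa * rn φb * (rn φa)⁻¹ with hn
    have e1 : rx φb ((r : F) ^ 2) = rh φb r * rx φb 1 * (rh φb r)⁻¹ := by
      rw [R.bb r 1, mul_one]
    have hc : Commute (rh φa r) (rh φb r) := R.comm r r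
    have hτ : n * rh φb r * n⁻¹ = rh φb r := by
      calc n * rh φb r * n⁻¹
          = rn φa * (rn φb * ((rn φa)⁻¹ * rh φb r * rn φa) * (rn φb)⁻¹) * (rn φa)⁻¹ := by
            rw [hn]; group
        _ = rn φa * (rn φb * (rh φb r * rh φa r) * (rn φb)⁻¹) * (rn φa)⁻¹ := by rw [R.wa_hb' r]
        _ = rn φa * (rh φa r * rh φb r) * (rn φa)⁻¹ := by rw [sp4w2_wb_prod φa φb R r]
        _ = (rn φa * rh φa r * (rn φa)⁻¹) * (rn φa * rh φb r * (rn φa)⁻¹) := by group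
        _ = (rh φa r)⁻¹ * (rh φb r * rh φa r) := by rw [sp4kit_rn_rh, R.wa_hb r]
        _ = (rh φa r)⁻¹ * (rh φa r * rh φb r) := by rw [hc.eq]
        _ = rh φb r := by group
    have hW8 : n * rx φb 1 * n⁻¹ = rx φb 1 := by
      have := H.W8
      rw [← hn] at this
      rw [this.eq]
      group
    calc n * rx φb ((r : F) ^ 2) * n⁻¹ = n * (rh φb r * rx φb 1 * (rh φb r)⁻¹) * n⁻¹ := by rw [e1]
      _ = (n * rh φb r * n⁻¹) * (n * rx φb 1 * n⁻¹) * (n * rh φb r * n⁻¹)⁻¹ := by group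
      _ = rh φb r * rx φb 1 * (rh φb r)⁻¹ := by rw [hτ, hW8]
      _ = rx φb ((r : F) ^ 2) := e1.symm

/-- W3 [M]  deps R3 T3 T4.  `n := w_a w_b w_a⁻¹`; `w_b x_d(t) w_b⁻¹ = w_a⁻¹ (n x_b(t) n⁻¹) w_a`, so it suffices: `n x_b(t) n⁻¹ = x_b(t)` for all `t`.  For a square `t = r²`: `x_b(r²) = h_b(r) x_b(1) h_b(r)⁻¹`,
`n h_b(r) n⁻¹ = w_a w_b h_b(r) h_a(r) w_b⁻¹ w_a⁻¹ = w_a h_b(r)⁻¹ h_a(r) h_b(r²) w_a⁻¹ = w_a h_a(r) h_b(r) w_a⁻¹ = h_a(r)⁻¹ h_b(r) h_a(r) = h_b(r)` (`w_a⁻¹ h_b(r) w_a = h_b(r) h_a(r)`: T2 through `R`… use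
`R.wa_hb` for `w_a⁻¹` via `w_a² = h_a(-1)`), and `n x_b(1) n⁻¹ = x_b(1)` (`H.W8`).  T4 with `c = 1`, `S` = squares (T3). -/
theorem wact_bd (ζ : Fˣ) (φa φb : Matrix.SpecialLinearGroup (Fin 2) F →* G) (H : Hyp ζ φa φb)
    (R : Tor4 φa φb) : ∀ t, rn φb * xd φa φb t * (rn φb)⁻¹ = xd φa φb t := by
  intro t
  have key := sp4w3_key ζ φa φb H R t
  unfold xd
  nth_rewrite 2 [← key]
  group

end W

end Cfsg.Agent.Lib.helper3.SP4
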