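import Mathlib
import Cfsg.Agent.Lib.helper17.SLP.Defs

/-!
# SLP row BN1 (`bn_card`), helper17.  Verbatim statement of `helper17/SLP/Skel.lean.txt`.
Own extras are prefixed `slpbn1_`.
-/

set_option autoImplicit false

namespace Cfsg.Agent.Lib.helper17.SLP

open Polynomial

universe u v

section

variable {G : Type u} [Group G] {F : Type v} [Field F]

theorem slpbn1_x_zero (x : F → G) (hadd : ∀ s t, x (s + t) = x s * x t) : x 0 = 1 := by
  have h := hadd 0 0
  rw [add_zero] at h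
  exact (mul_eq_left (a := x 0) (b := x 0)).mp h.symm

theorem slpbn1_x_neg (x : F → G) (hadd : ∀ s t, x (s + t) = x s * x t) (t : F) :
    x (-t) = (x t)⁻¹ := by
  have h := hadd (-t) t
  rw [neg_add_cancel, slpbn1_x_zero x hadd] at h
  exact eq_inv_of_mul_eq_one_left h.symm

/-- the subgroup of elements `c` such that `c` and `c⁻¹` conjugate the range of `x` into itself. -/
def slpbn1_nsub (x : F → G) : Subgroup G where
  carrier := {c | (∀ t, ∃ t', c * x t * c⁻¹ = x t') ∧ (∀ t, ∃ t', c⁻¹ * x t * c = x t')}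
  one_mem' := ⟨fun t => ⟨t, by simp⟩, fun t => ⟨t, by simp⟩⟩
  mul_mem' := by
    rintro a b ⟨ha, ha'⟩ ⟨hb, hb'⟩
    constructor
    · intro t
      obtain ⟨t1, h1⟩ := hb t
      obtain ⟨t2, h2⟩ := ha t1
      refine ⟨t2, ?_⟩
      rw [← h2, ← h1]; group
    · intro t
      obtain ⟨t1, h1⟩ := ha' t
      obtain ⟨t2, h2⟩ := hb' t1
      refine ⟨t2, ?_⟩
      rw [← h2, ← h1]; group
  inv_mem' := by
    rintro a ⟨ha, ha'⟩
    refine ⟨fun t => ?_, fun t => ?_⟩
    · obtain ⟨t1, h1⟩ := ha' t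
      exact ⟨t1, by rw [← h1, inv_inv]⟩
    · obtain ⟨t1, h1⟩ := ha t
      exact ⟨t1, by rw [← h1, inv_inv]⟩

/-- `zpowers h` normalises the range of `x`. -/
theorem slpbn1_norm (x : F → G) (h : G) (hnorm : ∀ t, ∃ t', h * x t * h⁻¹ = x t')
    (hnorm' : ∀ t, ∃ t', h⁻¹ * x t * h = x t') (c : G) (hc : c ∈ Subgroup.zpowers h) (t : F) :
    ∃ t', c * x t = x t' * c := by
  have hle : Subgroup.zpowers h ≤ slpbn1_nsub x := by
    rw [Subgroup.zpowers_le]
    exact ⟨hnorm, hnorm'⟩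
  obtain ⟨t1, h1⟩ := (hle hc).1 t
  exact ⟨t1, by rw [← h1]; group⟩

/-- `w` inverts `zpowers h`. -/
theorem slpbn1_w_inv (h w : G) (hwh : w * h * w⁻¹ = h⁻¹) (c : G) (hc : c ∈ Subgroup.zpowers h) :
    w * c = c⁻¹ * w := by
  obtain ⟨i, rfl⟩ := hc
  have h1 : w * h ^ i * w⁻¹ = (h ^ i)⁻¹ := by
    have := map_zpow (MulAut.conj w) h i
    simp only [MulAut.conj_apply] at this
    rw [this, hwh, inv_zpow]
  calc w * h ^ i = w * h ^ i * w⁻¹ * w := by group
    _ = (h ^ i)⁻¹ * w := by rw [h1]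

end

/-- **BN1**. -/
theorem bn_card {G : Type*} [Group G] {F : Type*} [Field F] [Fintype F] (x : F → G) (h w : G) (N : ℕ)
    (hN0 : 0 < N) (hadd : ∀ s t, x (s + t) = x s * x t)
    (hnorm : ∀ t, ∃ t', h * x t * h⁻¹ = x t') (hnorm' : ∀ t, ∃ t', h⁻¹ * x t * h = x t')
    (hN : h ^ N = 1) (hwh : w * h * w⁻¹ = h⁻¹) (hw2 : w ^ 2 ∈ Subgroup.zpowers h)
    (hK : ∀ t : F, t ≠ 0 → ∃ (s s' : F) (c : G), c ∈ Subgroup.zpowers h ∧
      w * x t * w⁻¹ = x s * c * w * x s')
    (hgen : Subgroup.closure ({h, w} ∪ Set.range x) = ⊤) :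
    Finite G ∧ Nat.card G ≤ Fintype.card F * N * (Fintype.card F + 1) := by
  classical
  set H : Subgroup G := Subgroup.zpowers h with hH
  have x0 := slpbn1_x_zero x hadd
  have xneg := slpbn1_x_neg x hadd
  have nrm := slpbn1_norm x h hnorm hnorm'
  have winv := slpbn1_w_inv h w hwh
  -- the set `S`
  let S : Set G := {g | ∃ (t : F) (c : G), c ∈ H ∧ g = x t * c} ∪
    {g | ∃ (t : F) (c : G) (t' : F), c ∈ H ∧ g = x t * c * w * x t'}
  have hS1 : ∀ (t : F) (c : G), c ∈ H → x t * c ∈ S := fun t c hc => Or.inl ⟨t, c, hc, rfl⟩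
  have hS2 : ∀ (t : F) (c : G) (t' : F), c ∈ H → x t * c * w * x t' ∈ S :=
    fun t c t' hc => Or.inr ⟨t, c, t', hc, rfl⟩
  -- left multiplication by `x s`
  have Lx : ∀ (s : F), ∀ g ∈ S, x s * g ∈ S := by
    rintro s g (⟨t, c, hc, rfl⟩ | ⟨t, c, t', hc, rfl⟩)
    · have : x s * (x t * c) = x (s + t) * c := by rw [hadd, mul_assoc]
      rw [this]; exact hS1 _ _ hc
    · have : x s * (x t * c * w * x t') = x (s + t) * c * w * x t' := by
        rw [hadd]; simp only [mul_assoc]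
      rw [this]; exact hS2 _ _ _ hc
  -- left multiplication by `c ∈ H`
  have LH : ∀ (d : G), d ∈ H → ∀ g ∈ S, d * g ∈ S := by
    rintro d hd g (⟨t, c, hc, rfl⟩ | ⟨t, c, t', hc, rfl⟩)
    · obtain ⟨t1, h1⟩ := nrm d hd t
      have : d * (x t * c) = x t1 * (d * c) := by rw [← mul_assoc, h1, mul_assoc]
      rw [this]; exact hS1 _ _ (H.mul_mem hd hc)
    · obtain ⟨t1, h1⟩ := nrm d hd t
      have : d * (x t * c * w * x t') = x t1 * (d * c) * w * x t' := by
        rw [← mul_assoc, ← mul_assoc, ← mul_assoc, h1]; simp only [mul_assoc]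
      rw [this]; exact hS2 _ _ _ (H.mul_mem hd hc)
  -- left multiplication by `w`
  have Lw : ∀ g ∈ S, w * g ∈ S := by
    rintro g (⟨t, c, hc, rfl⟩ | ⟨t, c, t', hc, rfl⟩)
    · -- `w x t c = c⁻¹ w x t''`
      obtain ⟨t1, h1⟩ := nrm c⁻¹ (H.inv_mem hc) t
      have : w * (x t * c) = x 0 * c⁻¹ * w * x t1 := by
        rw [x0, one_mul]
        have e : x t * c = c * (c⁻¹ * x t) * c := by group
        rw [e, h1]
        have e2 : w * (c * (x t1 * c⁻¹) * c) = (w * c) * x t1 := by group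
        rw [e2, winv c hc]
      rw [this]; exact hS2 _ _ _ (H.inv_mem hc)
    · by_cases ht : t = 0
      · subst ht
        -- `w c w x t' = (c⁻¹ w²) x t'`
        have hd : c⁻¹ * w ^ 2 ∈ H := H.mul_mem (H.inv_mem hc) hw2
        obtain ⟨t1, h1⟩ := nrm _ hd t'
        have : w * (x 0 * c * w * x t') = x t1 * (c⁻¹ * w ^ 2) := by
          rw [x0, one_mul, ← h1]
          have e : w * (c * w * x t') = (w * c) * w * x t' := by group
          rw [e, winv c hc, pow_two]
          group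
        rw [this]; exact hS1 _ _ hd
      · obtain ⟨s, s', c1, hc1, hk⟩ := hK t ht
        -- `w x t c w x t' = x s c1 w x s' (w c w) x t'`
        have hd : c⁻¹ * w ^ 2 ∈ H := H.mul_mem (H.inv_mem hc) hw2
        obtain ⟨t1, h1⟩ := nrm _ hd t'
        obtain ⟨t2, h2⟩ := nrm _ (H.inv_mem hd) (s' + t1)
        have e0 : w * (x t * c * w * x t') = (w * x t * w⁻¹) * ((w * c) * w) * x t' := by group
        have : w * (x t * c * w * x t') = x s * (c1 * (c⁻¹ * w ^ 2)⁻¹) * w * x t2 := by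
          rw [e0, hk, winv c hc]
          have e1 : x s * c1 * w * x s' * (c⁻¹ * w * w) * x t' =
              x s * c1 * w * x s' * ((c⁻¹ * w ^ 2) * x t') := by rw [pow_two]; group
          rw [e1, h1]
          have e2 : x s * c1 * w * x s' * (x t1 * (c⁻¹ * w ^ 2)) =
              x s * c1 * w * (x (s' + t1)) * (c⁻¹ * w ^ 2) := by
            rw [hadd]; group
          rw [e2]
          -- move `d := c⁻¹ w²` to the left of `x (s' + t1)` and of `w`
          have e3 : x (s' + t1) * (c⁻¹ * w ^ 2) =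
              (c⁻¹ * w ^ 2) * ((c⁻¹ * w ^ 2)⁻¹ * x (s' + t1)) * (c⁻¹ * w ^ 2) := by group
          have e4 : x s * c1 * w * x (s' + t1) * (c⁻¹ * w ^ 2) =
              x s * c1 * w * (x (s' + t1) * (c⁻¹ * w ^ 2)) := by group
          rw [e4, e3, h2]
          have e5 : x s * c1 * w * ((c⁻¹ * w ^ 2) * (x t2 * (c⁻¹ * w ^ 2)⁻¹) * (c⁻¹ * w ^ 2)) =
              x s * c1 * (w * (c⁻¹ * w ^ 2)) * x t2 := by group
          rw [e5, winv _ hd]
          group
        rw [this]; exact hS2 _ _ _ (H.mul_mem hc1 (H.inv_mem hd))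
  -- the subgroup of elements stabilising `S` from the left (with their inverses)
  let M : Subgroup G :=
    { carrier := {g | (∀ s ∈ S, g * s ∈ S) ∧ (∀ s ∈ S, g⁻¹ * s ∈ S)}
      one_mem' := ⟨fun s hs => by rwa [one_mul], fun s hs => by rwa [inv_one, one_mul]⟩
      mul_mem' := by
        rintro a b ⟨ha, ha'⟩ ⟨hb, hb'⟩
        refine ⟨fun s hs => ?_, fun s hs => ?_⟩
        · rw [mul_assoc]; exact ha _ (hb _ hs)
        · rw [mul_inv_rev, mul_assoc]; exact hb' _ (ha' _ hs)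
      inv_mem' := by
        rintro a ⟨ha, ha'⟩
        exact ⟨ha', fun s hs => by rw [inv_inv]; exact ha _ hs⟩ }
  have hhH : h ∈ H := Subgroup.mem_zpowers h
  have hMtop : M = ⊤ := by
    rw [eq_top_iff, ← hgen, Subgroup.closure_le]
    rintro g (hg | ⟨t, rfl⟩)
    · rcases hg with rfl | hg
      · exact ⟨LH _ hhH, LH _ (H.inv_mem hhH)⟩
      · rw [Set.mem_singleton_iff] at hg
        subst hg
        refine ⟨Lw, fun s hs => ?_⟩
        have e : g⁻¹ * s = g * ((g ^ 2)⁻¹ * s) := by rw [pow_two]; group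
        rw [e]
        exact Lw _ (LH _ (H.inv_mem hw2) _ hs)
    · refine ⟨Lx t, fun s hs => ?_⟩
      rw [← xneg]
      exact Lx _ _ hs
  have h1S : (1 : G) ∈ S := by
    have := hS1 0 1 (H.one_mem)
    rwa [x0, one_mul] at this
  have hSuniv : ∀ g : G, g ∈ S := by
    intro g
    have hg : g ∈ M := by rw [hMtop]; trivial
    have := hg.1 1 h1S
    rwa [mul_one] at this
  -- counting
  have hfin : IsOfFinOrder h := isOfFinOrder_iff_pow_eq_one.mpr ⟨N, hN0, hN⟩
  have : Finite H := by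
    rw [hH]
    exact (hfin.finite_zpowers).to_subtype
  have hcardH : Nat.card H ≤ N := by
    rw [hH, Nat.card_zpowers]
    exact Nat.le_of_dvd hN0 (orderOf_dvd_of_pow_eq_one hN)
  let f : (F × H) ⊕ (F × H × F) → G := fun z =>
    match z with
    | Sum.inl (t, c) => x t * (c : G)
    | Sum.inr (t, c, t') => x t * (c : G) * w * x t'
  have hf : Function.Surjective f := by
    intro g
    rcases hSuniv g with ⟨t, c, hc, rfl⟩ | ⟨t, c, t', hc, rfl⟩
    · exact ⟨Sum.inl (t, ⟨c, hc⟩), rfl⟩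
    · exact ⟨Sum.inr (t, ⟨c, hc⟩, t'), rfl⟩
  have : Finite G := Finite.of_surjective f hf
  refine ⟨inferInstance, ?_⟩
  have h1 := Nat.card_le_card_of_surjective f hf
  have h2 : Nat.card ((F × H) ⊕ (F × H × F)) =
      Fintype.card F * Nat.card H + Fintype.card F * (Nat.card H * Fintype.card F) := by
    rw [Nat.card_sum, Nat.card_prod, Nat.card_prod, Nat.card_prod, Nat.card_eq_fintype_card]
  rw [h2] at h1
  calc Nat.card G ≤ Fintype.card F * Nat.card H + Fintype.card F * (Nat.card H * Fintype.card F) := h1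
    _ ≤ Fintype.card F * N + Fintype.card F * (N * Fintype.card F) := by
        gcongr
    _ = Fintype.card F * N * (Fintype.card F + 1) := by ring
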