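import Mathlib
import Cfsg.Agent.Lib.helper17.SLP.Defs

/-!
# SLP row P2 (`ev_wordsQ` … `ev_wordsT`), helper17.  Verbatim statements of `helper17/SLP/Skel.lean.txt`.
-/

set_option autoImplicit false

namespace Cfsg.Agent.Lib.helper17.SLP

open Polynomial

universe u v

theorem ev_wordsQ {G : Type*} [Group G] (u h w : G) (p : ℕ) (m : (ZMod p)[X]) :
    (∀ r ∈ wordsQ p m, ev u h w r = 1) ↔
      (u ^ p = 1 ∧ cm u (cj h u 1) = 1 ∧ pw p h u 1 m = 1) := by
  simp only [wordsQ, List.forall_mem_cons, List.not_mem_nil, IsEmpty.forall_iff, implies_true,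
    and_true, map_pow, map_cm, map_cj, map_pw, ev_gU, ev_gH]

theorem ev_wordsR {G : Type*} [Group G] (u h w : G) (p : ℕ) (k l : ℤ) (m fl : (ZMod p)[X]) :
    (∀ r ∈ wordsR p k l m fl, ev u h w r = 1) ↔
      (u ^ p = 1 ∧ cm u (cj h u l) = 1 ∧ cj h u k = cj h u l * u ∧ pw p h u l m = 1 ∧
        cj h u 1 = pw p h u l fl) := by
  simp only [wordsR, List.forall_mem_cons, List.not_mem_nil, IsEmpty.forall_iff, implies_true,
    and_true, map_pow, map_mul, map_inv, map_cm, map_cj, map_pw, ev_gU, ev_gH, mul_inv_eq_one]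

theorem ev_wordsR2 {G : Type*} [Group G] (u h w : G) (k : ℤ) (m : (ZMod 2)[X]) :
    (∀ r ∈ wordsR2 k m, ev u h w r = 1) ↔
      (u ^ 2 = 1 ∧ cj h u k = cj h u 1 * u ∧ pw 2 h u 1 m = 1) := by
  simp only [wordsR2, List.forall_mem_cons, List.not_mem_nil, IsEmpty.forall_iff, implies_true,
    and_true, map_pow, map_mul, map_inv, map_cj, map_pw, ev_gU, ev_gH, mul_inv_eq_one]

theorem ev_wordsSL {G : Type*} [Group G] (u h w : G) (n : ℕ) (az : FreeGroup (Fin 3)) :
    (∀ r ∈ wordsSL n az, ev u h w r = 1) ↔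
      (w * h * w⁻¹ = h⁻¹ ∧ w ^ 2 = h ^ n ∧ relK1 u w = 1 ∧ relK2 (ev u h w az) h w = 1) := by
  simp only [wordsSL, List.forall_mem_cons, List.not_mem_nil, IsEmpty.forall_iff, implies_true,
    and_true, map_pow, map_mul, map_inv, map_relK1, map_relK2, ev_gU, ev_gH, ev_gW,
    mul_eq_one_iff_eq_inv, inv_inv]

theorem ev_wordsPE {G : Type*} [Group G] (u h w : G) (az : FreeGroup (Fin 3)) :
    (∀ r ∈ wordsPE az, ev u h w r = 1) ↔
      (w * h * w⁻¹ = h⁻¹ ∧ w ^ 2 = 1 ∧ relK1 u w = 1 ∧ relK2 (ev u h w az) h w = 1) := by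
  simp only [wordsPE, List.forall_mem_cons, List.not_mem_nil, IsEmpty.forall_iff, implies_true,
    and_true, map_pow, map_mul, map_inv, map_relK1, map_relK2, ev_gU, ev_gH, ev_gW,
    mul_eq_one_iff_eq_inv]

theorem ev_wordsPO {G : Type*} [Group G] (u h w : G) (n : ℕ) (az : FreeGroup (Fin 3)) :
    (∀ r ∈ wordsPO n az, ev u h w r = 1) ↔
      (w ^ 2 = 1 ∧ braid n (h * w) w = 1 ∧ relK1 u w = 1 ∧ relK2 (ev u h w az) h w = 1) := by
  simp only [wordsPO, List.forall_mem_cons, List.not_mem_nil, IsEmpty.forall_iff, implies_true,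
    and_true, map_pow, map_mul, map_braid, map_relK1, map_relK2, ev_gU, ev_gH, ev_gW]

theorem ev_wordsT {G : Type*} [Group G] (u h w : G) (n : ℕ) :
    (∀ r ∈ wordsT n, ev u h w r = 1) ↔ (relK1 u w = 1 ∧ braid n (h * w) w = 1) := by
  simp only [wordsT, List.forall_mem_cons, List.not_mem_nil, IsEmpty.forall_iff, implies_true,
    and_true, map_mul, map_braid, map_relK1, ev_gU, ev_gH, ev_gW]

end Cfsg.Agent.Lib.helper17.SLP
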