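import Mathlib
import Cfsg.Agent.Lib.Helper13.O459.Defs
import Cfsg.Agent.Lib.Helper25.CharLinear
import Cfsg.Agent.Lib.Helper25.CharOrth

/-!
# Project O459 (S1022), piece CENT: `cent_ge` (column orthogonality at `y`).
-/

set_option autoImplicit false
set_option linter.unusedVariables false
set_option linter.unusedSectionVars false

namespace Cfsg.Agent.Lib.Helper13.O459

open Classical
open Cfsg.Agent.Lib.helper7.BR Cfsg.Agent.Lib.Helper25

universe u

variable {G : Type u} [Group G] [Fintype G]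

/-- a value `18` or `-20` has `z * conj z ≥ 324` (as a real number). -/
theorem o459cent_val (z : ℂ) (h : z = 18 ∨ z = -20) :
    ∃ r : ℝ, 324 ≤ r ∧ z * (starRingEnd ℂ) z = (r : ℂ) := by
  rcases h with h | h
  · refine ⟨324, le_refl _, ?_⟩
    rw [h]
    have : (starRingEnd ℂ) (18 : ℂ) = 18 := by
      rw [show (18 : ℂ) = ((18 : ℝ) : ℂ) by norm_num, Complex.conj_ofReal]
    rw [this]; norm_num
  · refine ⟨400, by norm_num, ?_⟩
    rw [h]
    have : (starRingEnd ℂ) (-20 : ℂ) = -20 := by
      rw [show (-20 : ℂ) = ((-20 : ℝ) : ℂ) by norm_num, Complex.conj_ofReal]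
    rw [this]; norm_num

/-- CENT [S-M]: column orthogonality at `y`: `|C_G(y)| ≥ 1 + 324 + 324`. -/
theorem cent_ge (y : G) (χ χ' : Cfsg.IrrCharacter G) (hne : χ ≠ χ')
    (h : (χ : G → ℂ) y = 18 ∨ (χ : G → ℂ) y = -20)
    (h' : (χ' : G → ℂ) y = 18 ∨ (χ' : G → ℂ) y = -20) :
    649 ≤ Nat.card ↥(Subgroup.centralizer ({y} : Set G)) := by
  have : Fintype (Cfsg.IrrCharacter G) := Fintype.ofFinite _
  have hcol := irr_column_orthogonality (G := G) y y
  rw [if_pos (IsConj.refl y)] at hcol
  -- every term is a non-negative real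
  have hterm : ∀ ψ : Cfsg.IrrCharacter G,
      (ψ : G → ℂ) y * (starRingEnd ℂ) ((ψ : G → ℂ) y) = ((Complex.normSq ((ψ : G → ℂ) y) : ℝ) : ℂ) :=
    fun ψ => Complex.mul_conj _
  have hsum : (∑ ψ : Cfsg.IrrCharacter G, Complex.normSq ((ψ : G → ℂ) y)) =
      (Nat.card ↥(Subgroup.centralizer ({y} : Set G)) : ℝ) := by
    have : ((∑ ψ : Cfsg.IrrCharacter G, Complex.normSq ((ψ : G → ℂ) y) : ℝ) : ℂ) =
        ((Nat.card ↥(Subgroup.centralizer ({y} : Set G)) : ℝ) : ℂ) := by
      rw [Complex.ofReal_sum]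
      simp only [← hterm]
      rw [hcol]; norm_cast
    exact_mod_cast this
  have htriv : Complex.normSq ((trivIrr G : G → ℂ) y) = 1 := by simp
  have hχ : 324 ≤ Complex.normSq ((χ : G → ℂ) y) := by
    obtain ⟨r, hr, hrz⟩ := o459cent_val _ h
    rw [Complex.mul_conj] at hrz
    have : Complex.normSq ((χ : G → ℂ) y) = r := by exact_mod_cast hrz
    rw [this]; exact hr
  have hχ' : 324 ≤ Complex.normSq ((χ' : G → ℂ) y) := by
    obtain ⟨r, hr, hrz⟩ := o459cent_val _ h'
    rw [Complex.mul_conj] at hrz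
    have : Complex.normSq ((χ' : G → ℂ) y) = r := by exact_mod_cast hrz
    rw [this]; exact hr
  -- the three characters are distinct
  have h1χ : trivIrr G ≠ χ := by
    intro he
    rw [← he, trivIrr_apply] at h
    rcases h with h | h
    · have := congrArg Complex.re h; norm_num at this
    · have := congrArg Complex.re h; norm_num at this
  have h1χ' : trivIrr G ≠ χ' := by
    intro he
    rw [← he, trivIrr_apply] at h'
    rcases h' with h' | h'
    · have := congrArg Complex.re h'; norm_num at this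
    · have := congrArg Complex.re h'; norm_num at this
  have hsub : ({trivIrr G, χ, χ'} : Finset (Cfsg.IrrCharacter G)) ⊆ Finset.univ := Finset.subset_univ _
  have hle := Finset.sum_le_sum_of_subset_of_nonneg hsub
    (f := fun ψ : Cfsg.IrrCharacter G => Complex.normSq ((ψ : G → ℂ) y))
    (fun i _ _ => Complex.normSq_nonneg _)
  rw [Finset.sum_insert (by simp [h1χ, h1χ']), Finset.sum_insert (by simp [hne]),
    Finset.sum_singleton, hsum, htriv] at hle
  have : (649 : ℝ) ≤ (Nat.card ↥(Subgroup.centralizer ({y} : Set G)) : ℝ) := by linarith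
  exact_mod_cast this

end Cfsg.Agent.Lib.Helper13.O459
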