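import Mathlib
import Cfsg.Agent.Lib.Helper13.S5955.Defs

/-!
# Project S5955, row T10 (distinct_bound), CORE (helper17)

`s5955t10_core`: the statement of `distinct_bound` with the statements of T4 (`peel_nd`) and T8 (`cw`),
specialised to the context, as hypotheses.  Proof: generalise to `Q ∣ Φ_r`, `N ≤ ker Q(x)` ⇒ `dim N ≤ deg Q`,
strong induction on `dim N`: an invariant `U₁ ≤ N` of dimension `i` is non-degenerate (its radical is a t.i.
invariant subspace), `N = U₁ ⟂ N'` (T4); an irreducible `P ∣ Q` kills `U₁`; `N' ⊓ ker P(x) = 0` (else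
`M = U₁ ⊕ U₂` of dimension `2 i > i` killed by `P` and T8 gives a non-zero t.i. invariant subspace);
so `N' ≤ ker (Q / P)(x)` and induction.
-/

set_option autoImplicit false

namespace Cfsg.Agent.Lib.Helper13.S5955

open Polynomial Module
open Cfsg.Agent.Lib.Helper24

/-- alternating ⇒ skew-symmetric -/
theorem s5955t10_skew {F : Type*} [Field F] {V : Type*} [AddCommGroup V] [Module F V]
    (B : LinearMap.BilinForm F V) (halt : ∀ v, B v v = 0) (u v : V) : B u v = -B v u := by
  have h := halt (u + v)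
  simp only [map_add, LinearMap.add_apply, halt u, halt v, zero_add, add_zero] at h
  linear_combination h

/-- the orthogonal of an invariant subspace is invariant (T1 inline) -/
theorem s5955t10_perp_inv {F : Type*} [Field F] {V : Type*} [AddCommGroup V] [Module F V]
    {r : ℕ} (hr : 0 < r) {B : LinearMap.BilinForm F V} {x : Module.End F V} (h : SCtx r B x)
    (U : Submodule F V) (hU : SInv x U) : SInv x (B.orthogonal U) := by
  intro m hm
  rw [LinearMap.BilinForm.mem_orthogonal_iff] at hm ⊢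
  intro n hn
  have h1 : x ((x ^ (r - 1)) n) = n := by
    rw [← Module.End.mul_apply, ← pow_succ', Nat.sub_add_cancel hr, h.pow, Module.End.one_apply]
  have h2 : (x ^ (r - 1)) n ∈ U := el_pow_mem hU (r - 1) hn
  have h3 : B ((x ^ (r - 1)) n) m = 0 := hm _ h2
  show B n (x m) = 0
  rw [← h1, h.pres]
  exact h3

/-- the span of the orbit of `v` -/
theorem s5955t10_orbit_span {F : Type*} [Field F] {V : Type*} [AddCommGroup V] [Module F V]
    {B : LinearMap.BilinForm F V} {x : Module.End F V} (v : V)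
    (hvB : ∀ a b : ℕ, B ((x ^ a) v) ((x ^ b) v) = 0) :
    v ∈ Submodule.span F (Set.range (fun a : ℕ => (x ^ a) v)) ∧
      SInv x (Submodule.span F (Set.range (fun a : ℕ => (x ^ a) v))) ∧
      STI B (Submodule.span F (Set.range (fun a : ℕ => (x ^ a) v))) := by
  refine ⟨?_, ?_, ?_⟩
  · apply Submodule.subset_span
    exact ⟨0, by simp⟩
  · rw [SInv, ← el_inv_iff, Submodule.map_span_le]
    rintro _ ⟨a, rfl⟩
    apply Submodule.subset_span
    refine ⟨a + 1, ?_⟩
    show (x ^ (a + 1)) v = x ((x ^ a) v)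
    rw [pow_succ', Module.End.mul_apply]
  · have h1 : ∀ a : ℕ, Submodule.span F (Set.range (fun a : ℕ => (x ^ a) v)) ≤
        LinearMap.ker (B ((x ^ a) v)) := by
      intro a
      rw [Submodule.span_le]
      rintro _ ⟨b, rfl⟩
      exact LinearMap.mem_ker.mpr (hvB a b)
    have h2 : ∀ w ∈ Submodule.span F (Set.range (fun a : ℕ => (x ^ a) v)),
        Submodule.span F (Set.range (fun a : ℕ => (x ^ a) v)) ≤ LinearMap.ker (B.flip w) := by
      intro w hw
      rw [Submodule.span_le]
      rintro _ ⟨a, rfl⟩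
      have h3 : B ((x ^ a) v) w = 0 := LinearMap.mem_ker.mp (h1 a hw)
      exact LinearMap.mem_ker.mpr h3
    intro u hu w hw
    have h4 : B.flip w u = 0 := LinearMap.mem_ker.mp (h2 w hw hu)
    exact h4

/-- the generalised induction -/
theorem s5955t10_gen {F : Type*} [Field F] [Fintype F] {p : ℕ} [Fact p.Prime] [CharP F p]
    {V : Type*} [AddCommGroup V] [Module F V] [FiniteDimensional F V]
    {r : ℕ} [Fact r.Prime] (hrp : r ≠ p) {B : LinearMap.BilinForm F V} {x : Module.End F V}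
    (h : SCtx r B x) (heven : Even (orderOf ((Fintype.card F : ℕ) : ZMod r)))
    (hT4 : ∀ N U : Submodule F V, SInv x N → SND B N → U ≤ N → SInv x U → SND B U →
      ∃ N' : Submodule F V, N' ≤ N ∧ SInv x N' ∧ SND B N' ∧ SOrth B U N' ∧ Disjoint U N' ∧
        finrank F N' + finrank F U = finrank F N)
    (hT8 : ∀ M : Submodule F V, SInv x M → ∀ (f : F[X]) (i : ℕ), f.natDegree = i →
      f.coeff 0 ≠ 0 → (∀ u ∈ M, aeval x f u = 0) → Even i → i < finrank F M →
      ∃ v ∈ M, v ≠ 0 ∧ ∀ a b : ℕ, B ((x ^ a) v) ((x ^ b) v) = 0) :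
    ∀ n : ℕ, ∀ (Q : F[X]) (N : Submodule F V), finrank F N = n → Q ∣ cyclotomic r F → SInv x N →
      (∀ u ∈ N, aeval x Q u = 0) → SND B N →
      (∀ U : Submodule F V, U ≤ N → SInv x U → STI B U → U = ⊥) →
      finrank F N ≤ Q.natDegree := by
  have hrpr : r.Prime := Fact.out
  intro n
  induction n using Nat.strong_induction_on with
  | _ n ih =>
    intro Q N hn hQ hN hkill hNnd hno
    set i := orderOf ((Fintype.card F : ℕ) : ZMod r) with hi
    have hipos : 0 < i := el_ord_pos (F := F) r hrp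
    have hQ0 : Q ≠ 0 := ne_zero_of_dvd_ne_zero (cyclotomic_ne_zero r F) hQ
    have hd : ∀ P : F[X], Irreducible P → P ∣ Q → P.natDegree = i :=
      fun P hP hPQ => el_cyc_deg r hrp P hP (hPQ.trans hQ)
    by_cases hNbot : N = ⊥
    · rw [hNbot, finrank_bot]
      exact Nat.zero_le _
    have hdvd : i ∣ finrank F N := el_dvd_dim x N hN Q hQ0 hkill i hipos hd
    have hpos : 0 < finrank F N :=
      Nat.pos_of_ne_zero (fun h0 => hNbot (Submodule.finrank_eq_zero.mp h0))
    have hile : i ≤ finrank F N := Nat.le_of_dvd hpos hdvd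
    obtain ⟨U1, hU1N, hU1, hU1d⟩ := el_exists_dim x N hN Q hQ0 hkill i hd 1
      (by rw [one_mul]; exact hile)
    rw [one_mul] at hU1d
    -- U1 is non-degenerate
    have hRinv : SInv x (U1 ⊓ B.orthogonal U1) :=
      el_inv_inf hU1 (s5955t10_perp_inv hrpr.pos h U1 hU1)
    have hRti : STI B (U1 ⊓ B.orthogonal U1) := by
      intro u hu v hv
      have h1 := (LinearMap.BilinForm.mem_orthogonal_iff.mp hv.2) u hu.1
      exact h1
    have hR : U1 ⊓ B.orthogonal U1 = ⊥ :=
      hno _ (inf_le_left.trans hU1N) hRinv hRti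
    have hU1nd : SND B U1 := by
      intro u hu hall
      have hmem : u ∈ U1 ⊓ B.orthogonal U1 := by
        refine Submodule.mem_inf.mpr ⟨hu, ?_⟩
        rw [LinearMap.BilinForm.mem_orthogonal_iff]
        intro n' hn'
        show B n' u = 0
        rw [s5955t10_skew B h.alt, hall n' hn', neg_zero]
      rw [hR] at hmem
      exact (Submodule.mem_bot F).mp hmem
    obtain ⟨N', hN'N, hN', hN'nd, -, hDisj, hdim⟩ := hT4 N U1 hN hNnd hU1N hU1 hU1nd
    -- an irreducible factor killing U1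
    have hU1bot : U1 ≠ ⊥ := by
      intro hb
      rw [hb, finrank_bot] at hU1d
      omega
    obtain ⟨u0, hu0, hu00⟩ := Submodule.exists_mem_ne_zero_of_ne_bot hU1bot
    obtain ⟨w, hwU, hw0, P, hPirr, hPQ, hPw⟩ := el_find x ⊥ U1 hU1 Q Q.natDegree Q hQ0 le_rfl
      dvd_rfl u0 hu0 (by simpa using hu00)
      (by rw [hkill u0 (hU1N hu0)]; exact Submodule.zero_mem _)
    have hPw' : aeval x P w = 0 := (Submodule.mem_bot F).mp hPw
    have hw0' : w ≠ 0 := by simpa using hw0
    have hPdeg : P.natDegree = i := hd P hPirr hPQ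
    have hU1P : U1 ≤ LinearMap.ker (aeval x P) := by
      have hKinv : SInv x (U1 ⊓ LinearMap.ker (aeval x P)) := el_inv_inf hU1 (el_inv_ker x P)
      have hKkill : ∀ u ∈ U1 ⊓ LinearMap.ker (aeval x P), aeval x Q u = 0 :=
        fun u hu => hkill u (hU1N hu.1)
      have hKdvd : i ∣ finrank F ↥(U1 ⊓ LinearMap.ker (aeval x P)) :=
        el_dvd_dim x _ hKinv Q hQ0 hKkill i hipos hd
      have hKne : U1 ⊓ LinearMap.ker (aeval x P) ≠ ⊥ := by
        intro hb
        have : w ∈ U1 ⊓ LinearMap.ker (aeval x P) := ⟨hwU, LinearMap.mem_ker.mpr hPw'⟩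
        rw [hb] at this
        exact hw0' ((Submodule.mem_bot F).mp this)
      have hKpos : 0 < finrank F ↥(U1 ⊓ LinearMap.ker (aeval x P)) :=
        Nat.pos_of_ne_zero (fun h0 => hKne (Submodule.finrank_eq_zero.mp h0))
      have hKge : finrank F U1 ≤ finrank F ↥(U1 ⊓ LinearMap.ker (aeval x P)) := by
        rw [hU1d]
        exact Nat.le_of_dvd hKpos hKdvd
      have hKeq : U1 ⊓ LinearMap.ker (aeval x P) = U1 :=
        Submodule.eq_of_le_of_finrank_le inf_le_left hKge
      rw [← hKeq]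
      exact inf_le_right
    -- N' meets ker P(x) trivially
    have hK2 : N' ⊓ LinearMap.ker (aeval x P) = ⊥ := by
      by_contra hK2ne
      have hK2inv : SInv x (N' ⊓ LinearMap.ker (aeval x P)) := el_inv_inf hN' (el_inv_ker x P)
      have hK2kill : ∀ u ∈ N' ⊓ LinearMap.ker (aeval x P), aeval x Q u = 0 :=
        fun u hu => hkill u (hN'N hu.1)
      have hK2dvd : i ∣ finrank F ↥(N' ⊓ LinearMap.ker (aeval x P)) :=
        el_dvd_dim x _ hK2inv Q hQ0 hK2kill i hipos hd
      have hK2pos : 0 < finrank F ↥(N' ⊓ LinearMap.ker (aeval x P)) :=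
        Nat.pos_of_ne_zero (fun h0 => hK2ne (Submodule.finrank_eq_zero.mp h0))
      have hK2ge : i ≤ finrank F ↥(N' ⊓ LinearMap.ker (aeval x P)) := Nat.le_of_dvd hK2pos hK2dvd
      obtain ⟨U2, hU2K, hU2, hU2d⟩ := el_exists_dim x _ hK2inv Q hQ0 hK2kill i hd 1
        (by rw [one_mul]; exact hK2ge)
      rw [one_mul] at hU2d
      have hU2N' : U2 ≤ N' := hU2K.trans inf_le_left
      have hMinv : SInv x (U1 ⊔ U2) := el_inv_sup hU1 hU2
      have hMle : U1 ⊔ U2 ≤ LinearMap.ker (aeval x P) := sup_le hU1P (hU2K.trans inf_le_right)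
      have hMkill : ∀ u ∈ U1 ⊔ U2, aeval x P u = 0 := fun u hu => LinearMap.mem_ker.mp (hMle hu)
      have hMN : U1 ⊔ U2 ≤ N := sup_le hU1N (hU2N'.trans hN'N)
      have hinf : U1 ⊓ U2 = ⊥ := (hDisj.mono_right hU2N').eq_bot
      have hMdim : finrank F ↥(U1 ⊔ U2) = 2 * i := by
        have := Submodule.finrank_sup_add_finrank_inf_eq U1 U2
        rw [hinf, finrank_bot, hU1d, hU2d] at this
        omega
      have hf0 : P.coeff 0 ≠ 0 := by
        intro h0
        have hX : (X : F[X]) ∣ P := Polynomial.X_dvd_iff.mpr h0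
        have hX' : (X : F[X]) ∣ cyclotomic r F := hX.trans (hPQ.trans hQ)
        have h1 := Polynomial.X_dvd_iff.mp hX'
        rw [cyclotomic_coeff_zero F hrpr.one_lt] at h1
        exact one_ne_zero h1
      obtain ⟨v, hvM, hv0, hvB⟩ := hT8 (U1 ⊔ U2) hMinv P i hPdeg hf0 hMkill heven
        (by rw [hMdim]; omega)
      obtain ⟨hvT, hTinv, hTti⟩ := s5955t10_orbit_span (B := B) (x := x) v hvB
      have hTle : Submodule.span F (Set.range (fun a : ℕ => (x ^ a) v)) ≤ N := by
        rw [Submodule.span_le]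
        rintro _ ⟨a, rfl⟩
        exact hMN (el_pow_mem hMinv a hvM)
      have hT0 := hno _ hTle hTinv hTti
      rw [hT0] at hvT
      exact hv0 ((Submodule.mem_bot F).mp hvT)
    -- N' is killed by Q / P
    obtain ⟨Q', rfl⟩ := hPQ
    have hP0 : P ≠ 0 := left_ne_zero_of_mul hQ0
    have hQ'0 : Q' ≠ 0 := right_ne_zero_of_mul hQ0
    have hkill' : ∀ u ∈ N', aeval x Q' u = 0 := by
      intro u hu
      have h1 : aeval x Q' u ∈ N' := el_aeval_mem hN' Q' hu
      have h2 : aeval x P (aeval x Q' u) = 0 := by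
        rw [← Module.End.mul_apply, ← map_mul]
        exact hkill u (hN'N hu)
      have h3 : aeval x Q' u ∈ N' ⊓ LinearMap.ker (aeval x P) := ⟨h1, LinearMap.mem_ker.mpr h2⟩
      rw [hK2] at h3
      exact (Submodule.mem_bot F).mp h3
    have hQ'dvd : Q' ∣ cyclotomic r F := (Dvd.intro_left P rfl).trans hQ
    have hlt : finrank F N' < n := by
      rw [← hn, ← hdim, hU1d]
      omega
    have hrec := ih (finrank F N') hlt Q' N' rfl hQ'dvd hN' hkill' hN'nd
      (fun U hU => hno U (hU.trans hN'N))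
    rw [natDegree_mul hP0 hQ'0, hPdeg, ← hdim, hU1d]
    omega

/-- T10 core: `distinct_bound` from the statements of T4 and T8. -/
theorem s5955t10_core {F : Type*} [Field F] [Fintype F] {p : ℕ} [Fact p.Prime] [CharP F p]
    {V : Type*} [AddCommGroup V] [Module F V] [FiniteDimensional F V]
    {r : ℕ} [Fact r.Prime] (hrp : r ≠ p) {B : LinearMap.BilinForm F V} {x : Module.End F V}
    (h : SCtx r B x) (heven : Even (orderOf ((Fintype.card F : ℕ) : ZMod r)))
    (hT4 : ∀ N U : Submodule F V, SInv x N → SND B N → U ≤ N → SInv x U → SND B U →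
      ∃ N' : Submodule F V, N' ≤ N ∧ SInv x N' ∧ SND B N' ∧ SOrth B U N' ∧ Disjoint U N' ∧
        finrank F N' + finrank F U = finrank F N)
    (hT8 : ∀ M : Submodule F V, SInv x M → ∀ (f : F[X]) (i : ℕ), f.natDegree = i →
      f.coeff 0 ≠ 0 → (∀ u ∈ M, aeval x f u = 0) → Even i → i < finrank F M →
      ∃ v ∈ M, v ≠ 0 ∧ ∀ a b : ℕ, B ((x ^ a) v) ((x ^ b) v) = 0)
    (N : Submodule F V) (hN : SInv x N) (hNc : N ≤ cycS r x) (hNnd : SND B N)
    (hno : ∀ U : Submodule F V, U ≤ N → SInv x U → STI B U → U = ⊥) :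
    finrank F N ≤ r - 1 := by
  have hrpr : r.Prime := Fact.out
  have := s5955t10_gen hrp h heven hT4 hT8 (finrank F N) (cyclotomic r F) N rfl dvd_rfl hN
    (fun u hu => LinearMap.mem_ker.mp (hNc hu)) hNnd hno
  rwa [natDegree_cyclotomic, Nat.totient_prime hrpr] at this

end Cfsg.Agent.Lib.Helper13.S5955
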