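import Mathlib
import Cfsg.Agent.Lib.Helper16.O9H.Defs
import Cfsg.Agent.Lib.Helper16.SpinC1

set_option autoImplicit false

/-!
# O9H rows CSIGN (`perm_free_sign`) and CORB (`orbit_count`), verbatim.
-/

namespace Cfsg.Agent.Lib.Helper16.O9H

open Matrix Polynomial Module

theorem perm_free_sign {α : Type*} [Fintype α] [DecidableEq α] (σ : Equiv.Perm α) (o : ℕ) (ho : Even o)
    (hfree : ∀ x, σ x ≠ x → ∀ j : ℕ, (σ ^ j) x = x ↔ o ∣ j) (hsign : Equiv.Perm.sign σ = 1) :
    2 * o ∣ Nat.card {x // σ x ≠ x} := by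
  have hct := Cfsg.Agent.Lib.Helper16.cycleType_of_free σ o hfree
  set k := Multiset.card σ.cycleType with hk
  have hsum : σ.cycleType.sum = k * o := by
    rw [hct, Multiset.sum_replicate, smul_eq_mul]
  have hs := Equiv.Perm.sign_of_cycleType σ
  rw [hsign, hsum, ← hk] at hs
  have hkeven : Even k := by
    have h1 : Even (k * o + k) := by
      have hne : (-1 : ℤˣ) ≠ 1 := by decide
      exact (neg_one_pow_eq_one_iff_even hne).mp hs.symm
    have h2 : Even (k * o) := ho.mul_left k
    exact (Nat.even_add.mp h1).mp h2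
  have hcard : Nat.card {x // σ x ≠ x} = σ.support.card := by
    rw [Nat.card_eq_fintype_card, Fintype.card_subtype]
    congr 1
  rw [hcard, ← Equiv.Perm.sum_cycleType, hsum]
  obtain ⟨t, ht⟩ := hkeven
  rw [ht]
  exact ⟨t, by ring⟩

theorem orbit_count {α : Type*} [Fintype α] [DecidableEq α] (σ : Equiv.Perm α) (o : ℕ) (p : α → Prop)
    (hinv : ∀ x, p x → p (σ x)) (hfree : ∀ x, p x → ∀ j : ℕ, (σ ^ j) x = x ↔ o ∣ j) :
    o ∣ Nat.card {x // p x} := by
  classical
  have hpow : ∀ (j : ℕ) (x : α), p x → p ((σ ^ j) x) := by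
    intro j
    induction j with
    | zero => intro x hx; simpa using hx
    | succ j ih =>
      intro x hx
      rw [pow_succ', Equiv.Perm.mul_apply]
      exact hinv _ (ih x hx)
  have hiff : ∀ x, p (σ x) ↔ p x := by
    intro x
    constructor
    · intro h
      have hn : 0 < orderOf σ := orderOf_pos σ
      have h1 := hpow (orderOf σ - 1) (σ x) h
      have h2 : (σ ^ (orderOf σ - 1)) (σ x) = x := by
        rw [← Equiv.Perm.mul_apply, ← pow_succ, Nat.sub_add_cancel hn, pow_orderOf_eq_one]
        rfl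
      rwa [h2] at h1
    · exact hinv x
  let τ : Equiv.Perm {x // p x} := σ.subtypePerm hiff
  have hτ : ∀ (x : {x // p x}) (j : ℕ), (τ ^ j) x = x ↔ o ∣ j := by
    intro x j
    rw [← hfree x.1 x.2 j]
    have : ((τ ^ j) x : α) = (σ ^ j) x.1 := by
      simp only [τ, Equiv.Perm.subtypePerm_pow, Equiv.Perm.subtypePerm_apply]
    rw [← this]
    exact Subtype.ext_iff
  rw [Nat.card_eq_fintype_card]
  by_cases ho1 : o = 1
  · rw [ho1]
    exact one_dvd _
  · have hmoved : ∀ x : {x // p x}, τ x ≠ x := by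
      intro x hx
      have := (hτ x 1).mp (by rw [pow_one]; exact hx)
      exact ho1 (Nat.dvd_one.mp this)
    have hct := Cfsg.Agent.Lib.Helper16.cycleType_of_free τ o (fun x _ j => hτ x j)
    have hsum : τ.cycleType.sum = Multiset.card τ.cycleType * o := by
      rw [hct, Multiset.sum_replicate, smul_eq_mul, Multiset.card_replicate]
    have hsupp : τ.support = Finset.univ := by
      ext x
      simp only [Equiv.Perm.mem_support, Finset.mem_univ, iff_true]
      exact hmoved x
    have h1 := Equiv.Perm.sum_cycleType τ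
    rw [hsupp, Finset.card_univ, hsum] at h1
    rw [← h1]
    exact Dvd.intro_left _ rfl

end Cfsg.Agent.Lib.Helper16.O9H
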