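import Mathlib
import Cfsg.Agent.Lib.Helper16.O9H.Defs

set_option autoImplicit false

/-!
# O9H row AORD (`ord_exists`), verbatim: the order of the roots of an irreducible polynomial over a finite field.
-/

namespace Cfsg.Agent.Lib.Helper16.O9H

open Matrix Polynomial Module

variable {F : Type*} [Field F]

theorem ord_exists [Fintype F] (f : F[X]) (hf : Irreducible f) (h0 : f.coeff 0 ≠ 0) :
    ∃ o : ℕ, 0 < o ∧ ∀ j : ℕ, f ∣ (X ^ j - 1 : F[X]) ↔ o ∣ j := by
  haveI : Fact (Irreducible f) := ⟨hf⟩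
  have hfin : Module.Finite F (AdjoinRoot f) := (AdjoinRoot.powerBasis hf.ne_zero).finite
  haveI : Finite (AdjoinRoot f) := Module.finite_of_finite F
  have hα : AdjoinRoot.root f ≠ 0 := by
    intro h
    rw [← AdjoinRoot.mk_X, AdjoinRoot.mk_eq_zero] at h
    have hass := hf.associated_of_dvd Polynomial.irreducible_X h
    have hX : X ∣ f := hass.symm.dvd
    exact h0 (Polynomial.X_dvd_iff.mp hX)
  refine ⟨orderOf (Units.mk0 (AdjoinRoot.root f) hα), orderOf_pos _, ?_⟩
  intro j
  rw [orderOf_dvd_iff_pow_eq_one, ← AdjoinRoot.mk_eq_zero, map_sub, map_pow, AdjoinRoot.mk_X, map_one,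
    sub_eq_zero, Units.ext_iff, Units.val_pow_eq_pow_val, Units.val_mk0, Units.val_one]

end Cfsg.Agent.Lib.Helper16.O9H
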