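import Mathlib
import Cfsg.Agent.Lib.Helper18.OPE.Defs
import Cfsg.Agent.Lib.helper17.OPEQCTXO
import Cfsg.Agent.Lib.helper17.OPEQTYBOT
import Cfsg.Agent.Lib.helper23.ONECYCLADDER
import Cfsg.Agent.Lib.helper23.ONETYARITH
import Cfsg.Agent.Lib.Helper24.S5972SPLIT
import Cfsg.Agent.Lib.Helper24.ElC

set_option autoImplicit false

/-!
# Project OPE, rows QCYCTY (`q_cyc_ty`) and ADM (`q_adm`), CORES (helper17): the instances of QTYIFF / QTYFPF
(not on main yet) are hypotheses.
-/

namespace Cfsg.Agent.Lib.Helper18.OPE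

open Polynomial Module Cfsg.Agent.Lib.Helper13.S5955 Cfsg.Agent.Lib.helper15.S5972

/-- the counting type is unique -/
theorem opeqcycty_ty_inj {F : Type*} [Field F] [Fintype F] {V : Type*} [AddCommGroup V] [Module F V]
    (Q : QuadraticForm F V) (W : Submodule F V) (s₁ s₂ : ℤ) (h1 : QTy Q W s₁) (h2 : QTy Q W s₂) :
    s₁ = s₂ := by
  unfold QTy Cfsg.Agent.Lib.Helper16.OSemi.IsType at h1 h2
  have hq : (2 : ℤ) ≤ (Fintype.card F : ℤ) := by exact_mod_cast Fintype.one_lt_card
  set m := finrank F W / 2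
  have h3 : (s₁ - s₂) * ((Fintype.card F : ℤ) ^ (m + 1) - (Fintype.card F : ℤ) ^ m) = 0 := by
    linear_combination h2 - h1
  have h4 : (Fintype.card F : ℤ) ^ (m + 1) - (Fintype.card F : ℤ) ^ m ≠ 0 := by
    have h5 : (Fintype.card F : ℤ) ^ (m + 1) - (Fintype.card F : ℤ) ^ m
        = (Fintype.card F : ℤ) ^ m * ((Fintype.card F : ℤ) - 1) := by ring
    rw [h5]
    apply mul_ne_zero
    · exact pow_ne_zero _ (by omega)
    · omega
  rcases mul_eq_zero.mp h3 with h | h
  · omega
  · exact absurd h h4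

/-- `sg` takes the values `±1` -/
theorem opeqcycty_sg (i b : ℕ) : sg i b = 1 ∨ sg i b = -1 := by
  unfold sg
  split_ifs
  · rcases Nat.even_or_odd b with hb | hb
    · left; exact hb.neg_one_pow
    · right; exact hb.neg_one_pow
  · left; rfl

/-- QCYCTY core: `hclass` = the last clause of `qty_iff Q M hMnd hev`, `hfpf` = `qty_fpf` for `M` -/
theorem opeqcycty_core {F : Type*} [Field F] [Fintype F] {p : ℕ} [Fact p.Prime] [CharP F p]
    {V : Type*} [AddCommGroup V] [Module F V] [FiniteDimensional F V]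
    {r : ℕ} [Fact r.Prime] (hrp : r ≠ p) (hr2 : r ≠ 2) {Q : QuadraticForm F V}
    {x : Module.End F V} (h : QCtx r Q x) (i c : ℕ)
    (hi : i = orderOf ((Fintype.card F : ℕ) : ZMod r)) (hc : c = if Even i then i else 2 * i)
    (M : Submodule F V) (hM : SInv x M) (hMnd : SND (QuadraticMap.polarBilin Q) M)
    (hMc : M ≤ cycS r x)
    (hclass : Even (finrank F M) → (QTy Q M 1 ∨ QTy Q M (-1)))
    (hfpf : ∀ s : ℤ, M ≠ ⊥ → Even (finrank F M) → QTy Q M s →
      ((Fintype.card F : ℕ) : ZMod r) ^ (finrank F M / 2) = (s : ZMod r)) :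
    c ∣ finrank F M ∧ QTy Q M (sg i (finrank F M / c)) := by
  have ho := qctx_octx h
  have hdvd := Cfsg.Agent.Lib.Helper18.ONE.o_cyc_nd_dvd hrp hr2 ho i c hi hc M hM hMc hMnd
  refine ⟨hdvd, ?_⟩
  by_cases hM0 : M = ⊥
  · subst hM0
    rw [finrank_bot, Nat.zero_div]
    have : sg i 0 = 1 := by
      unfold sg
      split_ifs <;> simp
    rw [this]
    exact (qty_bot Q 1).mpr rfl
  · have hce : Even c := by
      rw [hc]; split_ifs with h'
      · exact h'
      · exact even_two_mul i
    have hev : Even (finrank F M) := hce.trans_dvd hdvd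
    have hpos : 0 < finrank F M := by
      rw [Nat.pos_iff_ne_zero]
      intro h0
      exact hM0 (Submodule.finrank_eq_zero.mp h0)
    have key : ∀ s : ℤ, (s = 1 ∨ s = -1) → QTy Q M s → s = sg i (finrank F M / c) := by
      intro s hs hty
      have hq := hfpf s hM0 hev hty
      have har := Cfsg.Agent.Lib.Helper18.ONE.ty_arith r hr2 (Fintype.card F) i c (finrank F M) hi hc
        hdvd hpos s hs hq
      unfold sg
      by_cases hei : Even i
      · rw [if_pos hei]
        have hci : c = i := by rw [hc, if_pos hei]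
        rw [hci]
        rcases Nat.even_or_odd (finrank F M / i) with hb | hb
        · rw [hb.neg_one_pow]
          exact har.mpr (Or.inr hb)
        · rw [hb.neg_one_pow]
          rcases hs with rfl | rfl
          · exfalso
            rcases har.mp rfl with h' | h'
            · exact (Nat.not_even_iff_odd.mpr h') hei
            · exact (Nat.not_even_iff_odd.mpr hb) h'
          · rfl
      · rw [if_neg hei]
        exact har.mpr (Or.inl (Nat.not_even_iff_odd.mp hei))
    rcases hclass hev with hty | hty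
    · rw [← key 1 (Or.inl rfl) hty]; exact hty
    · rw [← key (-1) (Or.inr rfl) hty]; exact hty

/-- ADM core: `hcyc` = the conclusion of `q_cyc_ty` for `M = cycS r x` -/
theorem opeqadm_core {F : Type*} [Field F] [Fintype F] {p : ℕ} [Fact p.Prime] [CharP F p]
    {V : Type*} [AddCommGroup V] [Module F V] [FiniteDimensional F V]
    {r : ℕ} [Fact r.Prime] (hrp : r ≠ p) {Q : QuadraticForm F V}
    {x : Module.End F V} (h : QCtx r Q x) (d : ℕ) (hV : finrank F V = 2 * d) (τ : ℤ)
    (hτ : QTy Q (⊤ : Submodule F V) τ) (i c : ℕ)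
    (hcyc : c ∣ finrank F (cycS r x) ∧ QTy Q (cycS r x) (sg i (finrank F (cycS r x) / c))) :
    ∃ A : ℕ, finrank F (cycS r x) = c * A ∧ c * A ≤ 2 * d ∧ (c * A = 2 * d → sg i A = τ) ∧
      (x ≠ 1 → 1 ≤ A) := by
  have ho := qctx_octx h
  obtain ⟨horth, hcompl, hndp, hndm⟩ := o_split hrp ho
  obtain ⟨hdvd, hty⟩ := hcyc
  have hA : finrank F (cycS r x) = c * (finrank F (cycS r x) / c) := (Nat.mul_div_cancel' hdvd).symm
  refine ⟨finrank F (cycS r x) / c, hA, ?_, ?_, ?_⟩
  · rw [← hA, ← hV]
    exact Submodule.finrank_le _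
  · intro h2d
    rw [← hA, ← hV] at h2d
    have htop : cycS r x = ⊤ := Submodule.eq_top_of_finrank_eq h2d
    rw [htop] at hty
    rw [htop]
    exact opeqcycty_ty_inj Q ⊤ _ _ hty hτ
  · intro hx1
    by_contra hlt
    have hA0 : finrank F (cycS r x) / c = 0 := by
      have := Nat.lt_one_iff.mp (not_le.mp hlt)
      exact this
    rw [hA0, mul_zero] at hA
    have hbot : cycS r x = ⊥ := Submodule.finrank_eq_zero.mp hA
    have hfixtop : fixS x = ⊤ := by
      have := hcompl.sup_eq_top
      rwa [hbot, sup_bot_eq] at this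
    apply hx1
    apply LinearMap.ext
    intro v
    have hv : v ∈ fixS x := by rw [hfixtop]; exact Submodule.mem_top
    unfold fixS at hv
    rw [LinearMap.mem_ker] at hv
    simp only [map_sub, aeval_X, map_one, LinearMap.sub_apply, Module.End.one_apply] at hv
    rw [Module.End.one_apply]
    exact sub_eq_zero.mp hv

end Cfsg.Agent.Lib.Helper18.OPE
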