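import Mathlib
import Cfsg.Agent.Lib.Helper18.OPE.Defs
import Cfsg.Agent.Lib.helper17.OPEQCYCTYcore
import Cfsg.Agent.Lib.helper17.OPEQTYCLASS
import Cfsg.Agent.Lib.Helper18.OPEQTYFPF

set_option autoImplicit false

/-!
# Project OPE, rows QCYCTY (`q_cyc_ty`) and ADM (`q_adm`) (helper17): wrappers of the cores.
-/

namespace Cfsg.Agent.Lib.Helper18.OPE

open Polynomial Module Cfsg.Agent.Lib.Helper13.S5955 Cfsg.Agent.Lib.helper15.S5972

/-- QCYCTY [M] -/
theorem q_cyc_ty {F : Type*} [Field F] [Fintype F] {p : ℕ} [Fact p.Prime] [CharP F p]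
    {V : Type*} [AddCommGroup V] [Module F V] [FiniteDimensional F V]
    {r : ℕ} [Fact r.Prime] (hrp : r ≠ p) (hr2 : r ≠ 2) {Q : QuadraticForm F V}
    {x : Module.End F V} (h : QCtx r Q x) (i c : ℕ)
    (hi : i = orderOf ((Fintype.card F : ℕ) : ZMod r)) (hc : c = if Even i then i else 2 * i)
    (M : Submodule F V) (hM : SInv x M) (hMnd : SND (QuadraticMap.polarBilin Q) M)
    (hMc : M ≤ cycS r x) :
    c ∣ finrank F M ∧ QTy Q M (sg i (finrank F M / c)) :=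
  opeqcycty_core hrp hr2 h i c hi hc M hM hMnd hMc
    (fun hev => (qty_iff Q M hMnd hev).2.2)
    (fun s hM0 hev hs => qty_fpf hrp h M hM hMnd hMc hM0 hev s hs)

/-- ADM [M] -/
theorem q_adm {F : Type*} [Field F] [Fintype F] {p : ℕ} [Fact p.Prime] [CharP F p]
    {V : Type*} [AddCommGroup V] [Module F V] [FiniteDimensional F V]
    {r : ℕ} [Fact r.Prime] (hrp : r ≠ p) (hr2 : r ≠ 2) {Q : QuadraticForm F V}
    {x : Module.End F V} (h : QCtx r Q x) (d : ℕ) (hV : finrank F V = 2 * d) (τ : ℤ)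
    (hτ : QTy Q (⊤ : Submodule F V) τ) (i c : ℕ)
    (hi : i = orderOf ((Fintype.card F : ℕ) : ZMod r)) (hc : c = if Even i then i else 2 * i) :
    ∃ A : ℕ, finrank F (cycS r x) = c * A ∧ c * A ≤ 2 * d ∧ (c * A = 2 * d → sg i A = τ) ∧
      (x ≠ 1 → 1 ≤ A) :=
  opeqadm_core hrp h d hV τ hτ i c
    (q_cyc_ty hrp hr2 h i c hi hc (cycS r x) (Cfsg.Agent.Lib.Helper24.el_inv_ker x _)
      (o_split hrp (qctx_octx h)).2.2.2 le_rfl)

end Cfsg.Agent.Lib.Helper18.OPE
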