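import Mathlib
import Cfsg.Agent.Lib.Helper18.OPE.Defs
import Cfsg.Agent.Lib.helper17.OPEQTYEXcore
import Cfsg.Agent.Lib.helper8.OPEQPLANEEX

set_option autoImplicit false

/-!
# Project OPE, row QTYEX (`qty_ex`) (helper17): verbatim wrapper of `opeqtyex_core` on helper8's `q_plane_ex`.
-/

namespace Cfsg.Agent.Lib.Helper18.OPE

open Polynomial Module Cfsg.Agent.Lib.Helper13.S5955 Cfsg.Agent.Lib.helper15.S5972

/-- QTYEX [M-L] -/
theorem qty_ex {F : Type*} [Field F] [Fintype F]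
    {V : Type*} [AddCommGroup V] [Module F V] [FiniteDimensional F V]
    (Q : QuadraticForm F V) (N : Submodule F V) (hN : SND (QuadraticMap.polarBilin Q) N)
    (hev : Even (finrank F N)) (e : ℕ) (he : Even e) (he0 : 0 < e)
    (heN : e < finrank F N) (s : ℤ) (hs : s = 1 ∨ s = -1) :
    ∃ W : Submodule F V, W ≤ N ∧ SND (QuadraticMap.polarBilin Q) W ∧ finrank F W = e ∧ QTy Q W s :=
  opeqtyex_core Q (fun N hN hev h4 s hs => q_plane_ex Q N hN hev h4 s hs) N hN hev e he he0 heN s hs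

end Cfsg.Agent.Lib.Helper18.OPE
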