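import Mathlib
import Cfsg.Agent.Lib.Helper18.OPE.Defs
import Cfsg.Agent.Lib.helper17.OPEQCTXO
import Cfsg.Agent.Lib.helper17.OPEQTYSUM
import Cfsg.Agent.Lib.helper17.ONENDPERPS

set_option autoImplicit false

/-!
# Project OPE, row QPERP (`q_perp`) (helper17): the orthogonal complement of an invariant nondegenerate subspace.
-/

namespace Cfsg.Agent.Lib.Helper18.OPE

open Polynomial Module Cfsg.Agent.Lib.Helper13.S5955 Cfsg.Agent.Lib.helper15.S5972

/-- an invariant subspace is invariant under the powers -/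
theorem opeqperp_pow_mem {F : Type*} [Field F] {V : Type*} [AddCommGroup V] [Module F V]
    {x : Module.End F V} (W : Submodule F V) (hW : SInv x W) (k : ℕ) (w : V) (hw : w ∈ W) :
    (x ^ k) w ∈ W := by
  induction k with
  | zero => rw [pow_zero]; exact hw
  | succ k ih =>
    rw [pow_succ', Module.End.mul_apply]
    exact hW _ ih

/-- QPERP [M] -/
theorem q_perp {F : Type*} [Field F] {V : Type*} [AddCommGroup V] [Module F V]
    [FiniteDimensional F V] {r : ℕ} (hr : 0 < r) {Q : QuadraticForm F V} {x : Module.End F V}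
    (h : QCtx r Q x) (W : Submodule F V) (hW : SInv x W)
    (hWnd : SND (QuadraticMap.polarBilin Q) W) :
    SInv x (LinearMap.BilinForm.orthogonal (QuadraticMap.polarBilin Q) W) ∧
      SND (QuadraticMap.polarBilin Q) (LinearMap.BilinForm.orthogonal (QuadraticMap.polarBilin Q) W) ∧
      IsCompl W (LinearMap.BilinForm.orthogonal (QuadraticMap.polarBilin Q) W) ∧
      SOrth (QuadraticMap.polarBilin Q) W (LinearMap.BilinForm.orthogonal (QuadraticMap.polarBilin Q) W) ∧
      finrank F W + finrank F ↥(LinearMap.BilinForm.orthogonal (QuadraticMap.polarBilin Q) W) = finrank F V := by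
  have ho := qctx_octx h
  have htop : SND (QuadraticMap.polarBilin Q) (⊤ : Submodule F V) := by
    intro u _ hu
    exact h.nd u (fun v => hu v Submodule.mem_top)
  obtain ⟨hdis, hsup, hnd, horth, hdim⟩ := Cfsg.Agent.Lib.Helper18.ONE.nd_perp_symm
    (QuadraticMap.polarBilin Q) (opeqtysum_symm Q) ⊤ W htop le_top hWnd
  rw [top_inf_eq] at hdis hsup hnd horth hdim
  rw [finrank_top] at hdim
  refine ⟨?_, hnd, ⟨hdis, codisjoint_iff.mpr hsup⟩, horth, by omega⟩
  intro v hv
  rw [LinearMap.BilinForm.mem_orthogonal_iff] at hv ⊢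
  intro w hw
  have hw' : (x ^ (r - 1)) w ∈ W := opeqperp_pow_mem W hW (r - 1) w hw
  have hxw : x ((x ^ (r - 1)) w) = w := by
    rw [← Module.End.mul_apply, ← pow_succ', Nat.sub_add_cancel hr, h.pow, Module.End.one_apply]
  have h1 : QuadraticMap.polarBilin Q ((x ^ (r - 1)) w) v = 0 := hv _ hw'
  rw [← ho.pres, hxw] at h1
  exact h1

end Cfsg.Agent.Lib.Helper18.OPE
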