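import Mathlib
import Cfsg.Agent.Lib.Helper18.OPE.Defs

set_option autoImplicit false

/-!
# Project OPE, row QRESTRICT (`q_restrict`) (helper17): restriction of `(Q, x)` to an invariant nondegenerate subspace.
-/

namespace Cfsg.Agent.Lib.Helper18.OPE

open Polynomial Module Cfsg.Agent.Lib.Helper13.S5955 Cfsg.Agent.Lib.helper15.S5972

/-- the polar form of a restriction -/
theorem opeqrestrict_polar {F : Type*} [Field F] {V : Type*} [AddCommGroup V] [Module F V]
    (Q : QuadraticForm F V) (N : Submodule F V) (u v : ↥N) :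
    QuadraticMap.polarBilin (Q.comp N.subtype) u v = QuadraticMap.polarBilin Q (u : V) (v : V) := by
  rw [QuadraticMap.polarBilin_apply_apply, QuadraticMap.polarBilin_apply_apply]
  unfold QuadraticMap.polar
  rw [QuadraticMap.comp_apply, QuadraticMap.comp_apply, QuadraticMap.comp_apply, map_add]
  rfl

/-- QRESTRICT [M] -/
theorem q_restrict {F : Type*} [Field F] [Fintype F]
    {V : Type*} [AddCommGroup V] [Module F V] [FiniteDimensional F V] {r : ℕ}
    {Q : QuadraticForm F V} {x : Module.End F V} (h : QCtx r Q x) (N : Submodule F V)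
    (hN : ∀ v ∈ N, x v ∈ N) (hNnd : SND (QuadraticMap.polarBilin Q) N) :
    QCtx r (Q.comp N.subtype) (x.restrict hN) ∧
      (∀ s : ℤ, QTy (Q.comp N.subtype) (⊤ : Submodule F ↥N) s ↔ QTy Q N s) ∧
      (∀ (m : ℕ) (s : ℤ), QNDt (Q.comp N.subtype) (x.restrict hN) m s →
        ∃ W : Submodule F V, W ≤ N ∧ SInv x W ∧ SND (QuadraticMap.polarBilin Q) W ∧
          finrank F W = m ∧ QTy Q W s) := by
  refine ⟨⟨?_, ?_, ?_⟩, ?_, ?_⟩
  · intro u hu
    apply Subtype.ext
    apply hNnd (u : V) u.2
    intro v hv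
    have := hu ⟨v, hv⟩
    rwa [opeqrestrict_polar] at this
  · intro v
    rw [QuadraticMap.comp_apply, QuadraticMap.comp_apply]
    show Q ((x.restrict hN v : ↥N) : V) = Q (v : V)
    rw [LinearMap.coe_restrict_apply, h.pres]
  · rw [Module.End.pow_restrict]
    apply LinearMap.ext
    intro v
    apply Subtype.ext
    rw [LinearMap.coe_restrict_apply, h.pow]
    rfl
  · intro s
    unfold QTy
    rw [finrank_top]
    exact Cfsg.Agent.Lib.Helper16.OSemi.isType_congr
      (Submodule.topEquiv (R := F) (M := ↥N)).symm.toEquiv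
      (fun w : ↥(⊤ : Submodule F ↥N) => (Q.comp N.subtype) (w : ↥N)) (fun w : ↥N => Q (w : V))
      (fun w' => rfl) (finrank F ↥N / 2) s
  · rintro m s ⟨W', hW', hW'nd, hW'd, hW's⟩
    refine ⟨W'.map N.subtype, Submodule.map_subtype_le N W', ?_, ?_, ?_, ?_⟩
    · intro v hv
      obtain ⟨w, hw, rfl⟩ := Submodule.mem_map.mp hv
      refine Submodule.mem_map.mpr ⟨x.restrict hN w, hW' w hw, ?_⟩
      rw [Submodule.subtype_apply, LinearMap.coe_restrict_apply, Submodule.subtype_apply]
    · intro u hu hall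
      obtain ⟨u', hu', rfl⟩ := Submodule.mem_map.mp hu
      have h1 : u' = 0 := by
        apply hW'nd u' hu'
        intro v' hv'
        rw [opeqrestrict_polar]
        exact hall (v' : V) (Submodule.mem_map.mpr ⟨v', hv', rfl⟩)
      rw [h1, map_zero]
    · rw [Submodule.finrank_map_subtype_eq, hW'd]
    · unfold QTy at hW's ⊢
      rw [Submodule.finrank_map_subtype_eq]
      exact (Cfsg.Agent.Lib.Helper16.OSemi.isType_congr
        (Submodule.equivSubtypeMap N W').toEquiv
        (fun w : ↥(W'.map N.subtype) => Q (w : V)) (fun w : ↥W' => (Q.comp N.subtype) (w : ↥N))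
        (fun w' => rfl) (finrank F ↥W' / 2) s).mpr hW's

end Cfsg.Agent.Lib.Helper18.OPE
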