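import Mathlib
import Cfsg.Agent.Lib.helper3.S5953.Defs
import Cfsg.Agent.Lib.Helper20.S5953T1
import Cfsg.Agent.Lib.Helper27.S5953T5
import Cfsg.Agent.Lib.Helper9.S5953T8

set_option autoImplicit false

/-!
# Project S5953, row R2 (`invol_suff`): an involutory isometry has totally isotropic invariant subspaces of every
dimension `m < n / 2`, and of dimension `n / 2` when the `-1`-eigenspace has even dimension.
-/

namespace Cfsg.Agent.Lib.helper3.S5953

open Polynomial Module

/-- orthogonality is symmetric for the hermitian form -/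
theorem s5953r2_zero_symm {F : Type*} [Field F] [Fintype F] {q : ℕ} (hF : Fintype.card F = q ^ 2)
    {ι : Type*} [Fintype ι] (u v : ι → F) (h : hermI ι F q u v = 0) : hermI ι F q v u = 0 := by
  have hq0 : q ≠ 0 := by
    rintro rfl
    rw [zero_pow (by norm_num)] at hF
    exact Fintype.card_ne_zero hF
  rw [hermI_conj hF u v, h, zero_pow hq0]

/-- the sum of two orthogonal totally isotropic subspaces is totally isotropic -/
theorem s5953r2_ti_sup {F : Type*} [Field F] [Fintype F] {q : ℕ} (hF : Fintype.card F = q ^ 2)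
    {ι : Type*} [Fintype ι] (T T' : Submodule F (ι → F)) (hT : HTI q T) (hT' : HTI q T')
    (horth : HOrth q T T') : HTI q (T ⊔ T') := by
  -- first: `hermI a v = 0` for `a ∈ T ∪ T'` ... done through the symmetric statement
  have key : ∀ u ∈ T ⊔ T', ∀ c, (c ∈ T ∨ c ∈ T') → hermI ι F q u c = 0 := by
    intro u hu c hc
    obtain ⟨a, ha, b, hb, rfl⟩ := Submodule.mem_sup.mp hu
    rw [hermI_add_left]
    rcases hc with hc | hc
    · rw [hT a ha c hc, s5953r2_zero_symm hF c b (horth c hc b hb), add_zero]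
    · rw [horth a ha c hc, hT' b hb c hc, add_zero]
  intro u hu v hv
  obtain ⟨c, hc, d, hd, rfl⟩ := Submodule.mem_sup.mp hv
  apply s5953r2_zero_symm hF
  rw [hermI_add_left, s5953r2_zero_symm hF u c (key u hu c (Or.inl hc)),
    s5953r2_zero_symm hF u d (key u hu d (Or.inr hd)), add_zero]

/-- R2 [M-L] INVOL. -/
theorem invol_suff {F : Type*} [Field F] [Fintype F] {q n : ℕ} (hF : Fintype.card F = q ^ 2)
    (h2 : (2 : F) ≠ 0) {y : Module.End F (Fin n → F)} (h : HCtx q 2 1 y) (m : ℕ)
    (hm : 2 * m < n ∨ (2 * m = n ∧ Even (finrank F (LinearMap.ker (y + 1))))) :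
    HTId q y m := by
  obtain ⟨p, hchar⟩ := CharP.exists F
  haveI := hchar
  haveI : Fact p.Prime := ⟨CharP.char_is_prime F p⟩
  haveI : Fact (Nat.Prime 2) := ⟨Nat.prime_two⟩
  have hp2 : 2 ≠ p := by
    rintro rfl
    apply h2
    exact_mod_cast CharP.cast_eq_zero F 2
  obtain ⟨horth, hcompl, hndp, hndm⟩ := split hF hp2 h
  have hcyc : cycS 2 y = LinearMap.ker (y + 1) := by
    unfold cycS Cfsg.Agent.Lib.Helper13.S5955.cycS
    rw [Polynomial.cyclotomic_two]
    simp
  have hfix : ∀ u ∈ fixS y, y u = u := by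
    intro u hu
    unfold fixS Cfsg.Agent.Lib.Helper13.S5955.fixS at hu
    rw [LinearMap.mem_ker] at hu
    simp only [map_sub, aeval_X, map_one, LinearMap.sub_apply, Module.End.one_apply] at hu
    exact sub_eq_zero.mp hu
  have hcycm : ∀ u ∈ cycS 2 y, y u = -u := by
    intro u hu
    rw [hcyc, LinearMap.mem_ker, LinearMap.add_apply, Module.End.one_apply] at hu
    exact eq_neg_of_add_eq_zero_left hu
  have hab : finrank F (fixS y) + finrank F (cycS 2 y) = n := by
    rw [Submodule.finrank_add_eq_of_isCompl hcompl, Module.finrank_fin_fun]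
  -- the two dimensions
  have hsplit : ∃ jp jm : ℕ, 2 * jp ≤ finrank F (fixS y) ∧ 2 * jm ≤ finrank F (cycS 2 y) ∧ jp + jm = m := by
    rw [← hcyc] at hm
    rcases le_total m (finrank F (fixS y) / 2) with hle | hle
    · exact ⟨m, 0, by omega, by omega, by omega⟩
    · refine ⟨finrank F (fixS y) / 2, m - finrank F (fixS y) / 2, by omega, ?_, by omega⟩
      rcases hm with hm | ⟨hm, b', hb'⟩
      · omega
      · omega
  obtain ⟨jp, jm, hjp, hjm, hj⟩ := hsplit
  obtain ⟨Tp, hTpN, hTp, hTpd⟩ := ti_sub hF (fixS y) hndp jp hjp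
  obtain ⟨Tm, hTmN, hTm, hTmd⟩ := ti_sub hF (cycS 2 y) hndm jm hjm
  have horth' : HOrth q Tp Tm := fun u hu v hv => horth u (hTpN hu) v (hTmN hv)
  refine ⟨Tp ⊔ Tm, ?_, s5953r2_ti_sup hF Tp Tm hTp hTm horth', ?_⟩
  · intro w hw
    obtain ⟨a, ha, b, hb, rfl⟩ := Submodule.mem_sup.mp hw
    rw [map_add, hfix a (hTpN ha), hcycm b (hTmN hb)]
    exact Submodule.add_mem _ (Submodule.mem_sup_left ha)
      (Submodule.neg_mem _ (Submodule.mem_sup_right hb))
  · have hinf : Tp ⊓ Tm = ⊥ := by
      rw [eq_bot_iff]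
      calc Tp ⊓ Tm ≤ fixS y ⊓ cycS 2 y := inf_le_inf hTpN hTmN
        _ = ⊥ := hcompl.inf_eq_bot
    have := Submodule.finrank_sup_add_finrank_inf_eq Tp Tm
    rw [hinf, finrank_bot, add_zero] at this
    rw [this, hTpd, hTmd, hj]

end Cfsg.Agent.Lib.helper3.S5953
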