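import Mathlib
import Cfsg.Agent.Lib.helper17.PRed2
import Cfsg.Agent.Lib.helper17.CharP4

set_option autoImplicit false

namespace Cfsg.Agent.Lib.helper17

variable {G : Type*} [Group G]

/-! ### `Ω₁` -/

theorem omegaOne_isElementaryAbelian {p : ℕ} {K : Subgroup G}
    (hK : ∀ a ∈ K, ∀ b ∈ K, a * b = b * a) : Cfsg.IsElementaryAbelian p (Cfsg.omegaOne p K) := by
  rw [isElementaryAbelian_iff]
  refine ⟨fun a ha b hb => hK a (omegaOne_le K ha) b (omegaOne_le K hb), ?_⟩
  intro a ha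
  unfold Cfsg.omegaOne at ha
  have key : a ∈ K ∧ a ^ p = 1 := by
    induction ha using Subgroup.closure_induction with
    | mem x hx => exact hx
    | one => exact ⟨K.one_mem, one_pow p⟩
    | mul x y _ _ ihx ihy =>
      refine ⟨K.mul_mem ihx.1 ihy.1, ?_⟩
      have hc : Commute x y := hK x ihx.1 y ihy.1
      rw [hc.mul_pow, ihx.2, ihy.2, one_mul]
    | inv x _ ihx =>
      exact ⟨K.inv_mem ihx.1, by rw [inv_pow, ihx.2, inv_one]⟩
  exact key.2

theorem le_normalizer_omegaOne {p : ℕ} {L K : Subgroup G}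
    (h : L ≤ Subgroup.normalizer (K : Set G)) :
    L ≤ Subgroup.normalizer ((Cfsg.omegaOne p K : Subgroup G) : Set G) := by
  apply le_normalizer_of_cj_le'
  intro l hl
  unfold cj Cfsg.omegaOne
  rw [MonoidHom.map_closure, Subgroup.closure_le]
  rintro _ ⟨x, ⟨hxK, hxp⟩, rfl⟩
  apply Subgroup.subset_closure
  refine ⟨?_, ?_⟩
  · exact (Subgroup.mem_normalizer_iff.mp (h hl) x).mp hxK
  · simp only [MulEquiv.coe_toMonoidHom, MulAut.conj_apply]
    rw [conj_pow, hxp, mul_one, mul_inv_cancel]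

/-- `Ω₁(Z(K))` in the ambient group -/
theorem omegaOne_center_isElementaryAbelian (p : ℕ) (K : Subgroup G) :
    Cfsg.IsElementaryAbelian p (Cfsg.omegaOne p (K ⊓ Subgroup.centralizer (K : Set G))) := by
  apply omegaOne_isElementaryAbelian
  intro a ha b hb
  exact ((Subgroup.mem_centralizer_iff.mp ha.2) b hb.1).symm

theorem le_normalizer_inf_centralizer {L K : Subgroup G} (h : L ≤ Subgroup.normalizer (K : Set G)) :
    L ≤ Subgroup.normalizer ((K ⊓ Subgroup.centralizer (K : Set G) : Subgroup G) : Set G) :=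
  le_normalizer_inf' h (h.trans (normalizer_le_normalizer_centralizer' K))

theorem le_normalizer_omegaOne_center {p : ℕ} {L K : Subgroup G} (h : L ≤ Subgroup.normalizer (K : Set G)) :
    L ≤ Subgroup.normalizer ((Cfsg.omegaOne p (K ⊓ Subgroup.centralizer (K : Set G)) : Subgroup G) : Set G) :=
  le_normalizer_omegaOne (le_normalizer_inf_centralizer h)

/-! ### Sylow subgroups and `O_p` -/

theorem pCoreOf_le_sylow [Finite G] {p : ℕ} [Fact p.Prime] (T : Sylow p G) {L : Subgroup G}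
    (hTL : (T : Subgroup G) ≤ L) : Cfsg.pCoreOf p L ≤ (T : Subgroup G) := by
  have h1 : IsPGroup p ((Cfsg.pCoreOf p L ⊔ (T : Subgroup G) : Subgroup G)) :=
    IsPGroup.to_sup_of_normal_left' (pCoreOf_isPGroup p L) T.isPGroup'
      (hTL.trans (le_normalizer_pCoreOf p L))
  have h2 := T.3 h1 le_sup_right
  rw [← h2]
  exact le_sup_left

/-! ### Characteristic `p` -/

/-- In a subgroup `L` of characteristic `p`, a subgroup of exponent `p` centralising `O_p(L)` lies in `Ω₁(Z(O_p(L)))`. -/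
theorem le_omegaOne_center_pCoreOf {p : ℕ} {L X : Subgroup G} (hL : CharPSub p L) (hXL : X ≤ L)
    (hXc : X ≤ Subgroup.centralizer ((Cfsg.pCoreOf p L : Subgroup G) : Set G)) (hXp : ∀ x ∈ X, x ^ p = 1) :
    X ≤ Cfsg.omegaOne p (Cfsg.pCoreOf p L ⊓ Subgroup.centralizer ((Cfsg.pCoreOf p L : Subgroup G) : Set G)) := by
  intro x hx
  exact mem_omegaOne ⟨hL ⟨hXL hx, hXc hx⟩, hXc hx⟩ (hXp x hx)

theorem conjClosure_isElementaryAbelian {p : ℕ} {L X : Subgroup G} (hL : CharPSub p L) (hXL : X ≤ L)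
    (hXc : X ≤ Subgroup.centralizer ((Cfsg.pCoreOf p L : Subgroup G) : Set G)) (hXp : ∀ x ∈ X, x ^ p = 1) :
    Cfsg.IsElementaryAbelian p (conjClosure L X) := by
  apply isElementaryAbelian_mono (omegaOne_center_isElementaryAbelian p (Cfsg.pCoreOf p L))
  exact conjClosure_le_of (le_omegaOne_center_pCoreOf hL hXL hXc hXp)
    (le_normalizer_omegaOne_center (le_normalizer_pCoreOf p L))

/-- The centre-`Ω₁` of a Sylow subgroup centralises `O_p(L)`. -/
theorem omegaOne_center_sylow_le_centralizer [Finite G] {p : ℕ} [Fact p.Prime] (T : Sylow p G) {L : Subgroup G}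
    (hTL : (T : Subgroup G) ≤ L) :
    Cfsg.omegaOne p ((T : Subgroup G) ⊓ Subgroup.centralizer ((T : Subgroup G) : Set G)) ≤
      Subgroup.centralizer ((Cfsg.pCoreOf p L : Subgroup G) : Set G) :=
  ((omegaOne_le _).trans inf_le_right).trans
    (Subgroup.centralizer_le (SetLike.coe_subset_coe.mpr (pCoreOf_le_sylow T hTL)))

end Cfsg.Agent.Lib.helper17
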