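import Mathlib
import Cfsg.Agent.Lib.helper17.PRed3

set_option autoImplicit false

namespace Cfsg.Agent.Lib.helper17

variable {G : Type*} [Group G]

theorem exists_pow_mul_eq {C : Subgroup G} {q c : G} (hq : q ∈ Subgroup.normalizer (C : Set G))
    (hc : c ∈ C) (n : ℕ) : ∃ c' ∈ C, (q * c) ^ n = q ^ n * c' := by
  induction n with
  | zero => exact ⟨1, C.one_mem, by simp⟩
  | succ n ih =>
    obtain ⟨c', hc', h⟩ := ih
    refine ⟨q⁻¹ * c' * q * c, ?_, ?_⟩
    · apply C.mul_mem _ hc
      have := (Subgroup.mem_normalizer_iff.mp ((Subgroup.normalizer (C : Set G)).inv_mem hq) c').mp hc'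
      simpa using this
    · rw [pow_succ, h, pow_succ]
      group

/-- modulo a subgroup `C` normalised by `q`, powers of `q * c` (`c ∈ C`) agree with powers of `q` -/
theorem pow_mul_mem_iff_of_mem_normalizer {C : Subgroup G} {q c : G}
    (hq : q ∈ Subgroup.normalizer (C : Set G)) (hc : c ∈ C) (n : ℕ) :
    (q * c) ^ n ∈ C ↔ q ^ n ∈ C := by
  obtain ⟨c', hc', h⟩ := exists_pow_mul_eq hq hc n
  rw [h]
  constructor
  · intro h1
    have := C.mul_mem h1 (C.inv_mem hc')
    simpa using this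
  · intro h1
    exact C.mul_mem h1 hc'

/-- If `L C(V) = M C(V)` and `V ≤ L` is `p`-reduced in `M`, then `V` is `p`-reduced in `L`. -/
theorem PRedIn.of_sup_eq {p : ℕ} {L M V : Subgroup G} (hV : PRedIn p M V) (hVL : V ≤ L)
    (h : L ⊔ Subgroup.centralizer (V : Set G) = M ⊔ Subgroup.centralizer (V : Set G)) :
    PRedIn p L V := by
  obtain ⟨hVM, hMN, hel, hred⟩ := hV
  have hCN : Subgroup.centralizer (V : Set G) ≤ Subgroup.normalizer (V : Set G) :=
    Subgroup.centralizer_le_normalizer _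
  have hLN : L ≤ Subgroup.normalizer (V : Set G) := by
    have h1 : L ≤ L ⊔ Subgroup.centralizer (V : Set G) := le_sup_left
    rw [h] at h1
    exact h1.trans (sup_le hMN hCN)
  have hNC := normalizer_le_normalizer_centralizer' V
  refine ⟨hVL, hLN, hel, ?_⟩
  intro D hDL hLD hp
  have hLDC : L ⊔ Subgroup.centralizer (V : Set G) ≤
      Subgroup.normalizer ((D ⊔ Subgroup.centralizer (V : Set G) : Subgroup G) : Set G) :=
    sup_le (le_normalizer_sup hLD (hLN.trans hNC)) (le_sup_right.trans Subgroup.le_normalizer)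
  have hD' : (D ⊔ Subgroup.centralizer (V : Set G)) ⊓ M ≤ Subgroup.centralizer (V : Set G) := by
    apply hred _ inf_le_right
    · apply le_normalizer_inf' _ Subgroup.le_normalizer
      have h1 : M ≤ M ⊔ Subgroup.centralizer (V : Set G) := le_sup_left
      rw [← h] at h1
      exact h1.trans hLDC
    · rintro d' ⟨hd', -⟩
      obtain ⟨d, hd, c, hc, rfl⟩ := exists_mul_of_mem_sup_left ((hDL.trans hLN).trans hNC) hd'
      obtain ⟨k, hk⟩ := hp d hd
      refine ⟨k, ?_⟩
      rw [pow_mul_mem_iff_of_mem_normalizer (hNC (hLN (hDL hd))) hc]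
      exact hk
  intro d hd
  have hd1 : d ∈ M ⊔ Subgroup.centralizer (V : Set G) := by
    rw [← h]
    exact le_sup_left (a := L) (hDL hd)
  obtain ⟨m, hm, c, hc, rfl⟩ := exists_mul_of_mem_sup_left (hMN.trans hNC) hd1
  have hm' : m ∈ (D ⊔ Subgroup.centralizer (V : Set G)) ⊓ M := by
    refine ⟨?_, hm⟩
    have : m = (m * c) * c⁻¹ := by group
    rw [this]
    exact Subgroup.mul_mem _ (le_sup_left (a := D) hd)
      (le_sup_right (a := D) ((Subgroup.centralizer (V : Set G)).inv_mem hc))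
  exact Subgroup.mul_mem _ (hD' hm') hc

/-- `Y_M ≤ T` for a Sylow subgroup `T ≤ M`. -/
theorem largestPReducedOf_le_sylow [Finite G] {p : ℕ} [Fact p.Prime] (T : Sylow p G) {M : Subgroup G}
    (hTM : (T : Subgroup G) ≤ M) : Cfsg.largestPReducedOf p M ≤ (T : Subgroup G) :=
  (largestPReducedOf_pRedIn p M).le_pCoreOf.trans (pCoreOf_le_sylow T hTM)

theorem largestPReducedOf_le_of_sup_eq [Finite G] {p : ℕ} [Fact p.Prime] (T : Sylow p G) {L M : Subgroup G}
    (hTL : (T : Subgroup G) ≤ L) (hTM : (T : Subgroup G) ≤ M)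
    (h : L ⊔ Subgroup.centralizer ((Cfsg.largestPReducedOf p M : Subgroup G) : Set G) =
      M ⊔ Subgroup.centralizer ((Cfsg.largestPReducedOf p M : Subgroup G) : Set G)) :
    Cfsg.largestPReducedOf p M ≤ Cfsg.largestPReducedOf p L :=
  le_largestPReducedOf ((largestPReducedOf_pRedIn p M).of_sup_eq
    ((largestPReducedOf_le_sylow T hTM).trans hTL) h)

end Cfsg.Agent.Lib.helper17
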