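import Mathlib
import Cfsg.Prelude.Def_Amalgam
import Cfsg.Agent.Lib.helper17.PRed4

set_option autoImplicit false

namespace Cfsg.Agent.Lib.helper17

variable {G : Type*} [Group G]

/-- `⟨Ω₁(Z(T))^L⟩` is `p`-reduced in a subgroup `L ≥ T` of characteristic `p`. -/
theorem pRedIn_conjClosure_omegaOne_center_sylow [Finite G] {p : ℕ} [Fact p.Prime] (T : Sylow p G)
    {L : Subgroup G} (hTL : (T : Subgroup G) ≤ L) (hL : CharPSub p L) :
    PRedIn p L (conjClosure L
      (Cfsg.omegaOne p ((T : Subgroup G) ⊓ Subgroup.centralizer ((T : Subgroup G) : Set G)))) := by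
  have hXT : Cfsg.omegaOne p ((T : Subgroup G) ⊓ Subgroup.centralizer ((T : Subgroup G) : Set G)) ≤
      (T : Subgroup G) := (omegaOne_le _).trans inf_le_left
  have hXc : Cfsg.omegaOne p ((T : Subgroup G) ⊓ Subgroup.centralizer ((T : Subgroup G) : Set G)) ≤
      Subgroup.centralizer ((T : Subgroup G) : Set G) := (omegaOne_le _).trans inf_le_right
  apply pRedIn_conjClosure T hTL (hXT.trans hTL)
    (conjClosure_isElementaryAbelian hL (hXT.trans hTL) (omegaOne_center_sylow_le_centralizer T hTL)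
      (omegaOne_center_isElementaryAbelian p (T : Subgroup G)).2)
  intro D _ _ _
  refine inf_le_right.trans ?_
  rw [Subgroup.le_centralizer_iff]
  exact hXc

theorem omegaOne_center_sylow_le_largestPReducedOf [Finite G] {p : ℕ} [Fact p.Prime] (T : Sylow p G)
    {L : Subgroup G} (hTL : (T : Subgroup G) ≤ L) (hL : CharPSub p L) :
    Cfsg.omegaOne p ((T : Subgroup G) ⊓ Subgroup.centralizer ((T : Subgroup G) : Set G)) ≤
      Cfsg.largestPReducedOf p L :=
  (le_conjClosure L _).trans (le_largestPReducedOf (pRedIn_conjClosure_omegaOne_center_sylow T hTL hL))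

/-- Every Sylow `p`-subgroup of `L ≥ T` is (the image of) a Sylow `p`-subgroup of `G`. -/
theorem exists_sylow_of_sylow_subgroup [Finite G] {p : ℕ} [Fact p.Prime] (T : Sylow p G)
    {L : Subgroup G} (hTL : (T : Subgroup G) ≤ L) (S : Sylow p ↥L) :
    ∃ T' : Sylow p G, (T' : Subgroup G) = (S : Subgroup ↥L).map L.subtype ∧ (T' : Subgroup G) ≤ L := by
  obtain ⟨g, hg⟩ := MulAction.exists_smul_eq ↥L (T.subtype hTL) S
  refine ⟨(g : G) • T, ?_, ?_⟩
  · rw [← hg, sylow_smul_coe_eq_cj, sylow_smul_coe_eq_cj, Sylow.coe_subtype, cj_subgroupOf_map hTL]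
  · rw [sylow_smul_coe_eq_cj]
    exact cj_le_of_mem hTL g.2

theorem sylowCenterClosure_le_largestPReducedOf [Finite G] {p : ℕ} [Fact p.Prime] (T : Sylow p G)
    {L : Subgroup G} (hTL : (T : Subgroup G) ≤ L) (hL : CharPSub p L) :
    Cfsg.sylowCenterClosure p L ≤ Cfsg.largestPReducedOf p L := by
  unfold Cfsg.sylowCenterClosure
  apply iSup_le
  intro S
  obtain ⟨T', hT', hT'L⟩ := exists_sylow_of_sylow_subgroup T hTL S
  rw [← hT']
  exact omegaOne_center_sylow_le_largestPReducedOf T' hT'L hL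

theorem omegaOne_center_sylow_le_sylowCenterClosure [Finite G] {p : ℕ} [Fact p.Prime] (T : Sylow p G)
    {L : Subgroup G} (hTL : (T : Subgroup G) ≤ L) :
    Cfsg.omegaOne p ((T : Subgroup G) ⊓ Subgroup.centralizer ((T : Subgroup G) : Set G)) ≤
      Cfsg.sylowCenterClosure p L := by
  unfold Cfsg.sylowCenterClosure
  have e : ((T.subtype hTL : Sylow p ↥L) : Subgroup ↥L).map L.subtype = (T : Subgroup G) := by
    rw [Sylow.coe_subtype, Subgroup.subgroupOf_map_subtype, inf_eq_left.mpr hTL]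
  have := le_iSup (fun S : Sylow p ↥L => Cfsg.omegaOne p (((S : Subgroup ↥L).map L.subtype) ⊓
      Subgroup.centralizer (((S : Subgroup ↥L).map L.subtype : Subgroup G) : Set G))) (T.subtype hTL)
  rw [e] at this
  exact this

end Cfsg.Agent.Lib.helper17
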