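import Mathlib
import Cfsg.Agent.Lib.helper17.PRed5

set_option autoImplicit false

namespace Cfsg.Agent.Lib.helper17

variable {G : Type*} [Group G]

/-- Every `p`-subgroup of `D` lies in a `D`-conjugate of `D ∩ T`. -/
theorem exists_le_cj_of_isPGroup [Finite G] {p : ℕ} [Fact p.Prime] (T : Sylow p G)
    {D : Subgroup G} (hTD : (T : Subgroup G) ≤ Subgroup.normalizer (D : Set G))
    {P : Subgroup G} (hPD : P ≤ D) (hP : IsPGroup p P) :
    ∃ d ∈ D, P ≤ cj d (D ⊓ (T : Subgroup G)) := by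
  have hP' : IsPGroup p (P.subgroupOf D) := hP.comap_subtype
  obtain ⟨d, hd⟩ := exists_le_cj_sylow (sylowInfOfLeNormalizer T hTD) hP'
  refine ⟨(d : G), d.2, ?_⟩
  have h1 := Subgroup.map_mono (f := D.subtype) hd
  rw [Subgroup.subgroupOf_map_subtype, inf_eq_left.mpr hPD, sylowInfOfLeNormalizer_coe, cj_map,
    Subgroup.subgroupOf_map_subtype, inf_comm] at h1
  exact h1

theorem cj_eq_of_le_cj [Finite G] {g : G} {K : Subgroup G} (h : K ≤ cj g K) : cj g K = K := by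
  symm
  apply Subgroup.eq_of_le_of_card_ge h
  rw [card_cj]

/-- **Frattini argument**, ambient form: if `T ≤ M` is a Sylow subgroup and `M` normalises `C`, then
`M = N_M(T ∩ C) (M ∩ C)`. -/
theorem frattini_ambient [Finite G] {p : ℕ} [Fact p.Prime] (T : Sylow p G) {M C : Subgroup G}
    (hTM : (T : Subgroup G) ≤ M) (hMC : M ≤ Subgroup.normalizer (C : Set G)) {m : G} (hm : m ∈ M) :
    ∃ a ∈ M ⊓ Subgroup.normalizer (((T : Subgroup G) ⊓ C : Subgroup G) : Set G), ∃ c ∈ M ⊓ C, m = a * c := by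
  have hMD : M ≤ Subgroup.normalizer ((M ⊓ C : Subgroup G) : Set G) :=
    le_normalizer_inf' Subgroup.le_normalizer hMC
  have hTD : (T : Subgroup G) ≤ Subgroup.normalizer ((M ⊓ C : Subgroup G) : Set G) := hTM.trans hMD
  have e : (M ⊓ C) ⊓ (T : Subgroup G) = (T : Subgroup G) ⊓ C := by
    rw [inf_comm, ← inf_assoc, inf_eq_left.mpr hTM]
  have hP : IsPGroup p (cj m⁻¹ ((T : Subgroup G) ⊓ C)) := isPGroup_cj (T.isPGroup'.to_le inf_le_left)
  have hPD : cj m⁻¹ ((T : Subgroup G) ⊓ C) ≤ M ⊓ C :=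
    (cj_mono (show (T : Subgroup G) ⊓ C ≤ M ⊓ C from inf_le_inf_right C hTM)).trans
      (cj_eq_self_iff.mpr (hMD (M.inv_mem hm))).le
  obtain ⟨d, hd, hle⟩ := exists_le_cj_of_isPGroup T hTD hPD hP
  rw [e, cj_le_iff, ← cj_mul, inv_inv] at hle
  have h1 := cj_eq_of_le_cj hle
  have h2 : m * d ∈ Subgroup.normalizer (((T : Subgroup G) ⊓ C : Subgroup G) : Set G) :=
    cj_eq_self_iff.mp h1
  exact ⟨m * d, ⟨M.mul_mem hm hd.1, h2⟩, d⁻¹, Subgroup.inv_mem _ hd, by group⟩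

end Cfsg.Agent.Lib.helper17
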