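import Mathlib
import Cfsg.Agent.Lib.helper17.PRed6

set_option autoImplicit false

namespace Cfsg.Agent.Lib.helper17

open scoped IsMulCommutative commutatorElement

variable {L : Type*} [Group L]

/-- **Averaging over a Sylow subgroup.** Let `V` be a normal elementary abelian `p`-subgroup of the finite group `L`, `S` a
Sylow `p`-subgroup, and `z ∈ V` centralised by `S`. Then `z = a b` with `a ∈ V` central in `L` and `b ∈ [V, O^p(L)]`. -/
theorem exists_central_mul_commutator [Finite L] {p : ℕ} [Fact p.Prime] (S : Sylow p L) (V : Subgroup L)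
    [hVn : V.Normal] (hV : Cfsg.IsElementaryAbelian p V) {z : L} (hz : z ∈ V)
    (hzS : ∀ s ∈ (S : Subgroup L), s * z = z * s) :
    ∃ a ∈ V, (∀ g : L, g * a = a * g) ∧ ∃ b ∈ ⁅V, Cfsg.pResidual p L⁆, z = a * b := by
  classical
  have : IsMulCommutative ↥V := hV.1
  letI : Fintype (L ⧸ (S : Subgroup L)) := Fintype.ofFinite _
  have hRn := pResidual_normal p L
  have hRS := pResidual_sup_sylow S
  have hSR : (S : Subgroup L) ≤ Subgroup.normalizer ((Cfsg.pResidual p L : Subgroup L) : Set L) := by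
    rw [Subgroup.normalizer_eq_top_iff.mpr hRn]
    exact le_top
  -- representatives in `O^p(L)`
  have hrep : ∀ q : L ⧸ (S : Subgroup L), ∃ r ∈ Cfsg.pResidual p L,
      (QuotientGroup.mk r : L ⧸ (S : Subgroup L)) = q := by
    intro q
    obtain ⟨g, rfl⟩ := QuotientGroup.mk_surjective q
    have hg : g ∈ Cfsg.pResidual p L ⊔ (S : Subgroup L) := by rw [hRS]; exact Subgroup.mem_top g
    obtain ⟨r, hr, s, hs, rfl⟩ := exists_mul_of_mem_sup_right hSR hg
    refine ⟨r, hr, ?_⟩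
    rw [QuotientGroup.eq]
    simpa using hs
  choose r hrR hrq using hrep
  have hkey : ∀ g : L, g * z * g⁻¹ =
      r (QuotientGroup.mk g) * z * (r (QuotientGroup.mk g))⁻¹ := by
    intro g
    have h1 : (QuotientGroup.mk (r (QuotientGroup.mk g)) : L ⧸ (S : Subgroup L)) = QuotientGroup.mk g := hrq _
    rw [QuotientGroup.eq] at h1
    have h2 := hzS _ h1
    calc g * z * g⁻¹ = r (QuotientGroup.mk g) * ((r (QuotientGroup.mk g))⁻¹ * g * z) *
          ((r (QuotientGroup.mk g))⁻¹ * g)⁻¹ * (r (QuotientGroup.mk g))⁻¹ := by group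
      _ = r (QuotientGroup.mk g) * (z * ((r (QuotientGroup.mk g))⁻¹ * g)) *
          ((r (QuotientGroup.mk g))⁻¹ * g)⁻¹ * (r (QuotientGroup.mk g))⁻¹ := by rw [h2]
      _ = r (QuotientGroup.mk g) * z * (r (QuotientGroup.mk g))⁻¹ := by group
  -- the conjugates, as elements of `V`
  let F : L ⧸ (S : Subgroup L) → ↥V := fun q => ⟨r q * z * (r q)⁻¹, hVn.conj_mem z hz (r q)⟩
  have hFcoe : ∀ q, ((F q : ↥V) : L) = r q * z * (r q)⁻¹ := fun q => rfl
  -- the product is central
  have hPc : ∀ g : L, g * ((∏ q, F q : ↥V) : L) * g⁻¹ = ((∏ q, F q : ↥V) : L) := by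
    intro g
    have h1 : (MulAut.conjNormal g : MulAut ↥V) (∏ q, F q) = ∏ q, (MulAut.conjNormal g : MulAut ↥V) (F q) :=
      map_prod (MulAut.conjNormal g : MulAut ↥V) F Finset.univ
    have h2 : ∀ q, (MulAut.conjNormal g : MulAut ↥V) (F q) = F (g • q) := by
      intro q
      apply Subtype.ext
      rw [MulAut.conjNormal_apply, hFcoe, hFcoe]
      have e1 : g * (r q * z * (r q)⁻¹) * g⁻¹ = (g * r q) * z * (g * r q)⁻¹ := by group
      rw [e1, hkey (g * r q)]
      have e2 : (QuotientGroup.mk (g * r q) : L ⧸ (S : Subgroup L)) = g • q := by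
        conv_rhs => rw [← hrq q]
        rfl
      rw [e2]
    have h3 : ∏ q, F (g • q) = ∏ q, F q :=
      Equiv.prod_comp (MulAction.toPerm g : Equiv.Perm (L ⧸ (S : Subgroup L))) F
    have h4 := congrArg Subtype.val h1
    rw [MulAut.conjNormal_apply] at h4
    rw [h4]
    congr 1
    rw [← h3]
    exact Finset.prod_congr rfl (fun q _ => h2 q)
  -- the product is `z ^ n` modulo `[V, O^p(L)]`
  have hcomm_mem : ∀ q, ⁅r q, z⁆ ∈ ⁅V, Cfsg.pResidual p L⁆ := by
    intro q
    rw [Subgroup.commutator_comm]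
    exact Subgroup.commutator_mem_commutator (hrR q) hz
  have hcomm_memV : ∀ q, ⁅r q, z⁆ ∈ V := by
    intro q
    rw [commutatorElement_def]
    exact V.mul_mem (hVn.conj_mem z hz (r q)) (V.inv_mem hz)
  let B : L ⧸ (S : Subgroup L) → ↥V := fun q => ⟨⁅r q, z⁆, hcomm_memV q⟩
  have hFB : ∀ q, F q = B q * ⟨z, hz⟩ := by
    intro q
    apply Subtype.ext
    show r q * z * (r q)⁻¹ = ⁅r q, z⁆ * z
    rw [commutatorElement_def]
    group
  have hP : (∏ q, F q : ↥V) = (∏ q, B q) * (⟨z, hz⟩ : ↥V) ^ (S : Subgroup L).index := by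
    rw [Finset.prod_congr rfl (fun q _ => hFB q), Finset.prod_mul_distrib, Finset.prod_const,
      Finset.card_univ, Subgroup.index_eq_card, Nat.card_eq_fintype_card]
  have hBmem : (∏ q, B q : ↥V) ∈ (⁅V, Cfsg.pResidual p L⁆).subgroupOf V := by
    apply Subgroup.prod_mem
    intro q _
    exact Subgroup.mem_subgroupOf.mpr (hcomm_mem q)
  -- arithmetic
  have hp : p.Prime := Fact.out
  have hcop : Nat.Coprime (S : Subgroup L).index p :=
    ((Nat.Prime.coprime_iff_not_dvd hp).mpr S.not_dvd_index).symm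
  obtain ⟨m, -, hm⟩ := Nat.exists_mul_mod_eq_one_of_coprime hcop hp.one_lt
  have hzp : (⟨z, hz⟩ : ↥V) ^ p = 1 := by
    apply Subtype.ext
    simpa using hV.2 z hz
  have hzpow : (⟨z, hz⟩ : ↥V) ^ ((S : Subgroup L).index * m) = ⟨z, hz⟩ := by
    conv_lhs => rw [← Nat.div_add_mod ((S : Subgroup L).index * m) p, hm, pow_add, pow_mul, hzp, one_pow,
      one_mul, pow_one]
  have hdecomp : (⟨z, hz⟩ : ↥V) = (∏ q, F q) ^ m * ((∏ q, B q)⁻¹) ^ m := by
    rw [← mul_pow, hP]
    have : (∏ q, B q) * (⟨z, hz⟩ : ↥V) ^ (S : Subgroup L).index * (∏ q, B q)⁻¹ =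
        (⟨z, hz⟩ : ↥V) ^ (S : Subgroup L).index := by
      rw [mul_comm (∏ q, B q), mul_assoc, mul_inv_cancel, mul_one]
    rw [this, ← pow_mul, hzpow]
  refine ⟨(((∏ q, F q) ^ m : ↥V) : L), Subtype.property _, ?_, ((((∏ q, B q)⁻¹) ^ m : ↥V) : L), ?_, ?_⟩
  · intro g
    have h1 : g * (((∏ q, F q) ^ m : ↥V) : L) * g⁻¹ = (((∏ q, F q) ^ m : ↥V) : L) := by
      rw [Subgroup.coe_pow, ← conj_pow, hPc g]
    calc g * (((∏ q, F q) ^ m : ↥V) : L) = (g * (((∏ q, F q) ^ m : ↥V) : L) * g⁻¹) * g := by group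
      _ = (((∏ q, F q) ^ m : ↥V) : L) * g := by rw [h1]
  · have := Subgroup.pow_mem _ (Subgroup.inv_mem _ hBmem) m
    exact Subgroup.mem_subgroupOf.mp this
  · have := congrArg Subtype.val hdecomp
    simpa using this

end Cfsg.Agent.Lib.helper17
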