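import Mathlib
import Cfsg.Agent.Lib.helper17.Avg

set_option autoImplicit false

namespace Cfsg.Agent.Lib.helper17

open scoped commutatorElement

variable {G : Type*} [Group G]

theorem cj_omegaOne {p : ℕ} (g : G) (K : Subgroup G) :
    cj g (Cfsg.omegaOne p K) = Cfsg.omegaOne p (cj g K) := by
  unfold cj Cfsg.omegaOne
  rw [MonoidHom.map_closure]
  congr 1
  ext x
  constructor
  · rintro ⟨y, ⟨hyK, hyp⟩, rfl⟩
    refine ⟨⟨y, hyK, rfl⟩, ?_⟩
    simp only [MulEquiv.coe_toMonoidHom, MulAut.conj_apply]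
    rw [conj_pow, hyp, mul_one, mul_inv_cancel]
  · rintro ⟨⟨y, hyK, rfl⟩, hxp⟩
    refine ⟨y, ⟨hyK, ?_⟩, rfl⟩
    simp only [MulEquiv.coe_toMonoidHom, MulAut.conj_apply] at hxp
    rw [conj_pow] at hxp
    have : y ^ p = g⁻¹ * (g * y ^ p * g⁻¹) * g := by group
    rw [this, hxp]
    group

theorem cj_omegaOne_center {p : ℕ} (g : G) (K : Subgroup G) :
    cj g (Cfsg.omegaOne p (K ⊓ Subgroup.centralizer (K : Set G))) =
      Cfsg.omegaOne p (cj g K ⊓ Subgroup.centralizer ((cj g K : Subgroup G) : Set G)) := by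
  rw [cj_omegaOne, cj_inf, centralizer_cj]

/-- `Z_L` is the `L`-closure of `Ω₁(Z(T))`. -/
theorem sylowCenterClosure_eq_conjClosure [Finite G] {p : ℕ} [Fact p.Prime] (T : Sylow p G)
    {L : Subgroup G} (hTL : (T : Subgroup G) ≤ L) :
    Cfsg.sylowCenterClosure p L = conjClosure L
      (Cfsg.omegaOne p ((T : Subgroup G) ⊓ Subgroup.centralizer ((T : Subgroup G) : Set G))) := by
  apply le_antisymm
  · unfold Cfsg.sylowCenterClosure
    apply iSup_le
    intro S
    obtain ⟨g, hg⟩ := MulAction.exists_smul_eq ↥L (T.subtype hTL) S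
    have e : (S : Subgroup ↥L).map L.subtype = cj (g : G) (T : Subgroup G) := by
      rw [← hg, sylow_smul_coe_eq_cj, Sylow.coe_subtype, cj_subgroupOf_map hTL]
    rw [e, ← cj_omegaOne_center]
    exact cj_le_conjClosure L _ g.2
  · unfold conjClosure
    apply iSup_le
    intro l
    rw [cj_omegaOne_center]
    have e : (((l • T.subtype hTL : Sylow p ↥L) : Subgroup ↥L)).map L.subtype = cj (l : G) (T : Subgroup G) := by
      rw [sylow_smul_coe_eq_cj, Sylow.coe_subtype, cj_subgroupOf_map hTL]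
    rw [← e]
    unfold Cfsg.sylowCenterClosure
    exact le_iSup (fun S : Sylow p ↥L => Cfsg.omegaOne p (((S : Subgroup ↥L).map L.subtype) ⊓
      Subgroup.centralizer (((S : Subgroup ↥L).map L.subtype : Subgroup G) : Set G))) (l • T.subtype hTL)

theorem le_normalizer_sylowCenterClosure [Finite G] {p : ℕ} [Fact p.Prime] (T : Sylow p G)
    {L : Subgroup G} (hTL : (T : Subgroup G) ≤ L) :
    L ≤ Subgroup.normalizer ((Cfsg.sylowCenterClosure p L : Subgroup G) : Set G) := by
  rw [sylowCenterClosure_eq_conjClosure T hTL]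
  exact le_normalizer_conjClosure L _

/-- central elements of order `p` lie in `Ω₁(Z(T))` -/
theorem omegaOne_center_le_omegaOne_center_sylow [Finite G] {p : ℕ} [Fact p.Prime] (T : Sylow p G)
    {L : Subgroup G} (hTL : (T : Subgroup G) ≤ L) :
    Cfsg.omegaOne p (L ⊓ Subgroup.centralizer (L : Set G)) ≤
      Cfsg.omegaOne p ((T : Subgroup G) ⊓ Subgroup.centralizer ((T : Subgroup G) : Set G)) := by
  unfold Cfsg.omegaOne
  apply Subgroup.closure_mono
  rintro x ⟨⟨hxL, hxc⟩, hxp⟩
  refine ⟨⟨?_, Subgroup.centralizer_le (SetLike.coe_subset_coe.mpr hTL) hxc⟩, hxp⟩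
  have hxe : IsPElt p x := ⟨1, by rw [pow_one]; exact hxp⟩
  have hzp : IsPGroup p (Subgroup.zpowers x) := hxe.isPGroup_zpowers
  have h1 : Subgroup.zpowers x ≤ Cfsg.pCoreOf p L := by
    apply le_pCoreOf (Subgroup.zpowers_le.mpr hxL) hzp
    intro l hl
    rw [← cj_eq_self_iff]
    apply le_antisymm
    · rintro _ ⟨y, hy, rfl⟩
      obtain ⟨n, rfl⟩ := Subgroup.mem_zpowers_iff.mp hy
      simp only [MulEquiv.coe_toMonoidHom, MulAut.conj_apply]
      have hc : l * x = x * l := (Subgroup.mem_centralizer_iff.mp hxc l hl)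
      have : l * x ^ n * l⁻¹ = x ^ n := by
        have hcomm : Commute l (x ^ n) := (show Commute l x from hc).zpow_right n
        rw [hcomm.eq, mul_inv_cancel_right]
      rw [this]
      exact hy
    · intro y hy
      obtain ⟨n, rfl⟩ := Subgroup.mem_zpowers_iff.mp hy
      refine ⟨x ^ n, hy, ?_⟩
      simp only [MulEquiv.coe_toMonoidHom, MulAut.conj_apply]
      have hc : l * x = x * l := (Subgroup.mem_centralizer_iff.mp hxc l hl)
      have hcomm : Commute l (x ^ n) := (show Commute l x from hc).zpow_right n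
      rw [hcomm.eq, mul_inv_cancel_right]
  exact pCoreOf_le_sylow T hTL (h1 (Subgroup.mem_zpowers x))

end Cfsg.Agent.Lib.helper17
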