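import Mathlib
import Cfsg.Prelude.Def_Amalgam
import Cfsg.Agent.Lib.helper17.PRed7

set_option autoImplicit false

namespace Cfsg.Agent.Lib.helper17

open scoped commutatorElement

variable {X : Type*} [Group X] {M₁ M₂ : Subgroup X}

/-! ### The coset graph -/

theorem cosetGraph_adj_iff {a b : Cfsg.CosetVertex M₁ M₂} :
    (Cfsg.cosetGraph M₁ M₂).Adj a b ↔
      ∃ x : X, (a = Sum.inl (x : X ⧸ M₁) ∧ b = Sum.inr (x : X ⧸ M₂)) ∨
        (a = Sum.inr (x : X ⧸ M₂) ∧ b = Sum.inl (x : X ⧸ M₁)) := by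
  unfold Cfsg.cosetGraph
  rw [SimpleGraph.fromRel_adj]
  constructor
  · rintro ⟨-, ⟨x, h1, h2⟩ | ⟨x, h1, h2⟩⟩
    · exact ⟨x, Or.inl ⟨h1, h2⟩⟩
    · exact ⟨x, Or.inr ⟨h2, h1⟩⟩
  · rintro ⟨x, ⟨h1, h2⟩ | ⟨h1, h2⟩⟩
    · refine ⟨?_, Or.inl ⟨x, h1, h2⟩⟩
      rw [h1, h2]; simp
    · refine ⟨?_, Or.inr ⟨x, h2, h1⟩⟩
      rw [h1, h2]; simp

theorem smul_inl_mk (g x : X) :
    g • (Sum.inl (x : X ⧸ M₁) : Cfsg.CosetVertex M₁ M₂) = Sum.inl ((g * x : X) : X ⧸ M₁) := rfl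

theorem smul_inr_mk (g x : X) :
    g • (Sum.inr (x : X ⧸ M₂) : Cfsg.CosetVertex M₁ M₂) = Sum.inr ((g * x : X) : X ⧸ M₂) := rfl

theorem cosetGraph_adj_smul (g : X) {a b : Cfsg.CosetVertex M₁ M₂}
    (h : (Cfsg.cosetGraph M₁ M₂).Adj a b) : (Cfsg.cosetGraph M₁ M₂).Adj (g • a) (g • b) := by
  rw [cosetGraph_adj_iff] at h ⊢
  obtain ⟨x, ⟨h1, h2⟩ | ⟨h1, h2⟩⟩ := h
  · exact ⟨g * x, Or.inl ⟨by rw [h1, smul_inl_mk], by rw [h2, smul_inr_mk]⟩⟩
  · exact ⟨g * x, Or.inr ⟨by rw [h1, smul_inr_mk], by rw [h2, smul_inl_mk]⟩⟩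

/-- Left multiplication, as a graph homomorphism of the coset graph. -/
def cosetGraphSmulHom (M₁ M₂ : Subgroup X) (g : X) : Cfsg.cosetGraph M₁ M₂ →g Cfsg.cosetGraph M₁ M₂ where
  toFun a := g • a
  map_rel' h := cosetGraph_adj_smul g h

theorem cosetGraph_reachable_smul (g : X) {a b : Cfsg.CosetVertex M₁ M₂}
    (h : (Cfsg.cosetGraph M₁ M₂).Reachable a b) : (Cfsg.cosetGraph M₁ M₂).Reachable (g • a) (g • b) :=
  h.map (cosetGraphSmulHom M₁ M₂ g)

theorem cosetGraph_adj_inl_inr (x : X) :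
    (Cfsg.cosetGraph M₁ M₂).Adj (Sum.inl (x : X ⧸ M₁)) (Sum.inr (x : X ⧸ M₂)) :=
  cosetGraph_adj_iff.mpr ⟨x, Or.inl ⟨rfl, rfl⟩⟩

/-- The subgroup of elements moving the base vertex within its connected component. -/
def reachSubgroup (M₁ M₂ : Subgroup X) : Subgroup X where
  carrier := {g | (Cfsg.cosetGraph M₁ M₂).Reachable (Sum.inl ((1 : X) : X ⧸ M₁)) (g • Sum.inl ((1 : X) : X ⧸ M₁))}
  one_mem' := by
    show (Cfsg.cosetGraph M₁ M₂).Reachable _ ((1 : X) • _)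
    rw [one_smul]
  mul_mem' := by
    intro g h hg hh
    show (Cfsg.cosetGraph M₁ M₂).Reachable _ ((g * h) • _)
    rw [mul_smul]
    exact hg.trans (cosetGraph_reachable_smul g hh)
  inv_mem' := by
    intro g hg
    show (Cfsg.cosetGraph M₁ M₂).Reachable _ (g⁻¹ • _)
    have := cosetGraph_reachable_smul g⁻¹ hg
    rw [inv_smul_smul] at this
    exact this.symm

theorem reachSubgroup_eq_top (h : M₁ ⊔ M₂ = ⊤) : reachSubgroup M₁ M₂ = ⊤ := by
  rw [eq_top_iff, ← h]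
  apply sup_le
  · intro g hg
    show (Cfsg.cosetGraph M₁ M₂).Reachable _ (g • _)
    rw [smul_inl_mk, mul_one]
    have : ((g : X) : X ⧸ M₁) = ((1 : X) : X ⧸ M₁) := by
      rw [QuotientGroup.eq]; simpa using hg
    rw [this]
  · intro g hg
    show (Cfsg.cosetGraph M₁ M₂).Reachable _ (g • _)
    rw [smul_inl_mk, mul_one]
    have h1 : (Cfsg.cosetGraph M₁ M₂).Adj (Sum.inl ((1 : X) : X ⧸ M₁)) (Sum.inr ((1 : X) : X ⧸ M₂)) :=
      cosetGraph_adj_inl_inr 1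
    have h2 : (Cfsg.cosetGraph M₁ M₂).Adj (Sum.inl ((g : X) : X ⧸ M₁)) (Sum.inr ((g : X) : X ⧸ M₂)) :=
      cosetGraph_adj_inl_inr g
    have : ((g : X) : X ⧸ M₂) = ((1 : X) : X ⧸ M₂) := by
      rw [QuotientGroup.eq]; simpa using hg
    rw [this] at h2
    exact h1.reachable.trans h2.symm.reachable

theorem cosetGraph_preconnected (h : M₁ ⊔ M₂ = ⊤) : (Cfsg.cosetGraph M₁ M₂).Preconnected := by
  have key : ∀ a : Cfsg.CosetVertex M₁ M₂,
      (Cfsg.cosetGraph M₁ M₂).Reachable (Sum.inl ((1 : X) : X ⧸ M₁)) a := by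
    have h1 : ∀ x : X, (Cfsg.cosetGraph M₁ M₂).Reachable (Sum.inl ((1 : X) : X ⧸ M₁))
        (Sum.inl ((x : X) : X ⧸ M₁)) := by
      intro x
      have hx : x ∈ reachSubgroup M₁ M₂ := by rw [reachSubgroup_eq_top h]; exact Subgroup.mem_top x
      have : (Cfsg.cosetGraph M₁ M₂).Reachable _ (x • Sum.inl ((1 : X) : X ⧸ M₁)) := hx
      rw [smul_inl_mk, mul_one] at this
      exact this
    rintro (a | a)
    · obtain ⟨x, rfl⟩ := QuotientGroup.mk_surjective a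
      exact h1 x
    · obtain ⟨x, rfl⟩ := QuotientGroup.mk_surjective a
      exact (h1 x).trans (cosetGraph_adj_inl_inr x).reachable
  intro a b
  exact (key a).symm.trans (key b)

/-! ### Geodesics -/

/-- A first step along a geodesic. -/
theorem exists_adj_dist_eq {V : Type*} {Γ : SimpleGraph V} {u v : V} (h : Γ.dist u v ≠ 0) :
    ∃ w, Γ.Adj u w ∧ Γ.dist w v + 1 = Γ.dist u v := by
  obtain ⟨p, hp⟩ := SimpleGraph.exists_walk_of_dist_ne_zero h
  cases p with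
  | nil => exact absurd SimpleGraph.dist_self h
  | cons hadj q =>
    rename_i w
    refine ⟨w, hadj, ?_⟩
    rw [SimpleGraph.Walk.length_cons] at hp
    have h1 : Γ.dist w v ≤ q.length := SimpleGraph.dist_le q
    have h2 : Γ.dist u v ≤ Γ.dist u w + Γ.dist w v := hadj.reachable.dist_triangle_left v
    have h3 : Γ.dist u w = 1 := SimpleGraph.dist_eq_one_iff_adj.mpr hadj
    omega

/-- A last step along a geodesic. -/
theorem exists_adj_dist_eq' {V : Type*} {Γ : SimpleGraph V} {u v : V} (h : Γ.dist u v ≠ 0) :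
    ∃ w, Γ.Adj v w ∧ Γ.dist u w + 1 = Γ.dist u v := by
  rw [SimpleGraph.dist_comm] at h
  obtain ⟨w, h1, h2⟩ := exists_adj_dist_eq h
  refine ⟨w, h1, ?_⟩
  rw [SimpleGraph.dist_comm (u := u) (v := w), SimpleGraph.dist_comm (u := u) (v := v)]
  exact h2

/-! ### Critical distance -/

theorem vertexZ_le_neighbourKernel_of_dist_lt {p : ℕ} {δ μ : Cfsg.CosetVertex M₁ M₂}
    (h : (Cfsg.cosetGraph M₁ M₂).dist δ μ < Cfsg.criticalDistance p M₁ M₂) :
    Cfsg.vertexZ p δ ≤ Cfsg.neighbourKernel μ := by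
  by_contra hne
  unfold Cfsg.criticalDistance at h
  exact Nat.notMem_of_lt_sInf h ⟨δ, μ, rfl, hne⟩

theorem neighbourKernel_le_stabilizer_of_adj {δ μ : Cfsg.CosetVertex M₁ M₂}
    (h : (Cfsg.cosetGraph M₁ M₂).Adj δ μ) : Cfsg.neighbourKernel δ ≤ MulAction.stabilizer X μ := by
  unfold Cfsg.neighbourKernel
  refine inf_le_right.trans ?_
  exact (iInf_le _ μ).trans (iInf_le _ h)

theorem neighbourKernel_le_stabilizer (δ : Cfsg.CosetVertex M₁ M₂) :
    Cfsg.neighbourKernel δ ≤ MulAction.stabilizer X δ := by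
  unfold Cfsg.neighbourKernel
  exact inf_le_left

/-! ### `Z_H` is normalised by `H` -/

theorem omegaOne_center_le (p : ℕ) (K : Subgroup X) :
    Cfsg.omegaOne p (K ⊓ Subgroup.centralizer (K : Set X)) ≤ K :=
  (omegaOne_le _).trans inf_le_left

theorem sylowCenterClosure_le (p : ℕ) (H : Subgroup X) : Cfsg.sylowCenterClosure p H ≤ H := by
  unfold Cfsg.sylowCenterClosure
  apply iSup_le
  intro S
  exact (omegaOne_center_le p _).trans (Subgroup.map_subtype_le _)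

theorem sylow_smul_map_subtype {p : ℕ} {H : Subgroup X} (S : Sylow p ↥H) (h : ↥H) :
    ((h • S : Sylow p ↥H) : Subgroup ↥H).map H.subtype = cj (h : X) ((S : Subgroup ↥H).map H.subtype) := by
  rw [sylow_smul_coe_eq_cj, cj_map]
  rfl

theorem cj_iSup {ι : Sort*} (g : X) (f : ι → Subgroup X) : cj g (⨆ i, f i) = ⨆ i, cj g (f i) := by
  unfold cj
  exact Subgroup.map_iSup _ _

/-- `Ω₁(Z(S))` for a Sylow subgroup `S` of `H`, in the ambient group. -/
def sylowOmegaCenter (p : ℕ) (H : Subgroup X) (S : Sylow p ↥H) : Subgroup X :=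
  Cfsg.omegaOne p (((S : Subgroup H).map H.subtype) ⊓
      Subgroup.centralizer (((S : Subgroup H).map H.subtype : Subgroup X) : Set X))

theorem sylowCenterClosure_eq_iSup (p : ℕ) (H : Subgroup X) :
    Cfsg.sylowCenterClosure p H = ⨆ S : Sylow p ↥H, sylowOmegaCenter p H S := rfl

theorem cj_sylowOmegaCenter (p : ℕ) (H : Subgroup X) (S : Sylow p ↥H) (h : ↥H) :
    cj (h : X) (sylowOmegaCenter p H S) = sylowOmegaCenter p H (h • S) := by
  unfold sylowOmegaCenter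
  rw [cj_omegaOne_center, sylow_smul_map_subtype]

theorem le_normalizer_sylowCenterClosure' (p : ℕ) (H : Subgroup X) :
    H ≤ Subgroup.normalizer ((Cfsg.sylowCenterClosure p H : Subgroup X) : Set X) := by
  apply le_normalizer_of_cj_le'
  intro h hh
  rw [sylowCenterClosure_eq_iSup, cj_iSup]
  apply iSup_le
  intro S
  have e := cj_sylowOmegaCenter p H S ⟨h, hh⟩
  have e' : cj h (sylowOmegaCenter p H S) = sylowOmegaCenter p H ((⟨h, hh⟩ : ↥H) • S) := e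
  rw [e']
  exact le_iSup (fun S : Sylow p ↥H => sylowOmegaCenter p H S) ((⟨h, hh⟩ : ↥H) • S)

end Cfsg.Agent.Lib.helper17
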