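import Mathlib
import Cfsg.Agent.Lib.helper17.PRed6

set_option autoImplicit false

namespace Cfsg.Agent.Lib.helper17

open scoped commutatorElement

variable {G : Type*} [Group G]

theorem cj_eq_of_cj_le' [Finite G] {g : G} {K : Subgroup G} (h : cj g K ≤ K) : cj g K = K := by
  rw [cj_le_iff] at h
  have h1 := cj_eq_of_le_cj h
  have h2 : cj g (cj g⁻¹ K) = cj g K := by rw [h1]
  rw [cj_cj_inv] at h2
  exact h2.symm

/-- A `p`-subgroup of `K` normalised by `K` lies in every Sylow `p`-subgroup of `K`. -/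
theorem le_sylowSub_of_normal {p : ℕ} [Fact p.Prime] {K : Subgroup G} (T : Sylow p ↥K)
    {N : Subgroup G} (hNK : N ≤ K) (hN : IsPGroup p N) (hKN : K ≤ Subgroup.normalizer (N : Set G)) :
    N ≤ (T : Subgroup ↥K).map K.subtype := by
  have hn : (N.subgroupOf K).Normal := (Subgroup.normal_subgroupOf_iff_le_normalizer hNK).mpr hKN
  have h1 : IsPGroup p ((N.subgroupOf K ⊔ (T : Subgroup ↥K) : Subgroup ↥K)) :=
    IsPGroup.to_sup_of_normal_left (hN.comap_subtype) T.isPGroup'
  have h2 := T.3 h1 le_sup_right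
  intro x hx
  have : (⟨x, hNK hx⟩ : ↥K) ∈ (N.subgroupOf K ⊔ (T : Subgroup ↥K) : Subgroup ↥K) :=
    le_sup_left (a := N.subgroupOf K) (Subgroup.mem_subgroupOf.mpr hx)
  rw [h2] at this
  exact ⟨⟨x, hNK hx⟩, this, rfl⟩

/-- `K = O^p(K) T` for a Sylow `p`-subgroup `T` of `K`, in the ambient group. -/
theorem opOf_sup_sylowSub [Finite G] {p : ℕ} [Fact p.Prime] {K : Subgroup G} (T : Sylow p ↥K) :
    opOf p K ⊔ (T : Subgroup ↥K).map K.subtype = K := by
  have h1 := pResidual_sup_sylow T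
  have h2 := congrArg (Subgroup.map K.subtype) h1
  rw [Subgroup.map_sup, map_pResidual_eq_opOf, ← MonoidHom.range_eq_map, Subgroup.range_subtype] at h2
  exact h2

/-- If the `p'`-elements of `K` normalise the Sylow `p`-subgroup `T` of `K`, then `T ≤ O_p(K)`. -/
theorem sylowSub_le_pCoreOf [Finite G] {p : ℕ} [Fact p.Prime] {K : Subgroup G} (T : Sylow p ↥K)
    (h : ∀ g ∈ K, Nat.Coprime (orderOf g) p →
      g ∈ Subgroup.normalizer (((T : Subgroup ↥K).map K.subtype : Subgroup G) : Set G)) :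
    (T : Subgroup ↥K).map K.subtype ≤ Cfsg.pCoreOf p K := by
  apply le_pCoreOf (Subgroup.map_subtype_le _) (T.isPGroup'.map _)
  have h1 := opOf_sup_sylowSub T
  have h2 : opOf p K ⊔ (T : Subgroup ↥K).map K.subtype ≤
      Subgroup.normalizer (((T : Subgroup ↥K).map K.subtype : Subgroup G) : Set G) :=
    sup_le (opOf_le_iff.mpr h) Subgroup.le_normalizer
  rw [h1] at h2
  exact h2

end Cfsg.Agent.Lib.helper17
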