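import Mathlib
import Cfsg.Prelude.Def_Amalgam
import Cfsg.Agent.Lib.helper17.Amalgam
import Cfsg.Agent.Lib.helper17.SylSub

set_option autoImplicit false

namespace Cfsg.Agent.Lib.helper17

open scoped commutatorElement

variable {X : Type*} [Group X] {M₁ M₂ : Subgroup X}

/-! ### Vertex stabilizers -/

theorem stabilizer_inl_mk (x : X) :
    MulAction.stabilizer X (Sum.inl (x : X ⧸ M₁) : Cfsg.CosetVertex M₁ M₂) = cj x M₁ := by
  ext g
  rw [MulAction.mem_stabilizer_iff, smul_inl_mk, Sum.inl.injEq, QuotientGroup.eq, mem_cj]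
  have e : (g * x)⁻¹ * x = (x⁻¹ * g * x)⁻¹ := by group
  rw [e, inv_mem_iff]

theorem stabilizer_inr_mk (x : X) :
    MulAction.stabilizer X (Sum.inr (x : X ⧸ M₂) : Cfsg.CosetVertex M₁ M₂) = cj x M₂ := by
  ext g
  rw [MulAction.mem_stabilizer_iff, smul_inr_mk, Sum.inr.injEq, QuotientGroup.eq, mem_cj]
  have e : (g * x)⁻¹ * x = (x⁻¹ * g * x)⁻¹ := by group
  rw [e, inv_mem_iff]

theorem exists_stabilizer_eq_of_adj {δ μ : Cfsg.CosetVertex M₁ M₂}
    (h : (Cfsg.cosetGraph M₁ M₂).Adj δ μ) :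
    ∃ g : X, (MulAction.stabilizer X δ = cj g M₁ ∧ MulAction.stabilizer X μ = cj g M₂) ∨
      (MulAction.stabilizer X δ = cj g M₂ ∧ MulAction.stabilizer X μ = cj g M₁) := by
  rw [cosetGraph_adj_iff] at h
  obtain ⟨x, ⟨h1, h2⟩ | ⟨h1, h2⟩⟩ := h
  · exact ⟨x, Or.inl ⟨by rw [h1, stabilizer_inl_mk], by rw [h2, stabilizer_inr_mk]⟩⟩
  · exact ⟨x, Or.inr ⟨by rw [h1, stabilizer_inr_mk], by rw [h2, stabilizer_inl_mk]⟩⟩

theorem exists_stabilizer_eq (δ : Cfsg.CosetVertex M₁ M₂) :
    ∃ g : X, MulAction.stabilizer X δ = cj g M₁ ∨ MulAction.stabilizer X δ = cj g M₂ := by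
  rcases δ with a | a
  · obtain ⟨x, rfl⟩ := QuotientGroup.mk_surjective a
    exact ⟨x, Or.inl (stabilizer_inl_mk x)⟩
  · obtain ⟨x, rfl⟩ := QuotientGroup.mk_surjective a
    exact ⟨x, Or.inr (stabilizer_inr_mk x)⟩

/-! ### `O^{p'}` -/

theorem pElementClosure_le (p : ℕ) (A : Subgroup X) : Cfsg.pElementClosure p A ≤ A := by
  unfold Cfsg.pElementClosure
  rw [Subgroup.closure_le]
  intro x hx
  exact hx.1

theorem le_pElementClosure {p : ℕ} [Fact p.Prime] {A P : Subgroup X} (hPA : P ≤ A) (hP : IsPGroup p P) :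
    P ≤ Cfsg.pElementClosure p A := by
  intro x hx
  apply Subgroup.subset_closure
  refine ⟨hPA hx, ?_⟩
  obtain ⟨k, hk⟩ := (IsPGroup.iff_orderOf.mp hP) ⟨x, hx⟩
  exact ⟨k, by rw [← hk, Subgroup.orderOf_mk]⟩

theorem cj_pElementClosure (p : ℕ) (g : X) (A : Subgroup X) :
    cj g (Cfsg.pElementClosure p A) = Cfsg.pElementClosure p (cj g A) := by
  unfold Cfsg.pElementClosure cj
  rw [MonoidHom.map_closure]
  congr 1
  ext y
  constructor
  · rintro ⟨x, ⟨hxA, k, hk⟩, rfl⟩
    refine ⟨Subgroup.mem_map_of_mem _ hxA, k, ?_⟩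
    simp only [MulEquiv.coe_toMonoidHom, MulAut.conj_apply]
    rw [orderOf_conj']
    exact hk
  · rintro ⟨⟨x, hxA, rfl⟩, k, hk⟩
    refine ⟨x, ⟨hxA, k, ?_⟩, rfl⟩
    simp only [MulEquiv.coe_toMonoidHom, MulAut.conj_apply] at hk
    rwa [orderOf_conj'] at hk

theorem normalizer_le_normalizer_pElementClosure (p : ℕ) (A : Subgroup X) :
    Subgroup.normalizer (A : Set X) ≤ Subgroup.normalizer ((Cfsg.pElementClosure p A : Subgroup X) : Set X) := by
  intro g hg
  rw [← cj_eq_self_iff, cj_pElementClosure, cj_eq_self_iff.mpr hg]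

/-- **Frattini** for `O^{p'}(A)` in a finite subgroup `A`, in the ambient group: `A = O^{p'}(A) N_A(T)`. -/
theorem exists_mul_pElementClosure_normalizer {p : ℕ} [Fact p.Prime] {A T : Subgroup X} [Finite ↥A]
    (hTA : T ≤ A) (hcard : Nat.card T = p ^ (Nat.card A).factorization p) {a : X} (ha : a ∈ A) :
    ∃ n ∈ A ⊓ Subgroup.normalizer (T : Set X), ∃ c ∈ Cfsg.pElementClosure p A, a = n * c := by
  have hcard' : Nat.card (T.subgroupOf A) = p ^ (Nat.card A).factorization p := by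
    rw [← hcard]
    exact Nat.card_congr (Subgroup.subgroupOfEquivOfLe hTA).toEquiv
  let T' : Sylow p ↥A := Sylow.ofCard (T.subgroupOf A) hcard'
  have hT' : (T' : Subgroup ↥A) = T.subgroupOf A := rfl
  have hTp : IsPGroup p T := by
    have := T'.isPGroup'
    rw [hT'] at this
    exact (IsPGroup.of_equiv this (Subgroup.subgroupOfEquivOfLe hTA))
  have hAN : A ≤ Subgroup.normalizer ((Cfsg.pElementClosure p A : Subgroup X) : Set X) :=
    Subgroup.le_normalizer.trans (normalizer_le_normalizer_pElementClosure p A)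
  have hTN : T ≤ Cfsg.pElementClosure p A := le_pElementClosure hTA hTp
  have hnorm : ((Cfsg.pElementClosure p A).subgroupOf A).Normal :=
    (Subgroup.normal_subgroupOf_iff_le_normalizer (pElementClosure_le p A)).mpr hAN
  have hle : (T' : Subgroup ↥A) ≤ (Cfsg.pElementClosure p A).subgroupOf A := by
    rw [hT']
    intro x hx
    exact Subgroup.mem_subgroupOf.mpr (hTN (Subgroup.mem_subgroupOf.mp hx))
  obtain ⟨n, hn, c, hc, hac⟩ := frattini_ambient T' (M := ⊤) (C := (Cfsg.pElementClosure p A).subgroupOf A)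
    le_top (by rw [Subgroup.normalizer_eq_top_iff.mpr hnorm]) (m := ⟨a, ha⟩) (Subgroup.mem_top _)
  rw [inf_eq_left.mpr hle] at hn
  refine ⟨(n : X), ⟨n.2, ?_⟩, (c : X), Subgroup.mem_subgroupOf.mp hc.2, ?_⟩
  · have hn2 : n ∈ Subgroup.normalizer ((T.subgroupOf A : Subgroup ↥A) : Set ↥A) := (Subgroup.mem_inf.mp hn).2
    show (n : X) ∈ Subgroup.normalizer (T : Set X)
    rw [Subgroup.mem_normalizer_iff] at hn2 ⊢
    intro t
    constructor
    · intro ht
      have := (hn2 ⟨t, hTA ht⟩).mp (Subgroup.mem_subgroupOf.mpr ht)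
      exact Subgroup.mem_subgroupOf.mp this
    · intro ht
      have htA : t ∈ A := by
        have h1 : (n : X)⁻¹ * ((n : X) * t * (n : X)⁻¹) * (n : X) ∈ A :=
          A.mul_mem (A.mul_mem (A.inv_mem n.2) (hTA ht)) n.2
        have e : (n : X)⁻¹ * ((n : X) * t * (n : X)⁻¹) * (n : X) = t := by group
        rwa [e] at h1
      have := (hn2 ⟨t, htA⟩).mpr (Subgroup.mem_subgroupOf.mpr ht)
      exact Subgroup.mem_subgroupOf.mp this
  · have := congrArg Subtype.val hac
    simpa using this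

theorem le_normalizer_iSup {ι : Sort*} {K : Subgroup X} (f : ι → Subgroup X)
    (h : ∀ i, K ≤ Subgroup.normalizer ((f i : Subgroup X) : Set X)) :
    K ≤ Subgroup.normalizer ((⨆ i, f i : Subgroup X) : Set X) := by
  apply le_normalizer_of_cj_le'
  intro k hk
  rw [cj_iSup]
  apply iSup_le
  intro i
  rw [cj_eq_self_iff.mpr (h i hk)]
  exact le_iSup f i

/-- Abstract core of the "no common normal subgroup of `T`" lemma. -/
theorem eq_bot_of_normalized_by_both {p : ℕ} [Fact p.Prime] {A B T U : Subgroup X} [Finite ↥A] [Finite ↥B]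
    (hAB : A ⊔ B = ⊤) (hfaith : ∀ N : Subgroup X, N ≤ A ⊓ B → N.Normal → N = ⊥)
    (hTA : T ≤ A) (hTB : T ≤ B)
    (hcA : Nat.card T = p ^ (Nat.card A).factorization p)
    (hcB : Nat.card T = p ^ (Nat.card B).factorization p)
    (hN : A ⊓ Subgroup.normalizer (T : Set X) = B ⊓ Subgroup.normalizer (T : Set X))
    (hUT : U ≤ T) (hUA : Cfsg.pElementClosure p A ≤ Subgroup.normalizer (U : Set X))
    (hUB : Cfsg.pElementClosure p B ≤ Subgroup.normalizer (U : Set X)) : U = ⊥ := by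
  have hWT : conjClosure (A ⊓ Subgroup.normalizer (T : Set X)) U ≤ T := conjClosure_le_of hUT inf_le_right
  have hN₀ := le_normalizer_conjClosure (A ⊓ Subgroup.normalizer (T : Set X)) U
  have key : ∀ D : Subgroup X, A ⊓ Subgroup.normalizer (T : Set X) ≤ D →
      Cfsg.pElementClosure p D ≤ Subgroup.normalizer (U : Set X) →
      Cfsg.pElementClosure p D ≤
        Subgroup.normalizer ((conjClosure (A ⊓ Subgroup.normalizer (T : Set X)) U : Subgroup X) : Set X) := by
    intro D hD hDU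
    unfold conjClosure
    apply le_normalizer_iSup
    intro n
    rw [normalizer_cj]
    have h1 : cj (n : X) (Cfsg.pElementClosure p D) = Cfsg.pElementClosure p D := by
      rw [cj_pElementClosure, cj_eq_self_of_mem (hD n.2)]
    rw [← h1]
    exact cj_mono hDU
  have hA : A ≤ Subgroup.normalizer ((conjClosure (A ⊓ Subgroup.normalizer (T : Set X)) U : Subgroup X) : Set X) := by
    intro a ha
    obtain ⟨n, hn, c, hc, rfl⟩ := exists_mul_pElementClosure_normalizer hTA hcA ha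
    exact Subgroup.mul_mem _ (hN₀ hn) (key A inf_le_left hUA hc)
  have hB : B ≤ Subgroup.normalizer ((conjClosure (A ⊓ Subgroup.normalizer (T : Set X)) U : Subgroup X) : Set X) := by
    intro b hb
    obtain ⟨n, hn, c, hc, rfl⟩ := exists_mul_pElementClosure_normalizer hTB hcB hb
    rw [← hN] at hn
    exact Subgroup.mul_mem _ (hN₀ hn) (key B (hN.le.trans inf_le_left) hUB hc)
  have hnorm : (conjClosure (A ⊓ Subgroup.normalizer (T : Set X)) U).Normal := by
    rw [← Subgroup.normalizer_eq_top_iff, eq_top_iff, ← hAB]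
    exact sup_le hA hB
  have hbot := hfaith _ (hWT.trans (le_inf hTA hTB)) hnorm
  rw [← le_bot_iff, ← hbot]
  exact le_conjClosure _ U

end Cfsg.Agent.Lib.helper17
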