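import Mathlib
import Cfsg.Prelude.Def_Amalgam
import Cfsg.Agent.Lib.helper17.Amalgam2

set_option autoImplicit false

namespace Cfsg.Agent.Lib.helper17

open scoped commutatorElement

variable {X : Type*} [Group X] {M₁ M₂ : Subgroup X}

theorem finite_cj {A : Subgroup X} (g : X) (h : Finite ↥A) : Finite ↥(cj g A) :=
  Finite.of_equiv ↥A (A.equivMapOfInjective _ (MulAut.conj g).injective).toEquiv

theorem finite_inf_left {A : Subgroup X} (B : Subgroup X) (h : Finite ↥A) : Finite ↥(A ⊓ B) :=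
  Finite.of_injective (Subgroup.inclusion (inf_le_left : A ⊓ B ≤ A)) (Subgroup.inclusion_injective _)

theorem cj_sup (g : X) (A B : Subgroup X) : cj g (A ⊔ B) = cj g A ⊔ cj g B := by
  unfold cj
  exact Subgroup.map_sup _ _ _

theorem cj_top (g : X) : cj g (⊤ : Subgroup X) = ⊤ := by
  rw [eq_top_iff]
  intro x _
  rw [mem_cj]
  exact Subgroup.mem_top _

theorem cj_eq_self_of_normal' (g : X) {N : Subgroup X} (hN : N.Normal) : cj g N = N :=
  cj_eq_self_iff.mpr (by rw [Subgroup.normalizer_eq_top_iff.mpr hN]; exact Subgroup.mem_top g)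

/-- Conjugation-invariant data of an edge of the coset graph. -/
structure EdgeData (p : ℕ) (A B : Subgroup X) : Prop where
  sup_eq : A ⊔ B = ⊤
  faithful : ∀ N : Subgroup X, N ≤ A ⊓ B → N.Normal → N = ⊥
  finA : Finite ↥A
  finB : Finite ↥B
  valA : (Nat.card ↥(A ⊓ B)).factorization p = (Nat.card ↥A).factorization p
  valB : (Nat.card ↥(A ⊓ B)).factorization p = (Nat.card ↥B).factorization p

theorem EdgeData.symm {p : ℕ} {A B : Subgroup X} (h : EdgeData p A B) : EdgeData p B A where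
  sup_eq := by rw [sup_comm]; exact h.sup_eq
  faithful := by
    intro N hN hn
    exact h.faithful N (by rw [inf_comm]; exact hN) hn
  finA := h.finB
  finB := h.finA
  valA := by rw [inf_comm]; exact h.valB
  valB := by rw [inf_comm]; exact h.valA

theorem EdgeData.cj {p : ℕ} {A B : Subgroup X} (h : EdgeData p A B) (g : X) :
    EdgeData p (cj g A) (cj g B) where
  sup_eq := by rw [← cj_sup, h.sup_eq, cj_top]
  faithful := by
    intro N hN hn
    apply h.faithful N ?_ hn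
    have h1 := cj_mono (g := g⁻¹) hN
    rwa [cj_eq_self_of_normal' _ hn, cj_inf, cj_inv_cj, cj_inv_cj] at h1
  finA := finite_cj g h.finA
  finB := finite_cj g h.finB
  valA := by rw [← cj_inf, card_cj, card_cj]; exact h.valA
  valB := by rw [← cj_inf, card_cj, card_cj]; exact h.valB

theorem edgeData_of_isCharPAmalgamPair {p : ℕ} [hp : Fact p.Prime]
    (h : Cfsg.IsCharPAmalgamPair p M₁ M₂) : EdgeData p M₁ M₂ := by
  obtain ⟨⟨h1, -, -, h4⟩, hf1, hf2, -, -, hs, -, -⟩ := h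
  have hf12 : Finite ↥(M₁ ⊓ M₂) := finite_inf_left M₂ hf1
  obtain ⟨S⟩ := (inferInstance : Nonempty (Sylow p ↥(M₁ ⊓ M₂)))
  obtain ⟨P₁⟩ := (inferInstance : Nonempty (Sylow p ↥M₁))
  obtain ⟨P₂⟩ := (inferInstance : Nonempty (Sylow p ↥M₂))
  obtain ⟨e1, e2⟩ := hs S P₁ P₂
  rw [Sylow.card_eq_multiplicity, Sylow.card_eq_multiplicity] at e1 e2
  exact ⟨h1, h4, hf1, hf2, Nat.pow_right_injective hp.out.two_le e1,
    Nat.pow_right_injective hp.out.two_le e2⟩

theorem edgeData_of_adj {p : ℕ} [Fact p.Prime] (h : Cfsg.IsCharPAmalgamPair p M₁ M₂)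
    {δ μ : Cfsg.CosetVertex M₁ M₂} (hadj : (Cfsg.cosetGraph M₁ M₂).Adj δ μ) :
    EdgeData p (MulAction.stabilizer X δ) (MulAction.stabilizer X μ) := by
  obtain ⟨g, ⟨h1, h2⟩ | ⟨h1, h2⟩⟩ := exists_stabilizer_eq_of_adj hadj
  · rw [h1, h2]; exact (edgeData_of_isCharPAmalgamPair h).cj g
  · rw [h1, h2]; exact ((edgeData_of_isCharPAmalgamPair h).cj g).symm

/-- The order of the ambient image of a Sylow subgroup of `A ⊓ B`. -/
theorem EdgeData.card_sylow {p : ℕ} [Fact p.Prime] {A B : Subgroup X} (h : EdgeData p A B)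
    (S : Sylow p ↥(A ⊓ B)) :
    Nat.card ((S : Subgroup ↥(A ⊓ B)).map (A ⊓ B).subtype) = p ^ (Nat.card ↥A).factorization p ∧
    Nat.card ((S : Subgroup ↥(A ⊓ B)).map (A ⊓ B).subtype) = p ^ (Nat.card ↥B).factorization p := by
  have hf : Finite ↥(A ⊓ B) := finite_inf_left B h.finA
  have e : Nat.card ((S : Subgroup ↥(A ⊓ B)).map (A ⊓ B).subtype) = Nat.card (S : Subgroup ↥(A ⊓ B)) :=
    Subgroup.card_map_of_injective (Subgroup.subtype_injective _)
  rw [e, Sylow.card_eq_multiplicity]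
  exact ⟨by rw [h.valA], by rw [h.valB]⟩

/-- The Sylow normalizer condition of the standing hypothesis, in conjugation-invariant form. -/
def NormCond (p : ℕ) (A B : Subgroup X) : Prop :=
  ∀ T : Subgroup X, T ≤ A ⊓ B → Nat.card T = p ^ (Nat.card ↥(A ⊓ B)).factorization p →
    A ⊓ Subgroup.normalizer (T : Set X) = B ⊓ Subgroup.normalizer (T : Set X) ∧
      A ⊓ Subgroup.normalizer (T : Set X) ≤ A ⊓ B

theorem NormCond.symm {p : ℕ} {A B : Subgroup X} (h : NormCond p A B) : NormCond p B A := by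
  intro T hT hc
  rw [inf_comm] at hT
  rw [inf_comm B A] at hc ⊢
  obtain ⟨h1, h2⟩ := h T hT hc
  exact ⟨h1.symm, h1 ▸ h2⟩

theorem NormCond.cj {p : ℕ} {A B : Subgroup X} (h : NormCond p A B) (g : X) :
    NormCond p (cj g A) (cj g B) := by
  intro T hT hc
  rw [← cj_inf] at hT hc
  rw [card_cj] at hc
  have hT0 : Cfsg.Agent.Lib.helper17.cj g⁻¹ T ≤ A ⊓ B := by
    have := cj_mono (g := g⁻¹) hT
    rwa [cj_inv_cj] at this
  obtain ⟨h1, h2⟩ := h (Cfsg.Agent.Lib.helper17.cj g⁻¹ T) hT0 (by rw [card_cj]; exact hc)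
  have e : ∀ D : Subgroup X, Cfsg.Agent.Lib.helper17.cj g (D ⊓ Subgroup.normalizer
      ((Cfsg.Agent.Lib.helper17.cj g⁻¹ T : Subgroup X) : Set X)) =
      Cfsg.Agent.Lib.helper17.cj g D ⊓ Subgroup.normalizer (T : Set X) := by
    intro D
    rw [cj_inf, ← normalizer_cj, cj_cj_inv]
  constructor
  · rw [← e A, ← e B, h1]
  · rw [← e A, ← cj_inf]
    exact cj_mono h2

theorem normCond_of_isSpeAmalgamPair {p : ℕ} [Fact p.Prime] (h : Cfsg.IsSpeAmalgamPair p M₁ M₂) :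
    NormCond p M₁ M₂ := by
  intro T hT hc
  have hf : Finite ↥(M₁ ⊓ M₂) := finite_inf_left M₂ h.1.2.1
  have hcard' : Nat.card (T.subgroupOf (M₁ ⊓ M₂)) = p ^ (Nat.card ↥(M₁ ⊓ M₂)).factorization p := by
    rw [← hc]
    exact Nat.card_congr (Subgroup.subgroupOfEquivOfLe hT).toEquiv
  have := h.2.1 (Sylow.ofCard (T.subgroupOf (M₁ ⊓ M₂)) hcard')
  have e : ((Sylow.ofCard (T.subgroupOf (M₁ ⊓ M₂)) hcard' : Sylow p ↥(M₁ ⊓ M₂)) : Subgroup ↥(M₁ ⊓ M₂)).map
      (M₁ ⊓ M₂).subtype = T := by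
    show (T.subgroupOf (M₁ ⊓ M₂)).map (M₁ ⊓ M₂).subtype = T
    rw [Subgroup.subgroupOf_map_subtype, inf_eq_left.mpr hT]
  rw [e] at this
  exact this

theorem normCond_of_adj {p : ℕ} [Fact p.Prime] (h : Cfsg.IsSpeAmalgamPair p M₁ M₂)
    {δ μ : Cfsg.CosetVertex M₁ M₂} (hadj : (Cfsg.cosetGraph M₁ M₂).Adj δ μ) :
    NormCond p (MulAction.stabilizer X δ) (MulAction.stabilizer X μ) := by
  obtain ⟨g, ⟨h1, h2⟩ | ⟨h1, h2⟩⟩ := exists_stabilizer_eq_of_adj hadj
  · rw [h1, h2]; exact (normCond_of_isSpeAmalgamPair h).cj g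
  · rw [h1, h2]; exact ((normCond_of_isSpeAmalgamPair h).cj g).symm

end Cfsg.Agent.Lib.helper17
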