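import Mathlib
import Cfsg.Agent.Lib.helper17.Conj
import Cfsg.Agent.Lib.helper17.Amalgam3

set_option autoImplicit false

namespace Cfsg.Agent.Lib.helper17.QdChar

open Cfsg.Agent.Lib.helper17

variable {G : Type*} [Group G]

/-- conjugation by an element of the normalizer, as an automorphism -/
def conjNorm (K : Subgroup G) (g : G) (hg : g ∈ Subgroup.normalizer (K : Set G)) : ↥K ≃* ↥K where
  toFun x := ⟨g * x * g⁻¹, (Subgroup.mem_normalizer_iff.mp hg x).mp x.2⟩
  invFun x := ⟨g⁻¹ * x * g, (Subgroup.mem_normalizer_iff''.mp hg x).mp x.2⟩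
  left_inv x := by apply Subtype.ext; simp [mul_assoc]
  right_inv x := by apply Subtype.ext; simp [mul_assoc]
  map_mul' x y := by apply Subtype.ext; simp [mul_assoc]

theorem normalizer_le_normalizer_map_of_char (K : Subgroup G) (T : Subgroup ↥K)
    (hTc : T.Characteristic) :
    Subgroup.normalizer (K : Set G) ≤
      Subgroup.normalizer ((T.map K.subtype : Subgroup G) : Set G) := by
  have key : ∀ g ∈ Subgroup.normalizer (K : Set G), ∀ x ∈ T.map K.subtype,
      g * x * g⁻¹ ∈ T.map K.subtype := by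
    intro g hg x hx
    obtain ⟨t, ht, rfl⟩ := hx
    have := (Subgroup.characteristic_iff_le_comap.mp hTc (conjNorm K g hg)) ht
    exact ⟨conjNorm K g hg t, this, rfl⟩
  intro g hg
  rw [Subgroup.mem_normalizer_iff]
  intro x
  constructor
  · exact key g hg x
  · intro hx
    have := key g⁻¹ (inv_mem hg) _ hx
    simpa [mul_assoc] using this

theorem charSylow {p : ℕ} [Fact p.Prime] (S : Sylow p G) (V : Subgroup G)
    (hcore : ∀ N : Subgroup G, N.Normal → IsPGroup p N → N ≤ V)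
    (hmin : ∀ N : Subgroup G, N.Normal → N ≤ V → N = ⊥ ∨ N = V)
    (hmax : ∀ H : Subgroup G, Subgroup.normalizer ((S : Subgroup G) : Set G) ≤ H →
       H = Subgroup.normalizer ((S : Subgroup G) : Set G) ∨ H = ⊤)
    (hnc : ∃ ψ : ↥(S : Subgroup G) ≃* ↥(S : Subgroup G), ∃ x : ↥(S : Subgroup G),
      (x : G) ∈ V ∧ (ψ x : G) ∉ V)
    (T : Subgroup ↥(S : Subgroup G)) (hT : T ≠ ⊥) (hTc : T.Characteristic) :
    Subgroup.normalizer ((T.map (S : Subgroup G).subtype : Subgroup G) : Set G) =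
      Subgroup.normalizer ((S : Subgroup G) : Set G) ∧
    Subgroup.normalizer ((S : Subgroup G) : Set G) ≠ ⊤ := by
  obtain ⟨ψ, x, hxV, hψx⟩ := hnc
  have hne : Subgroup.normalizer ((S : Subgroup G) : Set G) ≠ ⊤ := by
    intro h
    have hn : (S : Subgroup G).Normal := Subgroup.normalizer_eq_top_iff.mp h
    exact hψx (hcore _ hn S.isPGroup' (ψ x).2)
  refine ⟨?_, hne⟩
  rcases hmax _ (normalizer_le_normalizer_map_of_char _ T hTc) with h | h
  · exact h
  · exfalso
    have hn : (T.map (S : Subgroup G).subtype).Normal := Subgroup.normalizer_eq_top_iff.mp h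
    have hp : IsPGroup p (T.map (S : Subgroup G).subtype) :=
      S.isPGroup'.to_le (Subgroup.map_subtype_le T)
    have hle := hcore _ hn hp
    rcases hmin _ hn hle with h0 | h1
    · apply hT
      rwa [Subgroup.map_eq_bot_iff_of_injective _ Subtype.val_injective] at h0
    · have hxT : x ∈ T := by
        have h2 : (x : G) ∈ T.map (S : Subgroup G).subtype := by rw [h1]; exact hxV
        obtain ⟨t, ht, hte⟩ := h2
        have : t = x := Subtype.ext hte
        rwa [← this]
      have h3 := (Subgroup.characteristic_iff_le_comap.mp hTc ψ) hxT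
      apply hψx
      rw [← h1]
      exact ⟨ψ x, h3, rfl⟩

theorem hmax_conj (g : G) (K₀ : Subgroup G)
    (h : ∀ H : Subgroup G, Subgroup.normalizer (K₀ : Set G) ≤ H →
      H = Subgroup.normalizer (K₀ : Set G) ∨ H = ⊤) :
    ∀ H : Subgroup G, Subgroup.normalizer ((cj g K₀ : Subgroup G) : Set G) ≤ H →
      H = Subgroup.normalizer ((cj g K₀ : Subgroup G) : Set G) ∨ H = ⊤ := by
  intro H hH
  rw [normalizer_cj] at hH ⊢
  rw [cj_le_iff] at hH
  rcases h _ hH with h1 | h1
  · left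
    rw [← h1, cj_cj_inv]
  · right
    have := congrArg (cj g) h1
    rwa [cj_cj_inv, cj_top] at this

theorem hnc_conj (V : Subgroup G) [V.Normal] (g : G) (K₀ : Subgroup G)
    (h : ∃ ψ : ↥K₀ ≃* ↥K₀, ∃ x : ↥K₀, (x : G) ∈ V ∧ (ψ x : G) ∉ V) :
    ∃ ψ : ↥(cj g K₀) ≃* ↥(cj g K₀), ∃ x : ↥(cj g K₀), (x : G) ∈ V ∧ (ψ x : G) ∉ V := by
  obtain ⟨ψ, x, hx, hψ⟩ := h
  let e : ↥K₀ ≃* ↥(cj g K₀) := (MulAut.conj g).subgroupMap K₀
  have he : ∀ y : ↥K₀, ((e y : ↥(cj g K₀)) : G) = g * y * g⁻¹ := fun y => rfl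
  refine ⟨e.symm.trans (ψ.trans e), e x, ?_, ?_⟩
  · rw [he]
    exact Subgroup.Normal.conj_mem inferInstance _ hx g
  · have : (e.symm.trans (ψ.trans e)) (e x) = e (ψ x) := by simp
    rw [this, he]
    intro hc
    apply hψ
    have := Subgroup.Normal.conj_mem (inferInstance : V.Normal) _ hc g⁻¹
    simpa [mul_assoc] using this

end Cfsg.Agent.Lib.helper17.QdChar
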