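import Mathlib
import Cfsg.Agent.Lib.helper15.Qd
import Cfsg.Agent.Lib.helper15.NatMod

set_option autoImplicit false

namespace Cfsg.Agent.Lib.helper17.QdChar

open Matrix Cfsg.Agent.Lib.helper15.Qd Cfsg.Agent.Lib.helper15.NatMod

variable {F : Type*} [Field F]

/-- The Borel subgroup of upper triangular matrices of `SL₂(F)`. -/
def Bo : Subgroup (SpecialLinearGroup (Fin 2) F) where
  carrier := {A | (A : Matrix (Fin 2) (Fin 2) F) 1 0 = 0}
  one_mem' := by simp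
  mul_mem' := by
    intro A B hA hB
    simp only [Set.mem_setOf_eq] at *
    rw [Matrix.SpecialLinearGroup.coe_mul, Matrix.mul_apply, Fin.sum_univ_two, hA, hB]; simp
  inv_mem' := by
    intro A hA
    simp only [Set.mem_setOf_eq] at *
    rw [Matrix.SpecialLinearGroup.coe_inv, Matrix.adjugate_fin_two]; simp [hA]

theorem mem_Bo {A : SpecialLinearGroup (Fin 2) F} :
    A ∈ (Bo : Subgroup _) ↔ (A : Matrix (Fin 2) (Fin 2) F) 1 0 = 0 := Iff.rfl

theorem inv_mul_mem_Bo {Y X : SpecialLinearGroup (Fin 2) F}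
    (h0 : (Y : Matrix (Fin 2) (Fin 2) F) 0 0 = (X : Matrix (Fin 2) (Fin 2) F) 0 0)
    (h1 : (Y : Matrix (Fin 2) (Fin 2) F) 1 0 = (X : Matrix (Fin 2) (Fin 2) F) 1 0) :
    Y⁻¹ * X ∈ (Bo : Subgroup _) := by
  rw [mem_Bo, Matrix.SpecialLinearGroup.coe_mul, Matrix.SpecialLinearGroup.coe_inv, Matrix.adjugate_fin_two,
    Matrix.mul_apply, Fin.sum_univ_two]
  simp [h0, h1]
  ring

theorem exists_borel_mul (A X : SpecialLinearGroup (Fin 2) F)
    (hA : (A : Matrix (Fin 2) (Fin 2) F) 1 0 ≠ 0)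
    (hX : (X : Matrix (Fin 2) (Fin 2) F) 1 0 ≠ 0) :
    ∃ b ∈ (Bo : Subgroup (SpecialLinearGroup (Fin 2) F)),
      ((b * A : SpecialLinearGroup (Fin 2) F) : Matrix (Fin 2) (Fin 2) F) 0 0 =
        (X : Matrix (Fin 2) (Fin 2) F) 0 0 ∧
      ((b * A : SpecialLinearGroup (Fin 2) F) : Matrix (Fin 2) (Fin 2) F) 1 0 =
        (X : Matrix (Fin 2) (Fin 2) F) 1 0 := by
  obtain ⟨b, hb⟩ : ∃ b : SpecialLinearGroup (Fin 2) F, (b : Matrix (Fin 2) (Fin 2) F) =
      !![(A : Matrix (Fin 2) (Fin 2) F) 1 0 / (X : Matrix (Fin 2) (Fin 2) F) 1 0,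
      ((X : Matrix (Fin 2) (Fin 2) F) 0 0 - (A : Matrix (Fin 2) (Fin 2) F) 1 0 /
        (X : Matrix (Fin 2) (Fin 2) F) 1 0 * (A : Matrix (Fin 2) (Fin 2) F) 0 0) /
        (A : Matrix (Fin 2) (Fin 2) F) 1 0;
      0, (X : Matrix (Fin 2) (Fin 2) F) 1 0 / (A : Matrix (Fin 2) (Fin 2) F) 1 0] :=
    ⟨⟨_, by rw [Matrix.det_fin_two_of]; field_simp; ring⟩, rfl⟩
  refine ⟨b, ?_, ?_, ?_⟩
  · rw [mem_Bo, hb]; simp
  · rw [Matrix.SpecialLinearGroup.coe_mul, Matrix.mul_apply, Fin.sum_univ_two, hb]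
    simp
    field_simp
    ring
  · rw [Matrix.SpecialLinearGroup.coe_mul, Matrix.mul_apply, Fin.sum_univ_two, hb]
    simp
    field_simp

theorem borel_max (H : Subgroup (SpecialLinearGroup (Fin 2) F)) (hB : Bo ≤ H) :
    H ≤ Bo ∨ H = ⊤ := by
  by_cases h : H ≤ Bo
  · left; exact h
  · right
    obtain ⟨A, hAH, hAB⟩ := SetLike.not_le_iff_exists.mp h
    rw [eq_top_iff]
    intro X _
    by_cases hX : X ∈ (Bo : Subgroup (SpecialLinearGroup (Fin 2) F))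
    · exact hB hX
    · obtain ⟨b, hb, h0, h1⟩ := exists_borel_mul A X hAB hX
      have h2 : (b * A)⁻¹ * X ∈ (Bo : Subgroup _) := inv_mul_mem_Bo h0 h1
      have : X = (b * A) * ((b * A)⁻¹ * X) := by group
      rw [this]
      exact H.mul_mem (H.mul_mem (hB hb) hAH) (hB h2)

theorem conj_mem_Uu {A Y : SpecialLinearGroup (Fin 2) F} (hA : A ∈ (Bo : Subgroup _))
    (hY : Y ∈ (Uu : Subgroup (SpecialLinearGroup (Fin 2) F))) : A * Y * A⁻¹ ∈ (Uu : Subgroup _) := by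
  rw [mem_Bo] at hA
  rw [mem_Uu_iff'] at hY ⊢
  obtain ⟨y00, y10, y11⟩ := hY
  have hd := A.2
  rw [Matrix.det_fin_two] at hd
  have hA' : A.1 1 0 = 0 := hA
  rw [hA', mul_zero, sub_zero] at hd
  have hd' : (A : Matrix (Fin 2) (Fin 2) F) 0 0 * (A : Matrix (Fin 2) (Fin 2) F) 1 1 = 1 := hd
  rw [Matrix.SpecialLinearGroup.coe_mul, Matrix.SpecialLinearGroup.coe_mul, Matrix.SpecialLinearGroup.coe_inv,
    Matrix.adjugate_fin_two]
  refine ⟨?_, ?_, ?_⟩
  · simp [Matrix.mul_apply, Fin.sum_univ_two, hA, y00, y10, y11, hd']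
  · simp [Matrix.mul_apply, Fin.sum_univ_two, hA, y00, y10, y11]
  · simp [Matrix.mul_apply, Fin.sum_univ_two, hA, y00, y10, y11]
    rw [mul_comm]; exact hd'

theorem Bo_le_normalizer_Uu :
    (Bo : Subgroup (SpecialLinearGroup (Fin 2) F)) ≤
      Subgroup.normalizer ((Uu : Subgroup (SpecialLinearGroup (Fin 2) F)) : Set _) := by
  intro A hA
  rw [Subgroup.mem_normalizer_iff]
  intro Y
  constructor
  · exact conj_mem_Uu hA
  · intro h
    have := conj_mem_Uu (inv_mem hA) h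
    simpa [mul_assoc] using this

end Cfsg.Agent.Lib.helper17.QdChar
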