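import Mathlib
import Cfsg.Agent.Lib.helper17.QdChar
import Cfsg.Agent.Lib.helper17.QdChar2

set_option autoImplicit false

namespace Cfsg.Agent.Lib.helper17.QdChar

open Matrix Cfsg.Agent.Lib.helper15.Qd Cfsg.Agent.Lib.helper15.NatMod Cfsg.Agent.Lib.helper17

variable (F : Type*) [Field F]

/-- The standard Sylow subgroup of `Qd`. -/
def S0 : Subgroup ↥(Cfsg.qdOver F) :=
  (Uu : Subgroup (SpecialLinearGroup (Fin 2) F)).comap (blk F)

/-- The preimage of the Borel subgroup. -/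
def Bt : Subgroup ↥(Cfsg.qdOver F) :=
  (Bo : Subgroup (SpecialLinearGroup (Fin 2) F)).comap (blk F)

variable {F}

theorem mem_S0 {M : ↥(Cfsg.qdOver F)} : M ∈ S0 F ↔ blk F M ∈ (Uu : Subgroup _) := Iff.rfl

theorem Bt_le_normalizer : Bt F ≤ Subgroup.normalizer ((S0 F : Subgroup _) : Set _) :=
  (Subgroup.comap_mono Bo_le_normalizer_Uu).trans (Subgroup.le_normalizer_comap (blk F))

theorem ker_le_Bt : (blk F).ker ≤ Bt F := by
  intro M hM
  show blk F M ∈ (Bo : Subgroup _)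
  rw [MonoidHom.mem_ker.mp hM]
  exact Subgroup.one_mem _

theorem hmax_S0 (H : Subgroup ↥(Cfsg.qdOver F))
    (hH : Subgroup.normalizer ((S0 F : Subgroup _) : Set _) ≤ H) :
    H = Subgroup.normalizer ((S0 F : Subgroup _) : Set _) ∨ H = ⊤ := by
  have hBH : Bt F ≤ H := Bt_le_normalizer.trans hH
  have hker : (blk F).ker ≤ H := ker_le_Bt.trans hBH
  have hBo : (Bo : Subgroup (SpecialLinearGroup (Fin 2) F)) ≤ H.map (blk F) := by
    rw [← Subgroup.map_comap_eq_self_of_surjective blk_surjective (Bo : Subgroup _)]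
    exact Subgroup.map_mono hBH
  rcases borel_max _ hBo with h | h
  · left
    apply le_antisymm _ hH
    calc H ≤ (H.map (blk F)).comap (blk F) := Subgroup.le_comap_map _ _
      _ ≤ Bt F := Subgroup.comap_mono h
      _ ≤ _ := Bt_le_normalizer
  · right
    rw [eq_top_iff]
    calc (⊤ : Subgroup ↥(Cfsg.qdOver F)) = (H.map (blk F)).comap (blk F) := by rw [h]; rfl
      _ = H ⊔ (blk F).ker := Subgroup.comap_map_eq _ _
      _ ≤ H := sup_le le_rfl hker

/-! ### The Heisenberg coordinates on `S0` -/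

/-- The element of `S0` with coordinates `(a, b, c)`. -/
def hs (a b c : F) : ↥(S0 F) :=
  ⟨mk (uu a) ![c, b], by rw [mem_S0, blk_mk]; exact uu_mem a⟩

theorem hs_mul (a b c a' b' c' : F) :
    hs a b c * hs a' b' c' = hs (a + a') (b + b') (c + c' + a * b') := by
  apply Subtype.ext
  show mk (uu a) ![c, b] * mk (uu a') ![c', b'] = mk (uu (a + a')) ![c + c' + a * b', b + b']
  rw [mk_mul, uu_mul, uu_mulVec]
  congr 1
  ext i
  fin_cases i
  · simp; ring
  · simp; ring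

theorem exists_hs (M : ↥(S0 F)) : ∃ a b c, M = hs a b c := by
  obtain ⟨a, ha⟩ := (mem_Uu_iff _).mp (mem_S0.mp M.2)
  refine ⟨a, vec M.1 1, vec M.1 0, ?_⟩
  apply Subtype.ext
  show M.1 = mk (uu a) ![vec M.1 0, vec M.1 1]
  rw [ha]
  have : ![vec M.1 0, vec M.1 1] = vec M.1 := by
    ext i; fin_cases i <;> rfl
  rw [this, mk_blk_vec]

theorem hs_injective {a b c a' b' c' : F} (h : hs a b c = hs a' b' c') :
    a = a' ∧ b = b' ∧ c = c' := by
  have h1 := congrArg Subtype.val h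
  obtain ⟨h2, h3⟩ := mk_injective h1
  refine ⟨uu_injective h2, ?_, ?_⟩
  · have := congrFun h3 1; simpa using this
  · have := congrFun h3 0; simpa using this

/-- coordinates -/
def ca (M : ↥(S0 F)) : F := (blk F M.1 : Matrix (Fin 2) (Fin 2) F) 0 1
def cb (M : ↥(S0 F)) : F := vec M.1 1
def cc (M : ↥(S0 F)) : F := vec M.1 0

theorem ca_hs (a b c : F) : ca (hs a b c) = a := by
  show (blk F (mk (uu a) ![c, b]) : Matrix (Fin 2) (Fin 2) F) 0 1 = a
  rw [blk_mk, uu_coe]; simp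

theorem cb_hs (a b c : F) : cb (hs a b c) = b := by
  show vec (mk (uu a) ![c, b]) 1 = b
  rw [vec_mk]; simp

theorem cc_hs (a b c : F) : cc (hs a b c) = c := by
  show vec (mk (uu a) ![c, b]) 0 = c
  rw [vec_mk]; simp

/-- the swap map -/
def swapFun (M : ↥(S0 F)) : ↥(S0 F) := hs (cb M) (ca M) (ca M * cb M - cc M)

theorem swapFun_hs (a b c : F) : swapFun (hs a b c) = hs b a (a * b - c) := by
  unfold swapFun
  rw [ca_hs, cb_hs, cc_hs]

theorem swapFun_swapFun (M : ↥(S0 F)) : swapFun (swapFun M) = M := by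
  obtain ⟨a, b, c, rfl⟩ := exists_hs M
  rw [swapFun_hs, swapFun_hs]
  congr 1
  ring

theorem swapFun_mul (M N : ↥(S0 F)) : swapFun (M * N) = swapFun M * swapFun N := by
  obtain ⟨a, b, c, rfl⟩ := exists_hs M
  obtain ⟨a', b', c', rfl⟩ := exists_hs N
  rw [hs_mul, swapFun_hs, swapFun_hs, swapFun_hs, hs_mul]
  congr 1
  ring

/-- The automorphism of `S0` exchanging the two generators. -/
def swapEquiv : ↥(S0 F) ≃* ↥(S0 F) where
  toFun := swapFun
  invFun := swapFun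
  left_inv := swapFun_swapFun
  right_inv := swapFun_swapFun
  map_mul' := swapFun_mul

theorem hnc_S0 : ∃ ψ : ↥(S0 F) ≃* ↥(S0 F), ∃ x : ↥(S0 F),
    (x : ↥(Cfsg.qdOver F)) ∈ (blk F).ker ∧ (ψ x : ↥(Cfsg.qdOver F)) ∉ (blk F).ker := by
  refine ⟨swapEquiv, hs 0 1 0, ?_, ?_⟩
  · show mk (uu (0 : F)) ![0, 1] ∈ (blk F).ker
    rw [MonoidHom.mem_ker, blk_mk, uu_zero]
  · show (swapFun (hs (0 : F) 1 0) : ↥(Cfsg.qdOver F)) ∉ (blk F).ker
    rw [swapFun_hs]
    show mk (uu (1 : F)) ![0 * 1 - 0, 0] ∉ (blk F).ker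
    rw [MonoidHom.mem_ker, blk_mk, ← uu_zero]
    intro h
    exact one_ne_zero (uu_injective h)

end Cfsg.Agent.Lib.helper17.QdChar
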