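import Mathlib
import Cfsg.Agent.Lib.helper17.QdChar3

set_option autoImplicit false

namespace Cfsg.Agent.Lib.helper17.QdChar

open Matrix Cfsg.Agent.Lib.helper15.Qd Cfsg.Agent.Lib.helper15.NatMod Cfsg.Agent.Lib.helper17

variable {F : Type*} [Field F]

theorem exists_sl2_col (v : Fin 2 → F) (hv : v ≠ 0) :
    ∃ A : SpecialLinearGroup (Fin 2) F, (A : Matrix (Fin 2) (Fin 2) F).mulVec ![1, 0] = v := by
  by_cases h0 : v 0 = 0
  · have h1 : v 1 ≠ 0 := by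
      intro h1; apply hv; ext i; fin_cases i
      · simpa using h0
      · simpa using h1
    obtain ⟨A, hA⟩ : ∃ A : SpecialLinearGroup (Fin 2) F,
        (A : Matrix (Fin 2) (Fin 2) F) = !![0, -(v 1)⁻¹; v 1, 0] :=
      ⟨⟨_, by rw [Matrix.det_fin_two_of]; field_simp; ring⟩, rfl⟩
    refine ⟨A, ?_⟩
    rw [hA]; ext i; fin_cases i <;> simp [Matrix.mulVec, dotProduct, Fin.sum_univ_two, h0]
  · obtain ⟨A, hA⟩ : ∃ A : SpecialLinearGroup (Fin 2) F,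
        (A : Matrix (Fin 2) (Fin 2) F) = !![v 0, 0; v 1, (v 0)⁻¹] :=
      ⟨⟨_, by rw [Matrix.det_fin_two_of]; field_simp; ring⟩, rfl⟩
    refine ⟨A, ?_⟩
    rw [hA]; ext i; fin_cases i <;> simp [Matrix.mulVec, dotProduct, Fin.sum_univ_two]

theorem exists_sl2_map (v w : Fin 2 → F) (hv : v ≠ 0) (hw : w ≠ 0) :
    ∃ A : SpecialLinearGroup (Fin 2) F, (A : Matrix (Fin 2) (Fin 2) F).mulVec v = w := by
  obtain ⟨A, hA⟩ := exists_sl2_col v hv
  obtain ⟨B, hB⟩ := exists_sl2_col w hw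
  refine ⟨B * A⁻¹, ?_⟩
  rw [← hA, Matrix.mulVec_mulVec, ← Matrix.SpecialLinearGroup.coe_mul, inv_mul_cancel_right, hB]

theorem conj_mk_one (A : SpecialLinearGroup (Fin 2) F) (v : Fin 2 → F) :
    mk A 0 * mk 1 v * (mk A 0)⁻¹ = mk 1 ((A : Matrix (Fin 2) (Fin 2) F).mulVec v) := by
  rw [mul_inv_eq_iff_eq_mul, mk_mul, mk_mul]
  congr 1
  · rw [mul_one, one_mul]
  · rw [add_zero, one_mulVec', zero_add]

theorem hmin_ker (N : Subgroup ↥(Cfsg.qdOver F)) (hN : N.Normal) (hle : N ≤ (blk F).ker) :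
    N = ⊥ ∨ N = (blk F).ker := by
  by_cases hb : N = ⊥
  · left; exact hb
  · right
    obtain ⟨n, hn1⟩ := (Subgroup.ne_bot_iff_exists_ne_one.mp hb)
    have hnN : (n : ↥(Cfsg.qdOver F)) ∈ N := n.2
    apply le_antisymm hle
    intro M hM
    have hn' := (mem_ker_blk_iff' (n : ↥(Cfsg.qdOver F))).mp (hle hnN)
    have hM' := (mem_ker_blk_iff' M).mp hM
    have hv : vec (n : ↥(Cfsg.qdOver F)) ≠ 0 := by
      intro h; apply hn1; apply Subtype.ext; rw [hn', h, mk_one_zero]; rfl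
    by_cases hw : vec M = 0
    · rw [hM', hw, mk_one_zero]; exact N.one_mem
    · obtain ⟨A, hA⟩ := exists_sl2_map _ _ hv hw
      rw [hM', ← hA, ← conj_mk_one]
      apply hN.conj_mem
      rw [← hn']; exact hnN

theorem hcore_ker {p : ℕ} [Fact p.Prime] [CharP F p] (N : Subgroup ↥(Cfsg.qdOver F))
    (hN : N.Normal) (hp : IsPGroup p N) : N ≤ (blk F).ker := by
  rw [← pCore_eq (p := p)]
  unfold Cfsg.pCore
  exact le_sSup ⟨hN, hp⟩

theorem sylow_eq_cj [Fintype F] {p n : ℕ} [Fact p.Prime] [CharP F p]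
    (hF : Fintype.card F = p ^ n) (S : Sylow p ↥(Cfsg.qdOver F)) :
    ∃ g : ↥(Cfsg.qdOver F), (S : Subgroup ↥(Cfsg.qdOver F)) = cj g (S0 F) := by
  have hV : (blk F).ker ≤ (S : Subgroup _) := (isPGroup_ker (p := p)).le_sylow_of_normal S
  obtain ⟨g₀, hg₀⟩ := exists_conj_Uu hF (S.mapSurjective blk_surjective)
  refine ⟨mk g₀ 0, ?_⟩
  ext M
  rw [mem_cj, mem_S0, map_mul, map_mul, map_inv, blk_mk, ← hg₀]
  constructor
  · intro h
    exact ⟨M, h, rfl⟩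
  · rintro ⟨M', hM', h⟩
    have h1 : M'⁻¹ * M ∈ (blk F).ker := by
      rw [MonoidHom.mem_ker, map_mul, map_inv, h, inv_mul_cancel]
    have h2 : M' * (M'⁻¹ * M) ∈ (S : Subgroup ↥(Cfsg.qdOver F)) :=
      Subgroup.mul_mem _ hM' (hV h1)
    rwa [mul_inv_cancel_left] at h2

theorem qd_main {p : ℕ} [Fact p.Prime] (S : Sylow p ↥(Cfsg.qdOver (ZMod p)))
    (T : Subgroup ↥(S : Subgroup ↥(Cfsg.qdOver (ZMod p)))) (hT : T ≠ ⊥) (hTc : T.Characteristic) :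
    Subgroup.normalizer ((T.map (S : Subgroup ↥(Cfsg.qdOver (ZMod p))).subtype :
      Subgroup ↥(Cfsg.qdOver (ZMod p))) : Set ↥(Cfsg.qdOver (ZMod p))) =
      Subgroup.normalizer ((S : Subgroup ↥(Cfsg.qdOver (ZMod p))) : Set ↥(Cfsg.qdOver (ZMod p))) ∧
    Subgroup.normalizer ((S : Subgroup ↥(Cfsg.qdOver (ZMod p))) : Set ↥(Cfsg.qdOver (ZMod p))) ≠ ⊤ := by
  obtain ⟨g, hg⟩ := sylow_eq_cj (F := ZMod p) (p := p) (n := 1) (by rw [ZMod.card, pow_one]) S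
  have hn : (blk (ZMod p)).ker.Normal := MonoidHom.normal_ker _
  apply charSylow S (blk (ZMod p)).ker (hcore_ker (p := p)) hmin_ker
  · rw [hg]; exact hmax_conj g _ hmax_S0
  · rw [hg]; exact hnc_conj _ g _ hnc_S0
  · exact hT
  · exact hTc

end Cfsg.Agent.Lib.helper17.QdChar
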