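import Mathlib
import Cfsg.Agent.Lib.helper17.QdStab10
import Cfsg.Agent.Lib.helper17.QdChar4
import Cfsg.Agent.Lib.Helper1.GNPC.ZJFun

set_option autoImplicit false

namespace Cfsg.Agent.Lib.helper17.QdStab12

open Matrix Cfsg.Agent.Lib.helper15.Qd Cfsg.Agent.Lib.helper15.NatMod
open Cfsg.Agent.Lib.Helper1.GNPC

variable {p : ℕ} [hp : Fact p.Prime]

theorem finite_qd : Finite ↥(Cfsg.qdOver (ZMod p)) := by
  have : Finite (Matrix.SpecialLinearGroup (Fin 3) (ZMod p)) :=
    Finite.of_injective _ Subtype.val_injective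
  infer_instance

/-- `Z(J(S))` as the image of a characteristic subgroup of `S` -/
theorem ctA_eq_map {G : Type*} [Group G] [Finite G] (S : Subgroup G) :
    Cfsg.centerThompsonAOf S =
      (Cfsg.centerThompsonAOf (⊤ : Subgroup ↥S)).map S.subtype := by
  rw [← ctA_map S.subtype (S.subtype_injective.injOn), ← MonoidHom.range_eq_map,
    Subgroup.range_subtype]

theorem ctA_top_characteristic {H : Type*} [Group H] [Finite H] :
    (Cfsg.centerThompsonAOf (⊤ : Subgroup H)).Characteristic := by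
  rw [Subgroup.characteristic_iff_map_eq]
  intro φ
  rw [← ctA_map φ.toMonoidHom (φ.injective.injOn), ← MonoidHom.range_eq_map,
    MonoidHom.range_eq_top.mpr φ.surjective]

/-- In `Qd(p)`, `Z(J(S))` does not control strong fusion. -/
theorem qd_not_csf (S : Sylow p ↥(Cfsg.qdOver (ZMod p))) :
    ¬ Cfsg.ControlsStrongFusion p (Cfsg.centerThompsonAOf (S : Subgroup ↥(Cfsg.qdOver (ZMod p)))) := by
  have hfin : Finite ↥(Cfsg.qdOver (ZMod p)) := finite_qd
  rintro ⟨T', hUT', hctl⟩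
  have hVn : ((blk (ZMod p)).ker).Normal := inferInstance
  have hVS : (blk (ZMod p)).ker ≤ (S : Subgroup _) := (isPGroup_ker (p := p)).le_sylow_of_normal S
  have hVT' : (blk (ZMod p)).ker ≤ (T' : Subgroup _) := (isPGroup_ker (p := p)).le_sylow_of_normal T'
  have hSne : (S : Subgroup ↥(Cfsg.qdOver (ZMod p))) ≠ ⊥ := by
    intro hb
    have h1 : mk (1 : Matrix.SpecialLinearGroup (Fin 2) (ZMod p)) ![1, 0] ∈ (S : Subgroup _) :=
      hVS (mk_one_mem_ker _)
    rw [hb, Subgroup.mem_bot, ← mk_one_zero] at h1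
    have h2 := congrFun (mk_injective h1).2 0
    simp at h2
  have hT₀ne : Cfsg.centerThompsonAOf (⊤ : Subgroup ↥(S : Subgroup ↥(Cfsg.qdOver (ZMod p)))) ≠ ⊥ := by
    apply ctA_ne_bot (p := p)
    · exact IsPGroup.of_equiv S.isPGroup' Subgroup.topEquiv.symm
    · intro hb
      apply hSne
      rw [eq_bot_iff]
      intro x hx
      have : (⟨x, hx⟩ : ↥(S : Subgroup ↥(Cfsg.qdOver (ZMod p)))) ∈ (⊤ : Subgroup ↥(S : Subgroup _)) :=
        Subgroup.mem_top _
      rw [hb, Subgroup.mem_bot] at this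
      rw [Subgroup.mem_bot]
      exact congrArg Subtype.val this
  obtain ⟨hN, hNtop⟩ := QdChar.qd_main S _ hT₀ne ctA_top_characteristic
  rw [← ctA_eq_map] at hN
  apply hNtop
  rw [eq_top_iff]
  intro g _
  have hA : (((blk (ZMod p)).ker : Subgroup _) : Set ↥(Cfsg.qdOver (ZMod p))) ⊆
      ((T' : Subgroup ↥(Cfsg.qdOver (ZMod p))) : Set ↥(Cfsg.qdOver (ZMod p))) := hVT'
  obtain ⟨-, hc⟩ := hctl _ hA
  have hgA : (fun a => g * a * g⁻¹) '' (((blk (ZMod p)).ker : Subgroup _) : Set ↥(Cfsg.qdOver (ZMod p)))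
      ⊆ ((T' : Subgroup ↥(Cfsg.qdOver (ZMod p))) : Set ↥(Cfsg.qdOver (ZMod p))) := by
    rintro _ ⟨a, ha, rfl⟩
    exact hVT' (hVn.conj_mem a ha g)
  obtain ⟨x, hx, hxa⟩ := hc g hgA
  rw [hN] at hx
  have hcent : x⁻¹ * g ∈ Subgroup.centralizer
      (((blk (ZMod p)).ker : Subgroup _) : Set ↥(Cfsg.qdOver (ZMod p))) := by
    rw [Subgroup.mem_centralizer_iff]
    intro a ha
    have h1 := hxa a ha
    calc a * (x⁻¹ * g) = x⁻¹ * (x * a * x⁻¹) * g := by group
      _ = x⁻¹ * (g * a * g⁻¹) * g := by rw [h1]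
      _ = x⁻¹ * g * a := by group
  have h2 : x⁻¹ * g ∈ Subgroup.normalizer ((S : Subgroup ↥(Cfsg.qdOver (ZMod p))) : Set _) :=
    Subgroup.le_normalizer (hVS (QdStab10.centralizer_le_ker hcent))
  have h3 := Subgroup.mul_mem _ hx h2
  rwa [mul_inv_cancel_left] at h3


/-- transport of "`Z(J(T))` controls strong fusion" along an isomorphism -/
theorem csf_ctA_of_mulEquiv {A B : Type*} [Group A] [Group B] [Finite A] [Finite B] (e : A ≃* B)
    (T : Sylow p A)
    (h : Cfsg.ControlsStrongFusion p (Cfsg.centerThompsonAOf (T : Subgroup A))) :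
    ∃ S : Sylow p B, Cfsg.ControlsStrongFusion p (Cfsg.centerThompsonAOf (S : Subgroup B)) := by
  obtain ⟨T', hUT', hctl⟩ := h
  have hes : Function.Surjective e.toMonoidHom := e.surjective
  refine ⟨T.mapSurjective hes, T'.mapSurjective hes, ?_, ?_⟩
  · rw [Sylow.coe_mapSurjective, Sylow.coe_mapSurjective,
      ctA_map e.toMonoidHom (e.injective.injOn)]
    exact Subgroup.map_mono hUT'
  · intro X hX
    rw [Sylow.coe_mapSurjective] at hX ⊢
    rw [Sylow.coe_mapSurjective, ctA_map e.toMonoidHom (e.injective.injOn)]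
    refine ⟨hX, fun g hg => ?_⟩
    have hmem : ∀ a : A, e a ∈ (T' : Subgroup A).map e.toMonoidHom → a ∈ (T' : Subgroup A) := by
      rintro a ⟨a', ha', h⟩
      have : a' = a := e.injective h
      rw [← this]; exact ha'
    have hX₀ : (e ⁻¹' X) ⊆ ((T' : Subgroup A) : Set A) := by
      intro a ha
      exact hmem a (hX ha)
    obtain ⟨-, hc⟩ := hctl _ hX₀
    have hg₀ : (fun a => e.symm g * a * (e.symm g)⁻¹) '' (e ⁻¹' X) ⊆ ((T' : Subgroup A) : Set A) := by
      rintro _ ⟨a, ha, rfl⟩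
      apply hmem
      rw [map_mul, map_mul, map_inv, e.apply_symm_apply]
      exact hg ⟨e a, ha, rfl⟩
    obtain ⟨x₀, hx₀, hxa⟩ := hc (e.symm g) hg₀
    refine ⟨e x₀, Subgroup.le_normalizer_map e.toMonoidHom ⟨x₀, hx₀, rfl⟩, fun b hb => ?_⟩
    have hb' : e.symm b ∈ e ⁻¹' X := by
      rw [Set.mem_preimage, e.apply_symm_apply]; exact hb
    have h1 := congrArg e (hxa _ hb')
    rw [map_mul, map_mul, map_inv, map_mul, map_mul, map_inv, e.apply_symm_apply,
      e.apply_symm_apply] at h1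
    exact h1

/-- the `(⇐)` half of the `ZJ` fusion criterion -/
theorem not_involves_of_csf {G : Type*} [Group G] [Finite G]
    (h : ∀ (K R : Subgroup G) [hR : (R.subgroupOf K).Normal],
      ∀ T : Sylow p (↥K ⧸ R.subgroupOf K), Cfsg.ControlsStrongFusion p
        (Cfsg.centerThompsonAOf (T : Subgroup (↥K ⧸ R.subgroupOf K)))) :
    ¬ Cfsg.Involves ↥(Cfsg.qd p) G := by
  rintro ⟨K, R, hR, ⟨e⟩⟩
  have hfin : Finite ↥(Cfsg.qdOver (ZMod p)) := finite_qd
  obtain ⟨S, hS⟩ := csf_ctA_of_mulEquiv (B := ↥(Cfsg.qdOver (ZMod p))) e default (h K R default)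
  exact qd_not_csf S hS

end Cfsg.Agent.Lib.helper17.QdStab12
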