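import Mathlib
import Cfsg.Agent.Lib.helper8.RSM.Defs
import Cfsg.Agent.Lib.Helper5.StemQ

/-!
# Project RSM, row D5 (core): Hall–Witt by hand for lifts of `U`, on the statements of the rows
C1 (`x_basic`, last clause), C3 (`x_comm_U2`), C4 (`x_comm_mem_U2`) and D4 (`U2_abelian`).
-/

set_option autoImplicit false

namespace Cfsg.Agent.Lib.helper8.RSM

open Cfsg.Agent.Lib.Helper5.Stem
open scoped commutatorElement

universe u v w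

variable {G : Type u} [Group G] {K : Type v} [Field K] [Fintype K] {m : ℕ}
variable {Γ : Type w} [Group Γ] {σ : Γ →* G}

/-- pure group theory: if `k = ⁅g, y⁆`, `c = ⁅g, w⁆`, `w`, `W = ⁅y, w⁆` commute pairwise and
`⁅y, c⁆` is central, then `⁅g, ⁅y, w⁆⁆ = ⁅y, ⁅g, w⁆⁆`. -/
theorem rsmd5_group {Γ : Type w} [Group Γ] (g y w : Γ)
    (hkc : ⁅g, y⁆ * ⁅g, w⁆ = ⁅g, w⁆ * ⁅g, y⁆) (hkw : ⁅g, y⁆ * w = w * ⁅g, y⁆)
    (hkW : ⁅g, y⁆ * ⁅y, w⁆ = ⁅y, w⁆ * ⁅g, y⁆) (hcw : ⁅g, w⁆ * w = w * ⁅g, w⁆)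
    (hcW : ⁅g, w⁆ * ⁅y, w⁆ = ⁅y, w⁆ * ⁅g, w⁆)
    (hz : ∀ x : Γ, x * ⁅y, ⁅g, w⁆⁆ = ⁅y, ⁅g, w⁆⁆ * x) :
    ⁅g, ⁅y, w⁆⁆ = ⁅y, ⁅g, w⁆⁆ := by
  set k := ⁅g, y⁆ with hk
  set c := ⁅g, w⁆ with hc
  set W := ⁅y, w⁆ with hW
  set z := ⁅y, c⁆ with hzdef
  have e1 : g * y * g⁻¹ = k * y := by rw [hk, commutatorElement_def]; group
  have e2 : g * w * g⁻¹ = c * w := by rw [hc, commutatorElement_def]; group
  have e3 : y * w * y⁻¹ = W * w := by rw [hW, commutatorElement_def]; group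
  have e4 : y * c = z * c * y := by rw [hzdef, commutatorElement_def]; group
  have hk_cw : k * (c * w) = (c * w) * k := by
    calc k * (c * w) = (k * c) * w := by group
      _ = (c * k) * w := by rw [hkc]
      _ = c * (k * w) := by group
      _ = c * (w * k) := by rw [hkw]
      _ = (c * w) * k := by group
  have h1 : k * c * (W * w) = W * (c * w) * k := by
    calc k * c * (W * w) = k * (c * W) * w := by group
      _ = k * (W * c) * w := by rw [hcW]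
      _ = (k * W) * c * w := by group
      _ = (W * k) * c * w := by rw [hkW]
      _ = W * (k * (c * w)) := by group
      _ = W * ((c * w) * k) := by rw [hk_cw]
      _ = W * (c * w) * k := by group
  have h2 : g * W * g⁻¹ = (k * y) * (c * w) * (k * y)⁻¹ * (c * w)⁻¹ := by
    rw [← e1, ← e2, hW, commutatorElement_def]; group
  have h3 : (k * y) * (c * w) * (k * y)⁻¹ * (c * w)⁻¹ = z * W := by
    calc (k * y) * (c * w) * (k * y)⁻¹ * (c * w)⁻¹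
        = k * (y * c) * w * y⁻¹ * k⁻¹ * w⁻¹ * c⁻¹ := by group
      _ = k * (z * c * y) * w * y⁻¹ * k⁻¹ * w⁻¹ * c⁻¹ := by rw [e4]
      _ = (k * z) * c * (y * w * y⁻¹) * k⁻¹ * w⁻¹ * c⁻¹ := by group
      _ = (z * k) * c * (W * w) * k⁻¹ * w⁻¹ * c⁻¹ := by rw [hz k, e3]
      _ = z * (k * c * (W * w)) * k⁻¹ * w⁻¹ * c⁻¹ := by group
      _ = z * (W * (c * w) * k) * k⁻¹ * w⁻¹ * c⁻¹ := by rw [h1]
      _ = z * W := by group
  calc ⁅g, W⁆ = g * W * g⁻¹ * W⁻¹ := by rw [commutatorElement_def]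
    _ = z * W * W⁻¹ := by rw [h2, h3]
    _ = z := by group

/-- D5 core: Hall–Witt for lifts, on the statements of C1 (last clause), C3, C4, D4. -/
theorem rsmd5_core (RU : ReeU G K m) (hcen : σ.ker ≤ Subgroup.center Γ)
    (hC1 : ∀ t u v c : K, RU.x t u v * RU.x 0 0 c = RU.x 0 0 c * RU.x t u v)
    (hC3 : ∀ t u v u' v' : K, ⁅RU.x t u v, RU.x 0 u' v'⁆ = RU.x 0 0 (t * u'))
    (hC4 : ∀ g g' : G, RU.InU g → RU.InU g' → RU.InU2 ⁅g, g'⁆ ∧ RU.InU (g * g') ∧ RU.InU g⁻¹)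
    (hD4 : ∀ g g' : Γ, RU.InU2 (σ g) → RU.InU2 (σ g') → g * g' = g' * g)
    (g y w : Γ) (hg : RU.InU (σ g)) (hy : RU.InU (σ y))
    (hw : RU.InU2 (σ w)) : ⁅g, ⁅y, w⁆⁆ = ⁅y, ⁅g, w⁆⁆ := by
  obtain ⟨t, u, v, hgx⟩ := hg
  obtain ⟨t', u', v', hyx⟩ := hy
  obtain ⟨a, b, hwx⟩ := hw
  have hk2 : RU.InU2 (σ ⁅g, y⁆) := by
    rw [map_commutatorElement]
    exact (hC4 (σ g) (σ y) ⟨t, u, v, hgx⟩ ⟨t', u', v', hyx⟩).1
  have hcx : σ ⁅g, w⁆ = RU.x 0 0 (t * a) := by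
    rw [map_commutatorElement, hgx, hwx, hC3]
  have hWx : σ ⁅y, w⁆ = RU.x 0 0 (t' * a) := by
    rw [map_commutatorElement, hyx, hwx, hC3]
  have hc2 : RU.InU2 (σ ⁅g, w⁆) := ⟨0, t * a, hcx⟩
  have hW2 : RU.InU2 (σ ⁅y, w⁆) := ⟨0, t' * a, hWx⟩
  have hw2 : RU.InU2 (σ w) := ⟨a, b, hwx⟩
  have hzker : ⁅y, ⁅g, w⁆⁆ ∈ σ.ker := by
    rw [MonoidHom.mem_ker, map_commutatorElement, commutatorElement_eq_one_iff_mul_comm, hcx, hyx]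
    exact hC1 t' u' v' (t * a)
  have hz : ∀ x : Γ, x * ⁅y, ⁅g, w⁆⁆ = ⁅y, ⁅g, w⁆⁆ * x :=
    Subgroup.mem_center_iff.mp (hcen hzker)
  exact rsmd5_group g y w (hD4 _ _ hk2 hc2) (hD4 _ _ hk2 hw2) (hD4 _ _ hk2 hW2)
    (hD4 _ _ hc2 hw2) (hD4 _ _ hc2 hW2) hz

end Cfsg.Agent.Lib.helper8.RSM
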