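import Mathlib
import Cfsg.Agent.Lib.helper8.RSM.Defs
import Cfsg.Agent.Lib.Helper5.StemQ
import Cfsg.Agent.Lib.helper4.RSMC1
import Cfsg.Agent.Lib.Helper22.RSMC234h22
import Cfsg.Agent.Lib.Helper29.RSMD4
import Cfsg.Agent.Lib.helper17.RSMD5core

/-!
# Project RSM, row D5 (`hall_witt`), verbatim; on `rsmd5_core`, C1 (helper4), the own-name copies
`rsmc3_h22`, `rsmc4_h22` of C3, C4 (helper22) and D4 (helper29).
-/

set_option autoImplicit false

namespace Cfsg.Agent.Lib.helper8.RSM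

open Cfsg.Agent.Lib.Helper5.Stem
open scoped commutatorElement

universe u v w

variable {G : Type u} [Group G] {K : Type v} [Field K] [Fintype K] {m : ℕ}
variable {Γ : Type w} [Group Γ] {σ : Γ →* G}

/-- D5 [M]. Hall–Witt by hand: `W = ⁅y, w⁆` lifts an element of `U₃` (C3).
`g W g⁻¹ = ⁅k y, c w⁆` with `k = ⁅g, y⁆`, `c = ⁅g, w⁆`; `k, c, w, W` lie over `U₂` (C3, C4), so they
commute pairwise (D4), and `⁅y, c⁆` is central (`σ y` and `σ c ∈ U₃` commute).  Expanding,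
`⁅k y, c w⁆ = ⁅y, c⁆ * W`. -/
theorem hall_witt (RU : ReeU G K m) (hs : Function.Surjective σ)
    (hcen : σ.ker ≤ Subgroup.center Γ) (g y w : Γ) (hg : RU.InU (σ g)) (hy : RU.InU (σ y))
    (hw : RU.InU2 (σ w)) : ⁅g, ⁅y, w⁆⁆ = ⁅y, ⁅g, w⁆⁆ :=
  rsmd5_core RU hcen (x_basic RU).2.2.2.2.2.2 (rsmc3_h22 RU) (rsmc4_h22 RU)
    (U2_abelian RU hs hcen) g y w hg hy hw

end Cfsg.Agent.Lib.helper8.RSM
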