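import Mathlib
import Cfsg.Agent.Lib.helper8.RSM.Defs
import Cfsg.Agent.Lib.Helper5.StemQ

/-!
# Project RSM, row D7 (core): the preimage of `U₃` is central in the preimage of `U`, on the
statements of the rows A7 (`cube_ne`), A9 (`gen_weights`), B4 (`sym_kill`), C1 (`x_basic`),
D4 (`U2_abelian`) and D6 (`bet_sym`).
-/

set_option autoImplicit false

namespace Cfsg.Agent.Lib.helper8.RSM

open Cfsg.Agent.Lib.Helper5.Stem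
open scoped commutatorElement

universe u v w

variable {G : Type u} [Group G] {K : Type v} [Field K] [Fintype K] {m : ℕ}
variable {Γ : Type w} [Group Γ] {σ : Γ →* G}

/-- D7 core, first half: `bet hs (x t 0 0) (x 0 0 c) = 1`. -/
theorem rsmd7_bet (RU : ReeU G K m) (hs : Function.Surjective σ)
    (hcen : σ.ker ≤ Subgroup.center Γ)
    (hA7 : ∀ a : K, a ≠ 0 → a ^ 2 ≠ 1 → a ^ 2 * nrm m a ≠ 1)
    (hA9 : RU.a0 ≠ 0 ∧ RU.a0 ^ 2 ≠ 1 ∧ nrm m RU.a0 ≠ 1 ∧ RU.a0 * nrm m RU.a0 ≠ 1 ∧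
      RU.a0 ^ ((3 ^ (2 * m + 1) - 1) / 2) = -1 ∧ RU.a0 ^ (3 ^ (2 * m + 1) - 1) = 1)
    (hB4 : ∀ (B : K → K → Γ), (∀ u w w', B u (w + w') = B u w * B u w') →
      (∀ s t u, B t (s * u) = B s (t * u)) → ∀ a c : K, a * c ≠ 1 →
      (∀ t w, B (a * t) (c * w) = B t w) → ∀ t w, B t w = 1)
    (hC1 : RU.x 0 0 0 = 1 ∧
      (∀ t a b u v : K, RU.x t a b * RU.x 0 u v = RU.x t (a + u) (b + v)) ∧
      (∀ t a b u v : K, RU.x 0 u v * RU.x t a b = RU.x t (a + u) (b + v - t * u)) ∧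
      (∀ t u v : K, RU.x t u v = RU.x t 0 0 * RU.x 0 u v) ∧
      (∀ u v : K, RU.x 0 u v = RU.x 0 u 0 * RU.x 0 0 v) ∧
      (∀ u v u' v' : K, RU.x 0 u v * RU.x 0 u' v' = RU.x 0 u' v' * RU.x 0 u v) ∧
      (∀ t u v c : K, RU.x t u v * RU.x 0 0 c = RU.x 0 0 c * RU.x t u v))
    (hD6 : ∀ s t u : K,
      bet hs (RU.x t 0 0) (RU.x 0 0 (s * u)) = bet hs (RU.x s 0 0) (RU.x 0 0 (t * u)))
    (t c : K) : bet hs (RU.x t 0 0) (RU.x 0 0 c) = 1 := by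
  obtain ⟨_, hC1b, _, _, _, _, hC1g⟩ := hC1
  obtain ⟨ha0, ha02, _, _, _, _⟩ := hA9
  have hne : RU.a0 * (RU.a0 * nrm m RU.a0) ≠ 1 := by
    have := hA7 RU.a0 ha0 ha02
    intro h
    apply this
    rw [← h]; ring
  refine hB4 (fun t c => bet hs (RU.x t 0 0) (RU.x 0 0 c)) ?_ ?_ RU.a0 (RU.a0 * nrm m RU.a0) hne
    ?_ t c
  · intro t c c'
    have e : RU.x 0 0 (c + c') = RU.x 0 0 c * RU.x 0 0 c' := by
      rw [hC1b 0 0 c 0 c', add_zero]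
    show bet hs (RU.x t 0 0) (RU.x 0 0 (c + c')) = _
    rw [e]
    exact bet_mul_right hs hcen (hC1g t 0 0 c) (hC1g t 0 0 c')
  · intro s t u
    exact hD6 s t u
  · intro t c
    have e1 : RU.h0 * RU.x t 0 0 * RU.h0⁻¹ = RU.x (RU.a0 * t) 0 0 := by
      rw [RU.h0_conj, mul_zero, mul_zero]
    have e2 : RU.h0 * RU.x 0 0 c * RU.h0⁻¹ = RU.x 0 0 (RU.a0 * nrm m RU.a0 * c) := by
      rw [RU.h0_conj, mul_zero, mul_zero]
    have := bet_conj hs hcen RU.h0 (hC1g t 0 0 c)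
    rw [e1, e2] at this
    exact this

/-- D7 core: the preimage of `U₃` is central in the preimage of `U`, on the statements of
A7, A9, B4, C1, D4, D6. -/
theorem rsmd7_core (RU : ReeU G K m) (hs : Function.Surjective σ)
    (hcen : σ.ker ≤ Subgroup.center Γ)
    (hA7 : ∀ a : K, a ≠ 0 → a ^ 2 ≠ 1 → a ^ 2 * nrm m a ≠ 1)
    (hA9 : RU.a0 ≠ 0 ∧ RU.a0 ^ 2 ≠ 1 ∧ nrm m RU.a0 ≠ 1 ∧ RU.a0 * nrm m RU.a0 ≠ 1 ∧
      RU.a0 ^ ((3 ^ (2 * m + 1) - 1) / 2) = -1 ∧ RU.a0 ^ (3 ^ (2 * m + 1) - 1) = 1)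
    (hB4 : ∀ (B : K → K → Γ), (∀ u w w', B u (w + w') = B u w * B u w') →
      (∀ s t u, B t (s * u) = B s (t * u)) → ∀ a c : K, a * c ≠ 1 →
      (∀ t w, B (a * t) (c * w) = B t w) → ∀ t w, B t w = 1)
    (hC1 : RU.x 0 0 0 = 1 ∧
      (∀ t a b u v : K, RU.x t a b * RU.x 0 u v = RU.x t (a + u) (b + v)) ∧
      (∀ t a b u v : K, RU.x 0 u v * RU.x t a b = RU.x t (a + u) (b + v - t * u)) ∧
      (∀ t u v : K, RU.x t u v = RU.x t 0 0 * RU.x 0 u v) ∧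
      (∀ u v : K, RU.x 0 u v = RU.x 0 u 0 * RU.x 0 0 v) ∧
      (∀ u v u' v' : K, RU.x 0 u v * RU.x 0 u' v' = RU.x 0 u' v' * RU.x 0 u v) ∧
      (∀ t u v c : K, RU.x t u v * RU.x 0 0 c = RU.x 0 0 c * RU.x t u v))
    (hD4 : ∀ g g' : Γ, RU.InU2 (σ g) → RU.InU2 (σ g') → g * g' = g' * g)
    (hD6 : ∀ s t u : K,
      bet hs (RU.x t 0 0) (RU.x 0 0 (s * u)) = bet hs (RU.x s 0 0) (RU.x 0 0 (t * u)))
    (g w : Γ) (hg : RU.InU (σ g)) (hw : RU.InU3 (σ w)) : g * w = w * g := by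
  have hB := rsmd7_bet RU hs hcen hA7 hA9 hB4 hC1 hD6
  obtain ⟨_, _, _, hC1d, _, _, hC1g⟩ := hC1
  obtain ⟨t, u, v, hgx⟩ := hg
  obtain ⟨c, hwx⟩ := hw
  rw [← commutatorElement_eq_one_iff_mul_comm, ← bet_eq hs hcen g w, hgx, hwx, hC1d t u v,
    bet_mul_left hs hcen (hC1g t 0 0 c) (hC1g 0 u v c), hB t c, one_mul]
  obtain ⟨P, hP⟩ := hs (RU.x 0 u v)
  obtain ⟨Q, hQ⟩ := hs (RU.x 0 0 c)
  rw [← hP, ← hQ, bet_eq hs hcen, commutatorElement_eq_one_iff_mul_comm]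
  exact hD4 P Q ⟨u, v, hP⟩ ⟨0, c, hQ⟩

end Cfsg.Agent.Lib.helper8.RSM
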