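import Mathlib
import Cfsg.Agent.Lib.helper8.RSM.Defs
import Cfsg.Agent.Lib.Helper5.StemQ
import Cfsg.Agent.Lib.helper4.RSMC1
import Cfsg.Agent.Lib.helper4.RSMB4
import Cfsg.Agent.Lib.Helper11.RSMA7
import Cfsg.Agent.Lib.Helper24.RSMA9
import Cfsg.Agent.Lib.Helper22.RSMC234h22
import Cfsg.Agent.Lib.Helper29.RSMD4
import Cfsg.Agent.Lib.Helper29.RSMD46core
import Cfsg.Agent.Lib.helper17.RSMD5
import Cfsg.Agent.Lib.helper17.RSMD7core

/-!
# Project RSM, row D7 (`U3_central`), verbatim; on `rsmd7_core`, A7 (helper11), A9 (helper24),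
B4, C1 (helper4), D4 (helper29), and D6 in the form `rsmd6_core` (helper29) on `rsmc3_h22` (helper22)
and D5 `hall_witt`.
-/

set_option autoImplicit false

namespace Cfsg.Agent.Lib.helper8.RSM

open Cfsg.Agent.Lib.Helper5.Stem
open scoped commutatorElement

universe u v w

variable {G : Type u} [Group G] {K : Type v} [Field K] [Fintype K] {m : ℕ}
variable {Γ : Type w} [Group Γ] {σ : Γ →* G}

/-- D7 [M]. The preimage of `U₃` is central in the preimage of `U`:
`B t c := bet hs (x t 0 0) (x 0 0 c)` is additive in `c`, symmetric in the sense of D6, and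
`B (a0 t) (a0 N(a0) c) = B t c` (`bet_conj` with `h0`); `a0 * (a0 * N a0) = a0² N a0 ≠ 1` (A7, A9);
B4.  For general `g` over `x t u v = x t 0 0 * x 0 u v` use `bet_mul_left` and D4. -/
theorem U3_central (RU : ReeU G K m) (hs : Function.Surjective σ)
    (hcen : σ.ker ≤ Subgroup.center Γ) (g w : Γ) (hg : RU.InU (σ g)) (hw : RU.InU3 (σ w)) :
    g * w = w * g :=
  rsmd7_core RU hs hcen (fun a ha ha2 => cube_ne RU.hK a ha ha2)
    (gen_weights RU.hm RU.hK RU.a0 RU.a0_gen)
    (fun B hr hsym a c hac hinv => sym_kill B hr hsym a c hac hinv)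
    (x_basic RU) (U2_abelian RU hs hcen)
    (fun s t u => rsmd6_core RU hs hcen (rsmc3_h22 RU) (hall_witt RU hs hcen) s t u) g w hg hw

end Cfsg.Agent.Lib.helper8.RSM
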