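import Mathlib
import Cfsg.Agent.Lib.helper17.QdStab12
import Cfsg.Agent.Lib.helper17.QdStab11
import Cfsg.Agent.Lib.Helper10.ZJfree1

set_option autoImplicit false

/-! `ZJ` controls strong fusion in every section of a `Qd(p)`-free group (`p` odd). -/

universe u

namespace Cfsg.Agent.Lib.helper17.QdStab13

open scoped Pointwise commutatorElement
open Cfsg.Agent.Lib.Helper9 Cfsg.Agent.Lib.Helper10.ZJnpc Cfsg.Agent.Lib.Helper10.ZJsc
  Cfsg.Agent.Lib.Helper13 Cfsg.Agent.Lib.Helper10.NPStab Cfsg.Agent.Lib.Helper10.ZJfree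
  Cfsg.Agent.Lib.Helper1.GNPC

variable {p : ℕ} [Fact p.Prime]

/-- In a `Qd(p)`-free group the functor `Wz` controls strong fusion. -/
theorem fcs_of_qdfree (hp : p ≠ 2) {Qf : ∀ (X : Type u) [Group X], Subgroup X → Prop}
    (hQ : QFam p Qf) (Y : Type u) [Group Y] [Finite Y]
    (h : ¬ Cfsg.Involves ↥(Cfsg.qd p) Y) :
    FCS p {Wz Qf} Y := by
  apply sec_main (hW_singleton hQ) _ Y rfl
  rintro Q _ _ ⟨K, f, hf⟩ hc
  have hQfree : ¬ Cfsg.Involves ↥(Cfsg.qd p) Q := fun hi =>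
    h (involves_of_inj_surj_trans K.subtype K.subtype_injective f hf hi)
  have hst := QdStab11.qdfree_nps hp hQfree
  apply fcs_singleton_of_normal
  intro T
  rw [inducedFunctor_Wz hQ]
  exact zfam_normal_sc (Qf Q) T (hQ.hyp Q T) T ⟨le_rfl, fun x _ g hg => hg⟩ hc hst

/-- transport of control of strong fusion by `ZJ` along an isomorphism, with prescribed image -/
theorem csf_ctA_map {A B : Type*} [Group A] [Group B] [Finite A] [Finite B] (e : A ≃* B)
    (T : Sylow p A) (S : Sylow p B)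
    (hS : (S : Subgroup B) = (T : Subgroup A).map e.toMonoidHom)
    (h : Cfsg.ControlsStrongFusion p (Cfsg.centerThompsonAOf (T : Subgroup A))) :
    Cfsg.ControlsStrongFusion p (Cfsg.centerThompsonAOf (S : Subgroup B)) := by
  obtain ⟨T', hUT', hctl⟩ := h
  have hes : Function.Surjective e.toMonoidHom := e.surjective
  refine ⟨T'.mapSurjective hes, ?_, ?_⟩
  · rw [hS, Sylow.coe_mapSurjective,
      ctA_map e.toMonoidHom (e.injective.injOn)]
    exact Subgroup.map_mono hUT'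
  · intro X hX
    rw [Sylow.coe_mapSurjective] at hX ⊢
    rw [hS, ctA_map e.toMonoidHom (e.injective.injOn)]
    refine ⟨hX, fun g hg => ?_⟩
    have hmem : ∀ a : A, e a ∈ (T' : Subgroup A).map e.toMonoidHom → a ∈ (T' : Subgroup A) := by
      rintro a ⟨a', ha', h⟩
      have : a' = a := e.injective h
      rw [← this]; exact ha'
    have hX₀ : (e ⁻¹' X) ⊆ ((T' : Subgroup A) : Set A) := by
      intro a ha
      exact hmem a (hX ha)
    obtain ⟨-, hc⟩ := hctl _ hX₀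
    have hg₀ : (fun a => e.symm g * a * (e.symm g)⁻¹) '' (e ⁻¹' X) ⊆ ((T' : Subgroup A) : Set A) := by
      rintro _ ⟨a, ha, rfl⟩
      apply hmem
      rw [map_mul, map_mul, map_inv, e.apply_symm_apply]
      exact hg ⟨e a, ha, rfl⟩
    obtain ⟨x₀, hx₀, hxa⟩ := hc (e.symm g) hg₀
    refine ⟨e x₀, Subgroup.le_normalizer_map e.toMonoidHom ⟨x₀, hx₀, rfl⟩, fun b hb => ?_⟩
    have hb' : e.symm b ∈ e ⁻¹' X := by
      rw [Set.mem_preimage, e.apply_symm_apply]; exact hb
    have h1 := congrArg e (hxa _ hb')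
    rw [map_mul, map_mul, map_inv, map_mul, map_mul, map_inv, e.apply_symm_apply,
      e.apply_symm_apply] at h1
    exact h1

end Cfsg.Agent.Lib.helper17.QdStab13

namespace Cfsg.Agent.Lib.helper17.QdStab13

open scoped Pointwise
open Cfsg.Agent.Lib.Helper9 Cfsg.Agent.Lib.Helper10.ZJnpc Cfsg.Agent.Lib.Helper10.ZJsc
  Cfsg.Agent.Lib.Helper13 Cfsg.Agent.Lib.Helper10.NPStab Cfsg.Agent.Lib.Helper10.ZJfree
  Cfsg.Agent.Lib.Helper1.GNPC

variable {p : ℕ} [Fact p.Prime]

/-- Glauberman's `ZJ`-theorem, fusion form: in a `Qd(p)`-free finite group (`p` odd), `Z(J(T))`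
controls strong fusion for every Sylow `p`-subgroup `T`. -/
theorem csf_of_qdfree {G : Type u} [Group G] [Finite G] (hp : p ≠ 2)
    (hfree : ¬ Cfsg.Involves ↥(Cfsg.qd p) G) (T₀ : Sylow p G) :
    Cfsg.ControlsStrongFusion p (Cfsg.centerThompsonAOf (T₀ : Subgroup G)) := by
  have hQ := qfam_comm.{u} (p := p) hp
  have hfcs := fcs_of_qdfree hp hQ G hfree
  have hci := controlsIn_of_family (p := p) _ ⊤ hfcs
  obtain ⟨T, -, hTp, hTi, hT⟩ := hci
  rw [Subgroup.relIndex_top_right] at hTi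
  have hWeq : Cfsg.inducedFunctor (G := G)
      (Wz (fun (X : Type u) [Group X] (A : Subgroup X) => IsMulCommutative A)) T =
      Cfsg.centerThompsonAOf T := by
    rw [inducedFunctor_Wz hQ T]
    exact zfam_eq_centerThompsonAOf T
  obtain ⟨Ts, hTs⟩ : ∃ Ts : Sylow p G, (Ts : Subgroup G) = T :=
    ⟨hTp.toSylow hTi, IsPGroup.toSylow_coe hTp hTi⟩
  have h1 : Cfsg.ControlsStrongFusion p (Cfsg.centerThompsonAOf (Ts : Subgroup G)) := by
    refine ⟨Ts, ctA_le _, fun A hA => ⟨hA, fun g hg => ?_⟩⟩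
    rw [hTs] at hA hg ⊢
    obtain ⟨x, hx, hxa⟩ := hT A g (Subgroup.mem_top g) hA hg
    rw [hWeq] at hx
    exact ⟨x, hx.2, fun a ha => (hxa a ha).symm⟩
  obtain ⟨g, hg⟩ := MulAction.exists_smul_eq G Ts T₀
  apply csf_ctA_map (MulAut.conj g) Ts T₀ _ h1
  rw [← hg, Sylow.coe_subgroup_smul, Subgroup.pointwise_smul_def]
  rfl

/-- the `(⇒)` half of the `ZJ` fusion criterion -/
theorem csf_sections_of_qdfree {G : Type u} [Group G] [Finite G] (hp : p ≠ 2)
    (hfree : ¬ Cfsg.Involves ↥(Cfsg.qd p) G)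
    (K R : Subgroup G) [hR : (R.subgroupOf K).Normal] (T : Sylow p (↥K ⧸ R.subgroupOf K)) :
    Cfsg.ControlsStrongFusion p
      (Cfsg.centerThompsonAOf (T : Subgroup (↥K ⧸ R.subgroupOf K))) :=
  csf_of_qdfree hp (QdStab8.section_free hfree K R) T

end Cfsg.Agent.Lib.helper17.QdStab13
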