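import Mathlib
import Cfsg.Agent.Lib.Helper18.SDM.Defs3
import Cfsg.Agent.Lib.helper14.UBNh
import Cfsg.Agent.Lib.helper3.BNLen
import Cfsg.Agent.Lib.Helper10.SDMB3
import Cfsg.Agent.Lib.Helper25.SDML1
import Cfsg.Agent.Lib.Helper10.SDMP2
import Cfsg.Agent.Lib.Helper25.SDMP1
import Cfsg.Agent.Lib.helper8.SDMB2

/-!
# Project SDM (S2549), row L2 (helper17): the longest element and the relation `Pp`
(port of helper14/OBNa `nLong_h1`, `nLong_h1'`, `nLong_h2`).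
-/

set_option autoImplicit false
set_option linter.unusedSectionVars false
set_option linter.unusedVariables false

namespace Cfsg.Agent.Lib.Helper18.QBN

open Cfsg.Agent.Lib.helper14.UBN QuadraticMap
open Cfsg.Agent.Lib.helper3 Cfsg.Agent.Lib.helper14

universe u v

variable {F : Type u} [Field F] {W : Type v} [AddCommGroup W] [Module F W] {n : ℕ}

/-- [ROW L2] -/
theorem nLongQ_h1' (hn : Even n) (Q₀ : QuadraticForm F W) (hQ₀ : ∀ w : W, Q₀ w = 0 → w = 0)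
    (hW : ∃ w : W, w ≠ 0)
    (P : Cfsg.BNPair (GQ n Q₀)) (hB : P.B = BQ n Q₀) (hN : P.N = NQ n Q₀) (hS : P.S = SQ hn Q₀) :
    ∀ s ∈ P.S, ¬ Pp P s (nLongQ hn Q₀) := by
  intro s hs
  rw [hS] at hs
  obtain ⟨k, rfl⟩ := hs
  apply qbn_not_pp_of_neg hn Q₀ hQ₀ hW P hB hN hS k _ (rvPerm n) RvC_rvPerm (isPermOf_nLongQ hn Q₀)
  show rk (rv (pc k)) < rk (rv (pa k))
  rw [rk_rv_lt_iff]
  exact rk_pa_lt_pc k

/-- [ROW L2] -/
theorem nLongQ_h1 (hn : Even n) (Q₀ : QuadraticForm F W) (hQ₀ : ∀ w : W, Q₀ w = 0 → w = 0)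
    (hW : ∃ w : W, w ≠ 0)
    (P : Cfsg.BNPair (GQ n Q₀)) (hB : P.B = BQ n Q₀) (hN : P.N = NQ n Q₀) (hS : P.S = SQ hn Q₀) :
    ∀ s ∈ P.S, ¬ Pp P s (nLongQ hn Q₀)⁻¹ := by
  rw [sdml1_nLongQ_inv]
  exact nLongQ_h1' hn Q₀ hQ₀ hW P hB hN hS

/-- [ROW L2] -/
theorem nLongQ_h2 (hn : Even n) (Q₀ : QuadraticForm F W) (hQ₀ : ∀ w : W, Q₀ w = 0 → w = 0)
    (hW : ∃ w : W, w ≠ 0)
    (P : Cfsg.BNPair (GQ n Q₀)) (hB : P.B = BQ n Q₀) (hN : P.N = NQ n Q₀) (hS : P.S = SQ hn Q₀) :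
    ∀ m ∈ P.N, (∀ s ∈ P.S, ¬ Pp P s m) → LAsc P P.S (m * nLongQ hn Q₀) := by
  intro m hm hnot
  rw [hN] at hm
  obtain ⟨π, hπ, hmm⟩ := (mem_NQ_iff hn m).1 hm
  have hSk : ∀ k : Fin (n / 2), sQ hn Q₀ k ∈ P.S := by
    intro k
    rw [hS]
    exact ⟨k, rfl⟩
  have hall : ∀ k : Fin (n / 2), rk (π.symm (pc k)) < rk (π.symm (pa k)) := by
    intro k
    rcases rk_neg_or_pos k π with hpos | hneg
    · exact absurd (qbn_pp_of_pos hn Q₀ hQ₀ P hB hN hS k m π hπ hmm hpos) (hnot _ (hSk k))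
    · exact hneg
  have h1 : π.symm = rvPerm n := perm_eq_rv_of_simple π.symm (RvC_inv hπ) hall
  have h2 : π = rvPerm n := by
    have := congrArg Equiv.symm h1
    rw [Equiv.symm_symm, rvPerm_symm] at this
    exact this
  have hmono : IsPermOf (m * nLongQ hn Q₀) 1 := by
    have := isPermOf_mul hmm (isPermOf_nLongQ hn Q₀)
    rw [h2, rvPerm_mul_self] at this
    exact this
  intro s hs
  rw [hS] at hs
  obtain ⟨k, rfl⟩ := hs
  apply qbn_pp_of_pos hn Q₀ hQ₀ P hB hN hS k (m * nLongQ hn Q₀) 1 RvC_one hmono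
  show rk (pa k) < rk (pc k)
  exact rk_pa_lt_pc k

end Cfsg.Agent.Lib.Helper18.QBN
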