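import Mathlib
import Cfsg.Agent.Lib.Helper18.SDM.Defs3
import Cfsg.Agent.Lib.helper14.UBNh
import Cfsg.Agent.Lib.helper3.BNLen
import Cfsg.Agent.Lib.Helper10.SDMB3
import Cfsg.Agent.Lib.Helper10.SDMR2bcd
import Cfsg.Agent.Lib.Helper11.SDMR4
import Cfsg.Agent.Lib.Helper22.SDMU3
import Cfsg.Agent.Lib.helper2.SDMU2
import Cfsg.Agent.Lib.helper8.SDMB2

/-!
# Project SDM (S2549), row U5 (helper17): the fixed point lemma (port of helper14/OBNa `mem_BU_of_fixed`, `mem_BU_of_comm`).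
-/

set_option autoImplicit false
set_option linter.unusedSectionVars false
set_option linter.unusedVariables false

namespace Cfsg.Agent.Lib.Helper18.QBN

open Cfsg.Agent.Lib.helper14.UBN QuadraticMap
open Cfsg.Agent.Lib.helper3 Cfsg.Agent.Lib.helper14

universe u v

variable {F : Type u} [Field F] {W : Type v} [AddCommGroup W] [Module F W] {n : ℕ}

/-- [ROW U5] the fixed point lemma -/
theorem mem_BQ_of_fixed (hn : Even n) (Q₀ : QuadraticForm F W) (hW : ∃ w : W, w ≠ 0)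
    (P : Cfsg.BNPair (GQ n Q₀)) (hB : P.B = BQ n Q₀) (hN : P.N = NQ n Q₀) (hS : P.S = SQ hn Q₀)
    (g : GQ n Q₀) (h : ∀ u ∈ UQ hn Q₀, g⁻¹ * u * g ∈ BQ n Q₀) : g ∈ BQ n Q₀ := by
  obtain ⟨m, hm, hg⟩ := bruhat (P := P) g
  obtain ⟨b1, hb1, b2, hb2, rfl⟩ := mem_dc.1 hg
  rw [hB] at hb1 hb2
  rw [hN] at hm
  obtain ⟨π, hπ, hmm⟩ := (mem_NQ_iff hn m).1 hm
  have hall : ∀ k : Fin (n / 2), rk (π.symm (pa k)) < rk (π.symm (pc k)) := by
    intro k
    rcases rk_neg_or_pos k π with hpos | hneg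
    · exact hpos
    · exfalso
      obtain ⟨u, hu, hu1⟩ := Uk_nontrivial hn Q₀ hW k
      have huU : u ∈ UQ hn Q₀ := Subgroup.subset_closure (Uk_subset_SgSet hn Q₀ k u hu)
      have hneg' : m⁻¹ * u * m ∉ BQ n Q₀ := by
        by_cases hk : pc k = rv (pa k)
        · exact root_conj_neg_last hn Q₀ k hk m π hπ hmm hneg u hu hu1
        · exact root_conj_neg_A hn Q₀ k hk m π hπ hmm hneg u hu hu1
      apply hneg'
      have h1 := h (b1 * u * b1⁻¹) (UQ_conj_mem hn Q₀ b1 u hb1 huU)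
      have e : m⁻¹ * u * m =
          b2 * ((b1 * m * b2)⁻¹ * (b1 * u * b1⁻¹) * (b1 * m * b2)) * b2⁻¹ := by group
      rw [e]
      exact (BQ n Q₀).mul_mem ((BQ n Q₀).mul_mem hb2 h1) ((BQ n Q₀).inv_mem hb2)
  have h1 : π.symm = 1 := perm_eq_one_of_simple π.symm (RvC_inv hπ) hall
  have h2 : π = 1 := by
    have := congrArg Equiv.symm h1
    rwa [Equiv.symm_symm] at this
  rw [h2] at hmm
  have hmT : m ∈ TQ n Q₀ := (mem_TQ_iff hn m).2 hmm
  exact (BQ n Q₀).mul_mem ((BQ n Q₀).mul_mem hb1 hmT.1) hb2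

/-- [ROW U5] -/
theorem mem_BQ_of_comm (hn : Even n) (Q₀ : QuadraticForm F W) (hW : ∃ w : W, w ≠ 0)
    (P : Cfsg.BNPair (GQ n Q₀)) (hB : P.B = BQ n Q₀) (hN : P.N = NQ n Q₀) (hS : P.S = SQ hn Q₀)
    (z : GQ n Q₀) (h : ∀ u ∈ UQ hn Q₀, u * z = z * u) : z ∈ BQ n Q₀ := by
  apply mem_BQ_of_fixed hn Q₀ hW P hB hN hS
  intro u hu
  have e : z⁻¹ * u * z = u := by
    rw [mul_assoc, h u hu, ← mul_assoc, inv_mul_cancel, one_mul]
  rw [e]
  exact UQ_le_BQ hn Q₀ hu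

end Cfsg.Agent.Lib.Helper18.QBN
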