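import Mathlib
import Cfsg.Agent.Lib.Helper18.SDM.Defs3
import Cfsg.Agent.Lib.helper14.UBNh
import Cfsg.Agent.Lib.helper3.BNLen
import Cfsg.Agent.Lib.helper17.SDMU5
import Cfsg.Agent.Lib.Helper18.SDMU4a
import Cfsg.Agent.Lib.helper2.SDMU2

/-!
# Project SDM (S2549), row U6 (helper17): the index of the Borel subgroup is prime to `p`
(port of helper14/OBNa `index_BU_not_dvd`).
-/

set_option autoImplicit false
set_option linter.unusedSectionVars false
set_option linter.unusedVariables false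

namespace Cfsg.Agent.Lib.Helper18.QBN

open Cfsg.Agent.Lib.helper14.UBN QuadraticMap
open Cfsg.Agent.Lib.helper3 Cfsg.Agent.Lib.helper14

universe u v

variable {F : Type u} [Field F] {W : Type v} [AddCommGroup W] [Module F W] {n : ℕ}

/-- the action of a subgroup on a coset space -/
theorem sdmu6_smul_coe {G : Type*} [Group G] (U B : Subgroup G) (u : U) (g : G) :
    u • (g : G ⧸ B) = (((u : G) * g : G) : G ⧸ B) := rfl

/-- the unipotent radical is a `p`-group (same statement as `UQ_isPGroup` of row U4, proved here from `isUniQ_pow`) -/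
theorem sdmu6_UQ_isPGroup (hn : Even n) (Q₀ : QuadraticForm F W) (p : ℕ) [Fact p.Prime] [CharP F p] :
    IsPGroup p ↥(UQ hn Q₀) := by
  intro u
  obtain ⟨k, hk⟩ := isUniQ_pow hn p u.1 (UQ_le_BQ hn Q₀ u.2) (UQ_isUniQ hn Q₀ u.1 u.2)
  refine ⟨k, Subtype.ext ?_⟩
  simpa using hk

/-- [ROW U6] -/
theorem index_BQ_not_dvd (hn : Even n) (Q₀ : QuadraticForm F W) (hW : ∃ w : W, w ≠ 0)
    (P : Cfsg.BNPair (GQ n Q₀)) (hB : P.B = BQ n Q₀) (hN : P.N = NQ n Q₀) (hS : P.S = SQ hn Q₀)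
    [Finite (GQ n Q₀)] (p : ℕ) [Fact p.Prime] [CharP F p] : ¬ p ∣ (BQ n Q₀).index := by
  intro hdvd
  have hU := sdmu6_UQ_isPGroup hn Q₀ p
  have ha : ((1 : GQ n Q₀) : GQ n Q₀ ⧸ BQ n Q₀) ∈
      MulAction.fixedPoints ↥(UQ hn Q₀) (GQ n Q₀ ⧸ BQ n Q₀) := by
    intro u
    rw [sdmu6_smul_coe, QuotientGroup.eq, mul_one, mul_one]
    exact (BQ n Q₀).inv_mem (UQ_le_BQ hn Q₀ u.2)
  rw [Subgroup.index_eq_card] at hdvd
  obtain ⟨b, hb, hab⟩ := hU.exists_fixed_point_of_prime_dvd_card_of_fixed_point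
    (GQ n Q₀ ⧸ BQ n Q₀) hdvd ha
  apply hab
  induction b using QuotientGroup.induction_on with
  | H g =>
    rw [QuotientGroup.eq, inv_one, one_mul]
    apply mem_BQ_of_fixed hn Q₀ hW P hB hN hS
    intro u hu
    have h1 := hb ⟨u⁻¹, (UQ hn Q₀).inv_mem hu⟩
    rw [sdmu6_smul_coe, QuotientGroup.eq] at h1
    have e : g⁻¹ * u * g = ((u⁻¹ : GQ n Q₀) * g)⁻¹ * g := by group
    rw [e]
    exact h1

end Cfsg.Agent.Lib.Helper18.QBN
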