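import Mathlib
import Cfsg.Prelude.Def_CaseTheorems
import Cfsg.Agent.Lib.Helper9.QD

set_option autoImplicit false

namespace Cfsg.Agent.Lib.helper17.SD

open Cfsg.Agent.Lib.Helper9

variable {G : Type*} [Group G]

/-- Common structure of dihedral (order `≥ 8`) and semidihedral 2-subgroups `T`: a cyclic subgroup
`⟨x⟩` of index two and order `4k`, such that every element outside squares into `⟨x^{2k}⟩` and inverts
`x^k`. -/
structure DSD (T : Subgroup G) where
  x : G
  k : ℕ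
  hk : 1 ≤ k
  hxT : x ∈ T
  hord : orderOf x = 4 * k
  hcard : Nat.card T = 8 * k
  hsq : ∀ t ∈ T, t ∉ Subgroup.zpowers x → t * t = 1 ∨ t * t = x ^ (2 * k)
  hinv : ∀ t ∈ T, t ∉ Subgroup.zpowers x → t * x ^ k * t⁻¹ = (x ^ k)⁻¹

theorem coe_mem_zpowers_iff {T : Subgroup G} (a b : ↥T) :
    (b : G) ∈ Subgroup.zpowers (a : G) ↔ b ∈ Subgroup.zpowers a := by
  constructor
  · intro h
    obtain ⟨i, hi⟩ := Subgroup.mem_zpowers_iff.mp h
    refine Subgroup.mem_zpowers_iff.mpr ⟨i, ?_⟩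
    apply Subtype.ext
    rw [← hi]; simp
  · intro h
    obtain ⟨i, hi⟩ := Subgroup.mem_zpowers_iff.mp h
    refine Subgroup.mem_zpowers_iff.mpr ⟨i, ?_⟩
    rw [← hi]; simp

theorem dsd_of_quasiDihedral (T : Subgroup G) (h : Cfsg.IsQuasiDihedral ↥T) : Nonempty (DSD T) := by
  obtain ⟨D⟩ := exists_qd h
  have hn := D.hn
  have e1 : 4 * 2 ^ (D.n - 2) = 2 ^ D.n := by
    have : D.n = (D.n - 2) + 2 := by omega
    conv_rhs => rw [this, pow_add]
    ring
  have e2 : 8 * 2 ^ (D.n - 2) = 2 ^ (D.n + 1) := by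
    rw [pow_succ, ← e1]; ring
  have e3 : 2 * 2 ^ (D.n - 2) = 2 ^ (D.n - 1) := by
    have : D.n - 1 = (D.n - 2) + 1 := by omega
    rw [this, pow_succ]; ring
  have hXv : D.X D.v = D.x ^ (2 ^ (D.n - 2)) := D.X_natCast _
  have hXu : D.X D.u = D.x ^ (2 ^ (D.n - 1)) := D.X_natCast _
  refine ⟨⟨(D.x : G), 2 ^ (D.n - 2), Nat.one_le_two_pow, D.x.2, ?_, ?_, ?_, ?_⟩⟩
  · rw [Subgroup.orderOf_coe, D.hx, e1]
  · rw [D.card, e2]
  · intro t ht hnot
    have hnot' : (⟨t, ht⟩ : ↥T) ∉ Subgroup.zpowers D.x := by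
      intro hc
      exact hnot ((coe_mem_zpowers_iff D.x ⟨t, ht⟩).mpr hc)
    rcases D.cases ⟨t, ht⟩ with ⟨i, hi⟩ | ⟨i, hi⟩
    · exact absurd ((D.mem_zpowers_iff _).mpr ⟨i, hi⟩) hnot'
    · have hsq := D.Y_sq i
      rw [← hi] at hsq
      obtain ⟨j, hj | hj⟩ := D.parity i
      · left
        rw [hj, D.u_mul_even, D.X_zero] at hsq
        have := congrArg Subtype.val hsq
        simpa using this
      · right
        rw [hj, D.u_mul_odd, hXu] at hsq
        have := congrArg Subtype.val hsq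
        rw [e3]
        simpa using this
  · intro t ht hnot
    have hnot' : (⟨t, ht⟩ : ↥T) ∉ Subgroup.zpowers D.x := by
      intro hc
      exact hnot ((coe_mem_zpowers_iff D.x ⟨t, ht⟩).mpr hc)
    rcases D.cases ⟨t, ht⟩ with ⟨i, hi⟩ | ⟨i, hi⟩
    · exact absurd ((D.mem_zpowers_iff _).mpr ⟨i, hi⟩) hnot'
    · have hc := D.Y_conj_X i D.v
      have hρ : D.ρ * D.v = -D.v := by
        rw [D.ρ_eq]
        linear_combination D.u_mul_v
      rw [hρ, D.X_neg, hXv, ← hi] at hc
      have := congrArg Subtype.val hc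
      simpa using this

theorem dsd_of_dihedral [Finite G] (T : Sylow 2 G) (n : ℕ) (hn : 4 ≤ n)
    (e : ↥(T : Subgroup G) ≃* DihedralGroup n) : Nonempty (DSD (T : Subgroup G)) := by
  have : NeZero n := ⟨by omega⟩
  have hcard : Nat.card ↥(T : Subgroup G) = 2 * n := by
    rw [Nat.card_congr e.toEquiv, Nat.card_eq_fintype_card, DihedralGroup.card]
  obtain ⟨a, ha⟩ := IsPGroup.iff_card.mp T.isPGroup'
  have h4 : 4 ∣ n := by
    rw [hcard] at ha
    have ha2 : 2 ≤ a - 1 := by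
      by_contra hlt
      have : a ≤ 2 := by omega
      have : 2 ^ a ≤ 2 ^ 2 := Nat.pow_le_pow_right (by norm_num) this
      omega
    have : a = (a - 1) + 1 := by omega
    rw [this, pow_succ, mul_comm] at ha
    have hn' : n = 2 ^ (a - 1) := by omega
    rw [hn']
    exact pow_dvd_pow 2 ha2
  obtain ⟨k, hk⟩ := h4
  have hk1 : 1 ≤ k := by omega
  set x : ↥(T : Subgroup G) := e.symm (DihedralGroup.r 1) with hx
  have hex : e x = DihedralGroup.r 1 := by rw [hx, MulEquiv.apply_symm_apply]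
  refine ⟨⟨(x : G), k, hk1, x.2, ?_, ?_, ?_, ?_⟩⟩
  · rw [Subgroup.orderOf_coe, ← MulEquiv.orderOf_eq e, hex, DihedralGroup.orderOf_r_one, hk]
  · rw [hcard, hk]; ring
  · intro t ht hnot
    left
    have hnot' : (⟨t, ht⟩ : ↥(T : Subgroup G)) ∉ Subgroup.zpowers x := by
      intro hc
      exact hnot ((coe_mem_zpowers_iff x ⟨t, ht⟩).mpr hc)
    have hcase : ∃ i, e ⟨t, ht⟩ = DihedralGroup.sr i := by
      cases' hv : e ⟨t, ht⟩ with i i
      · exfalso
        apply hnot'
        have : (⟨t, ht⟩ : ↥(T : Subgroup G)) = x ^ i.val := by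
          apply e.injective
          rw [map_pow, hex, hv, DihedralGroup.r_one_pow]
          simp
        rw [this]
        exact Subgroup.pow_mem _ (Subgroup.mem_zpowers x) _
      · exact ⟨i, rfl⟩
    obtain ⟨i, hi⟩ := hcase
    have : (⟨t, ht⟩ : ↥(T : Subgroup G)) * ⟨t, ht⟩ = 1 := by
      apply e.injective
      rw [map_mul, hi, map_one, DihedralGroup.sr_mul_self]
    have := congrArg Subtype.val this
    simpa using this
  · intro t ht hnot
    have hnot' : (⟨t, ht⟩ : ↥(T : Subgroup G)) ∉ Subgroup.zpowers x := by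
      intro hc
      exact hnot ((coe_mem_zpowers_iff x ⟨t, ht⟩).mpr hc)
    have hcase : ∃ i, e ⟨t, ht⟩ = DihedralGroup.sr i := by
      cases' hv : e ⟨t, ht⟩ with i i
      · exfalso
        apply hnot'
        have : (⟨t, ht⟩ : ↥(T : Subgroup G)) = x ^ i.val := by
          apply e.injective
          rw [map_pow, hex, hv, DihedralGroup.r_one_pow]
          simp
        rw [this]
        exact Subgroup.pow_mem _ (Subgroup.mem_zpowers x) _
      · exact ⟨i, rfl⟩
    obtain ⟨i, hi⟩ := hcase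
    have : (⟨t, ht⟩ : ↥(T : Subgroup G)) * x ^ k * (⟨t, ht⟩ : ↥(T : Subgroup G))⁻¹ = (x ^ k)⁻¹ := by
      apply e.injective
      rw [map_mul, map_mul, map_inv, map_inv, map_pow, hi, hex, DihedralGroup.r_one_pow]
      simp
    have := congrArg Subtype.val this
    simpa using this

end Cfsg.Agent.Lib.helper17.SD
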