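import Mathlib
import Cfsg.Agent.Lib.helper17.SD1
import Cfsg.Agent.Lib.Helper21.SL23Section
import Cfsg.Agent.Lib.Helper21.QuatSylow2

set_option autoImplicit false

namespace Cfsg.Agent.Lib.helper17.SD

open Cfsg.Agent.Lib.Helper21 Cfsg.Agent.Lib.helper14 Cfsg.Agent.Lib.Helper1

variable {G : Type*} [Group G]

theorem conj_pow' (g a : G) (n : ℕ) : g * a ^ n * g⁻¹ = (g * a * g⁻¹) ^ n := by
  have := map_pow (MulAut.conj g) a n
  simpa [MulAut.conj_apply] using this

theorem conj_zpow' (g a : G) (n : ℤ) : g * a ^ n * g⁻¹ = (g * a * g⁻¹) ^ n := by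
  have := map_zpow (MulAut.conj g) a n
  simpa [MulAut.conj_apply] using this

/-- if `g` maps a generator of the cyclic group `A` into `A` then `g` normalizes `A` -/
theorem mem_normalizer_zpowers [Finite G] (a g : G) (h : g * a * g⁻¹ ∈ Subgroup.zpowers a) :
    g ∈ Subgroup.normalizer ((Subgroup.zpowers a : Subgroup G) : Set G) := by
  apply Cfsg.Agent.S1254.mem_normalizer_of_conj_mem
  intro u hu
  obtain ⟨i, rfl⟩ := Subgroup.mem_zpowers_iff.mp hu
  rw [conj_zpow']
  exact Subgroup.zpow_mem _ h i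

namespace DSD

variable {T : Subgroup G} (D : DSD T)

/-- the cyclic maximal subgroup -/
def C : Subgroup G := Subgroup.zpowers D.x

theorem C_le : D.C ≤ T := by
  unfold C; rw [Subgroup.zpowers_le]; exact D.hxT

theorem card_C : Nat.card D.C = 4 * D.k := by
  unfold C; rw [Nat.card_zpowers, D.hord]

theorem relIndex_C : D.C.relIndex T = 2 := by
  have h := card_mul_relIndex_of_le D.C_le
  rw [D.card_C, D.hcard] at h
  have hk := D.hk
  have : 4 * D.k * D.C.relIndex T = 4 * D.k * 2 := by rw [h]; ring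
  exact Nat.eq_of_mul_eq_mul_left (by omega) this

/-- the element of order four -/
def c : G := D.x ^ D.k

/-- the central involution -/
def z : G := D.x ^ (2 * D.k)

theorem c_mem : D.c ∈ D.C := Subgroup.pow_mem _ (Subgroup.mem_zpowers _) _

theorem c_sq : D.c ^ 2 = D.z := by
  unfold c z; rw [← pow_mul, mul_comm]

theorem orderOf_c : orderOf D.c = 4 := by
  unfold c
  have hk := D.hk
  rw [orderOf_pow' _ (by omega), D.hord, Nat.gcd_eq_right (Dvd.intro_left 4 rfl)]
  exact Nat.mul_div_cancel _ (by omega)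

theorem z_sq : D.z * D.z = 1 := by
  unfold z
  rw [← pow_add, ← two_mul, ← mul_assoc, show 2 * 2 = 4 by norm_num, ← D.hord]
  exact pow_orderOf_eq_one _

theorem pow_four_of_not_mem {t : G} (ht : t ∈ T) (hnot : t ∉ D.C) : t ^ 4 = 1 := by
  have e : t ^ 4 = (t * t) * (t * t) := by
    rw [show 4 = 2 + 2 from rfl, pow_add, pow_two]
  rw [e]
  rcases D.hsq t ht hnot with h | h
  · rw [h, one_mul]
  · rw [h]; exact D.z_sq

theorem inv_c {t : G} (ht : t ∈ T) (hnot : t ∉ D.C) : t * D.c * t⁻¹ = D.c⁻¹ := D.hinv t ht hnot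

theorem z_mem_center : D.z ∈ T ⊓ Subgroup.centralizer (T : Set G) := by
  refine Subgroup.mem_inf.mpr ⟨D.C_le (Subgroup.pow_mem _ (Subgroup.mem_zpowers _) _), ?_⟩
  rw [Subgroup.mem_centralizer_iff]
  intro t ht
  by_cases htC : t ∈ D.C
  · obtain ⟨i, rfl⟩ := Subgroup.mem_zpowers_iff.mp htC
    unfold z
    exact ((Commute.refl D.x).zpow_left i |>.pow_right _).eq
  · have h1 : t * D.z * t⁻¹ = D.z := by
      rw [← D.c_sq, conj_pow', D.inv_c ht htC, inv_pow, D.c_sq]
      exact inv_eq_of_mul_eq_one_left D.z_sq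
    calc t * D.z = (t * D.z * t⁻¹) * t := by group
      _ = D.z * t := by rw [h1]

end DSD

end Cfsg.Agent.Lib.helper17.SD
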