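import Mathlib
import Cfsg.Agent.Lib.helper17.SD2

set_option autoImplicit false

namespace Cfsg.Agent.Lib.helper17.SD

open Cfsg.Agent.Lib.Helper21 Cfsg.Agent.Lib.helper14 Cfsg.Agent.Lib.Helper1

variable {G : Type*} [Group G]

theorem DSD.orderOf_z {T : Subgroup G} (D : DSD T) : orderOf D.z = 2 := by
  have : Fact (Nat.Prime 2) := ⟨Nat.prime_two⟩
  apply orderOf_eq_prime
  · rw [pow_two]; exact D.z_sq
  · unfold DSD.z
    have hk := D.hk
    apply pow_ne_one_of_lt_orderOf (by omega)
    rw [D.hord]; omega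

theorem DSD.conj_inv_of_mem_zpowers_c {T : Subgroup G} (D : DSD T) {t a : G} (ht : t ∈ T)
    (hnot : t ∉ D.C) (ha : a ∈ Subgroup.zpowers D.c) : t * a * t⁻¹ = a⁻¹ := by
  obtain ⟨i, rfl⟩ := Subgroup.mem_zpowers_iff.mp ha
  rw [conj_zpow', D.inv_c ht hnot, inv_zpow]

theorem exists_quat_equiv [Finite G] {T : Subgroup G} (D : DSD T) (hT2 : IsPGroup 2 T)
    (Q : Subgroup G) (hQT : Q ≤ T)
    (hZn : (T ⊓ Subgroup.centralizer (T : Set G)).Normal)
    (hCQ : Subgroup.centralizer (Q : Set G) ≤ Q)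
    (g : G) (hgQ : g ∈ Subgroup.normalizer (Q : Set G)) (hodd : (orderOf g).Coprime 2)
    (hgC : g ∉ Subgroup.centralizer (Q : Set G)) :
    Nonempty (Q ≃* QuaternionGroup 2) := by
  have : Fact (Nat.Prime 2) := ⟨Nat.prime_two⟩
  have hQ2 : IsPGroup 2 Q := hT2.to_le hQT
  have hCcyc : IsCyclic D.C := by unfold DSD.C; infer_instance
  by_cases hQC : Q ≤ D.C
  · exfalso
    have hcyc : IsCyclic Q := Subgroup.isCyclic_of_le hQC
    exact hgC (Cfsg.Agent.S1254.centralizes_cyclic Q hcyc hQ2 g hgQ hodd)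
  obtain ⟨t₀, ht₀Q, ht₀C⟩ := SetLike.not_le_iff_exists.mp hQC
  set A : Subgroup G := Q ⊓ D.C with hA
  have hAQ : A ≤ Q := inf_le_left
  have hAC : A ≤ D.C := inf_le_right
  have hAcyc : IsCyclic A := Subgroup.isCyclic_of_le hAC
  have hidx : A.relIndex Q = 2 := by
    have h1 : A.relIndex Q = D.C.relIndex Q := by
      rw [hA, inf_comm]; exact Subgroup.inf_relIndex_right _ _
    have h2 : D.C.relIndex Q ≤ D.C.relIndex T :=
      Subgroup.relIndex_le_of_le_right hQT (by rw [D.relIndex_C]; norm_num)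
    have h3 : D.C.relIndex Q ≠ 1 := fun h => hQC (Subgroup.relIndex_eq_one.mp h)
    have h4 : D.C.relIndex Q ≠ 0 := Subgroup.index_ne_zero_of_finite (H := D.C.subgroupOf Q)
    rw [D.relIndex_C] at h2
    omega
  have hgA : g ∉ Subgroup.normalizer (A : Set G) := fun h =>
    hgC (centralizes_of_normalizes_cyclic_index_two Q A hQ2 hAQ hAcyc hidx g hgQ h hodd)
  have hcardQ : Nat.card A * 2 = Nat.card Q := by
    have := card_mul_relIndex_of_le hAQ
    rwa [hidx] at this
  obtain ⟨a₀, ha₀⟩ : ∃ a₀, Subgroup.zpowers a₀ = A :=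
    (Subgroup.isCyclic_iff_exists_zpowers_eq_top A).mp hAcyc
  have ha₀A : a₀ ∈ A := by rw [← ha₀]; exact Subgroup.mem_zpowers a₀
  have hord₀ : orderOf a₀ = Nat.card A := by rw [← ha₀, Nat.card_zpowers]
  have hconjQ : ∀ q ∈ Q, g * q * g⁻¹ ∈ Q := fun q hq =>
    (Subgroup.mem_normalizer_iff.mp hgQ q).mp hq
  have hb : g * a₀ * g⁻¹ ∉ A := by
    intro h
    apply hgA
    rw [← ha₀] at h ⊢
    exact mem_normalizer_zpowers a₀ g h
  have hbQ : g * a₀ * g⁻¹ ∈ Q := hconjQ _ (hAQ ha₀A)
  have hbC : g * a₀ * g⁻¹ ∉ D.C := fun h => hb (Subgroup.mem_inf.mpr ⟨hbQ, h⟩)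
  have hb4 : (g * a₀ * g⁻¹) ^ 4 = 1 := D.pow_four_of_not_mem (hQT hbQ) hbC
  have ha4 : a₀ ^ 4 = 1 := by
    rw [← conj_pow'] at hb4
    have : a₀ ^ 4 = g⁻¹ * (g * a₀ ^ 4 * g⁻¹) * g := by group
    rw [this, hb4]; group
  have hAle4 : Nat.card A ∣ 4 := by rw [← hord₀]; exact orderOf_dvd_of_pow_eq_one ha4
  have hcases : Nat.card A = 1 ∨ Nat.card A = 2 ∨ Nat.card A = 4 := by
    have hle : Nat.card A ≤ 4 := Nat.le_of_dvd (by norm_num) hAle4
    have hpos : 0 < Nat.card A := Nat.card_pos
    interval_cases h : Nat.card A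
    · left; rfl
    · right; left; rfl
    · exfalso; revert hAle4; decide
    · right; right; rfl
  rcases hcases with h1 | h2 | h4
  · -- A trivial
    exfalso
    apply hb
    have : a₀ = 1 := by
      rw [← orderOf_eq_one_iff, hord₀, h1]
    rw [this]; simp
  · -- card A = 2
    exfalso
    have hzle : Subgroup.zpowers D.z ≤ A := by
      apply cyclic_le_of_card_dvd' D.C _ _ hCcyc _ hAC
      · rw [Nat.card_zpowers, D.orderOf_z, h2]
      · rw [Subgroup.zpowers_le]
        exact Subgroup.pow_mem _ (Subgroup.mem_zpowers _) _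
    have hzA : Subgroup.zpowers D.z = A := by
      apply Subgroup.eq_of_le_of_card_ge hzle
      rw [Nat.card_zpowers, D.orderOf_z, h2]
    set W : Subgroup G := (T ⊓ Subgroup.centralizer (T : Set G)) ⊓ Q with hW
    have hzW : D.z ∈ W := Subgroup.mem_inf.mpr ⟨D.z_mem_center, hAQ (hzle (Subgroup.mem_zpowers _))⟩
    have hAW : A ≤ W := by rw [← hzA, Subgroup.zpowers_le]; exact hzW
    have hWQ : W ≤ Q := inf_le_right
    have hcQ : Nat.card Q = 4 := by rw [← hcardQ, h2]
    have hWne : W ≠ Q := by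
      intro h
      have hQZ : Q ≤ Subgroup.centralizer (T : Set G) := by
        rw [← h]; exact inf_le_left.trans inf_le_right
      have hTQ : T ≤ Q := by
        intro t ht
        apply hCQ
        rw [Subgroup.mem_centralizer_iff]
        intro q hq
        exact ((Subgroup.mem_centralizer_iff.mp (hQZ hq)) t ht).symm
      have := Subgroup.card_le_of_le hTQ
      rw [D.hcard, hcQ] at this
      have := D.hk
      omega
    have hWA : W = A := by
      symm
      apply Subgroup.eq_of_le_of_card_ge hAW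
      have hd : Nat.card W ∣ 4 := by rw [← hcQ]; exact Subgroup.card_dvd_of_le hWQ
      have h2d : 2 ∣ Nat.card W := by rw [← h2]; exact Subgroup.card_dvd_of_le hAW
      have hne4 : Nat.card W ≠ 4 := by
        intro h
        apply hWne
        apply Subgroup.eq_of_le_of_card_ge hWQ
        rw [h, hcQ]
      have hle : Nat.card W ≤ 4 := Nat.le_of_dvd (by norm_num) hd
      rw [h2]
      interval_cases h : Nat.card W
      · omega
      · omega
      · omega
      · omega
      · omega
    have hgz : g * D.z * g⁻¹ ∈ A := by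
      rw [← hWA]
      refine Subgroup.mem_inf.mpr ⟨hZn.conj_mem _ D.z_mem_center g, hconjQ _ (hWQ hzW)⟩
    apply hb
    have ha₀z : a₀ ∈ Subgroup.zpowers D.z := by rw [hzA]; exact ha₀A
    obtain ⟨i, rfl⟩ := Subgroup.mem_zpowers_iff.mp ha₀z
    rw [conj_zpow']
    exact Subgroup.zpow_mem _ hgz i
  · -- card A = 4
    have hcle : Subgroup.zpowers D.c ≤ A := by
      apply cyclic_le_of_card_dvd' D.C _ _ hCcyc _ hAC
      · rw [Nat.card_zpowers, D.orderOf_c, h4]
      · rw [Subgroup.zpowers_le]; exact D.c_mem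
    have hcA : Subgroup.zpowers D.c = A := by
      apply Subgroup.eq_of_le_of_card_ge hcle
      rw [Nat.card_zpowers, D.orderOf_c, h4]
    have hcQ : Nat.card Q = 8 := by rw [← hcardQ, h4]
    have hcmemQ : D.c ∈ Q := hAQ (hcle (Subgroup.mem_zpowers _))
    rcases D.hsq t₀ (hQT ht₀Q) ht₀C with hsq1 | hsq2
    · exfalso
      apply hgA
      rw [← hcA]
      apply mem_normalizer_zpowers
      rw [hcA]
      by_contra hq
      set q := g * D.c * g⁻¹ with hqdef
      have hqQ : q ∈ Q := hconjQ _ hcmemQ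
      have hidx' : (A.subgroupOf Q).index = 2 := hidx
      have hmem : (⟨q, hqQ⟩ : ↥Q) * (⟨t₀, ht₀Q⟩ : ↥Q)⁻¹ ∈ A.subgroupOf Q := by
        rw [Subgroup.mul_mem_iff_of_index_two hidx', Subgroup.inv_mem_iff]
        apply iff_of_false
        · rw [Subgroup.mem_subgroupOf]; exact hq
        · rw [Subgroup.mem_subgroupOf]
          exact fun h => ht₀C (hAC h)
      rw [Subgroup.mem_subgroupOf] at hmem
      have hmem' : q * t₀⁻¹ ∈ Subgroup.zpowers D.c := by rw [hcA]; exact hmem
      have hinv := D.conj_inv_of_mem_zpowers_c (hQT ht₀Q) ht₀C hmem'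
      have hqq : q * q = 1 := by
        have e : q * q = (q * t₀⁻¹) * (t₀ * (q * t₀⁻¹) * t₀⁻¹) * (t₀ * t₀) := by group
        rw [e, hinv, hsq1]; group
      have ho : orderOf q = 4 := by
        have := MulEquiv.orderOf_eq (MulAut.conj g) D.c
        rw [MulAut.conj_apply] at this
        rw [hqdef, this, D.orderOf_c]
      have := orderOf_dvd_of_pow_eq_one (show q ^ 2 = 1 by rw [pow_two]; exact hqq)
      rw [ho] at this
      omega
    · obtain ⟨ψ, hinj, hψa, hψx⟩ := exists_quatHom 2 (by norm_num) D.c t₀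
        (by rw [D.orderOf_c]) (by rw [hsq2, D.c_sq]; rfl) (D.inv_c (hQT ht₀Q) ht₀C)
      have hrange : ∀ y, ψ y ∈ Q := by
        intro y
        have hy : y ∈ Subgroup.closure ({QuaternionGroup.a 1, QuaternionGroup.xa 0} :
            Set (QuaternionGroup 2)) := by
          rw [quaternionGroup_closure 2]; exact Subgroup.mem_top y
        have hle : Subgroup.closure ({QuaternionGroup.a 1, QuaternionGroup.xa 0} :
            Set (QuaternionGroup 2)) ≤ Q.comap ψ := by
          rw [Subgroup.closure_le]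
          intro w hw
          rcases hw with rfl | rfl
          · show ψ _ ∈ Q; rw [hψa]; exact hcmemQ
          · show ψ _ ∈ Q; rw [hψx]; exact ht₀Q
        exact hle hy
      let ψ' : QuaternionGroup 2 →* ↥Q := ψ.codRestrict Q hrange
      have hinj' : Function.Injective ψ' := by
        intro u v huv
        apply hinj
        have := congrArg Subtype.val huv
        exact this
      have hbij : Function.Bijective ψ' := by
        rw [Nat.bijective_iff_injective_and_card]
        refine ⟨hinj', ?_⟩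
        rw [hcQ, Nat.card_eq_fintype_card, QuaternionGroup.card]
      exact ⟨(MulEquiv.ofBijective ψ' hbij).symm⟩

end Cfsg.Agent.Lib.helper17.SD
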