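import Mathlib
import Cfsg.Agent.Lib.helper17.SD3

set_option autoImplicit false

namespace Cfsg.Agent.Lib.helper17.SD

open Cfsg.Agent.Lib.Helper21 Cfsg.Agent.Lib.helper14 Cfsg.Agent.Lib.Helper1 QuaternionGroup

variable {G : Type*} [Group G] [Finite G]

/-- An odd-order element normalizing `Q ≅ Q₈` has its cube centralizing `Q`
(extracted from the proof of `exists_sl23_section` of helper21). -/
theorem pow_three_mem_centralizer (Q : Subgroup G) (eQ : Q ≃* QuaternionGroup 2) (g : G)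
    (hgQ : g ∈ Subgroup.normalizer (Q : Set G)) (hodd : (orderOf g).Coprime 2) :
    g ^ 3 ∈ Subgroup.centralizer (Q : Set G) := by
  classical
  by_cases hgC : g ∈ Subgroup.centralizer (Q : Set G)
  · exact Subgroup.pow_mem _ hgC 3
  have hQ8 : Nat.card Q = 8 := by
    rw [Nat.card_congr eQ.toEquiv, Nat.card_eq_fintype_card, QuaternionGroup.card]
  have hconjQ : ∀ h : G, h ∈ Subgroup.normalizer (Q : Set G) → ∀ q ∈ Q, h * q * h⁻¹ ∈ Q :=
    fun h hh q hq => (Subgroup.mem_normalizer_iff.mp hh q).mp hq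
  have hggQ : g * g ∈ Subgroup.normalizer (Q : Set G) := Subgroup.mul_mem _ hgQ hgQ
  have hoddgg : (orderOf (g * g)).Coprime 2 := by
    rw [← pow_two]; exact Nat.Coprime.coprime_dvd_left (orderOf_pow_dvd 2) hodd
  have hg3Q : g ^ 3 ∈ Subgroup.normalizer (Q : Set G) := Subgroup.pow_mem _ hgQ 3
  have hoddg3 : (orderOf (g ^ 3)).Coprime 2 :=
    Nat.Coprime.coprime_dvd_left (orderOf_pow_dvd 3) hodd
  have hggC : g * g ∉ Subgroup.centralizer (Q : Set G) := by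
    intro h
    apply hgC
    obtain ⟨m, hm⟩ : ∃ m, orderOf g = 2 * m + 1 := by
      obtain ⟨m, hm⟩ := Nat.coprime_two_right.mp hodd
      exact ⟨m, hm⟩
    have hpow : (g * g) ^ (m + 1) = g := by
      rw [← pow_two, ← pow_mul, show 2 * (m + 1) = (2 * m + 1) + 1 by ring, pow_succ, ← hm,
        pow_orderOf_eq_one, one_mul]
    rw [← hpow]
    exact Subgroup.pow_mem _ h _
  have key1 : ∀ q ∈ Q, orderOf q = 4 → g * q * g⁻¹ ≠ q ∧ g * q * g⁻¹ ≠ q⁻¹ := by
    intro q hq h4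
    constructor <;> intro h
    · exact hgC (odd_centralizes_of_conj_order_four Q hQ8 q hq h4 g hgQ hodd (Or.inl h))
    · exact hgC (odd_centralizes_of_conj_order_four Q hQ8 q hq h4 g hgQ hodd (Or.inr h))
  have key2 : ∀ q ∈ Q, orderOf q = 4 →
      (g * g) * q * (g * g)⁻¹ ≠ q ∧ (g * g) * q * (g * g)⁻¹ ≠ q⁻¹ := by
    intro q hq h4
    constructor <;> intro h
    · exact hggC (odd_centralizes_of_conj_order_four Q hQ8 q hq h4 (g * g) hggQ hoddgg (Or.inl h))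
    · exact hggC (odd_centralizes_of_conj_order_four Q hQ8 q hq h4 (g * g) hggQ hoddgg (Or.inr h))
  have hconj4 : ∀ q : G, orderOf q = 4 → orderOf (g * q * g⁻¹) = 4 := by
    intro q h4
    have := MulEquiv.orderOf_eq (MulAut.conj g) q
    rw [MulAut.conj_apply] at this
    rw [this, h4]
  set Qi : Q := eQ.symm (a 1) with hQi
  have hi4 : orderOf (Qi : G) = 4 := by
    rw [Subgroup.orderOf_coe, ← MulEquiv.orderOf_eq eQ, hQi, MulEquiv.apply_symm_apply]
    exact q8_orderOf_four _ (by decide)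
  set Qj : Q := ⟨g * Qi * g⁻¹, hconjQ g hgQ _ Qi.2⟩ with hQj
  have hj4 : orderOf (Qj : G) = 4 := hconj4 _ hi4
  set Qk : Q := ⟨g * Qj * g⁻¹, hconjQ g hgQ _ Qj.2⟩ with hQk
  have hk4 : orderOf (Qk : G) = 4 := hconj4 _ hj4
  set Ql : Q := ⟨g * Qk * g⁻¹, hconjQ g hgQ _ Qk.2⟩ with hQl
  have hl4 : orderOf (Ql : G) = 4 := hconj4 _ hk4
  have hne : ∀ A B : Q, (A : G) ≠ B → eQ A ≠ eQ B := fun A B h heq =>
    h (congrArg Subtype.val (eQ.injective heq))
  have hne' : ∀ A B : Q, (A : G) ≠ (B : G)⁻¹ → eQ A ≠ (eQ B)⁻¹ := by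
    intro A B h heq
    rw [← map_inv] at heq
    apply h
    have := congrArg Subtype.val (eQ.injective heq)
    simpa using this
  have hsq : ∀ A : Q, orderOf (A : G) = 4 → eQ A * eQ A ≠ 1 := by
    intro A h4 heq
    rw [← map_mul, ← map_one eQ] at heq
    have := congrArg Subtype.val (eQ.injective heq)
    have h2 : (A : G) ^ 2 = 1 := by rw [pow_two]; simpa using this
    have := orderOf_dvd_of_pow_eq_one h2
    rw [h4] at this
    omega
  have hkg : (Qk : G) = (g * g) * Qi * (g * g)⁻¹ := by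
    show g * (g * Qi * g⁻¹) * g⁻¹ = _
    group
  have hlg : (Ql : G) = (g * g) * Qj * (g * g)⁻¹ := by
    show g * (g * Qj * g⁻¹) * g⁻¹ = _
    group
  have hlg3 : (Ql : G) = g ^ 3 * Qi * (g ^ 3)⁻¹ := by
    have e3 : g ^ 3 = g * g * g := by rw [pow_succ, pow_succ, pow_one]
    rw [e3]
    show g * (g * (g * Qi * g⁻¹) * g⁻¹) * g⁻¹ = _
    group
  obtain ⟨hL2a, -⟩ := q8_L2 (eQ Qi) (eQ Qj) (eQ Qk) (eQ Ql) (hsq Qi hi4) (hsq Qj hj4)
    (hsq Qk hk4) (hsq Ql hl4)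
    (hne Qj Qi (key1 Qi Qi.2 hi4).1) (hne' Qj Qi (key1 Qi Qi.2 hi4).2)
    (hne Qk Qj (key1 Qj Qj.2 hj4).1) (hne' Qk Qj (key1 Qj Qj.2 hj4).2)
    (hne Qk Qi (by rw [hkg]; exact (key2 Qi Qi.2 hi4).1))
    (hne' Qk Qi (by rw [hkg]; exact (key2 Qi Qi.2 hi4).2))
    (hne Ql Qk (key1 Qk Qk.2 hk4).1) (hne' Ql Qk (key1 Qk Qk.2 hk4).2)
    (hne Ql Qj (by rw [hlg]; exact (key2 Qj Qj.2 hj4).1))
    (hne' Ql Qj (by rw [hlg]; exact (key2 Qj Qj.2 hj4).2))
  apply odd_centralizes_of_conj_order_four Q hQ8 Qi Qi.2 hi4 (g ^ 3) hg3Q hoddg3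
  rw [← hlg3]
  rcases hL2a with h | h
  · left
    exact congrArg Subtype.val (eQ.injective h)
  · right
    rw [← map_inv] at h
    have := congrArg Subtype.val (eQ.injective h)
    simpa using this

end Cfsg.Agent.Lib.helper17.SD
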