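import Mathlib
import Cfsg.Agent.Lib.helper17.SD4

set_option autoImplicit false

namespace Cfsg.Agent.Lib.helper17.SD

open Cfsg.Agent.Lib.Helper21 Cfsg.Agent.Lib.helper14 Cfsg.Agent.Lib.Helper1 QuaternionGroup

/-- the 24 admissible images of the generating pair of `Q₈` under an automorphism -/
def pairs24 : Finset (QuaternionGroup 2 × QuaternionGroup 2) :=
  Finset.univ.filter (fun p => p.1 * p.1 ≠ 1 ∧ p.2 * p.2 ≠ 1 ∧ p.2 ≠ p.1 ∧ p.2 ≠ p.1⁻¹)

set_option maxRecDepth 100000 in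
theorem card_pairs24 : pairs24.card = 24 := by decide

theorem q8_center : ∀ w : QuaternionGroup 2, w * a 1 = a 1 * w → w * xa 0 = xa 0 * w →
    w = 1 ∨ w = a 2 := by decide

variable {G : Type*} [Group G] [Finite G]

theorem card_le_48 (Q : Subgroup G) (hQn : Q.Normal) (eQ : Q ≃* QuaternionGroup 2)
    (hCQ : Subgroup.centralizer (Q : Set G) ≤ Q) : Nat.card G ≤ 48 := by
  classical
  set i₀ : Q := eQ.symm (a 1) with hi₀
  set j₀ : Q := eQ.symm (xa 0) with hj₀
  have hei : eQ i₀ = a 1 := by rw [hi₀, MulEquiv.apply_symm_apply]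
  have hej : eQ j₀ = xa 0 := by rw [hj₀, MulEquiv.apply_symm_apply]
  have hgen : ∀ L : Subgroup G, (i₀ : G) ∈ L → (j₀ : G) ∈ L → Q ≤ L :=
    (q8_rel_transport Q eQ i₀ j₀ (by rw [hei]; decide) (by rw [hej]; decide)
      (by rw [hei, hej]; decide) (by rw [hei, hej]; decide)).2.2.2
  set Z₀ : Subgroup G := Subgroup.centralizer (Q : Set G) with hZ₀
  -- the center has at most two elements
  have hZ2 : Nat.card Z₀ ≤ 2 := by
    have hsub : (Z₀ : Set G) ⊆ {1, ((eQ.symm (a 2) : Q) : G)} := by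
      intro z hz
      have hzQ : z ∈ Q := hCQ hz
      have hz' := Subgroup.mem_centralizer_iff.mp hz
      have h1 : eQ ⟨z, hzQ⟩ * a 1 = a 1 * eQ ⟨z, hzQ⟩ := by
        rw [← hei, ← map_mul, ← map_mul]
        congr 1
        apply Subtype.ext
        exact (hz' i₀ i₀.2).symm
      have h2 : eQ ⟨z, hzQ⟩ * xa 0 = xa 0 * eQ ⟨z, hzQ⟩ := by
        rw [← hej, ← map_mul, ← map_mul]
        congr 1
        apply Subtype.ext
        exact (hz' j₀ j₀.2).symm
      rcases q8_center _ h1 h2 with h | h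
      · left
        have : (⟨z, hzQ⟩ : Q) = 1 := eQ.injective (by rw [h, map_one])
        exact congrArg Subtype.val this
      · right
        have : (⟨z, hzQ⟩ : Q) = eQ.symm (a 2) := by
          apply eQ.injective; rw [h, MulEquiv.apply_symm_apply]
        exact congrArg Subtype.val this
    calc Nat.card Z₀ = (Z₀ : Set G).ncard := (Nat.card_coe_set_eq _)
      _ ≤ ({1, ((eQ.symm (a 2) : Q) : G)} : Set G).ncard := Set.ncard_le_ncard hsub (Set.toFinite _)
      _ ≤ 2 := by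
        refine (Set.ncard_insert_le _ _).trans ?_
        rw [Set.ncard_singleton]
  -- the map
  let f : G → QuaternionGroup 2 × QuaternionGroup 2 := fun h =>
    (eQ ⟨h * i₀ * h⁻¹, hQn.conj_mem _ i₀.2 h⟩, eQ ⟨h * j₀ * h⁻¹, hQn.conj_mem _ j₀.2 h⟩)
  have hf_mem : ∀ h, f h ∈ pairs24 := by
    intro h
    unfold pairs24
    rw [Finset.mem_filter]
    refine ⟨Finset.mem_univ _, ?_, ?_, ?_, ?_⟩
    · intro hc
      have h1 : (⟨h * i₀ * h⁻¹, hQn.conj_mem _ i₀.2 h⟩ : Q) * ⟨h * i₀ * h⁻¹, hQn.conj_mem _ i₀.2 h⟩ = 1 :=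
        eQ.injective (by rw [map_mul, map_one]; exact hc)
      have h2 := congrArg Subtype.val h1
      have h3 : (i₀ : G) * i₀ = 1 := by
        have : (h * i₀ * h⁻¹) * (h * i₀ * h⁻¹) = 1 := h2
        have e : (i₀ : G) * i₀ = h⁻¹ * ((h * i₀ * h⁻¹) * (h * i₀ * h⁻¹)) * h := by group
        rw [e, this]; group
      have h4 : i₀ * i₀ = 1 := Subtype.ext h3
      have h5 := congrArg eQ h4
      rw [map_mul, hei, map_one] at h5
      revert h5; decide
    · intro hc
      have h1 : (⟨h * j₀ * h⁻¹, hQn.conj_mem _ j₀.2 h⟩ : Q) * ⟨h * j₀ * h⁻¹, hQn.conj_mem _ j₀.2 h⟩ = 1 :=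
        eQ.injective (by rw [map_mul, map_one]; exact hc)
      have h2 := congrArg Subtype.val h1
      have h3 : (j₀ : G) * j₀ = 1 := by
        have : (h * j₀ * h⁻¹) * (h * j₀ * h⁻¹) = 1 := h2
        have e : (j₀ : G) * j₀ = h⁻¹ * ((h * j₀ * h⁻¹) * (h * j₀ * h⁻¹)) * h := by group
        rw [e, this]; group
      have h4 : j₀ * j₀ = 1 := Subtype.ext h3
      have h5 := congrArg eQ h4
      rw [map_mul, hej, map_one] at h5
      revert h5; decide
    · intro hc
      have h1 := congrArg Subtype.val (eQ.injective hc)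
      have h2 : (j₀ : G) = i₀ := by
        have : h * j₀ * h⁻¹ = h * i₀ * h⁻¹ := h1
        have e : (j₀ : G) = h⁻¹ * (h * j₀ * h⁻¹) * h := by group
        rw [e, this]; group
      have h3 : j₀ = i₀ := Subtype.ext h2
      have h4 := congrArg eQ h3
      rw [hei, hej] at h4
      revert h4; decide
    · intro hc
      have hc' : eQ ⟨h * j₀ * h⁻¹, hQn.conj_mem _ j₀.2 h⟩ =
          eQ (⟨h * i₀ * h⁻¹, hQn.conj_mem _ i₀.2 h⟩ : Q)⁻¹ := by rw [map_inv]; exact hc
      have h1 := congrArg Subtype.val (eQ.injective hc')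
      have h2 : (j₀ : G) = (i₀ : G)⁻¹ := by
        have : h * j₀ * h⁻¹ = (h * i₀ * h⁻¹)⁻¹ := h1
        have e : (j₀ : G) = h⁻¹ * (h * j₀ * h⁻¹) * h := by group
        rw [e, this]; group
      have h3 : j₀ = i₀⁻¹ := Subtype.ext h2
      have h4 := congrArg eQ h3
      rw [map_inv, hei, hej] at h4
      revert h4; decide
  have hfiber : ∀ h h', f h = f h' ↔ h⁻¹ * h' ∈ Z₀ := by
    intro h h'
    constructor
    · intro hff
      have e1 := congrArg Subtype.val (eQ.injective (congrArg Prod.fst hff))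
      have e2 := congrArg Subtype.val (eQ.injective (congrArg Prod.snd hff))
      have e1' : h * i₀ * h⁻¹ = h' * i₀ * h'⁻¹ := e1
      have e2' : h * j₀ * h⁻¹ = h' * j₀ * h'⁻¹ := e2
      have hL := hgen (Subgroup.centralizer ({h⁻¹ * h'} : Set G)) (by
        rw [Subgroup.mem_centralizer_iff]
        intro y hy
        rw [Set.mem_singleton_iff] at hy
        rw [hy]
        have : (h⁻¹ * h') * i₀ * (h⁻¹ * h')⁻¹ = i₀ := by
          have e : (h⁻¹ * h') * i₀ * (h⁻¹ * h')⁻¹ = h⁻¹ * (h' * i₀ * h'⁻¹) * h := by group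
          rw [e, ← e1']; group
        calc h⁻¹ * h' * i₀ = ((h⁻¹ * h') * i₀ * (h⁻¹ * h')⁻¹) * (h⁻¹ * h') := by group
          _ = i₀ * (h⁻¹ * h') := by rw [this]) (by
        rw [Subgroup.mem_centralizer_iff]
        intro y hy
        rw [Set.mem_singleton_iff] at hy
        rw [hy]
        have : (h⁻¹ * h') * j₀ * (h⁻¹ * h')⁻¹ = j₀ := by
          have e : (h⁻¹ * h') * j₀ * (h⁻¹ * h')⁻¹ = h⁻¹ * (h' * j₀ * h'⁻¹) * h := by group
          rw [e, ← e2']; group
        calc h⁻¹ * h' * j₀ = ((h⁻¹ * h') * j₀ * (h⁻¹ * h')⁻¹) * (h⁻¹ * h') := by group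
          _ = j₀ * (h⁻¹ * h') := by rw [this])
      rw [hZ₀, Subgroup.mem_centralizer_iff]
      intro q hq
      have := Subgroup.mem_centralizer_iff.mp (hL hq) (h⁻¹ * h') rfl
      exact this.symm
    · intro hz
      have hz' := Subgroup.mem_centralizer_iff.mp hz
      have key : ∀ q : Q, h' * q * h'⁻¹ = h * q * h⁻¹ := by
        intro q
        have hc := hz' q q.2
        have e : h' * q * h'⁻¹ = h * ((h⁻¹ * h') * q) * (h⁻¹ * h')⁻¹ * h⁻¹ := by group
        rw [e, ← hc]; group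
      show (eQ ⟨h * i₀ * h⁻¹, _⟩, eQ ⟨h * j₀ * h⁻¹, _⟩) = (eQ ⟨h' * i₀ * h'⁻¹, _⟩, eQ ⟨h' * j₀ * h'⁻¹, _⟩)
      congr 2
      · exact Subtype.ext (key i₀).symm
      · exact Subtype.ext (key j₀).symm
  -- quotient map
  let φ : G ⧸ Z₀ → {p // p ∈ pairs24} := Quotient.lift (fun h => (⟨f h, hf_mem h⟩ : {p // p ∈ pairs24}))
    (by
      intro h h' hr
      have : h⁻¹ * h' ∈ Z₀ := QuotientGroup.leftRel_apply.mp hr
      exact Subtype.ext ((hfiber h h').mpr this))
  have hφ : Function.Injective φ := by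
    intro u v
    refine Quotient.inductionOn₂ u v ?_
    intro h h' huv
    have h1 : f h = f h' := congrArg Subtype.val huv
    exact Quotient.sound (QuotientGroup.leftRel_apply.mpr ((hfiber h h').mp h1))
  have hq : Nat.card (G ⧸ Z₀) ≤ 24 := by
    have h1 := Nat.card_le_card_of_injective φ hφ
    have h2 : Nat.card {p // p ∈ pairs24} = 24 := by
      rw [Nat.card_eq_fintype_card, Fintype.card_coe, card_pairs24]
    rwa [h2] at h1
  have := Subgroup.card_eq_card_quotient_mul_card_subgroup Z₀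
  rw [this]
  calc Nat.card (G ⧸ Z₀) * Nat.card Z₀ ≤ 24 * 2 := Nat.mul_le_mul hq hZ2
    _ = 48 := by norm_num

end Cfsg.Agent.Lib.helper17.SD
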