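import Mathlib
import Cfsg.Prelude.Def_Classical
import Cfsg.Agent.Lib.helper23.P4V.Defs
import Cfsg.Agent.Lib.helper17.P4VG4core
import Cfsg.Agent.Lib.Helper29.P4VG2
import Cfsg.Agent.Lib.Helper18.P4VG3A
import Cfsg.Agent.Lib.Helper18.P4VG3B

/-!
# P4V row G4 (`insig_prod`), helper17.  Verbatim statement of `helper23/P4V/Skel.lean.txt`.
-/

set_option autoImplicit false

namespace Cfsg.Agent.Lib.helper23.P4V

open Matrix

universe u

section Field

variable {F : Type u} [Field F]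

/-- **G4** (assembly). -/
theorem insig_prod [Fintype F] (τ ν : F) (hG : Good τ ν) (B : M2 F) (hB : InSig ν B) :
    ∃ A₁ A₂ : M2 F, A₁.trace = τ ∧ A₁.det = ν ∧ A₂.trace = τ ∧ A₂.det = ν ∧ A₁ * A₂ = B :=
  p4vg4_core τ ν hG B hB (fun B hB => conj_companion B hB)
    (fun β hirr => conic_irred τ ν β hirr)
    (fun β ρ hτ hν hβ hρ => conic_split τ ν β ρ hτ hν hβ hρ)

end Field

end Cfsg.Agent.Lib.helper23.P4V
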