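import Cfsg.Agent.Lib.helper6.TS4.Defs

/-!
# TS4 / NT4 (helper17): core of `nt_world4` (assembly)

`ts4nt4_core`: `M ≤ T0` from `UfpA`, and the STATEMENTS of `meetA_of_ufpA`, `genA_of_meetA`, `burn_false` (for this `M`) as hypotheses.
-/

set_option autoImplicit false
set_option linter.unusedSectionVars false
set_option linter.unusedVariables false

namespace Cfsg.Agent.Lib.Helper21.TS

open Matrix
open scoped Kronecker
open Cfsg.Agent.Lib.helper7.TP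

variable {a b : ℕ} {F : Type*} [Field F]
variable {J1 : Matrix (Fin a) (Fin a) F} {J2 : Matrix (Fin b) (Fin b) F}

/-- CORE of NT4. -/
theorem ts4nt4_core [Fintype F] (ha : 1 ≤ a)
    (M : Subgroup (Matrix.GeneralLinearGroup (Fin a × Fin b) F)) (hMS : M ≤ SpV J1 J2)
    (hU : UfpA J1 J2 M)
    (hMeet : ∀ (p : ℕ) [Fact p.Prime] [CharP F p], UfpA J1 J2 M →
      ∀ g : Matrix.GeneralLinearGroup (Fin a × Fin b) F, g ∈ M → ∀ u₀ u : Fin a → F, u₀ ≠ 0 → u ≠ 0 →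
        ∃ u' : Fin a → F, u' ≠ 0 ∧ MeetAt J1 J2 g u₀ u u')
    (hGen : ∀ g : Matrix.GeneralLinearGroup (Fin a × Fin b) F, g ∈ M → g ∉ K0 a b F →
      ∀ u₀ : Fin a → F, u₀ ≠ 0 →
        (∀ u : Fin a → F, u ≠ 0 → ∃ u' : Fin a → F, u' ≠ 0 ∧ MeetAt J1 J2 g u₀ u u') →
        GenA J1 J2 g u₀)
    (hBurn : ∀ (p : ℕ) [Fact p.Prime] [CharP F p],
      ∀ g : Matrix.GeneralLinearGroup (Fin a × Fin b) F, g ∈ M → ∀ u₀ : Fin a → F, u₀ ≠ 0 →
        GenA J1 J2 g u₀ → False) :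
    M ≤ T0 J1 J2 := by
  classical
  haveI : CharP F (ringChar F) := ringChar.charP F
  haveI : Fact (ringChar F).Prime := ⟨CharP.char_is_prime F (ringChar F)⟩
  intro g hg
  refine Subgroup.mem_inf.mpr ⟨?_, hMS hg⟩
  by_contra hgK
  have hu₀ : (Pi.single (⟨0, ha⟩ : Fin a) (1 : F) : Fin a → F) ≠ 0 := by
    intro h
    have := congrFun h ⟨0, ha⟩
    simp at this
  have hME : ∀ u : Fin a → F, u ≠ 0 → ∃ u' : Fin a → F, u' ≠ 0 ∧
      MeetAt J1 J2 g (Pi.single (⟨0, ha⟩ : Fin a) (1 : F)) u u' :=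
    fun u hu => hMeet (ringChar F) hU g hg _ u hu₀ hu
  exact hBurn (ringChar F) g hg _ hu₀ (hGen g hg hgK _ hu₀ hME)

end Cfsg.Agent.Lib.Helper21.TS
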