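import Mathlib
import Cfsg.Agent.Lib.Helper28.BP2.Defs

/-!
# BP2 row B1 (`stepB_nonsquare`), helper17.  Verbatim statement of `Helper28/BP2/Skel.lean.txt`.
Own extras are prefixed `bp2b1_`.
-/

set_option autoImplicit false

namespace Cfsg.Agent.Lib.Helper28.BP2

open Cfsg.Agent.Lib.helper14

universe u

section
variable {F : Type u} [Field F]

/-- the Weyl element `!![0,-1;1,0]`. -/
def bp2b1_w : SL2 F := ⟨!![0, -1; 1, 0], by rw [Matrix.det_fin_two_of]; ring⟩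

/-- its inverse `!![0,1;-1,0]`. -/
def bp2b1_wi : SL2 F := ⟨!![0, 1; -1, 0], by rw [Matrix.det_fin_two_of]; ring⟩

theorem bp2b1_w_coe : ((bp2b1_w : SL2 F) : Matrix (Fin 2) (Fin 2) F) = !![0, -1; 1, 0] := rfl

theorem bp2b1_wi_coe : ((bp2b1_wi : SL2 F) : Matrix (Fin 2) (Fin 2) F) = !![0, 1; -1, 0] := rfl

theorem bp2b1_eta (g : SL2 F) : ((g : SL2 F) : Matrix (Fin 2) (Fin 2) F) =
    !![(g : Matrix (Fin 2) (Fin 2) F) 0 0, (g : Matrix (Fin 2) (Fin 2) F) 0 1;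
       (g : Matrix (Fin 2) (Fin 2) F) 1 0, (g : Matrix (Fin 2) (Fin 2) F) 1 1] :=
  Matrix.eta_fin_two _

theorem bp2b1_w_inv : (bp2b1_w : SL2 F)⁻¹ = bp2b1_wi := by
  apply inv_eq_of_mul_eq_one_right
  apply Subtype.ext
  rw [sl2_coe_mul, bp2b1_w_coe, bp2b1_wi_coe, sl2_coe_one, Matrix.mul_fin_two, Matrix.one_fin_two]
  apply m2_congr <;> ring

theorem bp2b1_lS_inv (x : F) : (lS x)⁻¹ = lS (-x) := by
  apply inv_eq_of_mul_eq_one_right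
  rw [lS_mul, add_neg_cancel, lS_zero]

theorem bp2b1_dg_inv (μ : Fˣ) : (dg μ : SL2 F)⁻¹ = dg μ⁻¹ := by
  apply inv_eq_of_mul_eq_one_right
  apply Subtype.ext
  rw [sl2_coe_mul, dg_coe, dg_coe, sl2_coe_one, Matrix.mul_fin_two, Matrix.one_fin_two, inv_inv]
  apply m2_congr <;> simp

/-- every element of `SL₂` written with four entries. -/
theorem bp2b1_entries (g : SL2 F) : ∃ a b c d : F,
    (g : Matrix (Fin 2) (Fin 2) F) = !![a, b; c, d] ∧ a * d - b * c = 1 := by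
  refine ⟨_, _, _, _, Matrix.eta_fin_two _, sl2_det g⟩

/-- for `US F ≤ K`: an upper triangular `h` whose `(0,0)` entry `μ` has `dg μ ∈ K` lies in `K`. -/
theorem bp2b1_mem (K : Subgroup (SL2 F)) (hU : US F ≤ K) (μ : Fˣ) (hμ : dg μ ∈ K) (h : SL2 F)
    (h10 : (h : Matrix (Fin 2) (Fin 2) F) 1 0 = 0)
    (h00 : (h : Matrix (Fin 2) (Fin 2) F) 0 0 = μ) : h ∈ K := by
  obtain ⟨a, b, c, d, hab, hdet⟩ := bp2b1_entries h
  rw [hab] at h10 h00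
  have hc : c = 0 := h10
  have ha : a = μ := h00
  subst hc
  rw [mul_zero, sub_zero, ha] at hdet
  have hd : d = ((μ⁻¹ : Fˣ) : F) := by
    rw [Units.val_inv_eq_inv_val]
    exact eq_inv_of_mul_eq_one_right hdet
  have : h = dg μ * uS (((μ⁻¹ : Fˣ) : F) * b) := by
    apply Subtype.ext
    rw [sl2_coe_mul, dg_coe, uS_coe, hab, Matrix.mul_fin_two, ha, hd]
    apply m2_congr
    · ring
    · rw [zero_mul, add_zero, ← mul_assoc, ← Units.val_mul, mul_inv_cancel, Units.val_one, one_mul]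
    · ring
    · ring
  rw [this]
  exact K.mul_mem hμ (hU (uS_mem _))

/-- for `US F ≤ K ≤ BS F`: the diagonal part of `h ∈ K` lies in `K`. -/
theorem bp2b1_diag (K : Subgroup (SL2 F)) (hU : US F ≤ K) (hB : K ≤ BS F) (h : SL2 F)
    (hh : h ∈ K) : (h : Matrix (Fin 2) (Fin 2) F) 1 0 = 0 ∧
      ∃ μ : Fˣ, (h : Matrix (Fin 2) (Fin 2) F) 0 0 = μ ∧
        (h : Matrix (Fin 2) (Fin 2) F) 1 1 = ((μ⁻¹ : Fˣ) : F) ∧ dg μ ∈ K := by
  have h10 : (h : Matrix (Fin 2) (Fin 2) F) 1 0 = 0 := (mem_BS h).mp (hB hh)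
  refine ⟨h10, ?_⟩
  obtain ⟨a, b, c, d, hab, hdet⟩ := bp2b1_entries h
  rw [hab] at h10 ⊢
  have hc : c = 0 := h10
  subst hc
  rw [mul_zero, sub_zero] at hdet
  have hdet' : d * a = 1 := by rw [mul_comm]; exact hdet
  refine ⟨⟨a, d, hdet, hdet'⟩, rfl, rfl, ?_⟩
  have : dg (⟨a, d, hdet, hdet'⟩ : Fˣ) = h * uS (-(d * b)) := by
    apply Subtype.ext
    rw [sl2_coe_mul, dg_coe, uS_coe, hab, Matrix.mul_fin_two]
    apply m2_congr
    · simp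
    · have : a * (d * b) = b := by rw [← mul_assoc, hdet, one_mul]
      linear_combination this
    · simp
    · simp
  rw [this]
  exact K.mul_mem hh (hU (uS_mem _))

/-- `(1,0)` entry of `w⁻¹ g w`. -/
theorem bp2b1_conj_w_entry (g : SL2 F) :
    ((bp2b1_w⁻¹ * g * bp2b1_w : SL2 F) : Matrix (Fin 2) (Fin 2) F) 1 0 =
      -(g : Matrix (Fin 2) (Fin 2) F) 0 1 := by
  obtain ⟨a, b, c, d, hab, -⟩ := bp2b1_entries g
  rw [bp2b1_w_inv, sl2_coe_mul, sl2_coe_mul, hab, bp2b1_w_coe, bp2b1_wi_coe, Matrix.mul_fin_two,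
    Matrix.mul_fin_two]
  simp

/-- `(1,0)` entry of `(lS y)⁻¹ g (lS x)`. -/
theorem bp2b1_conj_lS_entry (g : SL2 F) (x y : F) :
    (((lS y)⁻¹ * g * lS x : SL2 F) : Matrix (Fin 2) (Fin 2) F) 1 0 =
      -y * ((g : Matrix (Fin 2) (Fin 2) F) 0 0 + (g : Matrix (Fin 2) (Fin 2) F) 0 1 * x) +
        ((g : Matrix (Fin 2) (Fin 2) F) 1 0 + (g : Matrix (Fin 2) (Fin 2) F) 1 1 * x) := by
  obtain ⟨a, b, c, d, hab, -⟩ := bp2b1_entries g
  rw [bp2b1_lS_inv, sl2_coe_mul, sl2_coe_mul, hab, lS_coe, lS_coe, Matrix.mul_fin_two,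
    Matrix.mul_fin_two]
  simp
  ring

/-- `(0,0)` entry of `(lS y)⁻¹ g (lS x)`. -/
theorem bp2b1_conj_lS_entry00 (g : SL2 F) (x y : F) :
    (((lS y)⁻¹ * g * lS x : SL2 F) : Matrix (Fin 2) (Fin 2) F) 0 0 =
      (g : Matrix (Fin 2) (Fin 2) F) 0 0 + (g : Matrix (Fin 2) (Fin 2) F) 0 1 * x := by
  obtain ⟨a, b, c, d, hab, -⟩ := bp2b1_entries g
  rw [bp2b1_lS_inv, sl2_coe_mul, sl2_coe_mul, hab, lS_coe, lS_coe, Matrix.mul_fin_two,
    Matrix.mul_fin_two]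
  simp

/-- `w⁻¹ (lS c) w = uS (-c)`. -/
theorem bp2b1_conj_w_lS (c : F) : (bp2b1_w⁻¹ * lS c * bp2b1_w : SL2 F) = uS (-c) := by
  apply Subtype.ext
  rw [bp2b1_w_inv, sl2_coe_mul, sl2_coe_mul, lS_coe, uS_coe, bp2b1_w_coe, bp2b1_wi_coe,
    Matrix.mul_fin_two, Matrix.mul_fin_two]
  apply m2_congr <;> ring

end

section
variable {F : Type u} [Field F] [Fintype F]

/-- **B1** (three points). -/
theorem stepB_nonsquare (K : Subgroup (SL2 F)) (hU : US F ≤ K) (hB : K ≤ BS F) (l : Fˣ)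
    (hl : dg l ∈ K) (hns : ∀ ν : Fˣ, dg ν ∈ K → ν ^ 2 ≠ l) : ¬ BinS K := by
  intro hBin
  have hli : dg l⁻¹ ∈ K := by rw [← bp2b1_dg_inv]; exact K.inv_mem hl
  -- the three pairs
  have P01 : ∃ g : SL2 F, (1 : SL2 F)⁻¹ * g * 1 ∈ K ∧ (bp2b1_w : SL2 F)⁻¹ * g * bp2b1_w ∈ K := by
    refine ⟨1, ?_, ?_⟩
    · simp
    · simp
  have P02 : ∃ g : SL2 F, (1 : SL2 F)⁻¹ * g * 1 ∈ K ∧ (lS (l : F))⁻¹ * g * lS 1 ∈ K := by
    refine ⟨uS (((l⁻¹ : Fˣ) : F) - 1), ?_, ?_⟩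
    · rw [inv_one, one_mul, mul_one]; exact hU (uS_mem _)
    · apply bp2b1_mem K hU l⁻¹ hli
      · rw [bp2b1_conj_lS_entry, uS_coe]
        simp
      · rw [bp2b1_conj_lS_entry00, uS_coe]
        simp
  have P12 : ∃ g : SL2 F, (bp2b1_w : SL2 F)⁻¹ * g * bp2b1_w ∈ K ∧
      (lS (l : F))⁻¹ * g * lS 1 ∈ K := by
    refine ⟨lS ((l : F) - 1), ?_, ?_⟩
    · rw [bp2b1_conj_w_lS]; exact hU (uS_mem _)
    · rw [bp2b1_lS_inv, lS_mul, lS_mul]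
      have : -(l : F) + ((l : F) - 1) + 1 = 0 := by ring
      rw [this, lS_zero]
      exact K.one_mem
  have key := hBin 3 ![1, bp2b1_w, lS 1] ![1, bp2b1_w, lS (l : F)] (by norm_num) (by
    intro i j hij
    fin_cases i <;> fin_cases j
    · exact absurd rfl hij
    · exact P01
    · exact P02
    · obtain ⟨g, h1, h2⟩ := P01; exact ⟨g, h2, h1⟩
    · exact absurd rfl hij
    · exact P12
    · obtain ⟨g, h1, h2⟩ := P02; exact ⟨g, h2, h1⟩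
    · obtain ⟨g, h1, h2⟩ := P12; exact ⟨g, h2, h1⟩
    · exact absurd rfl hij)
  obtain ⟨g, hg⟩ := key
  have h0 : g ∈ K := by
    have := hg 0
    simpa using this
  have h1 : (bp2b1_w : SL2 F)⁻¹ * g * bp2b1_w ∈ K := hg 1
  have h2 : (lS (l : F))⁻¹ * g * lS 1 ∈ K := hg 2
  obtain ⟨g10, μ, g00, g11, hμ⟩ := bp2b1_diag K hU hB g h0
  have g01 : (g : Matrix (Fin 2) (Fin 2) F) 0 1 = 0 := by
    have := (mem_BS _).mp (hB h1)
    rw [bp2b1_conj_w_entry] at this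
    exact neg_eq_zero.mp this
  have h3 := (mem_BS _).mp (hB h2)
  rw [bp2b1_conj_lS_entry, g10, g01, g00, g11] at h3
  have hμi : dg μ⁻¹ ∈ K := by rw [← bp2b1_dg_inv]; exact K.inv_mem hμ
  apply hns μ⁻¹ hμi
  apply Units.ext
  rw [Units.val_pow_eq_pow_val]
  have hμμ : (μ : F) * ((μ⁻¹ : Fˣ) : F) = 1 := by
    rw [← Units.val_mul, mul_inv_cancel, Units.val_one]
  linear_combination (((μ⁻¹ : Fˣ) : F)) * h3 + (l : F) * hμμ

end

end Cfsg.Agent.Lib.Helper28.BP2
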