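import Mathlib
import Cfsg.Agent.Lib.Helper28.BP2.Defs
import Cfsg.Agent.Lib.helper17.BP2B1

/-!
# BP2 row B2 (`stepB_char2`), helper17.  Verbatim statement of `Helper28/BP2/Skel.lean.txt`.
Own extras are prefixed `bp2b2_`.
-/

set_option autoImplicit false

namespace Cfsg.Agent.Lib.Helper28.BP2

open Cfsg.Agent.Lib.helper14

universe u

section
variable {F : Type u} [Field F]

theorem bp2b2_mul3_10 (A g X : SL2 F) :
    ((A * g * X : SL2 F) : Matrix (Fin 2) (Fin 2) F) 1 0 =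
      ((A : Matrix (Fin 2) (Fin 2) F) 1 0 * (g : Matrix (Fin 2) (Fin 2) F) 0 0 +
        (A : Matrix (Fin 2) (Fin 2) F) 1 1 * (g : Matrix (Fin 2) (Fin 2) F) 1 0) *
          (X : Matrix (Fin 2) (Fin 2) F) 0 0 +
      ((A : Matrix (Fin 2) (Fin 2) F) 1 0 * (g : Matrix (Fin 2) (Fin 2) F) 0 1 +
        (A : Matrix (Fin 2) (Fin 2) F) 1 1 * (g : Matrix (Fin 2) (Fin 2) F) 1 1) *
          (X : Matrix (Fin 2) (Fin 2) F) 1 0 := by
  rw [sl2_coe_mul, sl2_coe_mul, Matrix.mul_apply, Fin.sum_univ_two, Matrix.mul_apply,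
    Matrix.mul_apply, Fin.sum_univ_two, Fin.sum_univ_two]

theorem bp2b2_mul3_00 (A g X : SL2 F) :
    ((A * g * X : SL2 F) : Matrix (Fin 2) (Fin 2) F) 0 0 =
      ((A : Matrix (Fin 2) (Fin 2) F) 0 0 * (g : Matrix (Fin 2) (Fin 2) F) 0 0 +
        (A : Matrix (Fin 2) (Fin 2) F) 0 1 * (g : Matrix (Fin 2) (Fin 2) F) 1 0) *
          (X : Matrix (Fin 2) (Fin 2) F) 0 0 +
      ((A : Matrix (Fin 2) (Fin 2) F) 0 0 * (g : Matrix (Fin 2) (Fin 2) F) 0 1 +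
        (A : Matrix (Fin 2) (Fin 2) F) 0 1 * (g : Matrix (Fin 2) (Fin 2) F) 1 1) *
          (X : Matrix (Fin 2) (Fin 2) F) 1 0 := by
  rw [sl2_coe_mul, sl2_coe_mul, Matrix.mul_apply, Fin.sum_univ_two, Matrix.mul_apply,
    Matrix.mul_apply, Fin.sum_univ_two, Fin.sum_univ_two]

theorem bp2b2_dg_one : (dg (1 : Fˣ) : SL2 F) = 1 := by
  apply Subtype.ext
  rw [dg_coe, sl2_coe_one, Matrix.one_fin_two]
  simp

variable [CharP F 2]

theorem bp2b2_two : (2 : F) = 0 := CharTwo.two_eq_zero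

/-- the fourth point `t e₁ + (t+1) e₂` as the first column of a matrix of `SL₂`. -/
def bp2b2_Y (t : F) : SL2 F := ⟨!![t, 1; t + 1, 1], by
  rw [Matrix.det_fin_two_of]; linear_combination (-1 : F) * (bp2b2_two (F := F))⟩

/-- its inverse. -/
def bp2b2_Yi (t : F) : SL2 F := ⟨!![1, -1; -(t + 1), t], by
  rw [Matrix.det_fin_two_of]; linear_combination (-1 : F) * (bp2b2_two (F := F))⟩

theorem bp2b2_Y_coe (t : F) :
    ((bp2b2_Y t : SL2 F) : Matrix (Fin 2) (Fin 2) F) = !![t, 1; t + 1, 1] := rfl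

theorem bp2b2_Yi_coe (t : F) :
    ((bp2b2_Yi t : SL2 F) : Matrix (Fin 2) (Fin 2) F) = !![1, -1; -(t + 1), t] := rfl

theorem bp2b2_Y_inv (t : F) : (bp2b2_Y t : SL2 F)⁻¹ = bp2b2_Yi t := by
  apply inv_eq_of_mul_eq_one_right
  apply Subtype.ext
  rw [sl2_coe_mul, bp2b2_Y_coe, bp2b2_Yi_coe, sl2_coe_one, Matrix.mul_fin_two, Matrix.one_fin_two]
  apply m2_congr
  · linear_combination (-1 : F) * (bp2b2_two (F := F))
  · ring
  · ring
  · linear_combination (-1 : F) * (bp2b2_two (F := F))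

/-- the matcher of the pair `(2,3)`. -/
def bp2b2_g23 (t : Fˣ) : SL2 F :=
  ⟨!![(t : F), 0; (t : F) + (t : F)⁻¹, (t : F)⁻¹], by
    rw [Matrix.det_fin_two_of, zero_mul, sub_zero, mul_inv_cancel₀ t.ne_zero]⟩

theorem bp2b2_g23_coe (t : Fˣ) : ((bp2b2_g23 t : SL2 F) : Matrix (Fin 2) (Fin 2) F) =
    !![(t : F), 0; (t : F) + (t : F)⁻¹, (t : F)⁻¹] := rfl

end

section
variable {F : Type u} [Field F] [Fintype F]

/-- **B2** (four points, char 2). -/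
theorem stepB_char2 [CharP F 2] (K : Subgroup (SL2 F)) (hU : US F ≤ K) (hB : K ≤ BS F) (t : Fˣ)
    (ht : dg t ∈ K) (ht1 : t ≠ 1) : ¬ BinS K := by
  intro hBin
  have h2 : (2 : F) = 0 := bp2b2_two
  have hti : dg t⁻¹ ∈ K := by rw [← bp2b1_dg_inv]; exact K.inv_mem ht
  have h1K : dg (1 : Fˣ) ∈ K := by rw [bp2b2_dg_one]; exact K.one_mem
  have htt : (t : F) * (t : F)⁻¹ = 1 := mul_inv_cancel₀ t.ne_zero
  -- pairs among the first three points: `g = 1`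
  have Pid : ∀ a b : SL2 F, ∃ g : SL2 F, a⁻¹ * g * a ∈ K ∧ b⁻¹ * g * b ∈ K := by
    intro a b
    refine ⟨1, ?_, ?_⟩ <;> simp
  have P03 : ∃ g : SL2 F, (1 : SL2 F)⁻¹ * g * 1 ∈ K ∧
      (bp2b2_Y (t : F))⁻¹ * g * lS ((t : F) + 1) ∈ K := by
    refine ⟨uS 1, ?_, ?_⟩
    · rw [inv_one, one_mul, mul_one]; exact hU (uS_mem _)
    · apply bp2b1_mem K hU 1 h1K
      · rw [bp2b2_Y_inv, bp2b2_mul3_10, bp2b2_Yi_coe, uS_coe, lS_coe]
        simp
        linear_combination (-(t : F) - 1) * h2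
      · rw [bp2b2_Y_inv, bp2b2_mul3_00, bp2b2_Yi_coe, uS_coe, lS_coe]
        simp
  have P13 : ∃ g : SL2 F, (bp2b1_w : SL2 F)⁻¹ * g * bp2b1_w ∈ K ∧
      (bp2b2_Y (t : F))⁻¹ * g * lS ((t : F) + 1) ∈ K := by
    refine ⟨lS (((t : F) + 1) * ((t : F)⁻¹ + 1)), ?_, ?_⟩
    · rw [bp2b1_conj_w_lS]; exact hU (uS_mem _)
    · apply bp2b1_mem K hU t⁻¹ hti
      · rw [bp2b2_Y_inv, bp2b2_mul3_10, bp2b2_Yi_coe, lS_coe, lS_coe]
        simp
        linear_combination ((t : F) + 1) * htt + ((t : F) ^ 2 + (t : F)) * h2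
      · rw [bp2b2_Y_inv, bp2b2_mul3_00, bp2b2_Yi_coe, lS_coe, lS_coe]
        simp
        linear_combination (-1 : F) * htt + (-(t : F) - 1) * h2 + (-(t : F)⁻¹) * h2
  have P23 : ∃ g : SL2 F, (lS (1 : F))⁻¹ * g * lS 1 ∈ K ∧
      (bp2b2_Y (t : F))⁻¹ * g * lS ((t : F) + 1) ∈ K := by
    refine ⟨bp2b2_g23 t, ?_, ?_⟩
    · apply bp2b1_mem K hU t ht
      · rw [bp2b1_lS_inv, bp2b2_mul3_10, bp2b2_g23_coe, lS_coe, lS_coe]
        simp
        linear_combination (t : F)⁻¹ * h2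
      · rw [bp2b1_lS_inv, bp2b2_mul3_00, bp2b2_g23_coe, lS_coe, lS_coe]
        simp
    · apply bp2b1_mem K hU 1 h1K
      · rw [bp2b2_Y_inv, bp2b2_mul3_10, bp2b2_g23_coe, bp2b2_Yi_coe, lS_coe]
        simp
        linear_combination (t : F) * htt + (1 - (t : F)) * htt + h2
      · rw [bp2b2_Y_inv, bp2b2_mul3_00, bp2b2_g23_coe, bp2b2_Yi_coe, lS_coe]
        simp
        linear_combination (-1 : F) * htt + (-1 - (t : F)⁻¹) * h2
  have key := hBin 4 ![1, bp2b1_w, lS 1, lS ((t : F) + 1)]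
    ![1, bp2b1_w, lS 1, bp2b2_Y (t : F)] (by norm_num) (by
    intro i j hij
    fin_cases i <;> fin_cases j
    · exact absurd rfl hij
    · exact Pid _ _
    · exact Pid _ _
    · exact P03
    · exact Pid _ _
    · exact absurd rfl hij
    · exact Pid _ _
    · exact P13
    · exact Pid _ _
    · exact Pid _ _
    · exact absurd rfl hij
    · exact P23
    · obtain ⟨g, h1, h2⟩ := P03; exact ⟨g, h2, h1⟩
    · obtain ⟨g, h1, h2⟩ := P13; exact ⟨g, h2, h1⟩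
    · obtain ⟨g, h1, h2⟩ := P23; exact ⟨g, h2, h1⟩
    · exact absurd rfl hij)
  obtain ⟨g, hg⟩ := key
  have h0 : g ∈ K := by
    have := hg 0
    simpa using this
  have hw : (bp2b1_w : SL2 F)⁻¹ * g * bp2b1_w ∈ K := hg 1
  have hl : (lS (1 : F))⁻¹ * g * lS 1 ∈ K := hg 2
  have hY : (bp2b2_Y (t : F))⁻¹ * g * lS ((t : F) + 1) ∈ K := hg 3
  obtain ⟨g10, μ, g00, g11, hμ⟩ := bp2b1_diag K hU hB g h0
  have g01 : (g : Matrix (Fin 2) (Fin 2) F) 0 1 = 0 := by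
    have := (mem_BS _).mp (hB hw)
    rw [bp2b1_conj_w_entry] at this
    exact neg_eq_zero.mp this
  have h3 := (mem_BS _).mp (hB hl)
  rw [Units.val_inv_eq_inv_val] at g11
  rw [bp2b1_conj_lS_entry, g10, g01, g00, g11] at h3
  have h4 := (mem_BS _).mp (hB hY)
  rw [bp2b2_Y_inv, bp2b2_mul3_10, bp2b2_Yi_coe, lS_coe, g10, g01, g00, g11] at h4
  simp at h4
  have hμi : (μ : F)⁻¹ = μ := by linear_combination h3
  rw [hμi] at h4
  have hμ0 : (μ : F) ≠ 0 := μ.ne_zero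
  have h5 : ((t : F) - 1) ^ 2 = 0 := by
    have : (μ : F) * ((t : F) - 1) ^ 2 = 0 := by
      linear_combination h4 + (-(μ : F) * (t : F) + (μ : F)) * h2
    rcases mul_eq_zero.mp this with h | h
    · exact absurd h hμ0
    · exact h
  apply ht1
  apply Units.ext
  rw [Units.val_one]
  have := pow_eq_zero_iff (two_ne_zero) |>.mp h5
  linear_combination this

end

end Cfsg.Agent.Lib.Helper28.BP2
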