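import Mathlib
import Cfsg.Agent.Lib.Helper28.BP2.Defs
import Cfsg.Agent.Lib.helper17.BP2B1
import Cfsg.Agent.Lib.helper17.BP2B2
import Cfsg.Agent.Lib.helper4.BP2T4
import Cfsg.Agent.Lib.helper4.BP2U2
import Cfsg.Agent.Lib.Helper13.BP2U1

/-!
# BP2 row B3 (`stepB`), helper17.  Verbatim statement of `Helper28/BP2/Skel.lean.txt`.
Own extras are prefixed `bp2b3_`.
-/

set_option autoImplicit false

namespace Cfsg.Agent.Lib.Helper28.BP2

open Cfsg.Agent.Lib.helper14

universe u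

section
variable {F : Type u} [Field F]

theorem bp2b3_dg_mul (μ ν : Fˣ) : (dg (μ * ν) : SL2 F) = dg μ * dg ν := by
  apply Subtype.ext
  rw [sl2_coe_mul, dg_coe, dg_coe, dg_coe, Matrix.mul_fin_two, mul_inv, Units.val_mul,
    Units.val_mul]
  apply m2_congr <;> ring

/-- `dg` as a homomorphism. -/
def bp2b3_dgHom : Fˣ →* SL2 F where
  toFun := dg
  map_one' := bp2b2_dg_one
  map_mul' := bp2b3_dg_mul

theorem bp2b3_dg_neg_one : (dg (-1 : Fˣ) : SL2 F) = -1 := by
  apply Subtype.ext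
  rw [dg_coe, Matrix.SpecialLinearGroup.coe_neg, sl2_coe_one, Matrix.one_fin_two]
  simp [Matrix.neg_of]

theorem bp2b3_pr_neg_one : pr F (-1) = 1 := by
  rw [← map_one (pr F), pr_eq_iff]
  right; rfl

end

section
variable {F : Type u} [Field F] [Fintype F]

/-- **B3**. -/
theorem stepB (p : ℕ) [Fact p.Prime] [CharP F p] (H : Subgroup (PSL2 F)) (hU : PU F ≤ H)
    (hB : H ≤ PB F) (hBin : BinS H) : p = 2 ∧ H = PU F := by
  classical
  have hKbin : BinS (H.comap (pr F)) := (binS_comap (pr F) pr_surjective H).mpr hBin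
  have hUK : US F ≤ H.comap (pr F) := fun g hg => hU (Subgroup.mem_map_of_mem _ hg)
  have hKB : H.comap (pr F) ≤ BS F := by
    intro g hg
    have h1 : pr F g ∈ PB F := hB hg
    obtain ⟨b, hb, hbg⟩ := h1
    rcases (pr_eq_iff b g).mp hbg with h | h
    · rw [← h]; exact hb
    · have hgb : g = -b := by rw [h, neg_neg]
      rw [hgb, mem_BS, Matrix.SpecialLinearGroup.coe_neg, Matrix.neg_apply, neg_eq_zero]
      exact (mem_BS b).mp hb
  -- squaring is onto on `Λ`
  have hsq : ∀ l : Fˣ, dg l ∈ H.comap (pr F) → ∃ ν : Fˣ, dg ν ∈ H.comap (pr F) ∧ ν ^ 2 = l := by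
    intro l hl
    by_contra hcon
    push_neg at hcon
    exact stepB_nonsquare _ hUK hKB l hl hcon hKbin
  have hneg : dg (-1 : Fˣ) ∈ H.comap (pr F) := by
    rw [bp2b3_dg_neg_one, Subgroup.mem_comap, bp2b3_pr_neg_one]
    exact H.one_mem
  have hp2 : p = 2 := by
    let Λ : Subgroup Fˣ := (H.comap (pr F)).comap bp2b3_dgHom
    have hsurj : Function.Surjective (fun ν : Λ => ν ^ 2) := by
      intro l
      obtain ⟨ν, hν, hνl⟩ := hsq l.1 l.2
      exact ⟨⟨ν, hν⟩, Subtype.ext hνl⟩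
    have hinj : Function.Injective (fun ν : Λ => ν ^ 2) := Finite.injective_iff_surjective.mpr hsurj
    have h11 : (⟨-1, hneg⟩ : Λ) = 1 := by
      apply hinj
      apply Subtype.ext
      show ((-1 : Fˣ)) ^ 2 = (1 : Fˣ) ^ 2
      rw [neg_one_sq, one_pow]
    have h12 : (-1 : Fˣ) = 1 := congrArg Subtype.val h11
    have h13 : (-1 : F) = 1 := by
      have := congrArg Units.val h12
      simpa using this
    have h14 : ((2 : ℕ) : F) = 0 := by
      push_cast
      linear_combination (-1 : F) * h13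
    have h15 : p ∣ 2 := (CharP.cast_eq_zero_iff F p 2).mp h14
    exact (Nat.prime_dvd_prime_iff_eq (Fact.out) Nat.prime_two).mp h15
  refine ⟨hp2, ?_⟩
  subst hp2
  have htriv : ∀ t : Fˣ, dg t ∈ H.comap (pr F) → t = 1 := by
    intro t ht
    by_contra ht1
    exact stepB_char2 _ hUK hKB t ht ht1 hKbin
  apply le_antisymm _ hU
  intro x hx
  obtain ⟨g, rfl⟩ := pr_surjective x
  have hgK : g ∈ H.comap (pr F) := hx
  obtain ⟨g10, μ, g00, g11, hμ⟩ := bp2b1_diag _ hUK hKB g hgK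
  have hμ1 := htriv μ hμ
  subst hμ1
  rw [Units.val_one] at g00
  rw [inv_one, Units.val_one] at g11
  refine Subgroup.mem_map_of_mem _ ?_
  rw [mem_US]
  obtain ⟨a, b, c, d, hab, -⟩ := bp2b1_entries g
  rw [hab] at g10 g00 g11
  have ha : a = 1 := g00
  have hc : c = 0 := g10
  have hd : d = 1 := g11
  refine ⟨b, ?_⟩
  apply Subtype.ext
  rw [uS_coe, hab, ha, hc, hd]

end

end Cfsg.Agent.Lib.Helper28.BP2
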