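import Mathlib
import Cfsg.Agent.Lib.helper3.BSZ.Defs

set_option autoImplicit false

/-!
# Project BSZ (designer helper3), row A11: `isSylCen_isPGroup` (verbatim).
-/

namespace Cfsg.Agent.Lib.helper3.BSZ

open Cfsg Cfsg.Agent.Lib.helper3

/-- membership in the centre-of-Sylow subgroup, unfolded -/
theorem bsza11_mem {G : Type*} [Group G] (P : Sylow 2 G) (x : G) :
    x ∈ (Subgroup.center (P : Subgroup G)).map (P : Subgroup G).subtype ↔
      x ∈ (P : Subgroup G) ∧ ∀ y ∈ (P : Subgroup G), y * x = x * y := by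
  constructor
  · rintro ⟨z, hz, rfl⟩
    refine ⟨z.2, fun y hy => ?_⟩
    have := Subgroup.mem_center_iff.mp hz ⟨y, hy⟩
    exact congrArg Subtype.val this
  · rintro ⟨hx, hc⟩
    refine ⟨⟨x, hx⟩, ?_, rfl⟩
    show (⟨x, hx⟩ : (P : Subgroup G)) ∈ Subgroup.center (P : Subgroup G)
    rw [Subgroup.mem_center_iff]
    intro y
    exact Subtype.ext (hc y.1 y.2)

/-- A11 [S]: `P` is a 2-group (`P.isPGroup'`) and `H ↪ P`. -/
theorem isSylCen_isPGroup {G : Type*} [Group G] {H : Subgroup G} (h : IsSylCen H) : IsPGroup 2 H := by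
  obtain ⟨P, rfl⟩ := h
  have hle : (Subgroup.center (P : Subgroup G)).map (P : Subgroup G).subtype ≤ (P : Subgroup G) := by
    intro x hx
    exact ((bsza11_mem P x).mp hx).1
  exact P.isPGroup'.to_le hle

end Cfsg.Agent.Lib.helper3.BSZ
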