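import Mathlib
import Cfsg.Agent.Lib.helper3.BSZ.Defs
import Cfsg.Agent.Lib.helper17.BSZA11

set_option autoImplicit false

/-!
# Project BSZ (designer helper3), row A10: `isSylCen_map_iff` (verbatim).
-/

namespace Cfsg.Agent.Lib.helper3.BSZ

open Cfsg Cfsg.Agent.Lib.helper3

/-- the Sylow subgroup `e(P)` of `G'` (no finiteness needed: preimage under `e.symm`) -/
noncomputable def bsza10_sylow {G G' : Type*} [Group G] [Group G'] (e : G ≃* G') (P : Sylow 2 G) :
    Sylow 2 G' :=
  P.comapOfInjective e.symm.toMonoidHom e.symm.injective (by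
    intro x _
    exact ⟨e x, by simp⟩)

theorem bsza10_mem_sylow {G G' : Type*} [Group G] [Group G'] (e : G ≃* G') (P : Sylow 2 G) (x : G') :
    x ∈ (bsza10_sylow e P : Subgroup G') ↔ e.symm x ∈ (P : Subgroup G) := by
  exact Iff.rfl

/-- the forward direction, for every isomorphism -/
theorem bsza10_map {G G' : Type*} [Group G] [Group G'] (e : G ≃* G') (H : Subgroup G)
    (h : IsSylCen H) : IsSylCen (H.map e.toMonoidHom) := by
  obtain ⟨P, rfl⟩ := h
  refine ⟨bsza10_sylow e P, ?_⟩
  ext x
  rw [bsza11_mem]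
  constructor
  · rintro ⟨z, hz, rfl⟩
    replace hz := (bsza11_mem P z).mp hz
    refine ⟨?_, fun y hy => ?_⟩
    · rw [bsza10_mem_sylow]
      simpa using hz.1
    · rw [bsza10_mem_sylow] at hy
      have := hz.2 _ hy
      have h2 := congrArg e this
      simpa using h2
  · rintro ⟨hx, hc⟩
    rw [bsza10_mem_sylow] at hx
    refine ⟨e.symm x, ?_, by simp⟩
    refine (bsza11_mem P (e.symm x)).mpr ⟨hx, fun y hy => ?_⟩
    have hy' : e y ∈ (bsza10_sylow e P : Subgroup G') := by
      rw [bsza10_mem_sylow]; simpa using hy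
    have := hc _ hy'
    have h2 := congrArg e.symm this
    simpa using h2

/-- A10 [M]: `P ↦ P.map e` on Sylow subgroups (`Sylow.comapOfInjective` along `e.symm`, or build by hand: `IsPGroup.map`, maximality through `e.symm`); `Subgroup.center` and `Subgroup.subtype` commute with `e`
(`x ∈ (center ↥(P.map e)).map subtype ↔ x ∈ P.map e ∧ ∀ y ∈ P.map e, y * x = x * y`).  Enough: `→`-direction `IsSylCen H → IsSylCen (H.map e)` for all `e`, then use `e.symm`. -/
theorem isSylCen_map_iff {G G' : Type*} [Group G] [Group G'] (e : G ≃* G') (H : Subgroup G) :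
    IsSylCen (H.map e.toMonoidHom) ↔ IsSylCen H := by
  constructor
  · intro h
    have h2 := bsza10_map e.symm _ h
    have h3 : (H.map e.toMonoidHom).map e.symm.toMonoidHom = H := by
      ext x
      constructor
      · rintro ⟨z, ⟨w, hw, rfl⟩, rfl⟩
        simpa using hw
      · intro hx
        exact ⟨e x, ⟨x, hx, rfl⟩, by simp⟩
    rwa [h3] at h2
  · exact bsza10_map e H

end Cfsg.Agent.Lib.helper3.BSZ
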