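import Mathlib
import Cfsg.Agent.Lib.helper3.BSZ.Defs

set_option autoImplicit false

/-!
# Project BSZ (designer helper3), row W10 `invol_le_zs` (verbatim).
-/

namespace Cfsg.Agent.Lib.helper3.BSZ

open Cfsg Cfsg.Agent.Lib.helper3

variable {F : Type*} [Field F] [Fintype F] {m : ℕ}

/-- W10 [S-M]: `sylow_two_conj hF hm P` gives `x`; for `h ∈ H`: `x⁻¹ * h * x ∈ Qs`, `= gT a b` with square `1`, so `a = 0` (`gT_sq_eq_one`), i.e. `∈ Zs`; `mem_map_conj_iff`. -/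
theorem invol_le_zs (hF : Fintype.card F = 2 ^ (2 * m + 1)) (hm : 1 ≤ m) (P : Sylow 2 (Sz F m))
    (H : Subgroup (Sz F m)) (hHP : H ≤ (P : Subgroup (Sz F m))) (h2 : ∀ f ∈ H, f * f = 1) :
    ∃ x : Sz F m, H ≤ cj (Zs hF) x := by
  obtain ⟨x, hx⟩ := sylow_two_conj hF hm P
  refine ⟨x, fun h hh => ?_⟩
  rw [mem_map_conj_iff]
  have h1 : x⁻¹ * h * x ∈ Qs hF := (hx h).mp (hHP hh)
  obtain ⟨a, b, hab⟩ := (mem_Qs hF).mp h1
  have hsq : gT hF a b * gT hF a b = 1 := by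
    rw [← hab]
    have : x⁻¹ * h * x * (x⁻¹ * h * x) = x⁻¹ * (h * h) * x := by group
    rw [this, h2 h hh]
    group
  have ha : a = 0 := gT_sq_eq_one hF hsq
  rw [mem_Zs]
  exact ⟨b, by rw [hab, ha]⟩

end Cfsg.Agent.Lib.helper3.BSZ
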