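import Mathlib
import Cfsg.Agent.Lib.helper8.TD4.Defs
import Cfsg.Agent.Lib.helper17.TD4A5

/-!
# TD4 row A6 (`zpow_kZ_eq_self`), helper17.  Verbatim statement of `helper8/TD4/Skel.lean.txt`.
-/

set_option autoImplicit false

namespace Cfsg.Agent.Lib.helper8.TD4

open Cfsg.Lie Cfsg.Lie.ChevalleyDatum Cfsg.Agent.Lib.helper8 Matrix

universe u v

/-- **A6**. -/
theorem zpow_kZ_eq_self {E : Type v} [Field E] (q : ℕ) (hq : 2 ≤ q) (v : E) (hv : orderOf v = nT q) :
    ∀ r < 24, v ^ kZ q r = v → r = 18 := by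
  intro r hr h
  obtain ⟨h0, hlt, h1⟩ := kZ_table q hq r hr
  have hpos : 0 < orderOf v := by rw [hv]; exact td4a5_nT_pos q hq
  have hv0 : v ≠ 0 := by
    rintro rfl
    rw [orderOf_zero] at hpos
    exact lt_irrefl _ hpos
  have h2 : v ^ (kZ q r - 1) = 1 := by
    rw [zpow_sub₀ hv0, h, zpow_one, div_self hv0]
  rw [td4a5_zpow_eq_one_iff v hpos, hv] at h2
  have habs : |kZ q r - 1| < (nT q : ℤ) := by
    have := abs_sub (kZ q r) 1
    rw [abs_one] at this
    omega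
  have := Int.eq_zero_of_abs_lt_dvd h2 habs
  exact h1 (by omega)

end Cfsg.Agent.Lib.helper8.TD4
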