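import Mathlib
import Cfsg.Agent.Lib.Helper24.MNP.Defs

/-!
# MNP rows F3 (`inv_addSubgroup`) and T1 (`schAct_K`), helper17: cores with the conclusion of F2
(`span_zeta`) as a hypothesis.  Own names are prefixed `mnpf3_` / `mnpt1_`.
-/

set_option autoImplicit false

namespace Cfsg.Agent.Lib.Helper24.MNP

open scoped commutatorElement
open Cfsg.Agent.Lib.Helper24.SCH (SchAct)

universe u

/-- F3, core: `hF2` is the conclusion of F2 (`span_zeta`). -/
theorem mnpf3_core {K : Type u} [Field K] (ζ : K)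
    (hF2 : AddSubgroup.closure (Set.range fun j : ℕ => ζ ^ j) = ⊤)
    (S : AddSubgroup K) (hS : ∀ x ∈ S, ζ * x ∈ S) : S = ⊥ ∨ S = ⊤ := by
  rcases AddSubgroup.bot_or_exists_ne_zero S with hbot | ⟨x, hxS, hx0⟩
  · exact Or.inl hbot
  · right
    have hpow : ∀ j : ℕ, ζ ^ j * x ∈ S := by
      intro j
      induction j with
      | zero => rw [pow_zero, one_mul]; exact hxS
      | succ j ih => rw [pow_succ', mul_assoc]; exact hS _ ih
    have hle : AddSubgroup.closure (Set.range fun j : ℕ => ζ ^ j) ≤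
        S.comap (AddMonoidHom.mulRight x) := by
      rw [AddSubgroup.closure_le]
      rintro _ ⟨j, rfl⟩
      exact hpow j
    rw [hF2] at hle
    rw [eq_top_iff]
    intro y _
    have h := hle (AddSubgroup.mem_top (y * x⁻¹))
    have h' : y * x⁻¹ * x ∈ S := h
    rwa [mul_assoc, inv_mul_cancel₀ hx0, mul_one] at h'

theorem mnpt1_pow {K : Type u} [Field K] (ζ : K) (hζ0 : ζ ≠ 0) (n : ℕ) (w : Multiplicative K) :
    ((alphaK ζ hζ0) ^ n) w = Multiplicative.ofAdd (ζ ^ n * Multiplicative.toAdd w) := by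
  induction n with
  | zero => rw [pow_zero, pow_zero, one_mul]; rfl
  | succ n ih =>
    rw [pow_succ', MulAut.mul_apply, ih, alphaK_apply, pow_succ', mul_assoc]
    rfl

/-- T1, core: `hF2` is the conclusion of F2 (`span_zeta`). -/
theorem mnpt1_core {K : Type u} [Field K] [Finite K] {p q : ℕ} [Fact p.Prime] [Fact q.Prime]
    (hpq : p ≠ q) {a : ℕ} (hK : Nat.card K = p ^ a)
    (ζ : K) (hF2 : AddSubgroup.closure (Set.range fun j : ℕ => ζ ^ j) = ⊤)
    (hζ : orderOf ζ = q) (hζ0 : ζ ≠ 0) : SchAct p q (Multiplicative K) (alphaK ζ hζ0) := by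
  refine ⟨?_, Fact.out, hpq.symm, ?_, ?_, ?_⟩
  · apply IsPGroup.of_card (n := a)
    rw [← hK]
    exact Nat.card_congr Multiplicative.toAdd
  · ext w
    rw [mnpt1_pow, ← hζ, pow_orderOf_eq_one, one_mul]
    rfl
  · intro h
    have h1 := congrArg (fun f : MulAut (Multiplicative K) => f (Multiplicative.ofAdd (1 : K))) h
    simp only [alphaK_apply, MulAut.one_apply] at h1
    have h2 : ζ * 1 = (1 : K) := Multiplicative.ofAdd.injective h1
    rw [mul_one] at h2
    rw [h2, orderOf_one] at hζ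
    exact (Fact.out : q.Prime).one_lt.ne hζ
  · intro S hS hne s hs
    have hS' : ∀ x ∈ Subgroup.toAddSubgroup' S, ζ * x ∈ Subgroup.toAddSubgroup' S := by
      intro x hx
      exact hS (Multiplicative.ofAdd x) hx
    rcases mnpf3_core ζ hF2 (Subgroup.toAddSubgroup' S) hS' with h | h
    · have hs0 : Multiplicative.toAdd s ∈ Subgroup.toAddSubgroup' S := hs
      rw [h, AddSubgroup.mem_bot] at hs0
      have : s = 1 := by
        rw [← ofAdd_toAdd s, hs0]; rfl
      rw [this, map_one]
    · exfalso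
      apply hne
      rw [eq_top_iff]
      intro y _
      have : Multiplicative.toAdd y ∈ Subgroup.toAddSubgroup' S := by rw [h]; trivial
      exact this

end Cfsg.Agent.Lib.Helper24.MNP
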