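import Mathlib
import Cfsg.Agent.Lib.Helper24.MNP.Defs
import Cfsg.Agent.Lib.Helper26.MNPF2
import Cfsg.Agent.Lib.helper17.MNPF3core

/-!
# MNP row T1 (`schAct_K`), helper17.  Verbatim statement of `Helper24/MNP/Skel.lean.txt`.
-/

set_option autoImplicit false

namespace Cfsg.Agent.Lib.Helper24.MNP

open scoped commutatorElement
open Cfsg.Agent.Lib.Helper24.SCH (SchAct)

universe u

section T

variable {K : Type u} [Field K] [Finite K] {p q : ℕ} [Fact p.Prime] [Fact q.Prime] [CharP K p]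

/-- **T1**. -/
theorem schAct_K (hpq : p ≠ q) {a : ℕ} (hK : Nat.card K = p ^ a) (ha : a = orderOf (p : ZMod q))
    (ζ : K) (hζ : orderOf ζ = q) (hζ0 : ζ ≠ 0) : SchAct p q (Multiplicative K) (alphaK ζ hζ0) :=
  mnpt1_core hpq hK ζ (span_zeta hpq hK ha ζ hζ) hζ hζ0

end T

end Cfsg.Agent.Lib.Helper24.MNP
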