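import Mathlib
import Cfsg.Agent.Lib.helper17.T3.DefsC

/-!
# Project T3C (S2110 family), row D2 `Z2_map`, `R2_mul`, VERBATIM (helper17), with generic helpers for commuting lifts
-/

set_option autoImplicit false

namespace Cfsg.Agent.Lib.helper17.T3

open Cfsg.Agent.Lib.helper15.St2 Cfsg.Agent.Lib.helper7.Ce

variable {F K : Type*} [Field F] [Field K] [Algebra F K]

variable {C : Cub F K} {G Γ : Type*} [Group G] [Group Γ]

/-- extra: move a commuting element inside a product -/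
theorem t3cd2_comm_assoc {a b : Γ} (h : a * b = b * a) (r : Γ) : a * (b * r) = b * (a * r) := by
  rw [← mul_assoc, h, mul_assoc]

section D

variable {S : SysT C G} {σ : Γ →* G} {L : ShortLift S σ}

/-- [D2] [S] `map_cm`, `S.ss2`, `L.map`, `M.map`. -/
theorem Z2_map (M : LongLift S σ L) (k : ZMod 6) (s t : K) : σ (Z2 L M k s t) = 1 := by
  unfold Z2 R2
  rw [map_mul, map_inv, map_cm, L.map, L.map, map_mul, map_mul, M.map, M.map, L.map, S.ss2, mul_inv_cancel]

/-- [D2] [S] the three factors of `R2` commute with each other and with every lift of an element of `xl k _`, `xs (k+1) _`, `xl (k+1) _` (`hT.ll0 ls1 ll1 ss0 sl0`); so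
`R2 k s t * R2 k s' t' = Y k (sum) * X (k+1) (sum) * Y (k+1) (sum)`. -/
theorem R2_mul (hT : CLT S σ) (M : LongLift S σ L) (k : ZMod 6) (a a' : F) (x x' : K) (b b' : F) :
    (M.Y k a * L.X (k + 1) x * M.Y (k + 1) b) * (M.Y k a' * L.X (k + 1) x' * M.Y (k + 1) b') = M.Y k (a + a') * L.X (k + 1) (x + x') * M.Y (k + 1) (b + b') := by
  have h1 : M.Y (k + 1) b * M.Y k a' = M.Y k a' * M.Y (k + 1) b :=
    (hT.ll1 k a' b (M.Y k a') (M.Y (k + 1) b) (M.map _ _) (M.map _ _)).symm
  have h2 : L.X (k + 1) x * M.Y k a' = M.Y k a' * L.X (k + 1) x :=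
    (hT.ls1 k a' x (M.Y k a') (L.X (k + 1) x) (M.map _ _) (L.map _ _)).symm
  have h3 : M.Y (k + 1) b * L.X (k + 1) x' = L.X (k + 1) x' * M.Y (k + 1) b :=
    (hT.sl0 (k + 1) x' b (L.X (k + 1) x') (M.Y (k + 1) b) (L.map _ _) (M.map _ _)).symm
  rw [← M.add, ← L.add, ← M.add]
  simp only [mul_assoc]
  rw [t3cd2_comm_assoc h1, t3cd2_comm_assoc h2, t3cd2_comm_assoc h3]

end D

end Cfsg.Agent.Lib.helper17.T3
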