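import Mathlib
import Cfsg.Agent.Lib.Lead.BCS.Defs
import Cfsg.Agent.S0246
import Cfsg.Agent.Lib.Helper22.BCSC1
import Cfsg.Agent.Lib.Helper25.BCSC2

set_option autoImplicit false

/-!
# Project BCG (helper17, offered to designer helper3): element orders of `PSp_{2m+2}(F)` coming from `Sp_{2m}(F)`.

* `bcgpsp_order_mk`: an element of `Sp_{2n}(F)` (`2 ≠ 0`) fixing a vector `u ≠ 0` has the same order in `PSp_{2n}(F)`;
* `bcgpsp_emb_order`: every element order of `Sp_{2m}(F)` is an element order of `PSp_{2m+2}(F)`;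
* `bcgpsp_emb_order_p`: ... and so is `k * p` when `k` is prime to the characteristic `p`;
* `bcgpsp_two_p`: `2 * p` is an element order of `PSp_{2m+2}(F)`, `m ≥ 1`.
-/

namespace Cfsg.Agent.Lib.helper17.BCGPSP

open Matrix

theorem bcgpsp_pow_fix {F : Type*} [Field F] (n : ℕ) (x : Matrix.symplecticGroup (Fin n) F)
    (u : Fin n ⊕ Fin n → F)
    (hxu : (x : Matrix (Fin n ⊕ Fin n) (Fin n ⊕ Fin n) F) *ᵥ u = u) (k : ℕ) :
    ((x ^ k : Matrix.symplecticGroup (Fin n) F) : Matrix (Fin n ⊕ Fin n) (Fin n ⊕ Fin n) F) *ᵥ u = u := by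
  induction k with
  | zero =>
    rw [pow_zero]
    show (1 : Matrix (Fin n ⊕ Fin n) (Fin n ⊕ Fin n) F) *ᵥ u = u
    rw [Matrix.one_mulVec]
  | succ k ih =>
    rw [pow_succ, Submonoid.coe_mul, ← Matrix.mulVec_mulVec, hxu, ih]

/-- an element of `Sp_{2n}(F)` fixing a nonzero vector has the same order in `PSp_{2n}(F)` (`2 ≠ 0`) -/
theorem bcgpsp_order_mk {F : Type*} [Field F] (h2F : (2 : F) ≠ 0) (n : ℕ) (hn : 1 ≤ n)
    (x : Matrix.symplecticGroup (Fin n) F) (u : Fin n ⊕ Fin n → F) (hu0 : u ≠ 0)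
    (hxu : (x : Matrix (Fin n ⊕ Fin n) (Fin n ⊕ Fin n) F) *ᵥ u = u) :
    orderOf (QuotientGroup.mk x : Cfsg.PSp n F) = orderOf x := by
  rw [orderOf_eq_orderOf_iff]
  intro k
  rw [← QuotientGroup.mk_pow, QuotientGroup.eq_one_iff]
  constructor
  · intro hc
    rcases Cfsg.Agent.S0246.center_cases hn _ hc with h | h
    · exact h
    · exfalso
      have h1 := bcgpsp_pow_fix n x u hxu k
      rw [h, Cfsg.Agent.S0246.negOne_coe, Matrix.neg_mulVec, Matrix.one_mulVec] at h1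
      apply hu0
      have h3 : (2 : F) • u = 0 := by
        rw [two_smul]
        nth_rewrite 1 [← h1]
        exact neg_add_cancel u
      exact (smul_eq_zero.1 h3).resolve_left h2F
  · intro h
    rw [h]
    exact Subgroup.one_mem _

/-- every element order of `Sp_{2m}(F)` is an element order of `PSp_{2m+2}(F)` -/
theorem bcgpsp_emb_order {F : Type*} [Field F] (h2F : (2 : F) ≠ 0) (m : ℕ)
    (w : Matrix.symplecticGroup (Fin m) F) :
    orderOf w ∈ Set.range (orderOf : Cfsg.PSp (m + 1) F → ℕ) := by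
  obtain ⟨φ, u, hinj, hu0, hφu⟩ := Cfsg.Agent.Lib.Lead.BCS.bcs_sp_emb (F := F) m
  refine ⟨QuotientGroup.mk (φ w), ?_⟩
  rw [bcgpsp_order_mk h2F (m + 1) (by omega) (φ w) u hu0 (hφu w), orderOf_injective φ hinj w]

/-- `k * p` is an element order of `PSp_{2m+2}(F)` when `k` is an element order of `Sp_{2m}(F)` prime to `p` -/
theorem bcgpsp_emb_order_p {F : Type*} [Field F] {p : ℕ} [Fact p.Prime] [CharP F p] (h2F : (2 : F) ≠ 0)
    (m : ℕ) (w : Matrix.symplecticGroup (Fin m) F) (hcop : (orderOf w).Coprime p) :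
    orderOf w * p ∈ Set.range (orderOf : Cfsg.PSp (m + 1) F → ℕ) := by
  obtain ⟨φ, u, hinj, hu0, hφu⟩ := Cfsg.Agent.Lib.Lead.BCS.bcs_sp_emb (F := F) m
  obtain ⟨t, ht1, htp, htu, htc⟩ := Cfsg.Agent.Lib.Lead.BCS.bcs_sp_transv (F := F) (p := p) (m + 1) u hu0
  have hp : p.Prime := Fact.out
  have ht_ord : orderOf t = p := orderOf_eq_prime htp ht1
  have hφw_ord : orderOf (φ w) = orderOf w := orderOf_injective φ hinj w
  have hcomm2 : Commute (φ w) t := htc (φ w) (hφu w)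
  have hx_ord : orderOf (φ w * t) = orderOf w * p := by
    rw [hcomm2.orderOf_mul_eq_mul_orderOf_of_coprime, hφw_ord, ht_ord]
    rw [hφw_ord, ht_ord]
    exact hcop
  have hxu : ((φ w * t : Matrix.symplecticGroup (Fin (m + 1)) F) :
      Matrix (Fin (m + 1) ⊕ Fin (m + 1)) (Fin (m + 1) ⊕ Fin (m + 1)) F) *ᵥ u = u := by
    rw [Submonoid.coe_mul, ← Matrix.mulVec_mulVec, htu, hφu]
  refine ⟨QuotientGroup.mk (φ w * t), ?_⟩
  rw [bcgpsp_order_mk h2F (m + 1) (by omega) (φ w * t) u hu0 hxu, hx_ord]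

/-- `2 * p` is an element order of `PSp_{2m+2}(F)` for `m ≥ 1`, `F` of odd characteristic `p` -/
theorem bcgpsp_two_p {F : Type*} [Field F] {p : ℕ} [Fact p.Prime] [CharP F p] (h2F : (2 : F) ≠ 0)
    (m : ℕ) (hm : 1 ≤ m) :
    2 * p ∈ Set.range (orderOf : Cfsg.PSp (m + 1) F → ℕ) := by
  have hp : p.Prime := Fact.out
  have hp2 : p ≠ 2 := by
    rintro rfl
    apply h2F
    have := CharP.cast_eq_zero F 2
    exact_mod_cast this
  have hneg_sq : Cfsg.Agent.S0246.negOne F m ^ 2 = 1 := by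
    apply Subtype.ext
    rw [SubmonoidClass.coe_pow, Cfsg.Agent.S0246.negOne_coe]
    simp
  have hneg_ne : Cfsg.Agent.S0246.negOne F m ≠ 1 := by
    intro h
    have h1 := congrArg (fun g : Matrix.symplecticGroup (Fin m) F =>
      (g : Matrix (Fin m ⊕ Fin m) (Fin m ⊕ Fin m) F) (Sum.inl ⟨0, by omega⟩) (Sum.inl ⟨0, by omega⟩)) h
    simp only [Cfsg.Agent.S0246.negOne_coe] at h1
    have h3 : ((1 : Matrix.symplecticGroup (Fin m) F) : Matrix (Fin m ⊕ Fin m) (Fin m ⊕ Fin m) F) = 1 := rfl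
    rw [h3, Matrix.neg_apply, Matrix.one_apply_eq] at h1
    apply h2F
    linear_combination -h1
  have hneg_ord : orderOf (Cfsg.Agent.S0246.negOne F m) = 2 :=
    orderOf_eq_prime hneg_sq hneg_ne
  have h := bcgpsp_emb_order_p (p := p) h2F m (Cfsg.Agent.S0246.negOne F m)
    (by rw [hneg_ord]; exact (Nat.coprime_primes Nat.prime_two hp).2 (Ne.symm hp2))
  rw [hneg_ord] at h
  exact h

end Cfsg.Agent.Lib.helper17.BCGPSP
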