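import Cfsg.Agent.Lib.helper17.CB10

set_option autoImplicit false

namespace Cfsg.Agent.Lib.helper17.CB11

open Cfsg Cfsg.FusionSystem MulAction
open Cfsg.Agent.Lib.Helper26
open Cfsg.Agent.Lib.helper17.ParkGraph (graphOf IsFGraph mem_graphOf isFGraph_conj isFGraph_of_le
  isFGraph_diag mem_diag alpha1 alpha2 alpha1_apply alpha2_apply alpha1_injective alpha2_injective
  isFGraph_map_alpha1 isFGraph_map_alpha2)
open Cfsg.Agent.Lib.helper17.ParkBiset (FG conjD card_conjD)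
open Cfsg.Agent.Lib.helper17.BisetFix
open Cfsg.Agent.Lib.helper17.CB1 Cfsg.Agent.Lib.helper17.CB2 Cfsg.Agent.Lib.helper17.CB3
open Cfsg.Agent.Lib.helper17.CB4 Cfsg.Agent.Lib.helper17.CB5 Cfsg.Agent.Lib.helper17.CB6
open Cfsg.Agent.Lib.helper17.CB7 Cfsg.Agent.Lib.helper17.CB8 Cfsg.Agent.Lib.helper17.CB9
open Cfsg.Agent.Lib.helper17.CB10

universe u

variable {Ω : Type u} [Group Ω] {S : Subgroup Ω}

/-- **Existence of a characteristic biset** for a saturated fusion system. -/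
theorem exists_char_biset [Finite S] {p : ℕ} [Fact p.Prime] (hS : IsPGroup p S)
    (F : FusionSystem S) (hF : F.IsSaturated p) :
    ∃ (X : Type u) (_ : Finite X) (_ : MulAction (S × S) X),
      (∀ (M : Subgroup (S × S)) (x : X), (∀ a ∈ M, a • x = x) → IsFGraph F M) ∧
      (∀ L L' : Subgroup (S × S), IsFGraph F L → IsFGraph F L' → F.IsConj (src L) (src L') →
        Nat.card (Fix X L) = Nat.card (Fix X L')) ∧
      ∃ m : ℕ, Nat.card X = Nat.card S * m ∧ ¬ p ∣ m := by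
  classical
  have : Fintype (FG F) := Fintype.ofFinite _
  have : Fintype (CC F) := Fintype.ofFinite _
  obtain ⟨μ, hst, hd⟩ := exists_stable F hS hF
  obtain ⟨R, hR⟩ := card_Y F hS μ
  refine ⟨Y F μ, inferInstance, inferInstance, fix_Y_isFGraph F μ, ?_, _, hR, ?_⟩
  · intro L L' hL hL' hc
    rw [card_fix_Y, card_fix_Y]
    exact hst ⟨L, hL⟩ ⟨L', hL'⟩ hc (Nat.zero_le _)
  · intro hdvd
    apply not_dvd_top F hS hF μ hst hd
    exact (Nat.dvd_add_left (Dvd.intro _ rfl)).mp hdvd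

section Equivariant

variable (F : FusionSystem S) {X : Type u} [Finite X] [MulAction (S × S) X]

theorem isConj_src_alpha {P : Subgroup Ω} (hP : P ≤ S) (φ : P →* Ω) (hφ : φ ∈ F.Hom P)
    (hφS : ∀ x : P, φ x ∈ S) (K : Subgroup (P × S)) :
    F.IsConj (src (K.map (alpha1 hP))) (src (K.map (alpha2 φ hφS))) := by
  have hR : src (K.map (alpha1 hP)) ≤ P := by
    intro x hx
    obtain ⟨z, ⟨w, -, rfl⟩, rfl⟩ := mem_src.mp hx
    exact w.1.2
  refine ⟨_, restrict_mem F hφ hR, ?_⟩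
  ext y
  rw [mem_src]
  constructor
  · rintro ⟨x, rfl⟩
    obtain ⟨z, ⟨w, hw, rfl⟩, hz⟩ := mem_src.mp x.2
    refine ⟨_, ⟨w, hw, rfl⟩, ?_⟩
    rw [alpha2_apply]
    show φ w.1 = φ ⟨x, _⟩
    congr 1
    exact Subtype.ext hz
  · rintro ⟨z, ⟨w, hw, rfl⟩, rfl⟩
    have hx : (w.1 : Ω) ∈ src (K.map (alpha1 hP)) := mem_src.mpr ⟨_, ⟨w, hw, rfl⟩, rfl⟩
    exact ⟨⟨w.1, hx⟩, rfl⟩

/-- the equivariant bijection realizing a map of the system on a stable biset -/
theorem exists_twisted_equiv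
    (hXg : ∀ (M : Subgroup (S × S)) (x : X), (∀ a ∈ M, a • x = x) → IsFGraph F M)
    (hst : ∀ L L' : Subgroup (S × S), IsFGraph F L → IsFGraph F L' → F.IsConj (src L) (src L') →
        Nat.card (Fix X L) = Nat.card (Fix X L'))
    [Finite S] {P : Subgroup Ω} (hP : P ≤ S) (φ : P →* Ω) (hφ : φ ∈ F.Hom P)
    (hφS : ∀ x : P, φ x ∈ S) :
    ∃ e : X ≃ X, ∀ (k : P × S) (x : X), e (alpha1 hP k • x) = alpha2 φ hφS k • e x := by
  haveI : Finite P := Finite.of_injective (Subgroup.inclusion hP) (Subgroup.inclusion_injective hP)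
  have hfix : ∀ (α : P × S →* S × S) (K : Subgroup (P × S)),
      Nat.card {x : X // ∀ k ∈ K, α k • x = x} =
        Nat.card {x : X // ∀ a ∈ K.map α, a • x = x} := by
    intro α K
    apply Nat.card_congr
    refine Equiv.subtypeEquivRight ?_
    intro x
    constructor
    · rintro hx _ ⟨k, hk, rfl⟩
      exact hx k hk
    · intro hx k hk
      exact hx _ ⟨k, hk, rfl⟩
  have hmarks : ∀ K : Subgroup (P × S),
      Nat.card {x : X // ∀ k ∈ K, alpha1 hP k • x = x} =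
        Nat.card {x : X // ∀ k ∈ K, alpha2 φ hφS k • x = x} := by
    intro K
    rw [hfix, hfix]
    by_cases hG : IsFGraph F (K.map (alpha1 hP))
    · have hG2 := isFGraph_map_alpha2 F hP φ hφ hφS K hG
      exact hst _ _ hG hG2 (isConj_src_alpha F hP φ hφ hφS K)
    · have hG2 : ¬ IsFGraph F (K.map (alpha2 φ hφS)) :=
        fun h' => hG (isFGraph_map_alpha1 F hP φ hφ hφS K h')
      have e1 : IsEmpty {x : X // ∀ a ∈ K.map (alpha1 hP), a • x = x} :=
        ⟨fun x => hG (hXg _ x.1 x.2)⟩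
      have e2 : IsEmpty {x : X // ∀ a ∈ K.map (alpha2 φ hφS), a • x = x} :=
        ⟨fun x => hG2 (hXg _ x.1 x.2)⟩
      rw [Nat.card_of_isEmpty, Nat.card_of_isEmpty]
  obtain ⟨e, he⟩ := @Cfsg.Agent.Lib.helper17.Marks.exists_equiv_of_marks (P × S) _ _ _
    X X (MulAction.compHom X (alpha1 hP))
    (MulAction.compHom X (alpha2 φ hφS)) _ _ rfl hmarks
  exact ⟨e, he⟩

end Equivariant

end Cfsg.Agent.Lib.helper17.CB11
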