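import Mathlib

set_option autoImplicit false

namespace Cfsg.Agent.Lib.helper17.CB12

open MulAction

universe u v

variable {S : Type u} [Group S] {X : Type v} [MulAction (S × S) X]

theorem one_one_smul (x : X) : (((1 : S), (1 : S)) : S × S) • x = x := one_smul (S × S) x

/-- the relation of lying in the same orbit of the right action -/
def rightRel (S : Type u) [Group S] (X : Type v) [MulAction (S × S) X] : Setoid X where
  r x y := ∃ t : S, ((1 : S), t) • x = y
  iseqv := by
    refine ⟨fun x => ⟨1, one_one_smul x⟩, ?_, ?_⟩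
    · rintro x y ⟨t, rfl⟩
      refine ⟨t⁻¹, ?_⟩
      rw [← mul_smul]
      simp [one_one_smul]
    · rintro x y z ⟨t, rfl⟩ ⟨t', rfl⟩
      refine ⟨t' * t, ?_⟩
      rw [← mul_smul]
      simp

/-- the set of right orbits -/
abbrev Ybar (S : Type u) [Group S] (X : Type v) [MulAction (S × S) X] : Type v :=
  Quotient (rightRel S X)

/-- the permutations commuting with the right action -/
def GX (S : Type u) [Group S] (X : Type v) [MulAction (S × S) X] : Subgroup (Equiv.Perm X) where
  carrier := {σ | ∀ (t : S) (x : X), σ (((1 : S), t) • x) = ((1 : S), t) • σ x}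
  mul_mem' := by
    intro a b ha hb t x
    rw [Equiv.Perm.mul_apply, Equiv.Perm.mul_apply, hb, ha]
  one_mem' := by
    intro t x
    rfl
  inv_mem' := by
    intro a ha t x
    apply a.injective
    rw [ha]
    simp

theorem mem_GX (σ : Equiv.Perm X) :
    σ ∈ GX S X ↔ ∀ (t : S) (x : X), σ (((1 : S), t) • x) = ((1 : S), t) • σ x := Iff.rfl

/-- the left action, as a homomorphism into `GX` -/
def iotaX (S : Type u) [Group S] (X : Type v) [MulAction (S × S) X] : S →* GX S X where
  toFun s := ⟨MulAction.toPerm ((s, (1 : S)) : S × S), by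
    intro t x
    show ((s, (1 : S)) : S × S) • ((1 : S), t) • x = ((1 : S), t) • ((s, (1 : S)) : S × S) • x
    rw [← mul_smul, ← mul_smul]
    simp⟩
  map_one' := by
    apply Subtype.ext
    ext x
    show (((1 : S), (1 : S)) : S × S) • x = x
    exact one_smul _ x
  map_mul' a b := by
    apply Subtype.ext
    ext x
    show ((a * b, (1 : S)) : S × S) • x = ((a, (1 : S)) : S × S) • ((b, (1 : S)) : S × S) • x
    rw [← mul_smul]
    simp

theorem iotaX_apply (s : S) (x : X) :
    ((iotaX S X s : GX S X) : Equiv.Perm X) x = ((s, (1 : S)) : S × S) • x := rfl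

/-- the permutation of the right orbits induced by an element of `GX` -/
def barPerm (σ : GX S X) : Equiv.Perm (Ybar S X) where
  toFun := Quotient.map (sa := rightRel S X) (sb := rightRel S X) σ.1 (by
    rintro x y ⟨t, rfl⟩
    exact ⟨t, (σ.2 t x).symm⟩)
  invFun := Quotient.map (sa := rightRel S X) (sb := rightRel S X) (σ⁻¹).1 (by
    rintro x y ⟨t, rfl⟩
    exact ⟨t, ((σ⁻¹).2 t x).symm⟩)
  left_inv := by
    intro y
    induction y using Quotient.inductionOn with
    | h x =>
      show Quotient.mk (rightRel S X) ((σ⁻¹).1 (σ.1 x)) = Quotient.mk _ x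
      congr 1
      simp
  right_inv := by
    intro y
    induction y using Quotient.inductionOn with
    | h x =>
      show Quotient.mk (rightRel S X) (σ.1 ((σ⁻¹).1 x)) = Quotient.mk _ x
      congr 1
      simp

theorem barPerm_mk (σ : GX S X) (x : X) :
    barPerm σ (Quotient.mk (rightRel S X) x) = Quotient.mk (rightRel S X) (σ.1 x) := rfl

section Transfer

variable {A : Type*} [CommGroup A] (lam : S →* A) (r : X → S)
  (hr : ∀ (t : S) (x : X), r (((1 : S), t) • x) = r x * t⁻¹)

/-- the local factor of the transfer -/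
def fac (σ : GX S X) (x : X) : A := lam (r (σ.1 x) * (r x)⁻¹)

include hr in
theorem fac_right (σ : GX S X) (t : S) (x : X) :
    fac lam r σ (((1 : S), t) • x) = fac lam r σ x := by
  unfold fac
  rw [σ.2 t x, hr, hr]
  congr 1
  group

include hr in
theorem fac_out (σ : GX S X) (x : X) :
    fac lam r σ (Quotient.mk (rightRel S X) x).out = fac lam r σ x := by
  have h1 : (rightRel S X).r (Quotient.mk (rightRel S X) x).out x :=
    Quotient.exact (Quotient.out_eq _)
  obtain ⟨t, ht⟩ := h1
  conv_rhs => rw [← ht]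
  rw [fac_right lam r hr]

variable [Fintype (Ybar S X)]

/-- the transfer attached to the retraction `r` -/
noncomputable def trans (σ : GX S X) : A := ∏ y : Ybar S X, fac lam r σ y.out

include hr in
theorem trans_mul (σ σ' : GX S X) :
    trans lam r (σ * σ') = trans lam r σ * trans lam r σ' := by
  unfold trans
  have h1 : ∀ y : Ybar S X, fac lam r (σ * σ') y.out =
      fac lam r σ (barPerm σ' y).out * fac lam r σ' y.out := by
    intro y
    have h2 : barPerm σ' y = Quotient.mk (rightRel S X) (σ'.1 y.out) := by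
      conv_lhs => rw [← Quotient.out_eq y]
      exact barPerm_mk σ' y.out
    rw [h2, fac_out lam r hr]
    unfold fac
    rw [← map_mul]
    congr 1
    show r (σ.1 (σ'.1 y.out)) * (r y.out)⁻¹ = _
    group
  rw [Finset.prod_congr rfl (fun y _ => h1 y), Finset.prod_mul_distrib]
  congr 1
  exact Equiv.prod_comp (barPerm σ') (fun y => fac lam r σ y.out)

/-- the transfer as a homomorphism -/
noncomputable def transHom : GX S X →* A :=
  MonoidHom.mk' (trans lam r) (trans_mul lam r hr)

theorem transHom_apply (σ : GX S X) : transHom lam r hr σ = trans lam r σ := rfl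

/-- evaluation on elements whose left action commutes with the retraction -/
theorem trans_iota_of_equivariant (c : S) (hc : ∀ x : X, r (((c, (1 : S)) : S × S) • x) = c * r x) :
    trans lam r (iotaX S X c) = lam c ^ Fintype.card (Ybar S X) := by
  unfold trans
  have h1 : ∀ y : Ybar S X, fac lam r (iotaX S X c) y.out = lam c := by
    intro y
    unfold fac
    rw [iotaX_apply, hc]
    congr 1
    group
  rw [Finset.prod_congr rfl (fun y _ => h1 y), Finset.prod_const, Finset.card_univ]

include hr in
/-- a retraction shows that the right action has `|X| / |S|` orbits -/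
theorem card_eq_of_retraction [Finite S] [Finite X] :
    Nat.card X = Nat.card (Ybar S X) * Nat.card S := by
  rw [← Nat.card_prod]
  apply Nat.card_congr
  refine Equiv.ofBijective (fun x => (Quotient.mk (rightRel S X) x, r x)) ⟨?_, ?_⟩
  · intro x x' h
    have h1 : Quotient.mk (rightRel S X) x = Quotient.mk (rightRel S X) x' :=
      congrArg Prod.fst h
    have h2 : r x = r x' := congrArg Prod.snd h
    obtain ⟨t, ht⟩ : (rightRel S X).r x x' := Quotient.exact h1
    rw [← ht, hr] at h2
    have h3 : t = 1 := by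
      have : r x * t⁻¹ = r x * 1 := by rw [mul_one]; exact h2.symm
      have := mul_left_cancel this
      exact inv_eq_one.mp this
    rw [← ht, h3]
    exact (one_one_smul x).symm
  · rintro ⟨y, s⟩
    refine ⟨((1 : S), s⁻¹ * r y.out) • y.out, ?_⟩
    apply Prod.ext
    · show Quotient.mk (rightRel S X) _ = y
      conv_rhs => rw [← Quotient.out_eq y]
      apply Quotient.sound
      exact ⟨(s⁻¹ * r y.out)⁻¹, by rw [← mul_smul]; simp [one_one_smul]⟩
    · show r _ = s
      rw [hr]
      group

end Transfer

section Retraction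

/-- a retraction equivariant for the left action of a subgroup `Z` whose elements are "fixed"
by every point stabilizer -/
theorem exists_retraction (Z : Subgroup S)
    (hZ : ∀ (x : X) (c : S) (t : S), c ∈ Z → ((c, t) : S × S) • x = x → t = c) :
    ∃ r : X → S, ∀ (c : S), c ∈ Z → ∀ (t : S) (x : X),
      r (((c, t) : S × S) • x) = c * r x * t⁻¹ := by
  classical
  obtain ⟨K, hK⟩ : ∃ K : Subgroup (S × S), K = Z.prod ⊤ := ⟨_, rfl⟩
  have hmemK : ∀ (c t : S), c ∈ Z → ((c, t) : S × S) ∈ K := by
    intro c t hc
    rw [hK]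
    exact ⟨hc, Subgroup.mem_top t⟩
  have hKZ : ∀ k : K, (k.1.1 : S) ∈ Z := by
    intro k
    have h0 : (k : S × S) ∈ Z.prod ⊤ := (le_of_eq hK) k.2
    exact h0.1
  let rep : X → X := fun x => (Quotient.mk (orbitRel K X) x).out
  have hrep : ∀ x, ∃ k : K, k • rep x = x := by
    intro x
    have h1 : (orbitRel K X).r x (rep x) :=
      (orbitRel K X).symm (Quotient.exact (Quotient.out_eq (Quotient.mk (orbitRel K X) x)))
    exact h1
  choose kk hkk using hrep
  have key : ∀ (x : X) (k : K), k • rep x = x → k.1.1 * k.1.2⁻¹ = (kk x).1.1 * (kk x).1.2⁻¹ := by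
    intro x k hk
    have h1 : ((kk x)⁻¹ * k) • rep x = rep x := by
      rw [mul_smul, hk, inv_smul_eq_iff, hkk]
    have h2 : ((((kk x).1.1)⁻¹ * k.1.1, ((kk x).1.2)⁻¹ * k.1.2) : S × S) • rep x = rep x := h1
    have h3 := hZ (rep x) _ _ (Z.mul_mem (Z.inv_mem (hKZ (kk x))) (hKZ k)) h2
    have h4 : k.1.2 = (kk x).1.2 * ((kk x).1.1)⁻¹ * k.1.1 := by
      calc k.1.2 = (kk x).1.2 * (((kk x).1.2)⁻¹ * k.1.2) := by group
        _ = (kk x).1.2 * (((kk x).1.1)⁻¹ * k.1.1) := by rw [h3]
        _ = _ := by group
    rw [h4]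
    group
  refine ⟨fun x => (kk x).1.1 * (kk x).1.2⁻¹, ?_⟩
  intro c hc t x
  have hrepeq : rep (((c, t) : S × S) • x) = rep x := by
    show (Quotient.mk (orbitRel K X) _).out = (Quotient.mk (orbitRel K X) x).out
    congr 1
    apply Quotient.sound
    exact ⟨⟨(c, t), hmemK c t hc⟩, rfl⟩
  have h1 : (⟨(c, t), hmemK c t hc⟩ * kk x : K) • rep (((c, t) : S × S) • x) =
      ((c, t) : S × S) • x := by
    rw [hrepeq, mul_smul, hkk]
    rfl
  have h2 := key _ _ h1
  show (kk (((c, t) : S × S) • x)).1.1 * (kk (((c, t) : S × S) • x)).1.2⁻¹ =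
    c * ((kk x).1.1 * (kk x).1.2⁻¹) * t⁻¹
  rw [← h2]
  show (c * (kk x).1.1) * (t * (kk x).1.2)⁻¹ = _
  group

end Retraction

end Cfsg.Agent.Lib.helper17.CB12
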