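import Cfsg.Agent.Lib.helper17.CB11
import Cfsg.Agent.Lib.helper17.CB12
import Cfsg.Agent.Lib.Helper27.FusJoin

set_option autoImplicit false

namespace Cfsg.Agent.Lib.helper17.CB13

open Cfsg Cfsg.FusionSystem MulAction
open Cfsg.Agent.Lib.Helper26
open Cfsg.Agent.Lib.helper17.ParkGraph (graphOf IsFGraph mem_graphOf alpha1 alpha2 alpha1_apply
  alpha2_apply)
open Cfsg.Agent.Lib.helper17.CB1 Cfsg.Agent.Lib.helper17.CB2
open Cfsg.Agent.Lib.helper17.CB11 Cfsg.Agent.Lib.helper17.CB12

universe u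

variable {Ω : Type u} [Group Ω] {S : Subgroup Ω}

/-- elements of the centre of the system are fixed by every map of the system -/
theorem center_fixed [Finite S] (F : FusionSystem S) {R : Subgroup Ω} {θ : R →* Ω}
    (hθ : θ ∈ F.Hom R) {c : Ω} (hc : c ∈ F.center) (hcR : c ∈ R) : θ ⟨c, hcR⟩ = c := by
  have hcen := Cfsg.Agent.Lib.Helper27.isCentral_center F
  obtain ⟨ψ, -, hext, hfix⟩ := hcen.2 R θ hθ
  have h1 := hext ⟨c, hcR⟩
  have h2 := hfix ⟨c, hc⟩
  have e : Subgroup.inclusion (le_sup_left : R ≤ R ⊔ F.center) ⟨c, hcR⟩ =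
      Subgroup.inclusion (le_sup_right : F.center ≤ R ⊔ F.center) ⟨c, hc⟩ := rfl
  rw [e, h2] at h1
  exact h1.symm

/-- **The transfer of a saturated fusion system**: an `F`-invariant homomorphism extending a
given homomorphism `lam` into an abelian group, up to a power prime to `p` on the centre. -/
theorem exists_transfer [Finite S] {p : ℕ} [Fact p.Prime] (hS : IsPGroup p S)
    (F : FusionSystem S) (hF : F.IsSaturated p) {A : Type*} [CommGroup A] (lam : S →* A) :
    ∃ (τ : S →* A) (m : ℕ), ¬ p ∣ m ∧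
      (∀ (P : Subgroup Ω) (φ : P →* Ω) (hφ : φ ∈ F.Hom P) (x : P),
        τ ⟨φ x, apply_mem F hφ x⟩ = τ ⟨x, source_le F hφ x.2⟩) ∧
      (∀ (z : Ω) (_ : z ∈ F.center) (hzS : z ∈ S), τ ⟨z, hzS⟩ = lam ⟨z, hzS⟩ ^ m) := by
  classical
  obtain ⟨X, hfin, hact, hXg, hst, m, hcard, hm⟩ := exists_char_biset hS F hF
  have hZ : ∀ (x : X) (c t : S), c ∈ F.center.subgroupOf S → ((c, t) : S × S) • x = x →
      t = c := by
    intro x c t hc hfix
    have hM : ∀ a ∈ Subgroup.zpowers ((c, t) : S × S), a • x = x := by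
      intro a ha
      have h1 : Subgroup.zpowers ((c, t) : S × S) ≤ stabilizer (S × S) x := by
        rw [Subgroup.zpowers_le]
        exact hfix
      exact h1 ha
    obtain ⟨R, θ, hθ, hMeq⟩ := hXg _ x hM
    have h2 : ((c, t) : S × S) ∈ graphOf S R θ := by
      rw [← hMeq]
      exact Subgroup.mem_zpowers _
    obtain ⟨hcR, he⟩ := mem_graphOf.mp h2
    apply Subtype.ext
    rw [← he]
    exact center_fixed F hθ (Subgroup.mem_subgroupOf.mp hc) hcR
  obtain ⟨r, hr⟩ := exists_retraction (F.center.subgroupOf S) hZ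
  have hr1 : ∀ (t : S) (x : X), r (((1 : S), t) • x) = r x * t⁻¹ := by
    intro t x
    rw [hr 1 (Subgroup.one_mem _) t x, one_mul]
  have : Fintype (Ybar S X) := Fintype.ofFinite _
  have hcard2 := card_eq_of_retraction r hr1
  have hm' : Fintype.card (Ybar S X) = m := by
    rw [hcard, mul_comm] at hcard2
    rw [← Nat.card_eq_fintype_card]
    exact (Nat.eq_of_mul_eq_mul_right Nat.card_pos hcard2).symm
  refine ⟨(transHom lam r hr1).comp (iotaX S X), m, hm, ?_, ?_⟩
  · intro P φ hφ u
    have hP : P ≤ S := source_le F hφ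
    have hφS : ∀ x : P, φ x ∈ S := apply_mem F hφ
    obtain ⟨e, he⟩ := exists_twisted_equiv F hXg hst hP φ hφ hφS
    have heG : e ∈ GX S X := by
      intro t x
      have := he ((1 : P), t) x
      have h1 : alpha1 hP ((1 : P), t) = ((1 : S), t) := by
        rw [alpha1_apply]; apply Prod.ext <;> simp
      have h2 : alpha2 φ hφS ((1 : P), t) = ((1 : S), t) := by
        rw [alpha2_apply]; apply Prod.ext <;> simp
      rw [h1, h2] at this
      exact this
    have hcomm : iotaX S X ⟨φ u, hφS u⟩ * (⟨e, heG⟩ : GX S X) =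
        (⟨e, heG⟩ : GX S X) * iotaX S X ⟨u, hP u.2⟩ := by
      apply Subtype.ext
      apply Equiv.ext
      intro z
      simp only [Subgroup.coe_mul, Equiv.Perm.mul_apply, iotaX_apply]
      have := he (u, (1 : S)) z
      rw [alpha1_apply, alpha2_apply] at this
      exact this.symm
    have h3 := congrArg (transHom lam r hr1) hcomm
    rw [map_mul, map_mul, mul_comm] at h3
    exact mul_left_cancel h3
  · intro z hz hzS
    show trans lam r (iotaX S X ⟨z, hzS⟩) = _
    rw [trans_iota_of_equivariant lam r ⟨z, hzS⟩, hm']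
    intro x
    have := hr ⟨z, hzS⟩ (Subgroup.mem_subgroupOf.mpr hz) 1 x
    rw [inv_one, mul_one] at this
    exact this

end Cfsg.Agent.Lib.helper17.CB13
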