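import Mathlib
import Cfsg.Agent.Lib.Helper18.HSub6

set_option autoImplicit false

/-! A `p`-nilpotency criterion: `T' ≤ Q ≤ Φ(T)` with `Q ⊴ G` and `N_G(T)` acting on `T` by inner
automorphisms forces a normal `p`-complement; consequence for conjugation maps. -/

namespace Cfsg.Agent.Lib.helper17.NQ1

open Cfsg Subgroup

section TypeLevel

variable {G : Type*} [Group G] [Finite G] {p : ℕ} [hp : Fact p.Prime]

/-- Burnside step: the quotient by `Q` has a normal `p`-complement. -/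
theorem quot_npc (T : Sylow p G) (Q : Subgroup G) [Q.Normal] (hQT : Q ≤ T)
    (hcomm : ∀ a ∈ T, ∀ b ∈ T, a * b * a⁻¹ * b⁻¹ ∈ Q)
    (hNT : ∀ n ∈ normalizer ((T : Subgroup G) : Set G),
      ∃ t ∈ T, ∀ u ∈ T, n * u * n⁻¹ = t * u * t⁻¹) :
    HasNormalPComplement p (G ⧸ Q) := by
  have hsurj : Function.Surjective (QuotientGroup.mk' Q) := QuotientGroup.mk'_surjective Q
  set Tb : Sylow p (G ⧸ Q) := T.mapSurjective hsurj with hTb
  have hTbc : (Tb : Subgroup (G ⧸ Q)) = (T : Subgroup G).map (QuotientGroup.mk' Q) :=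
    Sylow.coe_mapSurjective hsurj T
  -- preimages of elements of `Tb` lie in `T`
  have hpre : ∀ g : G, (QuotientGroup.mk' Q) g ∈ (Tb : Subgroup (G ⧸ Q)) → g ∈ T := by
    intro g hg
    rw [hTbc] at hg
    obtain ⟨t, ht, hte⟩ := hg
    have h1 : (QuotientGroup.mk' Q) (t⁻¹ * g) = 1 := by
      rw [map_mul, map_inv, hte, inv_mul_cancel]
    have h2 : t⁻¹ * g ∈ Q := (QuotientGroup.eq_one_iff _).mp h1
    have h3 : t * (t⁻¹ * g) ∈ T := (T : Subgroup G).mul_mem ht (hQT h2)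
    simpa using h3
  have hnorm : ∀ n : G, (QuotientGroup.mk' Q) n ∈ normalizer ((Tb : Subgroup (G ⧸ Q)) : Set (G ⧸ Q)) →
      ∀ u ∈ T, n * u * n⁻¹ ∈ T := by
    intro n hn u hu
    apply hpre
    have hu' : (QuotientGroup.mk' Q) u ∈ (Tb : Subgroup (G ⧸ Q)) := by
      rw [hTbc]; exact ⟨u, hu, rfl⟩
    have := (mem_normalizer_iff.mp hn _).mp hu'
    rwa [map_mul, map_mul, map_inv]
  have hcen : normalizer ((Tb : Subgroup (G ⧸ Q)) : Set (G ⧸ Q)) ≤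
      centralizer ((Tb : Subgroup (G ⧸ Q)) : Set (G ⧸ Q)) := by
    intro nb hnb
    obtain ⟨n, rfl⟩ := hsurj nb
    have hnN : n ∈ normalizer ((T : Subgroup G) : Set G) := by
      rw [mem_normalizer_iff]
      intro u
      constructor
      · intro hu
        exact hnorm n hnb u hu
      · intro hu
        have hinv : (QuotientGroup.mk' Q) n⁻¹ ∈
            normalizer ((Tb : Subgroup (G ⧸ Q)) : Set (G ⧸ Q)) := by
          rw [map_inv]; exact inv_mem hnb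
        have := hnorm n⁻¹ hinv _ hu
        have e : n⁻¹ * (n * u * n⁻¹) * n⁻¹⁻¹ = u := by group
        rw [e] at this
        exact this
    obtain ⟨t, ht, htu⟩ := hNT n hnN
    intro ub hub
    have hub' : ub ∈ (Tb : Subgroup (G ⧸ Q)) := hub
    rw [hTbc] at hub'
    obtain ⟨u, hu, rfl⟩ := hub'
    -- want: mk u * mk n = mk n * mk u
    have h1 : n * u * n⁻¹ = t * u * t⁻¹ := htu u hu
    have h2 : t * u * t⁻¹ * u⁻¹ ∈ Q := hcomm t ht u hu
    have h3 : (QuotientGroup.mk' Q) (n * u * n⁻¹ * u⁻¹) = 1 := by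
      rw [h1]; exact (QuotientGroup.eq_one_iff _).mpr h2
    have h4 : (QuotientGroup.mk' Q) n * (QuotientGroup.mk' Q) u * ((QuotientGroup.mk' Q) n)⁻¹ *
        ((QuotientGroup.mk' Q) u)⁻¹ = 1 := by
      rw [← map_inv, ← map_inv, ← map_mul, ← map_mul, ← map_mul]; exact h3
    have h5 : (QuotientGroup.mk' Q) n * (QuotientGroup.mk' Q) u * ((QuotientGroup.mk' Q) n)⁻¹ =
        (QuotientGroup.mk' Q) u := mul_inv_eq_one.mp h4
    have h6 : (QuotientGroup.mk' Q) n * (QuotientGroup.mk' Q) u =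
        (QuotientGroup.mk' Q) u * (QuotientGroup.mk' Q) n := mul_inv_eq_iff_eq_mul.mp h5
    exact h6.symm
  have hcompl := MonoidHom.ker_transferSylow_isComplement' Tb hcen
  exact ⟨Tb, _, inferInstance, hcompl⟩

/-- The normal `p`-complement. -/
theorem exists_npc (T : Sylow p G) (Q : Subgroup G) [Q.Normal] (hQT : Q ≤ T)
    (hcomm : ∀ a ∈ T, ∀ b ∈ T, a * b * a⁻¹ * b⁻¹ ∈ Q)
    (hfrat : ∀ T₁ : Subgroup G, T₁ ≤ T → (T : Subgroup G) ≤ Q ⊔ T₁ → (T : Subgroup G) ≤ T₁)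
    (hNT : ∀ n ∈ normalizer ((T : Subgroup G) : Set G),
      ∃ t ∈ T, ∀ u ∈ T, n * u * n⁻¹ = t * u * t⁻¹) :
    ∃ X : Subgroup G, X.Normal ∧ (Nat.card X).Coprime p ∧ ∃ j : ℕ, X.index = p ^ j := by
  have hQp : IsPGroup p Q := T.isPGroup'.to_le hQT
  obtain ⟨X, hXc, hXi, hXf⟩ := Cfsg.Agent.Lib.Helper18.HSub.frattini_npc Q hQp
    (quot_npc T Q hQT hcomm hNT)
  have hTN : (T : Subgroup G) ≤ normalizer (X : Set G) := by
    have h1 : (T : Subgroup G) ≤ Q ⊔ ((T : Subgroup G) ⊓ normalizer (X : Set G)) := by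
      intro u hu
      obtain ⟨z, hz, hzu⟩ := hXf u
      have h2 : z⁻¹ * u ∈ (T : Subgroup G) ⊓ normalizer (X : Set G) :=
        ⟨(T : Subgroup G).mul_mem (inv_mem (hQT hz)) hu, hzu⟩
      have h3 : z * (z⁻¹ * u) ∈ Q ⊔ ((T : Subgroup G) ⊓ normalizer (X : Set G)) :=
        mul_mem (mem_sup_left hz) (mem_sup_right h2)
      simpa using h3
    exact (hfrat _ inf_le_left h1).trans inf_le_right
  have hXn : X.Normal := by
    rw [← normalizer_eq_top_iff, eq_top_iff]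
    intro g _
    obtain ⟨z, hz, hzg⟩ := hXf g
    have h3 : z * (z⁻¹ * g) ∈ normalizer (X : Set G) := mul_mem (hTN (hQT hz)) hzg
    simpa using h3
  exact ⟨X, hXn, hXc, hXi⟩

/-- With a normal `p`-complement, conjugation maps between subsets of the Sylow subgroup are
induced by elements of the Sylow subgroup. -/
theorem conj_eq_of_npc (T : Sylow p G) (X : Subgroup G) [hXn : X.Normal]
    (hXc : (Nat.card X).Coprime p) (hXi : ∃ j : ℕ, X.index = p ^ j) (l : G) :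
    ∃ t ∈ T, ∀ u ∈ T, l * u * l⁻¹ ∈ T → l * u * l⁻¹ = t * u * t⁻¹ := by
  obtain ⟨j, hj⟩ := hXi
  have hcompl : X.IsComplement' (T : Subgroup G) :=
    Cfsg.Agent.S0072.isComplement'_sylow_of_normal_pcomp X hXc hj T
  obtain ⟨⟨⟨x, hx⟩, ⟨t, ht⟩⟩, hxt, -⟩ := hcompl.existsUnique l
  have hxt' : x * t = l := hxt
  have hdisj : Disjoint X (T : Subgroup G) := hcompl.disjoint
  refine ⟨t, ht, fun u hu hlu => ?_⟩
  have hu' : t * u * t⁻¹ ∈ T := mul_mem (mul_mem ht hu) (inv_mem ht)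
  have e1 : l * u * l⁻¹ = x * (t * u * t⁻¹) * x⁻¹ := by
    rw [← hxt']; simp only [mul_inv_rev, mul_assoc]
  have h1 : x * (t * u * t⁻¹) * x⁻¹ * (t * u * t⁻¹)⁻¹ ∈ X := by
    have h2 : (t * u * t⁻¹) * x⁻¹ * (t * u * t⁻¹)⁻¹ ∈ X := hXn.conj_mem _ (inv_mem hx) _
    have h3 : x * ((t * u * t⁻¹) * x⁻¹ * (t * u * t⁻¹)⁻¹) ∈ X := mul_mem hx h2
    simpa only [mul_assoc] using h3
  have h2 : x * (t * u * t⁻¹) * x⁻¹ * (t * u * t⁻¹)⁻¹ ∈ (T : Subgroup G) := by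
    rw [← e1]
    exact mul_mem hlu (inv_mem hu')
  have h3 : x * (t * u * t⁻¹) * x⁻¹ * (t * u * t⁻¹)⁻¹ = 1 := by
    have := hdisj.le_bot ⟨h1, h2⟩
    exact (Subgroup.mem_bot).mp this
  rw [e1]
  exact mul_inv_eq_one.mp h3

theorem conj_eq_type (T : Sylow p G) (Q : Subgroup G) [Q.Normal] (hQT : Q ≤ T)
    (hcomm : ∀ a ∈ T, ∀ b ∈ T, a * b * a⁻¹ * b⁻¹ ∈ Q)
    (hfrat : ∀ T₁ : Subgroup G, T₁ ≤ T → (T : Subgroup G) ≤ Q ⊔ T₁ → (T : Subgroup G) ≤ T₁)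
    (hNT : ∀ n ∈ normalizer ((T : Subgroup G) : Set G),
      ∃ t ∈ T, ∀ u ∈ T, n * u * n⁻¹ = t * u * t⁻¹) (l : G) :
    ∃ t ∈ T, ∀ u ∈ T, l * u * l⁻¹ ∈ T → l * u * l⁻¹ = t * u * t⁻¹ := by
  obtain ⟨X, hXn, hXc, hXi⟩ := exists_npc T Q hQT hcomm hfrat hNT
  exact conj_eq_of_npc T X hXc hXi l

end TypeLevel

section Ambient

variable {L : Type*} [Group L] [Finite L] {p : ℕ} [hp : Fact p.Prime]

/-- Ambient version: everything happens inside `N_L(Q)`. -/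
theorem conj_eq_ambient (T : Sylow p L) (Q : Subgroup L) (hQT : Q ≤ T)
    (hTN : (T : Subgroup L) ≤ normalizer (Q : Set L))
    (hcomm : ∀ a ∈ T, ∀ b ∈ T, a * b * a⁻¹ * b⁻¹ ∈ Q)
    (hfrat : ∀ T₁ : Subgroup L, T₁ ≤ T → (T : Subgroup L) ≤ Q ⊔ T₁ → (T : Subgroup L) ≤ T₁)
    (hNT : ∀ n ∈ normalizer (Q : Set L), n ∈ normalizer ((T : Subgroup L) : Set L) →
      ∃ t ∈ T, ∀ u ∈ T, n * u * n⁻¹ = t * u * t⁻¹)
    (l : L) (hl : l ∈ normalizer (Q : Set L)) :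
    ∃ t ∈ T, ∀ u ∈ T, l * u * l⁻¹ ∈ T → l * u * l⁻¹ = t * u * t⁻¹ := by
  obtain ⟨N, hN⟩ : ∃ N : Subgroup L, N = normalizer (Q : Set L) := ⟨_, rfl⟩
  have hTN' : (T : Subgroup L) ≤ N := hN ▸ hTN
  have hlN : l ∈ N := hN ▸ hl
  have hQn : (Q.subgroupOf N).Normal := by
    rw [hN]; exact normal_in_normalizer
  obtain ⟨T', hT'⟩ : ∃ T' : Sylow p ↥N, T' = T.subtype hTN' := ⟨_, rfl⟩
  have hT'c : (T' : Subgroup ↥N) = (T : Subgroup L).subgroupOf N := by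
    rw [hT']; exact Sylow.coe_subtype T hTN'
  have hmemT' : ∀ x : ↥N, x ∈ T' ↔ (x : L) ∈ T := by
    intro x
    show x ∈ (T' : Subgroup ↥N) ↔ _
    rw [hT'c, mem_subgroupOf]
    rfl
  have hres := conj_eq_type T' (Q.subgroupOf N) ?_ ?_ ?_ ?_ ⟨l, hlN⟩
  · obtain ⟨t, ht, htu⟩ := hres
    refine ⟨(t : L), (hmemT' t).mp ht, fun u hu hlu => ?_⟩
    have h1 := htu ⟨u, hTN' hu⟩ ((hmemT' _).mpr hu) ((hmemT' _).mpr hlu)
    exact congrArg Subtype.val h1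
  · intro x hx
    exact (hmemT' x).mpr (hQT (mem_subgroupOf.mp hx))
  · intro a ha b hb
    exact mem_subgroupOf.mpr (hcomm a ((hmemT' a).mp ha) b ((hmemT' b).mp hb))
  · intro T₁ hT₁ hsup
    have h1 : T₁.map N.subtype ≤ (T : Subgroup L) := by
      rintro _ ⟨x, hx, rfl⟩
      exact (hmemT' x).mp (hT₁ hx)
    have h2 : (T : Subgroup L) ≤ Q ⊔ T₁.map N.subtype := by
      intro u hu
      have h3 : (⟨u, hTN' hu⟩ : ↥N) ∈ Q.subgroupOf N ⊔ T₁ := hsup ((hmemT' _).mpr hu)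
      have h4 : N.subtype ⟨u, hTN' hu⟩ ∈ (Q.subgroupOf N ⊔ T₁).map N.subtype := ⟨_, h3, rfl⟩
      rw [Subgroup.map_sup, subgroupOf_map_subtype] at h4
      have h6 : Q ⊓ N ⊔ T₁.map N.subtype ≤ Q ⊔ T₁.map N.subtype :=
        sup_le (inf_le_left.trans le_sup_left) le_sup_right
      exact h6 h4
    have h5 := hfrat _ h1 h2
    intro x hx
    obtain ⟨y, hy, hyx⟩ := h5 ((hmemT' x).mp hx)
    have : y = x := Subtype.ext hyx
    exact this ▸ hy
  · intro n hn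
    have hnQ : (n : L) ∈ normalizer (Q : Set L) := hN ▸ n.2
    have hnT : (n : L) ∈ normalizer ((T : Subgroup L) : Set L) := by
      rw [mem_normalizer_iff]
      intro u
      constructor
      · intro hu
        have := (mem_normalizer_iff.mp hn ⟨u, hTN' hu⟩).mp ((hmemT' _).mpr hu)
        exact (hmemT' _).mp this
      · intro hu
        have hu' : u ∈ N := by
          have h1 : (n : L)⁻¹ * ((n : L) * u * (n : L)⁻¹) * (n : L) ∈ N :=
            mul_mem (mul_mem (inv_mem n.2) (hTN' hu)) n.2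
          have e : (n : L)⁻¹ * ((n : L) * u * (n : L)⁻¹) * (n : L) = u := by group
          rwa [e] at h1
        have := (mem_normalizer_iff.mp hn ⟨u, hu'⟩).mpr ((hmemT' _).mpr hu)
        exact (hmemT' _).mp this
    obtain ⟨t, ht, htu⟩ := hNT n hnQ hnT
    refine ⟨⟨t, hTN' ht⟩, (hmemT' _).mpr ht, fun u hu => ?_⟩
    exact Subtype.ext (htu u ((hmemT' u).mp hu))

end Ambient

end Cfsg.Agent.Lib.helper17.NQ1
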