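import Mathlib
import Cfsg.Agent.Lib.helper17.NQ1
import Cfsg.Agent.Lib.Helper26.FusionNC

set_option autoImplicit false

/-! A realized fusion system whose Sylow normalizer acts by inner automorphisms: maps that
preserve a subgroup `Q` with `[N,N] ≤ Q ≤ Φ(N)` are conjugations by elements of `N`. -/

namespace Cfsg.Agent.Lib.helper17.NQ2

open Cfsg Cfsg.FusionSystem Cfsg.Agent.Lib.Helper26 Subgroup

/-- a homomorphism lifting conjugation by `n` through an injective map -/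
theorem exists_hom_of_conj {A L : Type*} [Group A] [Group L] (ι : A →* L)
    (hinj : Function.Injective ι) (n : L) (hn : ∀ s : A, ∃ s' : A, ι s' = n * ι s * n⁻¹) :
    ∃ φ : A →* A, ∀ s, ι (φ s) = n * ι s * n⁻¹ := by
  choose f hf using hn
  refine ⟨{ toFun := f, map_one' := ?_, map_mul' := ?_ }, hf⟩
  · apply hinj
    rw [hf, map_one, mul_one, mul_inv_cancel]
  · intro a b
    apply hinj
    rw [hf, map_mul, map_mul, hf, hf]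
    group

variable {Ω : Type*} [Group Ω] {N₂ : Subgroup Ω}

theorem realized_inner [Finite N₂] {p : ℕ} [Fact p.Prime]
    (E : FusionSystem N₂) {L : Type*} [Group L] [Finite L] (ι : ↥N₂ →* L) (hE : E.IsRealizedBy ι)
    (T : Sylow p L) (hT : (T : Subgroup L) = ι.range)
    (hEinn : ∀ φ ∈ E.Hom N₂, ∃ g ∈ N₂, ∀ x : N₂, φ x = g * x * g⁻¹)
    (Q : Subgroup Ω)
    (hcomm : ∀ a ∈ N₂, ∀ b ∈ N₂, a * b * a⁻¹ * b⁻¹ ∈ Q)
    (hfrat : ∀ S₁ : Subgroup Ω, S₁ ≤ N₂ → N₂ ≤ Q ⊔ S₁ → N₂ ≤ S₁)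
    {P : Subgroup Ω} (hQP : Q ≤ P) (hPN : P ≤ N₂) {θ : P →* Ω} (hθ : θ ∈ E.Hom P)
    (hθQ : ∀ x : P, θ x ∈ Q ↔ (x : Ω) ∈ Q) (hθQ' : ∀ y ∈ Q, ∃ x : P, θ x = y) :
    ∃ g ∈ N₂, ∀ x : P, θ x = g * x * g⁻¹ := by
  obtain ⟨hinj, hreal⟩ := hE
  have hθN : ∀ x : P, θ x ∈ N₂ := fun x => apply_mem E hθ x
  obtain ⟨l, hl⟩ := (hreal P hPN θ hθN).mp hθ
  have hQN : Q ≤ N₂ := hQP.trans hPN
  obtain ⟨Q', hQ'⟩ : ∃ Q' : Subgroup ↥N₂, Q' = Q.subgroupOf N₂ := ⟨_, rfl⟩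
  have hmemQ' : ∀ x : ↥N₂, x ∈ Q' ↔ (x : Ω) ∈ Q := by
    intro x; rw [hQ', mem_subgroupOf]
  have hQ'n : Q'.Normal := by
    refine ⟨fun q hq g => ?_⟩
    rw [hmemQ'] at hq ⊢
    have h1 := hcomm g g.2 q q.2
    have h2 : (g : Ω) * q * (g : Ω)⁻¹ * (q : Ω)⁻¹ * q ∈ Q := Q.mul_mem h1 hq
    simpa using h2
  have hmemT : ∀ y : L, y ∈ T ↔ ∃ s : ↥N₂, ι s = y := by
    intro y
    show y ∈ (T : Subgroup L) ↔ _
    rw [hT]; rfl
  have hres := NQ1.conj_eq_ambient T (Q'.map ι) ?_ ?_ ?_ ?_ ?_ l ?_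
  · obtain ⟨t, ht, htu⟩ := hres
    obtain ⟨g, rfl⟩ := (hmemT t).mp ht
    refine ⟨g, g.2, fun x => ?_⟩
    have h1 : ι ⟨x, hPN x.2⟩ ∈ T := (hmemT _).mpr ⟨_, rfl⟩
    have h2 : l * ι ⟨x, hPN x.2⟩ * l⁻¹ ∈ T := by
      rw [← hl x]; exact (hmemT _).mpr ⟨_, rfl⟩
    have h3 := htu _ h1 h2
    rw [← hl x, ← map_inv, ← map_mul, ← map_mul] at h3
    exact congrArg Subtype.val (hinj h3)
  · -- Qι ≤ T
    rintro _ ⟨q, -, rfl⟩
    exact (hmemT _).mpr ⟨q, rfl⟩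
  · -- T ≤ N(Qι)
    intro t ht
    obtain ⟨s, rfl⟩ := (hmemT t).mp ht
    apply le_normalizer_map ι
    refine ⟨s, ?_, rfl⟩
    have : normalizer (Q' : Set ↥N₂) = ⊤ := normalizer_eq_top_iff.mpr hQ'n
    rw [this]; exact mem_top s
  · -- commutators
    intro a ha b hb
    obtain ⟨s, rfl⟩ := (hmemT a).mp ha
    obtain ⟨s', rfl⟩ := (hmemT b).mp hb
    refine ⟨s * s' * s⁻¹ * s'⁻¹, (hmemQ' _).mpr (hcomm s s.2 s' s'.2), ?_⟩
    simp only [map_mul, map_inv]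
  · -- Frattini
    intro T₁ hT₁ hsup
    obtain ⟨K₁, hK₁⟩ : ∃ K₁ : Subgroup ↥N₂, K₁ = T₁.comap ι := ⟨_, rfl⟩
    have hmapK : K₁.map ι = T₁ := by
      rw [hK₁, map_comap_eq, ← hT]; exact inf_eq_right.mpr hT₁
    have h1 : ∀ s : ↥N₂, s ∈ Q' ⊔ K₁ := by
      intro s
      have h2 : ι s ∈ Q'.map ι ⊔ T₁ := hsup ((hmemT _).mpr ⟨s, rfl⟩)
      rw [← hmapK, ← Subgroup.map_sup] at h2
      exact (mem_map_iff_mem hinj).mp h2
    have h3 : N₂ ≤ Q ⊔ K₁.map N₂.subtype := by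
      intro s hs
      have h4 : N₂.subtype ⟨s, hs⟩ ∈ (Q' ⊔ K₁).map N₂.subtype := ⟨_, h1 ⟨s, hs⟩, rfl⟩
      rw [Subgroup.map_sup, hQ', subgroupOf_map_subtype] at h4
      have h6 : Q ⊓ N₂ ⊔ K₁.map N₂.subtype ≤ Q ⊔ K₁.map N₂.subtype :=
        sup_le (inf_le_left.trans le_sup_left) le_sup_right
      exact h6 h4
    have h5 := hfrat _ (map_subtype_le K₁) h3
    intro t ht
    obtain ⟨s, rfl⟩ := (hmemT t).mp ht
    obtain ⟨k, hk, hks⟩ := h5 s.2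
    have : k = s := Subtype.ext hks
    rw [← this, ← hmapK]
    exact ⟨k, hk, rfl⟩
  · -- the normalizer of T acts by inner automorphisms
    intro n _ hnT
    have hn : ∀ s : ↥N₂, ∃ s' : ↥N₂, ι s' = n * ι s * n⁻¹ := by
      intro s
      have h1 : ι s ∈ (T : Subgroup L) := (hmemT _).mpr ⟨s, rfl⟩
      have h2 := (mem_normalizer_iff.mp hnT _).mp h1
      exact (hmemT _).mp h2
    obtain ⟨φ, hφ⟩ := exists_hom_of_conj ι hinj n hn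
    have hφE : N₂.subtype.comp φ ∈ E.Hom N₂ := by
      refine (hreal N₂ le_rfl (N₂.subtype.comp φ) (fun x => (φ x).2)).mpr ⟨n, fun x => ?_⟩
      exact hφ x
    obtain ⟨g, hg, hgx⟩ := hEinn _ hφE
    refine ⟨ι ⟨g, hg⟩, (hmemT _).mpr ⟨_, rfl⟩, fun u hu => ?_⟩
    obtain ⟨s, rfl⟩ := (hmemT u).mp hu
    rw [← hφ s, ← map_inv, ← map_mul, ← map_mul]
    congr 1
    exact Subtype.ext (hgx s)
  · -- l normalizes Qι
    rw [mem_normalizer_iff]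
    intro y
    constructor
    · rintro ⟨q, hq, rfl⟩
      have hqQ : (q : Ω) ∈ Q := (hmemQ' q).mp hq
      have h1 := hl ⟨q, hQP hqQ⟩
      have h2 : (⟨((⟨(q : Ω), hQP hqQ⟩ : P) : Ω), hPN (hQP hqQ)⟩ : ↥N₂) = q := Subtype.ext rfl
      rw [h2] at h1
      rw [← h1]
      exact ⟨_, (hmemQ' _).mpr ((hθQ _).mpr hqQ), rfl⟩
    · rintro ⟨q', hq', hq'e⟩
      have hq'Q : (q' : Ω) ∈ Q := (hmemQ' q').mp hq'
      obtain ⟨x, hx⟩ := hθQ' _ hq'Q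
      have hxQ : (x : Ω) ∈ Q := (hθQ x).mp (hx ▸ hq'Q)
      have h1 := hl x
      have h2 : (⟨θ x, hθN x⟩ : ↥N₂) = q' := Subtype.ext hx
      rw [h2, hq'e] at h1
      have h3 : y = ι ⟨x, hPN x.2⟩ := by
        have h4 := mul_right_cancel h1
        exact mul_left_cancel h4
      rw [h3]
      exact ⟨_, (hmemQ' _).mpr hxQ, rfl⟩

end Cfsg.Agent.Lib.helper17.NQ2
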