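import Cfsg.Agent.Lib.helper17.PStab

set_option autoImplicit false

namespace Cfsg.Agent.Lib.helper17.PStab2

open Cfsg Cfsg.FusionSystem Cfsg.Agent.Lib.Helper26 Cfsg.Agent.Lib.Helper27
open Cfsg.Agent.Lib.helper17.PStab

variable {Ω : Type*} [Group Ω] {S : Subgroup Ω}

theorem centric_of_receptive (F : FusionSystem S) {R : Subgroup Ω} (hR : F.IsReceptive R)
    (hC : centralizerIn S R ≤ R) : F.IsCentric R := by
  refine ⟨hR.1, fun R' hconj => ?_⟩
  obtain ⟨φ, hφ, hr⟩ := isConj_symm F hconj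
  obtain ⟨ψ, hψ, hag⟩ := hR.2 R' φ hφ hr
  intro c hc
  have hcE : c ∈ extender S R' φ := centralizerIn_le_extender S R' φ hc
  have hR'E : R' ≤ extender S R' φ := le_extender F hφ
  have h1 : ψ ⟨c, hcE⟩ ∈ centralizerIn S R := by
    refine ⟨apply_mem F hψ _, ?_⟩
    intro r hrR
    rw [← hr] at hrR
    obtain ⟨x, rfl⟩ := hrR
    rw [← hag x x.2 (hR'E x.2), ← map_mul, ← map_mul]
    congr 1
    apply Subtype.ext
    exact hc.2 x x.2
  have h2 := hC h1
  rw [← hr] at h2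
  obtain ⟨x, hx⟩ := h2
  rw [← hag x x.2 (hR'E x.2)] at hx
  have h3 := F.injective_of_mem hψ hx
  have h4 : (x : Ω) = c := congrArg Subtype.val h3
  rw [← h4]
  exact x.2

theorem inn_le_autInducedBy {R : Subgroup Ω} (hRS : R ≤ S) : Inn R ≤ autInducedBy S R := by
  rintro _ ⟨r, rfl⟩
  exact mem_autInducedBy_iff.mpr ⟨r, hRS r.2, fun x => rfl⟩

theorem conj_inn {G : Type*} [Group G] (a : MulAut G) {k : MulAut G} (hk : k ∈ Inn G) :
    a * k * a⁻¹ ∈ Inn G := by
  obtain ⟨r, rfl⟩ := hk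
  refine ⟨a r, ?_⟩
  ext x
  simp [MulAut.mul_apply]

theorem inn_le_pCoreMap [Finite S] {p : ℕ} [Fact p.Prime] (hS : IsPGroup p S)
    (F : FusionSystem S) {R : Subgroup Ω} (hRS : R ≤ S) :
    Inn R ≤ ((Cfsg.pCore p ↥(F.autGroup R)).map (F.autGroup R).subtype : Subgroup (MulAut R)) := by
  refine le_pCoreMap ((inn_le_autInducedBy hRS).trans (autInducedBy_le_autGroup F hRS))
    (fun a _ k hk => conj_inn a hk) ?_
  exact (isPGroup_autInducedBy hS R).to_le (inn_le_autInducedBy hRS)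

theorem pCoreMap_le_autInducedBy [Finite S] {p : ℕ} [Fact p.Prime]
    (F : FusionSystem S) {R : Subgroup Ω} (hR : F.IsFullyAutomized p R) :
    ((Cfsg.pCore p ↥(F.autGroup R)).map (F.autGroup R).subtype : Subgroup (MulAut R)) ≤
      autInducedBy S R := by
  obtain ⟨hRS, P, hP⟩ := hR
  have : Finite R := finite_of_le hRS
  rintro _ ⟨x, hx, rfl⟩
  have h1 : x ∈ (P : Subgroup (F.autGroup R)) := Helper1.pCore_le_sylow p P hx
  rw [hP] at h1
  exact Subgroup.mem_subgroupOf.mp h1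

end Cfsg.Agent.Lib.helper17.PStab2
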