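import Mathlib
import Cfsg.Agent.Lib.helper17.NQ2
import Cfsg.Agent.Lib.helper17.PStab2
import Cfsg.Agent.Lib.Helper26.KNorm8
import Cfsg.Agent.Lib.Helper27.ModelMain

set_option autoImplicit false

/-! Saturated fusion systems with `Aut_F(S)` inner: the normalizer system of a subgroup `Q` with
`[S,S] ≤ Q ≤ Φ(S)` is the inner system. -/

namespace Cfsg.Agent.Lib.helper17.NQ3

open Cfsg Cfsg.FusionSystem Cfsg.Agent.Lib.Helper26 Subgroup
open scoped commutatorElement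

universe u

variable {Ω : Type u} [Group Ω] {S : Subgroup Ω}

/-- injective self-maps of a finite subgroup are onto -/
theorem range_eq_of_maps_into {R : Subgroup Ω} [Finite R] (θ : R →* Ω)
    (hinj : Function.Injective θ) (hmaps : ∀ x, θ x ∈ R) : θ.range = R := by
  apply le_antisymm
  · rintro _ ⟨x, rfl⟩; exact hmaps x
  · intro y hy
    have hinj' : Function.Injective (θ.codRestrict R hmaps) :=
      fun a b hab => hinj (congrArg Subtype.val hab)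
    obtain ⟨x, hx⟩ := Finite.surjective_of_injective hinj' ⟨y, hy⟩
    exact ⟨x, congrArg Subtype.val hx⟩

theorem mem_normalizerHom_self (F : FusionSystem S) {R : Subgroup Ω} (hRS : R ≤ S) {θ : R →* Ω}
    (hθ : θ ∈ F.Hom R) (hr : θ.range = R) : θ ∈ F.normalizerHom R R := by
  have hle : R ⊔ R ≤ R := sup_le le_rfl le_rfl
  have hRN : R ≤ normalizerIn S R := le_normalizerIn_self hRS
  refine ⟨hθ, hRN, fun x => hRN (hr.le ⟨x, rfl⟩), θ.comp (Subgroup.inclusion hle),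
    restrict_mem F hθ hle, fun x => rfl, ?_⟩
  ext z
  rw [map_subgroupOf_sup_eq]
  constructor
  · rintro ⟨q, rfl⟩
    exact hr.le ⟨_, rfl⟩
  · intro hz
    obtain ⟨x, hx⟩ := hr.ge hz
    exact ⟨x, hx⟩

theorem inner_of_hN [Finite S] (F : FusionSystem S)
    (hN : ∀ N : FusionSystem (normalizerIn S S), F.IsNormalizerSystem S N →
      ∀ P : Subgroup Ω, N.Hom P = (innerFusionSystem (normalizerIn S S)).Hom P)
    (R : Subgroup Ω) (hR : R = S) (θ : R →* Ω) (hθ : θ ∈ F.Hom R) :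
    ∃ g ∈ S, ∀ x : R, θ x = g * x * g⁻¹ := by
  subst hR
  have h := hN (normalizerSystem F R le_rfl) (normalizerSystem_isNormalizerSystem F R le_rfl) R
  have hr : θ.range = R := range_eq_of_maps_into θ (F.injective_of_mem hθ) (apply_mem F hθ)
  have hmem : θ ∈ (normalizerSystem F R le_rfl).Hom R := mem_normalizerHom_self F le_rfl hθ hr
  rw [h] at hmem
  obtain ⟨-, g, hg, hgx⟩ := hmem
  exact ⟨g, hg.1, hgx⟩

theorem comm_mem {Q : Subgroup Ω} (h1 : (commutator ↥S).map S.subtype ≤ Q) {a b : Ω}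
    (ha : a ∈ S) (hb : b ∈ S) : a * b * a⁻¹ * b⁻¹ ∈ Q := by
  apply h1
  refine ⟨⁅(⟨a, ha⟩ : ↥S), ⟨b, hb⟩⁆, ?_, rfl⟩
  rw [commutator_def]
  exact commutator_mem_commutator (mem_top _) (mem_top _)

theorem mem_normalizer_of_comm_le {Q P : Subgroup Ω} (h1 : (commutator ↥S).map S.subtype ≤ Q)
    (hQP : Q ≤ P) (hPS : P ≤ S) {g : Ω} (hg : g ∈ S) : g ∈ normalizer (P : Set Ω) := by
  have key : ∀ g ∈ S, ∀ y ∈ P, g * y * g⁻¹ ∈ P := by
    intro g hg y hy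
    have h2 : g * y * g⁻¹ * y⁻¹ * y ∈ P := P.mul_mem (hQP (comm_mem h1 hg (hPS hy))) hy
    simpa using h2
  refine mem_normalizer_of_forall (key g hg) (fun y hy => ?_)
  have := key g⁻¹ (S.inv_mem hg) y hy
  rwa [inv_inv] at this

theorem normalizerIn_eq_of_comm_le {Q P : Subgroup Ω} (h1 : (commutator ↥S).map S.subtype ≤ Q)
    (hQP : Q ≤ P) (hPS : P ≤ S) : normalizerIn S P = S :=
  le_antisymm inf_le_left (fun _ hg => ⟨hg, mem_normalizer_of_comm_le h1 hQP hPS hg⟩)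

theorem fullyNormalized_of_comm_le [Finite S] (F : FusionSystem S) {Q P : Subgroup Ω}
    (h1 : (commutator ↥S).map S.subtype ≤ Q) (hQP : Q ≤ P) (hPS : P ≤ S) :
    F.IsFullyNormalized P := by
  refine ⟨hPS, fun P' _ => ?_⟩
  rw [normalizerIn_eq_of_comm_le h1 hQP hPS]
  exact card_le_card_of_le_of_finite inf_le_left

theorem frattini_prop [Finite S] {Q : Subgroup Ω} (h2 : Q ≤ (frattini ↥S).map S.subtype)
    (S₁ : Subgroup Ω) (hS₁ : S₁ ≤ S) (hsup : S ≤ Q ⊔ S₁) : S ≤ S₁ := by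
  have hQS : Q ≤ S := h2.trans (map_subtype_le _)
  have hQf : Q.subgroupOf S ≤ frattini ↥S := by
    intro x hx
    obtain ⟨y, hy, hyx⟩ := h2 (mem_subgroupOf.mp hx)
    have : y = x := Subtype.ext hyx
    exact this ▸ hy
  have h3 : S₁.subgroupOf S ⊔ frattini ↥S = ⊤ := by
    rw [eq_top_iff]
    intro x _
    have h4 : x ∈ (Q ⊔ S₁).subgroupOf S := mem_subgroupOf.mpr (hsup x.2)
    rw [subgroupOf_sup hQS hS₁] at h4
    have h5 : Q.subgroupOf S ⊔ S₁.subgroupOf S ≤ S₁.subgroupOf S ⊔ frattini ↥S :=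
      sup_le (hQf.trans le_sup_right) le_sup_left
    exact h5 h4
  have h6 := frattini_nongenerating h3
  intro s hs
  have : (⟨s, hs⟩ : ↥S) ∈ S₁.subgroupOf S := h6 ▸ mem_top _
  exact mem_subgroupOf.mp this

/-- Claim B: an `F`-automorphism of an overgroup `P ≥ Q` preserving `Q` is conjugation by an
element of `S`. -/
theorem claimB [Finite S] {p : ℕ} [Fact p.Prime] (hS : IsPGroup p S) (F : FusionSystem S)
    (hF : F.IsSaturated p)
    (hInn : ∀ R : Subgroup Ω, R = S → ∀ θ : R →* Ω, θ ∈ F.Hom R →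
      ∃ g ∈ S, ∀ x : R, θ x = g * x * g⁻¹)
    {Q : Subgroup Ω} (h1 : (commutator ↥S).map S.subtype ≤ Q)
    (h2 : Q ≤ (frattini ↥S).map S.subtype)
    {P : Subgroup Ω} (hQP : Q ≤ P) (hPS : P ≤ S) {χ : P →* Ω} (hχ : χ ∈ F.Hom P)
    (hχr : χ.range = P) (hχQ : ∀ x : P, χ x ∈ Q ↔ (x : Ω) ∈ Q) :
    ∃ g ∈ S, ∀ x : P, χ x = g * x * g⁻¹ := by
  -- `P` is receptive
  have hPfn : F.IsFullyNormalized P := fullyNormalized_of_comm_le F h1 hQP hPS
  obtain ⟨-, -, hPrec⟩ := saturated_fullyNormalized hS F hF hPfn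
  -- the overgroup `P₂ = P C_S(P)`
  obtain ⟨P₂, hP₂⟩ : ∃ P₂ : Subgroup Ω, P₂ = P ⊔ centralizerIn S P := ⟨_, rfl⟩
  have hPP₂ : P ≤ P₂ := hP₂ ▸ le_sup_left
  have hCP₂ : centralizerIn S P ≤ P₂ := hP₂ ▸ le_sup_right
  have hP₂S : P₂ ≤ S := hP₂ ▸ sup_le hPS (centralizerIn_le S P)
  have hQP₂ : Q ≤ P₂ := hQP.trans hPP₂
  have hP₂ext : P₂ ≤ extender S P χ :=
    hP₂ ▸ sup_le (le_extender F hχ) (centralizerIn_le_extender S P χ)
  obtain ⟨ψ, hψ, hψχ⟩ := hPrec.2 P χ hχ hχr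
  obtain ⟨χ₂, hχ₂def⟩ : ∃ χ₂ : P₂ →* Ω, χ₂ = ψ.comp (Subgroup.inclusion hP₂ext) := ⟨_, rfl⟩
  have hχ₂ : χ₂ ∈ F.Hom P₂ := hχ₂def ▸ restrict_mem F hψ hP₂ext
  have hχ₂χ : ∀ x : P, χ₂ ⟨x, hPP₂ x.2⟩ = χ x := by
    intro x
    rw [hχ₂def]
    exact hψχ x x.2 _
  have hχ₂inj : Function.Injective χ₂ := F.injective_of_mem hχ₂
  -- `χ₂` preserves `Q`
  have hχ₂Q : ∀ x : P₂, χ₂ x ∈ Q ↔ (x : Ω) ∈ Q := by
    intro x
    constructor
    · intro hx
      obtain ⟨y, hy⟩ := hχr.ge (hQP hx)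
      have h3 : χ₂ ⟨y, hPP₂ y.2⟩ = χ₂ x := (hχ₂χ y).trans hy
      have h4 : (⟨y, hPP₂ y.2⟩ : P₂) = x := hχ₂inj h3
      have h5 : (y : Ω) = x := congrArg Subtype.val h4
      rw [← h5]
      exact (hχQ y).mp (hy ▸ hx)
    · intro hx
      have h3 : χ₂ x = χ ⟨x, hQP hx⟩ := hχ₂χ ⟨x, hQP hx⟩
      rw [h3]
      exact (hχQ _).mpr hx
  have hχ₂Q' : ∀ y ∈ Q, ∃ x : P₂, χ₂ x = y := by
    intro y hy
    obtain ⟨x, hx⟩ := hχr.ge (hQP hy)
    exact ⟨⟨x, hPP₂ x.2⟩, (hχ₂χ x).trans hx⟩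
  -- `P₂` is fully normalized and centric
  have hP₂fn : F.IsFullyNormalized P₂ := fullyNormalized_of_comm_le F h1 hQP₂ hP₂S
  obtain ⟨-, -, hP₂rec⟩ := saturated_fullyNormalized hS F hF hP₂fn
  have hP₂c : F.IsCentric P₂ := by
    refine PStab2.centric_of_receptive F hP₂rec ?_
    intro c hc
    exact hCP₂ ⟨hc.1, fun y hy => hc.2 y (hPP₂ hy)⟩
  -- the normalizer system and its model
  have hNS : normalizerIn S P₂ = S := normalizerIn_eq_of_comm_le h1 hQP₂ hP₂S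
  have hE := normalizerSystem_isNormalizerSystem F P₂ hP₂S
  have hcon := normalizerSystem_constrained hS F hF hP₂fn hP₂c _ hE
  have hfinN : Finite ↥(normalizerIn S P₂) := finite_of_le inf_le_left
  have hSN : IsPGroup p ↥(normalizerIn S P₂) := hS.to_le inf_le_left
  obtain ⟨L, hL, ι, hfin, hreal, ⟨T, hT⟩, -⟩ :=
    Cfsg.Agent.Lib.Helper27.Model.exists_model p hSN _ hcon
  have hP₂N : P₂ ≤ normalizerIn S P₂ := le_normalizerIn_self hP₂S
  have hEχ₂ : χ₂ ∈ (normalizerSystem F P₂ hP₂S).Hom P₂ := by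
    refine mem_normalizerHom_self F hP₂S hχ₂ ?_
    have : Finite P₂ := finite_of_le hP₂S
    refine range_eq_of_maps_into χ₂ hχ₂inj ?_
    intro z
    obtain ⟨z, hz⟩ := z
    subst hP₂
    refine map_sup_mem χ₂ (P ⊔ centralizerIn S P) (fun x => ?_) (fun c => ?_) ⟨z, hz⟩
    · have h3 : χ₂ (Subgroup.inclusion le_sup_left x) = χ x := hχ₂χ x
      rw [h3]
      exact mem_sup_left (hχr.le ⟨x, rfl⟩)
    · apply mem_sup_right
      refine ⟨apply_mem F hχ₂ _, ?_⟩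
      intro y hy
      obtain ⟨x, hx⟩ := hχr.ge hy
      have h3 : χ₂ (Subgroup.inclusion le_sup_left x) = y := (hχ₂χ x).trans hx
      rw [← h3, ← map_mul, ← map_mul]
      congr 1
      apply Subtype.ext
      exact c.2.2 x x.2
  have hres := NQ2.realized_inner (p := p) (normalizerSystem F P₂ hP₂S) ι hreal T hT ?_ Q ?_ ?_
    hQP₂ hP₂N hEχ₂ hχ₂Q hχ₂Q'
  · obtain ⟨g, hg, hgx⟩ := hres
    refine ⟨g, hg.1, fun x => ?_⟩
    rw [← hχ₂χ x]
    exact hgx _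
  · intro φ hφ
    obtain ⟨g, hg, hgx⟩ := hInn _ hNS φ hφ.1
    refine ⟨g, ?_, hgx⟩
    rw [hNS]; exact hg
  · intro a ha b hb
    exact comm_mem h1 ha.1 hb.1
  · intro S₁ hS₁ hsup
    rw [hNS] at hS₁ hsup ⊢
    exact frattini_prop h2 S₁ hS₁ hsup

/-- Claim A: an `F`-map defined on an overgroup of `Q` and preserving `Q` is conjugation by an
element of `S`. -/
theorem claimA [Finite S] {p : ℕ} [Fact p.Prime] (hS : IsPGroup p S) (F : FusionSystem S)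
    (hF : F.IsSaturated p)
    (hInn : ∀ R : Subgroup Ω, R = S → ∀ θ : R →* Ω, θ ∈ F.Hom R →
      ∃ g ∈ S, ∀ x : R, θ x = g * x * g⁻¹)
    {Q : Subgroup Ω} (h1 : (commutator ↥S).map S.subtype ≤ Q)
    (h2 : Q ≤ (frattini ↥S).map S.subtype)
    {R : Subgroup Ω} (hQR : Q ≤ R) (hRS : R ≤ S) {ψ : R →* Ω} (hψ : ψ ∈ F.Hom R)
    (hψQ : ∀ x : R, ψ x ∈ Q ↔ (x : Ω) ∈ Q) (hψQ' : ∀ y ∈ Q, ∃ x : R, ψ x = y) :
    ∃ g ∈ S, ∀ x : R, ψ x = g * x * g⁻¹ := by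
  have hQS : Q ≤ S := hQR.trans hRS
  have hQR' : Q ≤ ψ.range := by
    intro y hy
    obtain ⟨x, hx⟩ := hψQ' y hy
    exact ⟨x, hx⟩
  have hR'S : ψ.range ≤ S := range_le F hψ
  have hR'fn : F.IsFullyNormalized ψ.range := fullyNormalized_of_comm_le F h1 hQR' hR'S
  obtain ⟨-, -, hR'rec⟩ := saturated_fullyNormalized hS F hF hR'fn
  have hfinR' : Finite ψ.range := finite_of_le hR'S
  obtain ⟨ψi, hψi, hψir, hψi1, hψi2⟩ := exists_inv F hψ rfl
  have hψiR : ∀ y : ψ.range, ψi y ∈ R := fun y => hψir.le ⟨y, rfl⟩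
  have hψiQ : ∀ y : ψ.range, ψi y ∈ Q ↔ (y : Ω) ∈ Q := by
    intro y
    have h3 := hψQ ⟨ψi y, hψiR y⟩
    rw [hψi2 y (hψiR y)] at h3
    exact h3.symm
  -- every element of `S` lies in the extender
  have hext : ∀ g ∈ S, g ∈ extender S R ψ := by
    intro g hg
    have hgN : g ∈ normalizer (R : Set Ω) := mem_normalizer_of_comm_le h1 hQR hRS hg
    have hgNQ : g ∈ normalizer (Q : Set Ω) := mem_normalizer_of_comm_le h1 le_rfl hQS hg
    have hc1 : ∀ y : ψ.range, (conjHom R g) (ψi.codRestrict R hψiR y) ∈ R := by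
      intro y
      exact conj_mem_of_mem_normalizer hgN ⟨ψi y, hψiR y⟩
    have hcomp1 := F.comp_mem hψi (F.conj_mem hRS hg) hψiR
    have hcomp2 := F.comp_mem hcomp1 hψ hc1
    obtain ⟨χ, hχdef⟩ : ∃ χ : ψ.range →* Ω, χ = ψ.comp
        (((conjHom R g).comp (ψi.codRestrict R hψiR)).codRestrict R hc1) := ⟨_, rfl⟩
    have hχ : χ ∈ F.Hom ψ.range := hχdef ▸ hcomp2
    have hχap : ∀ y : ψ.range, χ y = ψ ⟨g * ψi y * g⁻¹,
        conj_mem_of_mem_normalizer hgN ⟨ψi y, hψiR y⟩⟩ := by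
      intro y; rw [hχdef]; rfl
    have hχr : χ.range = ψ.range := by
      refine range_eq_of_maps_into χ (F.injective_of_mem hχ) (fun y => ?_)
      rw [hχap]; exact ⟨_, rfl⟩
    have hχQ : ∀ y : ψ.range, χ y ∈ Q ↔ (y : Ω) ∈ Q := by
      intro y
      rw [hχap, hψQ, ← hψiQ y]
      show g * ψi y * g⁻¹ ∈ Q ↔ ψi y ∈ Q
      exact (mem_normalizer_iff.mp hgNQ (ψi y)).symm
    obtain ⟨h, hh, hhy⟩ := claimB hS F hF hInn h1 h2 hQR' hR'S hχ hχr hχQ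
    refine mem_extender_iff.mpr ⟨hg, hgN, h, hh, fun x => ?_⟩
    have h3 := hhy ⟨ψ x, ⟨x, rfl⟩⟩
    rw [hχap] at h3
    have h4 : ψi ⟨ψ x, ⟨x, rfl⟩⟩ = x := hψi1 x ⟨x, rfl⟩
    rw [← h3]
    congr 1
    apply Subtype.ext
    show g * x * g⁻¹ = g * ψi ⟨ψ x, ⟨x, rfl⟩⟩ * g⁻¹
    rw [h4]
  have hextS : extender S R ψ = S :=
    le_antisymm ((extender_le_normalizerIn S R ψ).trans inf_le_left) hext
  obtain ⟨ψ₂, hψ₂, hψ₂ψ⟩ := hR'rec.2 R ψ hψ rfl
  obtain ⟨g, hg, hgx⟩ := hInn _ hextS ψ₂ hψ₂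
  refine ⟨g, hg, fun x => ?_⟩
  rw [← hψ₂ψ x x.2 (hext x (hRS x.2))]
  exact hgx _

/-- The main statement. -/
theorem main [Finite S] (p : ℕ) [Fact p.Prime] (hS : IsPGroup p S) (F : FusionSystem S)
    (hF : F.IsSaturated p)
    (hN : ∀ N : FusionSystem (normalizerIn S S), F.IsNormalizerSystem S N →
      ∀ P : Subgroup Ω, N.Hom P = (innerFusionSystem (normalizerIn S S)).Hom P)
    (Q : Subgroup Ω) (h1 : (commutator ↥S).map S.subtype ≤ Q)
    (h2 : Q ≤ (frattini ↥S).map S.subtype) :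
    ∀ N : FusionSystem (normalizerIn S Q), F.IsNormalizerSystem Q N →
      ∀ P : Subgroup Ω, N.Hom P = (innerFusionSystem (normalizerIn S Q)).Hom P := by
  intro N hNQ P
  have hQS : Q ≤ S := h2.trans (map_subtype_le _)
  have hInn := inner_of_hN F hN
  ext φ
  constructor
  · intro hφ
    rw [hNQ P] at hφ
    obtain ⟨hφF, hPN, hφN, ψ, hψ, hψφ, hψQ⟩ := hφ
    have hinj : Function.Injective ψ := F.injective_of_mem hψ
    have hQiff : ∀ x : ↥(P ⊔ Q), ψ x ∈ Q ↔ (x : Ω) ∈ Q := by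
      intro x
      constructor
      · intro hx
        obtain ⟨x', hx', hxx'⟩ := hψQ.ge hx
        have : x' = x := hinj hxx'
        rw [← this]
        exact mem_subgroupOf.mp hx'
      · intro hx
        exact hψQ.le ⟨x, mem_subgroupOf.mpr hx, rfl⟩
    have hQsurj : ∀ y ∈ Q, ∃ x : ↥(P ⊔ Q), ψ x = y := by
      intro y hy
      obtain ⟨x, -, hx⟩ := hψQ.ge hy
      exact ⟨x, hx⟩
    obtain ⟨g, hg, hgx⟩ := claimA hS F hF hInn h1 h2 le_sup_right (source_le F hψ) hψ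
      hQiff hQsurj
    refine ⟨hPN, g, ⟨hg, mem_normalizer_of_comm_le h1 le_rfl hQS hg⟩, fun x => ?_⟩
    rw [← hψφ x]
    exact hgx _
  · rintro ⟨hPN, g, hg, hgx⟩
    have h3 : conjHom P g ∈ N.Hom P := N.conj_mem hPN hg
    have h4 : φ = conjHom P g := MonoidHom.ext hgx
    rw [h4]
    exact h3

end Cfsg.Agent.Lib.helper17.NQ3
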