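import Mathlib
import Cfsg.Agent.Lib.helper14.OBNd
import Cfsg.Agent.Lib.helper14.DBN.Defs

/-!
Project DBN, row SDBASIC (helper17): the generators of type `D`.
-/

set_option autoImplicit false

namespace Cfsg.Agent.Lib.helper14.DBN

open Matrix DoubleCoset
open Cfsg.Agent.Lib.helper3 Cfsg.Agent.Lib.helper14
open Cfsg.Agent.Lib.helper14.UBN Cfsg.Agent.Lib.helper14.OBN

universe u
variable {F : Type u} [Field F] {n : ℕ}

/-- values of the permutation of an `A`-node -/
theorem dbnsdbasic_val_A (k : Fin (n / 2)) (hk : k.val + 1 < n / 2) (x : Fin n) :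
    (tauS k x).val = if x.val = k.val then k.val + 1 else if x.val = k.val + 1 then k.val
      else if x.val = n - 1 - k.val then n - 2 - k.val
      else if x.val = n - 2 - k.val then n - 1 - k.val else x.val := by
  have hpa : (pa k).val = k.val := rfl
  have hpc : (pc k).val = k.val + 1 := pc_of_lt k hk
  have hrpa : (rv (pa k)).val = n - 1 - k.val := by
    unfold rv; rw [Fin.val_rev, hpa]; omega
  have hrpc : (rv (pc k)).val = n - 2 - k.val := by
    unfold rv; rw [Fin.val_rev, hpc]; omega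
  have e1 : x = pa k ↔ x.val = k.val := by rw [Fin.ext_iff, hpa]
  have e2 : x = pc k ↔ x.val = k.val + 1 := by rw [Fin.ext_iff, hpc]
  have e3 : x = rv (pa k) ↔ x.val = n - 1 - k.val := by rw [Fin.ext_iff, hrpa]
  have e4 : x = rv (pc k) ↔ x.val = n - 2 - k.val := by rw [Fin.ext_iff, hrpc]
  rw [tauS_apply]
  unfold tauF
  simp only [e1, e2, e3, e4]
  split_ifs <;> first | exact hpc | exact hpa | exact hrpc | exact hrpa | rfl

/-- values of the permutation of the last node -/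
theorem dbnsdbasic_val_L (k : Fin (n / 2)) (hk : ¬ k.val + 1 < n / 2) (x : Fin n) :
    (tauS k x).val = if x.val = k.val then n - 1 - k.val
      else if x.val = n - 1 - k.val then k.val else x.val := by
  have hpa : (pa k).val = k.val := rfl
  have hrpa : (rv (pa k)).val = n - 1 - k.val := by
    unfold rv; rw [Fin.val_rev, hpa]; omega
  have hpc : pc k = rv (pa k) := pc_of_not_lt k hk
  have e1 : x = pa k ↔ x.val = k.val := by rw [Fin.ext_iff, hpa]
  have e3 : x = rv (pa k) ↔ x.val = n - 1 - k.val := by rw [Fin.ext_iff, hrpa]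
  rw [tauS_apply]
  unfold tauF
  rw [hpc, rv_rv]
  simp only [e1, e3]
  split_ifs <;> first | exact hrpa | exact hpa | rfl


/-- product of monomial elements -/
theorem dbnsdbasic_monoU_mul (π ρ : Equiv.Perm (Fin n)) (hπ : RvC π) (hρ : RvC ρ) :
    monoU (S := Sid F) π hπ * monoU ρ hρ = monoU (π * ρ) (RvC_mul hπ hρ) := by
  apply mt_ext_bV
  intro y
  rw [mt_mul_mulVec, monoU_mulVec_bV, monoU_mulVec_bV, monoU_mulVec_bV, Equiv.Perm.mul_apply]

theorem dbnsdbasic_kL_not_lt (hn2 : 2 ≤ n) : ¬ (kL hn2).val + 1 < n / 2 := by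
  rw [kL_val]; omega

theorem dbnsdbasic_kP_lt (hn4 : 4 ≤ n) : (kP hn4).val + 1 < n / 2 := by
  rw [kP_val]; omega

theorem tL_comm (hn4 : 4 ≤ n) (k : Fin (n / 2)) (hk : k.val + 2 < n / 2) :
    tL F (le_trans (by norm_num) hn4) * sRef (S := Sid F) k * tL F (le_trans (by norm_num) hn4) =
      sRef (S := Sid F) k := by
  apply mt_ext_bV
  intro y
  unfold tL sRef
  rw [mt_mul_mulVec, mt_mul_mulVec, monoU_mulVec_bV, monoU_mulVec_bV, monoU_mulVec_bV,
    monoU_mulVec_bV]
  congr 1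
  apply Fin.ext
  have hL := dbnsdbasic_kL_not_lt (n := n) (le_trans (by norm_num) hn4)
  have hA : k.val + 1 < n / 2 := by omega
  rw [dbnsdbasic_val_L _ hL, dbnsdbasic_val_A k hA, dbnsdbasic_val_L _ hL,
    dbnsdbasic_val_A k hA, kL_val]
  split_ifs <;> omega

/-- the permutation of an `A`-node is a product of two disjoint transpositions -/
theorem dbnsdbasic_tauS_swap_A (k : Fin (n / 2)) (hk : k.val + 1 < n / 2) :
    tauS k = Equiv.swap (pa k) (pc k) * Equiv.swap (rv (pa k)) (rv (pc k)) := by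
  have hpa : (pa k).val = k.val := rfl
  have hpc : (pc k).val = k.val + 1 := pc_of_lt k hk
  have hrpa : (rv (pa k)).val = n - 1 - k.val := by
    unfold rv; rw [Fin.val_rev, hpa]; omega
  have hrpc : (rv (pc k)).val = n - 2 - k.val := by
    unfold rv; rw [Fin.val_rev, hpc]; omega
  have n1 : pa k ≠ rv (pa k) := by intro e; have := congrArg Fin.val e; omega
  have n2 : pa k ≠ rv (pc k) := by intro e; have := congrArg Fin.val e; omega
  have n3 : pc k ≠ rv (pa k) := by intro e; have := congrArg Fin.val e; omega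
  have n4 : pc k ≠ rv (pc k) := by intro e; have := congrArg Fin.val e; omega
  have n5 : pa k ≠ pc k := pa_ne_pc k
  have n6 : rv (pa k) ≠ rv (pc k) := fun e => n5 (rv_inj e)
  apply Equiv.ext
  intro x
  rw [Equiv.Perm.mul_apply]
  by_cases h1 : x = pa k
  · rw [h1, tauS_pa, Equiv.swap_apply_of_ne_of_ne n1 n2, Equiv.swap_apply_left]
  by_cases h2 : x = pc k
  · rw [h2, tauS_pc, Equiv.swap_apply_of_ne_of_ne n3 n4, Equiv.swap_apply_right]
  by_cases h3 : x = rv (pa k)
  · rw [h3, RvC_tauS k, tauS_pa, Equiv.swap_apply_left,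
      Equiv.swap_apply_of_ne_of_ne n2.symm n4.symm]
  by_cases h4 : x = rv (pc k)
  · rw [h4, RvC_tauS k, tauS_pc, Equiv.swap_apply_right,
      Equiv.swap_apply_of_ne_of_ne n1.symm n3.symm]
  rw [tauS_apply, tauF_of_ne h1 h2 h3 h4, Equiv.swap_apply_of_ne_of_ne h3 h4,
    Equiv.swap_apply_of_ne_of_ne h1 h2]

/-- the permutation of the last node is a transposition -/
theorem dbnsdbasic_tauS_swap_L (k : Fin (n / 2)) (hk : ¬ k.val + 1 < n / 2) :
    tauS k = Equiv.swap (pa k) (rv (pa k)) := by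
  have hpc : pc k = rv (pa k) := pc_of_not_lt k hk
  apply Equiv.ext
  intro x
  by_cases h1 : x = pa k
  · rw [h1, tauS_pa, Equiv.swap_apply_left, hpc]
  by_cases h3 : x = rv (pa k)
  · rw [h3, Equiv.swap_apply_right, ← hpc, tauS_pc]
  have h2 : x ≠ pc k := by rw [hpc]; exact h3
  have h4 : x ≠ rv (pc k) := by rw [hpc, rv_rv]; exact h1
  rw [tauS_apply, tauF_of_ne h1 h2 h3 h4, Equiv.swap_apply_of_ne_of_ne h1 h3]

theorem sign_tauS (k : Fin (n / 2)) (hk : k.val + 1 < n / 2) :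
    Equiv.Perm.sign (tauS k) = 1 := by
  rw [dbnsdbasic_tauS_swap_A k hk, Equiv.Perm.sign_mul, Equiv.Perm.sign_swap (pa_ne_pc k),
    Equiv.Perm.sign_swap (fun e => pa_ne_pc k (rv_inj e))]
  rfl

theorem sign_tauS_last (k : Fin (n / 2)) (hk : ¬ k.val + 1 < n / 2) :
    Equiv.Perm.sign (tauS k) = -1 := by
  rw [dbnsdbasic_tauS_swap_L k hk, Equiv.Perm.sign_swap (rv_pa_ne k).symm]

theorem isMono_sD (hn4 : 4 ≤ n) :
    IsMono (mt (sD F hn4)) (tauS (kL (le_trans (by norm_num) hn4)) * tauS (kP hn4) *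
      tauS (kL (le_trans (by norm_num) hn4))) := by
  unfold sD tL
  rw [mt_mul, mt_mul]
  exact isMono_mul (isMono_mul (isMono_sRef _) (isMono_sRef _)) (isMono_sRef _)

theorem SD_subset_NE (hn4 : 4 ≤ n) : SD F hn4 ⊆ (NE n F : Set (GS n F)) := by
  rintro s (⟨k, hk, rfl⟩ | hs)
  · exact ⟨tauS k, RvC_tauS k, isMono_sRef k, sign_tauS k hk⟩
  · rw [Set.mem_singleton_iff] at hs
    rw [hs]
    refine ⟨_, RvC_mul (RvC_mul (RvC_tauS _) (RvC_tauS _)) (RvC_tauS _), isMono_sD hn4, ?_⟩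
    rw [Equiv.Perm.sign_mul, Equiv.Perm.sign_mul, sign_tauS_last _ (dbnsdbasic_kL_not_lt _),
      sign_tauS _ (dbnsdbasic_kP_lt hn4)]
    rfl

theorem dbnsdbasic_tL_mul_self (hn2 : 2 ≤ n) : tL F hn2 * tL F hn2 = 1 := sRef_mul_self _

theorem dbnsdbasic_sD_mul_self (hn4 : 4 ≤ n) : sD F hn4 * sD F hn4 = 1 := by
  unfold sD
  have h1 := dbnsdbasic_tL_mul_self (F := F) (n := n) (le_trans (by norm_num) hn4)
  have h2 := sRef_mul_self (S := Sid F) (kP hn4)
  generalize tL F (le_trans (by norm_num) hn4) = t at h1 ⊢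
  generalize sRef (S := Sid F) (kP hn4) = s at h2 ⊢
  calc t * s * t * (t * s * t) = t * s * (t * t) * s * t := by group
    _ = 1 := by rw [h1, mul_one, mul_assoc t, h2, mul_one, h1]

theorem SD_sq (hn4 : 4 ≤ n) : ∀ s ∈ SD F hn4, s * s = 1 := by
  rintro s (⟨k, _, rfl⟩ | hs)
  · exact sRef_mul_self k
  · rw [Set.mem_singleton_iff] at hs
    rw [hs]
    exact dbnsdbasic_sD_mul_self hn4

/-- the permutation of `sD` differs from the permutations of the `A`-nodes -/
theorem dbnsdbasic_perm_ne (hn4 : 4 ≤ n) (k : Fin (n / 2)) (hk : k.val + 1 < n / 2) :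
    tauS k ≠ tauS (kL (le_trans (by norm_num) hn4)) * tauS (kP hn4) *
      tauS (kL (le_trans (by norm_num) hn4)) := by
  intro e
  have hL := dbnsdbasic_kL_not_lt (n := n) (le_trans (by norm_num) hn4)
  have hP := dbnsdbasic_kP_lt hn4
  have h1 := congrArg (fun π : Equiv.Perm (Fin n) => (π (pa (kP hn4))).val) e
  simp only [Equiv.Perm.mul_apply] at h1
  rw [dbnsdbasic_val_A k hk, dbnsdbasic_val_L _ hL, dbnsdbasic_val_A _ hP, dbnsdbasic_val_L _ hL,
    kL_val, kP_val] at h1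
  have h2 : (pa (kP hn4)).val = n / 2 - 2 := rfl
  rw [h2] at h1
  split_ifs at h1 <;> omega

theorem dbnsdbasic_sD_inv (hn4 : 4 ≤ n) : (sD F hn4)⁻¹ = sD F hn4 :=
  inv_eq_of_mul_eq_one_right (dbnsdbasic_sD_mul_self hn4)

theorem SD_inj (hn4 : 4 ≤ n) : ∀ s ∈ SD F hn4, ∀ s' ∈ SD F hn4,
    s⁻¹ * s' ∈ BU n (Sid F) → s = s' := by
  rintro s (⟨k, hk, rfl⟩ | hs) s' (⟨k', hk', rfl⟩ | hs') h
  · rw [sRef_injective_mod k k' h]
  · rw [Set.mem_singleton_iff] at hs'
    subst hs'
    exfalso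
    have hmono : IsMono (mt ((sRef (S := Sid F) k)⁻¹ * sD F hn4))
        (tauS k * (tauS (kL (le_trans (by norm_num) hn4)) * tauS (kP hn4) *
          tauS (kL (le_trans (by norm_num) hn4)))) := by
      rw [mt_mul]
      exact isMono_mul (isMono_sRef_inv k) (isMono_sD hn4)
    have h1 := isMono_one_of_up _ h hmono
    apply dbnsdbasic_perm_ne hn4 k hk
    have h2 := congrArg (fun π => tauS k * π) h1
    simp only [← mul_assoc, tauS_mul_self, one_mul, mul_one] at h2
    rw [← h2]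
  · rw [Set.mem_singleton_iff] at hs
    subst hs
    exfalso
    rw [dbnsdbasic_sD_inv hn4] at h
    have hmono : IsMono (mt (sD F hn4 * sRef (S := Sid F) k'))
        ((tauS (kL (le_trans (by norm_num) hn4)) * tauS (kP hn4) *
          tauS (kL (le_trans (by norm_num) hn4))) * tauS k') := by
      rw [mt_mul]
      exact isMono_mul (isMono_sD hn4) (isMono_sRef k')
    have h1 := isMono_one_of_up _ h hmono
    apply dbnsdbasic_perm_ne hn4 k' hk'
    have h2 := eq_inv_of_mul_eq_one_left h1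
    rw [tauS_inv] at h2
    exact h2.symm
  · rw [Set.mem_singleton_iff] at hs hs'
    rw [hs, hs']

theorem tL_conj_SD (hn4 : 4 ≤ n) : ∀ s ∈ SD F hn4,
    tL F (le_trans (by norm_num) hn4) * s * tL F (le_trans (by norm_num) hn4) ∈ SD F hn4 := by
  rintro s (⟨k, hk, rfl⟩ | hs)
  · by_cases hk2 : k.val + 2 < n / 2
    · rw [tL_comm hn4 k hk2]
      exact Or.inl ⟨k, hk, rfl⟩
    · have hkP : k = kP hn4 := Fin.ext (by rw [kP_val]; omega)
      rw [hkP]
      exact Or.inr rfl
  · rw [Set.mem_singleton_iff] at hs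
    rw [hs]
    refine Or.inl ⟨kP hn4, dbnsdbasic_kP_lt hn4, ?_⟩
    unfold sD
    have h1 := dbnsdbasic_tL_mul_self (F := F) (n := n) (le_trans (by norm_num) hn4)
    generalize tL F (le_trans (by norm_num) hn4) = t at h1 ⊢
    generalize sRef (S := Sid F) (kP hn4) = s
    calc t * (t * s * t) * t = (t * t) * s * (t * t) := by group
      _ = s := by rw [h1, one_mul, mul_one]

theorem sigD_mem (hn4 : 4 ≤ n) (i : ℕ) : sigD F hn4 i ∈ SD F hn4 := by
  unfold sigD
  split_ifs with h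
  · exact Or.inl ⟨⟨i, by omega⟩, h, rfl⟩
  · exact Or.inr rfl

theorem sigD_surj (hn4 : 4 ≤ n) : ∀ s ∈ SD F hn4, ∃ i < n / 2, sigD F hn4 i = s := by
  rintro s (⟨k, hk, rfl⟩ | hs)
  · refine ⟨k.val, k.2, ?_⟩
    unfold sigD
    rw [dif_pos hk]
  · rw [Set.mem_singleton_iff] at hs
    refine ⟨n / 2 - 1, by omega, ?_⟩
    unfold sigD
    rw [dif_neg (by omega), hs]

end Cfsg.Agent.Lib.helper14.DBN
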