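import Mathlib
import Cfsg.Agent.Lib.helper17.NQ3
import Cfsg.Agent.Lib.Helper26.ModelUniq3
import Cfsg.Agent.Lib.Helper27.PCoreOf

set_option autoImplicit false

/-! In a model `L` of the normalizer system of a fully normalized centric subgroup `Q`:
`Q ≤ O_p(L)` (pulled back), and `Q` is radical as soon as `O_p(L)` is the image of `Q`. -/

namespace Cfsg.Agent.Lib.helper17.NR1

open Cfsg Cfsg.FusionSystem Cfsg.Agent.Lib.Helper26 Cfsg.Agent.Lib.Helper27 Subgroup

universe u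

variable {Ω : Type u} [Group Ω] {S : Subgroup Ω}

/-- basic facts on a model of a normalizer system -/
theorem model_facts [Finite S] {p : ℕ} [Fact p.Prime] (F : FusionSystem S)
    {Q : Subgroup Ω} (hQS : Q ≤ S) (hQc : F.IsCentric Q)
    {L : Type*} [Group L] (ι : ↥(normalizerIn S Q) →* L)
    (hL : (normalizerSystem F Q hQS).IsModel p L ι) :
    (imSub ι Q).Normal ∧ centralizer ((imSub ι Q : Subgroup L) : Set L) ≤ imSub ι Q ∧
      Q ≤ preSub ι (pCore p L) := by
  obtain ⟨hfin, hreal, hT, hcent⟩ := hL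
  have hE := normalizerSystem_isNormalizerSystem F Q hQS
  have hQT : Q ≤ normalizerIn S Q := le_normalizerIn_self hQS
  have hQnE := normalizerSystem_isNormal F hQS _ hE
  have hQcE := normalizerSystem_isCentric F hQc _ hE
  have hn : (imSub ι Q).Normal := imSub_normal_of_isNormal _ hreal hT hcent hQnE
  have hC := centralizer_imSub_le _ hreal hT hcent hQnE hQcE
  refine ⟨hn, hC, ?_⟩
  have hfinT : Finite ↥(normalizerIn S Q) := finite_of_le inf_le_left
  have hp : IsPGroup p (imSub ι Q) := by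
    obtain ⟨T, hT⟩ := hT
    exact T.isPGroup'.to_le (hT ▸ imSub_le_range ι Q)
  have h1 : imSub ι Q ≤ pCore p L := Helper1.le_pCore hn hp
  intro x hx
  exact mem_preSub_iff.mpr ⟨hQT hx, h1 (apply_mem_imSub ι (hQT hx) hx)⟩

theorem radical_of_pCore_le [Finite S] {p : ℕ} [Fact p.Prime] (hS : IsPGroup p S)
    (F : FusionSystem S) {Q : Subgroup Ω} (hQS : Q ≤ S) (hQc : F.IsCentric Q)
    {L : Type*} [Group L] (ι : ↥(normalizerIn S Q) →* L)
    (hL : (normalizerSystem F Q hQS).IsModel p L ι)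
    (hle : preSub ι (pCore p L) ≤ Q) : F.IsRadical p Q := by
  obtain ⟨hn, hC, -⟩ := model_facts F hQS hQc ι hL
  obtain ⟨hfin, hreal, hT, hcent⟩ := hL
  have hE := normalizerSystem_isNormalizerSystem F Q hQS
  have hQT : Q ≤ normalizerIn S Q := le_normalizerIn_self hQS
  have hfinQ : Finite Q := finite_of_le hQS
  refine ⟨hQS, le_antisymm ?_ (PStab2.inn_le_pCoreMap hS F hQS)⟩
  obtain ⟨a, ha⟩ : ∃ a : L →* MulAut Q, a = modelActQ hreal.1 hQT hn := ⟨_, rfl⟩
  have hspec : ∀ (g : L) (x : Q), ι ⟨((a g x : Q) : Ω), hQT (a g x).2⟩ =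
      g * ι ⟨x, hQT x.2⟩ * g⁻¹ := by
    intro g x; rw [ha]; exact modelActQ_spec hreal.1 hQT hn g x
  -- the range of `a` is `Aut_F(Q)`
  have hrange : ∀ g : L, a g ∈ F.autGroup Q := by
    intro g
    rw [mem_autGroup_iff F hQS]
    have h1 : Q.subtype.comp (a g).toMonoidHom ∈ (normalizerSystem F Q hQS).Hom Q := by
      refine (hreal.2 Q hQT _ (fun x => hQT (a g x).2)).mpr ⟨g, fun x => ?_⟩
      exact hspec g x
    exact h1.1
  have hsurj : ∀ α ∈ F.autGroup Q, ∃ g : L, a g = α := by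
    intro α hα
    rw [mem_autGroup_iff F hQS] at hα
    have hr : (Q.subtype.comp α.toMonoidHom).range = Q := by
      refine NQ3.range_eq_of_maps_into _ (F.injective_of_mem hα) (fun x => (α x).2)
    have h1 : Q.subtype.comp α.toMonoidHom ∈ (normalizerSystem F Q hQS).Hom Q :=
      NQ3.mem_normalizerHom_self F hQS hα hr
    obtain ⟨g, hg⟩ := exists_of_mem_hom _ hreal h1
    refine ⟨g, ?_⟩
    ext x
    have h2 := hspec g x
    rw [← hg x] at h2
    exact congrArg (fun s : ↥(normalizerIn S Q) => (s : Ω)) (hreal.1 h2)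
  -- the preimage of `O_p(Aut_F(Q))`
  obtain ⟨K, hK⟩ : ∃ K : Subgroup (MulAut Q),
      K = (pCore p ↥(F.autGroup Q)).map (F.autGroup Q).subtype := ⟨_, rfl⟩
  rw [← hK]
  have hKp : IsPGroup p K := hK ▸ pCoreMap_isPGroup p (F.autGroup Q)
  have hKA : K ≤ F.autGroup Q := by
    rw [hK]; exact map_subtype_le _
  have hMn : (K.comap a).Normal := by
    refine ⟨fun m hm g => ?_⟩
    rw [mem_comap] at hm ⊢
    rw [map_mul, map_mul, map_inv, hK]
    exact pCoreMap_conj_mem p _ (hrange g) (hK ▸ hm)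
  have hkerp : IsPGroup p a.ker := by
    have h1 : a.ker ≤ imSub ι Q := by
      intro g hg
      rw [ha] at hg
      exact hC ((mem_ker_modelActQ_iff hreal.1 hQT hn g).mp hg)
    have h2 : IsPGroup p (imSub ι Q) := by
      obtain ⟨T, hT⟩ := hT
      exact T.isPGroup'.to_le (hT ▸ imSub_le_range ι Q)
    exact h2.to_le h1
  have hMp : IsPGroup p (K.comap a) := hKp.comap_of_ker_isPGroup a hkerp
  have hM : K.comap a ≤ pCore p L := Helper1.le_pCore hMn hMp
  intro κ hκ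
  obtain ⟨g, rfl⟩ := hsurj κ (hKA hκ)
  have hg : g ∈ pCore p L := hM (mem_comap.mpr hκ)
  have hUT : pCore p L ≤ ι.range := by
    obtain ⟨T, hT⟩ := hT
    exact hT ▸ Helper1.pCore_le_sylow p T
  obtain ⟨s, rfl⟩ := hUT hg
  have hsQ : (s : Ω) ∈ Q := hle (mem_preSub_iff.mpr ⟨s.2, hg⟩)
  refine ⟨⟨s, hsQ⟩, ?_⟩
  ext x
  have h2 := hspec (ι s) x
  have h3 : ι s * ι ⟨x, hQT x.2⟩ * (ι s)⁻¹ =
      ι ⟨(s : Ω) * x * (s : Ω)⁻¹, hQT (Q.mul_mem (Q.mul_mem hsQ x.2) (Q.inv_mem hsQ))⟩ := by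
    rw [← map_inv, ← map_mul, ← map_mul]; rfl
  rw [h3] at h2
  exact (congrArg (fun s : ↥(normalizerIn S Q) => (s : Ω)) (hreal.1 h2)).symm

end Cfsg.Agent.Lib.helper17.NR1
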