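import Mathlib
import Cfsg.Agent.Lib.helper17.NR1
import Cfsg.Agent.Lib.Helper27.ModelMain
import Cfsg.Agent.Lib.Helper27.FusJoin
import Cfsg.Agent.Lib.Helper27.CentralQuot
import Cfsg.Agent.Lib.Helper27.RealizeQuot
import Cfsg.Agent.Lib.Helper5.PConstr
import Cfsg.Agent.Lib.Helper5.SolvPSolv
import Cfsg.Agent.Lib.Helper5.Hol2
import Cfsg.Agent.Lib.Helper1.PLength
import Cfsg.Agent.S5103

set_option autoImplicit false

/-! A fusion system is realized by a finite `p`-solvable group iff it is constrained with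
`Aut_F(O_p(F))` `p`-solvable. -/

namespace Cfsg.Agent.Lib.helper17.NS1

open Cfsg Cfsg.FusionSystem Cfsg.Agent.Lib.Helper26 Subgroup

universe u

variable {Ω : Type u} [Group Ω] {S : Subgroup Ω}

/-- the conjugation action of a model on a subgroup normal in the system: a surjection onto
`Aut_F(Q)` with kernel `C_G(Q)` -/
theorem exists_act [Finite S] {p : ℕ} [Fact p.Prime] (F : FusionSystem S)
    {G : Type*} [Group G] (ι : S →* G) (hG : F.IsModel p G ι) {Q : Subgroup Ω}
    (hQ : F.IsNormal Q) :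
    ∃ a : G →* ↥(F.autGroup Q), Function.Surjective a ∧
      ∀ g, g ∈ a.ker ↔ g ∈ centralizer ((imSub ι Q : Subgroup G) : Set G) := by
  obtain ⟨hfin, hreal, hT, hcent⟩ := hG
  have hQS : Q ≤ S := hQ.1
  have hn : (imSub ι Q).Normal := imSub_normal_of_isNormal F hreal hT hcent hQ
  obtain ⟨a, ha⟩ : ∃ a : G →* MulAut Q, a = modelActQ hreal.1 hQS hn := ⟨_, rfl⟩
  have hspec : ∀ (g : G) (x : Q), ι ⟨((a g x : Q) : Ω), hQS (a g x).2⟩ =
      g * ι ⟨x, hQS x.2⟩ * g⁻¹ := by
    intro g x; rw [ha]; exact modelActQ_spec hreal.1 hQS hn g x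
  have hrange : ∀ g : G, a g ∈ F.autGroup Q := by
    intro g
    rw [mem_autGroup_iff F hQS]
    exact (hreal.2 Q hQS _ (fun x => hQS (a g x).2)).mpr ⟨g, fun x => hspec g x⟩
  refine ⟨a.codRestrict (F.autGroup Q) hrange, ?_, ?_⟩
  · rintro ⟨α, hα⟩
    have hα' := hα
    rw [mem_autGroup_iff F hQS] at hα'
    obtain ⟨g, hg⟩ := exists_of_mem_hom F hreal hα'
    refine ⟨g, ?_⟩
    apply Subtype.ext
    show a g = α
    ext x
    have h2 := hspec g x
    have h3 := hg x
    have h4 : ι ⟨((a g x : Q) : Ω), hQS (a g x).2⟩ = ι ⟨((α x : Q) : Ω), hQS (α x).2⟩ := by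
      rw [h2]; exact h3.symm
    exact congrArg (fun s : ↥S => (s : Ω)) (hreal.1 h4)
  · intro g
    rw [MonoidHom.mem_ker]
    rw [← mem_ker_modelActQ_iff hreal.1 hQS hn g, MonoidHom.mem_ker, ← ha]
    constructor
    · intro h
      exact congrArg Subtype.val h
    · intro h
      exact Subtype.ext h


/-- a constrained system with `p`-solvable `Aut_F(O_p(F))` is realized by a `p`-solvable group -/
theorem realizable_of_constrained [Finite S] {p : ℕ} [Fact p.Prime] (hS : IsPGroup p S)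
    (F : FusionSystem S) (hcon : F.IsConstrained p)
    (hsol : IsPSolvable p ↥(F.autGroup F.core)) :
    ∃ (G : Type u) (_ : Group G) (_ : Finite G) (ι : S →* G), IsPSolvable p G ∧
      F.IsRealizedBy ι ∧ ∃ T : Sylow p G, (T : Subgroup G) = ι.range := by
  obtain ⟨G, _, ι, hG⟩ := Helper27.Model.exists_model p hS F hcon
  haveI hfin : Finite G := hG.1
  obtain ⟨hQn, hQc⟩ := Helper27.core_isNormal_isCentric_of_constrained F hcon
  obtain ⟨a, hsurj, hker⟩ := exists_act F ι hG hQn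
  have hC := centralizer_imSub_le F hG.2.1 hG.2.2.1 hG.2.2.2 hQn hQc
  refine ⟨G, inferInstance, hfin, ι, ?_, hG.2.1, hG.2.2.1⟩
  have hkp : IsPGroup p a.ker := by
    have h1 : a.ker ≤ imSub ι F.core := fun g hg => hC ((hker g).mp hg)
    have h2 : IsPGroup p (imSub ι F.core) := by
      obtain ⟨T, hT⟩ := hG.2.2.1
      exact T.isPGroup'.to_le (hT ▸ imSub_le_range ι F.core)
    exact h2.to_le h1
  obtain ⟨m, hm⟩ := IsPGroup.iff_card.mp hkp
  have e : G ⧸ a.ker ≃* ↥(F.autGroup F.core) :=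
    QuotientGroup.quotientKerEquivOfSurjective a hsurj
  have hq : IsPSolvable p (G ⧸ a.ker) :=
    Helper5.isPSolvable_of_injective e.toMonoidHom e.injective hsol
  exact Helper5.isPSolvable_of_quotient a.ker (Or.inl ⟨m, hm⟩) hq

/-- a system realized by a `p`-solvable group is constrained with `p`-solvable `Aut_F(O_p(F))` -/
theorem constrained_of_realizable [Finite S] {p : ℕ} [Fact p.Prime] (hS : IsPGroup p S)
    (F : FusionSystem S) {G : Type u} [Group G] [Finite G] (ι : S →* G)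
    (hsol : IsPSolvable p G) (hR : F.IsRealizedBy ι)
    (hT : ∃ T : Sylow p G, (T : Subgroup G) = ι.range) :
    F.IsConstrained p ∧ IsPSolvable p ↥(F.autGroup F.core) := by
  obtain ⟨T, hT⟩ := hT
  haveI hKn : (pPrimeCore p G).Normal := Helper1.pPrimeCore_normal p
  have hbot : preSub ι (pPrimeCore p G) = ⊥ := by
    rw [eq_bot_iff]
    intro x hx
    obtain ⟨hxS, hxK⟩ := mem_preSub_iff.mp hx
    rw [mem_bot]
    have h1 : orderOf (ι ⟨x, hxS⟩) ∣ Nat.card (pPrimeCore p G) := by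
      have := orderOf_dvd_natCard (⟨ι ⟨x, hxS⟩, hxK⟩ : ↥(pPrimeCore p G))
      rwa [Subgroup.orderOf_mk] at this
    obtain ⟨k, hk⟩ := hS ⟨x, hxS⟩
    have h2 : orderOf (ι ⟨x, hxS⟩) ∣ p ^ k := by
      apply orderOf_dvd_of_pow_eq_one
      rw [← map_pow, hk, map_one]
    have hcop : (Nat.card (pPrimeCore p G)).Coprime (p ^ k) :=
      Nat.Coprime.pow_right k (Helper1.pPrimeCore_card_coprime p)
    have h3 : orderOf (ι ⟨x, hxS⟩) = 1 :=
      Nat.Coprime.eq_one_of_dvd (Nat.Coprime.coprime_dvd_left h1 hcop) h2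
    have h4 : ι ⟨x, hxS⟩ = 1 := orderOf_eq_one_iff.mp h3
    have h5 : (⟨x, hxS⟩ : ↥S) = 1 := hR.1 (h4.trans (map_one ι).symm)
    exact congrArg (fun s : ↥S => (s : Ω)) h5
  obtain ⟨hR', hT'⟩ := Helper27.realized_quotient F hR (pPrimeCore p G) T hT hbot
  have hsol' : IsPSolvable p (G ⧸ pPrimeCore p G) :=
    Helper5.h5_isPSolvable_of_surjective (QuotientGroup.mk' (pPrimeCore p G))
      (QuotientGroup.mk'_surjective _) hsol
  have hO : pPrimeCore p (G ⧸ pPrimeCore p G) = ⊥ := Helper1.pPrimeCore_quotient_eq_bot p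
  have hcent := Helper5.h5_centralizer_pCore_le hsol' hO
  have hmodel : F.IsModel p (G ⧸ pPrimeCore p G) ((QuotientGroup.mk' (pPrimeCore p G)).comp ι) :=
    ⟨inferInstance, hR', hT', hcent⟩
  refine ⟨Cfsg.Agent.S5103.result p hS F _ hmodel, ?_⟩
  obtain ⟨a, hsurj, -⟩ := exists_act F _ hmodel (Helper27.isNormal_core F)
  exact Helper5.h5_isPSolvable_of_surjective a hsurj hsol'

end Cfsg.Agent.Lib.helper17.NS1
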