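import Cfsg.Agent.Lib.Helper27.TS2.Defs

/-!
# TS2 / C1A2 (helper17): core of `c1A_two`

`ts2c1a2_core`: `c1A_two` with the STATEMENTS of `sqz_kron` (SQZ, specialised to `a = 2`) and of `c1A_two_B` (C1A2B) as hypotheses.
-/

set_option autoImplicit false
set_option linter.unusedSectionVars false
set_option linter.unusedVariables false

namespace Cfsg.Agent.Lib.Helper21.TS

open Matrix
open scoped Kronecker
open Cfsg.Agent.Lib.helper7.TP

variable {b : ℕ} {F : Type*} [Field F]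

/-- a non-zero square-zero `2 × 2` matrix is `u' φᵀ` with `u' ≠ 0`. -/
theorem ts2c1a2_rank_one (N : Matrix (Fin 2) (Fin 2) F) (hN : N * N = 0) (hN0 : N ≠ 0) :
    ∃ u' φ : Fin 2 → F, u' ≠ 0 ∧ ∀ i j, N i j = u' i * φ j := by
  have hdet : N 0 0 * N 1 1 - N 0 1 * N 1 0 = 0 := by
    have h1 : (N * N).det = 0 := by rw [hN, Matrix.det_zero]
    rw [Matrix.det_mul, mul_self_eq_zero, Matrix.det_fin_two] at h1
    exact h1
  by_cases h00 : N 0 0 = 0
  · by_cases h10 : N 1 0 = 0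
    · refine ⟨fun i => N i 1, ![0, 1], ?_, ?_⟩
      · intro h
        apply hN0
        ext i j
        fin_cases j
        · fin_cases i
          · simpa using h00
          · simpa using h10
        · have := congrFun h i
          simpa using this
      · intro i j
        fin_cases j
        · fin_cases i
          · simpa using h00
          · simpa using h10
        · simp
    · have h01 : N 0 1 = 0 := by
        rw [h00, zero_mul, zero_sub, neg_eq_zero, mul_eq_zero] at hdet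
        rcases hdet with h | h
        · exact h
        · exact absurd h h10
      refine ⟨fun i => N i 0, ![1, N 1 1 / N 1 0], ?_, ?_⟩
      · intro h
        apply h10
        have := congrFun h 1
        simpa using this
      · intro i j
        fin_cases j
        · simp
        · fin_cases i
          · simp [h00, h01]
          · simp only [Fin.mk_one, Fin.isValue, Matrix.cons_val_one, Matrix.cons_val_fin_one]
            field_simp
  · refine ⟨fun i => N i 0, ![1, N 0 1 / N 0 0], ?_, ?_⟩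
    · intro h
      apply h00
      have := congrFun h 0
      simpa using this
    · intro i j
      fin_cases j
      · simp
      · fin_cases i
        · simp only [Fin.zero_eta, Fin.mk_one, Fin.isValue, Matrix.cons_val_one, Matrix.cons_val_fin_one]
          field_simp
        · simp only [Fin.mk_one, Fin.isValue, Matrix.cons_val_one, Matrix.cons_val_fin_one]
          field_simp
          linear_combination hdet

/-- `(u' φᵀ ⊗ 1) w = u' ⊗ (φ ⊗ 1) w`. -/
theorem ts2c1a2_kron_one_mulVec (N : Matrix (Fin 2) (Fin 2) F) (u' φ : Fin 2 → F)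
    (hNf : ∀ i j, N i j = u' i * φ j) (w : Fin 2 × Fin b → F) :
    (N ⊗ₖ (1 : Matrix (Fin b) (Fin b) F)) *ᵥ w = ten u' (ctrA φ w) := by
  funext ⟨i, j⟩
  simp only [Matrix.mulVec, dotProduct, Fintype.sum_prod_type, Matrix.kroneckerMap_apply,
    Matrix.one_apply, ten, ctrA]
  rw [Finset.mul_sum]
  apply Finset.sum_congr rfl
  intro i' _
  rw [Finset.sum_eq_single j]
  · rw [if_pos rfl, hNf]
    ring
  · intro j' _ hj'
    rw [if_neg (Ne.symm hj')]
    ring
  · intro h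
    exact absurd (Finset.mem_univ j) h

/-- CORE of C1A2. -/
theorem ts2c1a2_core {J1 : Matrix (Fin 2) (Fin 2) F} {J2 : Matrix (Fin b) (Fin b) F}
    {M : Subgroup (Matrix.GeneralLinearGroup (Fin 2 × Fin b) F)}
    (hsqz : ∀ t : Matrix.GeneralLinearGroup (Fin 2 × Fin b) F, t ∈ K0 2 b F →
      ((t : Matrix (Fin 2 × Fin b) (Fin 2 × Fin b) F) - 1) *
        ((t : Matrix (Fin 2 × Fin b) (Fin 2 × Fin b) F) - 1) = 0 →
      (∃ N : Matrix (Fin 2) (Fin 2) F, N * N = 0 ∧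
        (t : Matrix (Fin 2 × Fin b) (Fin 2 × Fin b) F) = (1 + N) ⊗ₖ (1 : Matrix (Fin b) (Fin b) F)) ∨
      (∃ N : Matrix (Fin b) (Fin b) F, N * N = 0 ∧
        (t : Matrix (Fin 2 × Fin b) (Fin 2 × Fin b) F) = (1 : Matrix (Fin 2) (Fin 2) F) ⊗ₖ (1 + N)))
    (hB : ∀ {u : Fin 2 → F}, u ≠ 0 → ∀ {c : F}, c ≠ 0 →
      ∀ x : Matrix.GeneralLinearGroup (Fin 2 × Fin b) F,
      (x : Matrix (Fin 2 × Fin b) (Fin 2 × Fin b) F) = XAm J1 u (c • (1 : Matrix (Fin b) (Fin b) F)) →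
      ∀ v : Matrix.GeneralLinearGroup (Fin 2 × Fin b) F, v ∈ M →
      ∀ N : Matrix (Fin b) (Fin b) F, N * N = 0 →
      ((v * x * v⁻¹ : Matrix.GeneralLinearGroup (Fin 2 × Fin b) F) :
        Matrix (Fin 2 × Fin b) (Fin 2 × Fin b) F) = (1 : Matrix (Fin 2) (Fin 2) F) ⊗ₖ (1 + N) → False)
    (C : Ctx J1 J2) (hb : 1 ≤ b) {u : Fin 2 → F} (hu : u ≠ 0) {c : F} (hc : c ≠ 0)
    (x : Matrix.GeneralLinearGroup (Fin 2 × Fin b) F)
    (hx : (x : Matrix (Fin 2 × Fin b) (Fin 2 × Fin b) F) = XAm J1 u (c • (1 : Matrix (Fin b) (Fin b) F)))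
    (v : Matrix.GeneralLinearGroup (Fin 2 × Fin b) F) (hv : v ∈ M) (ht : v * x * v⁻¹ ∈ T0 J1 J2) :
    ∃ u' : Fin 2 → F, u' ≠ 0 ∧ ∀ z : Fin b → F, ∃ z' : Fin b → F,
      (v : Matrix (Fin 2 × Fin b) (Fin 2 × Fin b) F) *ᵥ ten u z = ten u' z' := by
  classical
  have htK : v * x * v⁻¹ ∈ K0 2 b F := (Subgroup.mem_inf.mp ht).1
  have hvinv : (v : Matrix (Fin 2 × Fin b) (Fin 2 × Fin b) F) *
      ((v⁻¹ : Matrix.GeneralLinearGroup (Fin 2 × Fin b) F) : Matrix (Fin 2 × Fin b) (Fin 2 × Fin b) F) = 1 := by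
    rw [← Units.val_mul, mul_inv_cancel, Units.val_one]
  have hvinv' : ((v⁻¹ : Matrix.GeneralLinearGroup (Fin 2 × Fin b) F) :
      Matrix (Fin 2 × Fin b) (Fin 2 × Fin b) F) * (v : Matrix (Fin 2 × Fin b) (Fin 2 × Fin b) F) = 1 := by
    rw [← Units.val_mul, inv_mul_cancel, Units.val_one]
  have htval : ((v * x * v⁻¹ : Matrix.GeneralLinearGroup (Fin 2 × Fin b) F) :
      Matrix (Fin 2 × Fin b) (Fin 2 × Fin b) F) =
      (v : Matrix (Fin 2 × Fin b) (Fin 2 × Fin b) F) * (x : Matrix (Fin 2 × Fin b) (Fin 2 × Fin b) F) *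
        ((v⁻¹ : Matrix.GeneralLinearGroup (Fin 2 × Fin b) F) : Matrix (Fin 2 × Fin b) (Fin 2 × Fin b) F) := by
    rw [Units.val_mul, Units.val_mul]
  have huu : bf J1 u u = 0 := bf_self_alt C.alt C.two u
  have hX2 : ((x : Matrix (Fin 2 × Fin b) (Fin 2 × Fin b) F) - 1) *
      ((x : Matrix (Fin 2 × Fin b) (Fin 2 × Fin b) F) - 1) = 0 := by
    rw [hx, XAm, add_sub_cancel_left, ← Matrix.mul_kronecker_mul, opm_mul_opm, huu, zero_smul,
      Matrix.zero_kronecker]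
  have hT1 : ((v * x * v⁻¹ : Matrix.GeneralLinearGroup (Fin 2 × Fin b) F) :
      Matrix (Fin 2 × Fin b) (Fin 2 × Fin b) F) - 1 =
      (v : Matrix (Fin 2 × Fin b) (Fin 2 × Fin b) F) *
        ((x : Matrix (Fin 2 × Fin b) (Fin 2 × Fin b) F) - 1) *
        ((v⁻¹ : Matrix.GeneralLinearGroup (Fin 2 × Fin b) F) : Matrix (Fin 2 × Fin b) (Fin 2 × Fin b) F) := by
    rw [htval, Matrix.mul_sub, Matrix.sub_mul, Matrix.mul_one, hvinv]
  have hsq : (((v * x * v⁻¹ : Matrix.GeneralLinearGroup (Fin 2 × Fin b) F) :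
      Matrix (Fin 2 × Fin b) (Fin 2 × Fin b) F) - 1) *
      (((v * x * v⁻¹ : Matrix.GeneralLinearGroup (Fin 2 × Fin b) F) :
      Matrix (Fin 2 × Fin b) (Fin 2 × Fin b) F) - 1) = 0 := by
    rw [hT1]
    calc (v : Matrix (Fin 2 × Fin b) (Fin 2 × Fin b) F) *
          ((x : Matrix (Fin 2 × Fin b) (Fin 2 × Fin b) F) - 1) *
          ((v⁻¹ : Matrix.GeneralLinearGroup (Fin 2 × Fin b) F) : Matrix (Fin 2 × Fin b) (Fin 2 × Fin b) F) *
          ((v : Matrix (Fin 2 × Fin b) (Fin 2 × Fin b) F) *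
          ((x : Matrix (Fin 2 × Fin b) (Fin 2 × Fin b) F) - 1) *
          ((v⁻¹ : Matrix.GeneralLinearGroup (Fin 2 × Fin b) F) : Matrix (Fin 2 × Fin b) (Fin 2 × Fin b) F))
        = (v : Matrix (Fin 2 × Fin b) (Fin 2 × Fin b) F) *
          (((x : Matrix (Fin 2 × Fin b) (Fin 2 × Fin b) F) - 1) *
          (((v⁻¹ : Matrix.GeneralLinearGroup (Fin 2 × Fin b) F) : Matrix (Fin 2 × Fin b) (Fin 2 × Fin b) F) *
          (v : Matrix (Fin 2 × Fin b) (Fin 2 × Fin b) F)) *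
          ((x : Matrix (Fin 2 × Fin b) (Fin 2 × Fin b) F) - 1)) *
          ((v⁻¹ : Matrix.GeneralLinearGroup (Fin 2 × Fin b) F) : Matrix (Fin 2 × Fin b) (Fin 2 × Fin b) F) := by
          simp only [Matrix.mul_assoc]
      _ = 0 := by rw [hvinv', Matrix.mul_one, hX2, Matrix.mul_zero, Matrix.zero_mul]
  -- the key relation
  have hkey : (((v * x * v⁻¹ : Matrix.GeneralLinearGroup (Fin 2 × Fin b) F) :
      Matrix (Fin 2 × Fin b) (Fin 2 × Fin b) F) - 1) * (v : Matrix (Fin 2 × Fin b) (Fin 2 × Fin b) F) =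
      (v : Matrix (Fin 2 × Fin b) (Fin 2 × Fin b) F) * ((x : Matrix (Fin 2 × Fin b) (Fin 2 × Fin b) F) - 1) := by
    rw [hT1, Matrix.mul_assoc, hvinv', Matrix.mul_one]
  obtain ⟨u₂, hu₂⟩ := bf_nondeg C.det1 hu
  have hrel : ∀ z : Fin b → F,
      (((v * x * v⁻¹ : Matrix.GeneralLinearGroup (Fin 2 × Fin b) F) :
        Matrix (Fin 2 × Fin b) (Fin 2 × Fin b) F) - 1) *ᵥ
        ((v : Matrix (Fin 2 × Fin b) (Fin 2 × Fin b) F) *ᵥ ten u₂ z) =
      (bf J1 u u₂ * c) • ((v : Matrix (Fin 2 × Fin b) (Fin 2 × Fin b) F) *ᵥ ten u z) := by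
    intro z
    rw [Matrix.mulVec_mulVec, hkey, ← Matrix.mulVec_mulVec, Matrix.sub_mulVec, Matrix.one_mulVec, hx,
      XAm_mulVec_ten, add_sub_cancel_left, Matrix.smul_mulVec, Matrix.one_mulVec, ten_smul_right,
      smul_smul, Matrix.mulVec_smul]
  have hne : bf J1 u u₂ * c ≠ 0 := mul_ne_zero hu₂ hc
  rcases hsqz _ htK hsq with ⟨N, hN, htN⟩ | ⟨N, hN, htN⟩
  · -- A-type
    have htN1 : ((v * x * v⁻¹ : Matrix.GeneralLinearGroup (Fin 2 × Fin b) F) :
        Matrix (Fin 2 × Fin b) (Fin 2 × Fin b) F) - 1 = N ⊗ₖ (1 : Matrix (Fin b) (Fin b) F) := by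
      rw [htN, Matrix.add_kronecker, Matrix.one_kronecker_one, add_sub_cancel_left]
    have hN0 : N ≠ 0 := by
      intro h0
      -- then v (u ⊗ z) = 0 for all z
      obtain ⟨i, hi⟩ : ∃ i, u i ≠ 0 := by
        by_contra hcon
        push Not at hcon
        exact hu (funext hcon)
      have hz := hrel (Pi.single ⟨0, hb⟩ 1)
      rw [htN1, h0, Matrix.zero_kronecker, Matrix.zero_mulVec, eq_comm, smul_eq_zero] at hz
      rcases hz with hz | hz
      · exact hne hz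
      · have h1 : ((v⁻¹ : Matrix.GeneralLinearGroup (Fin 2 × Fin b) F) :
            Matrix (Fin 2 × Fin b) (Fin 2 × Fin b) F) *ᵥ
            ((v : Matrix (Fin 2 × Fin b) (Fin 2 × Fin b) F) *ᵥ ten u (Pi.single ⟨0, hb⟩ 1)) = 0 := by
          rw [hz, Matrix.mulVec_zero]
        rw [Matrix.mulVec_mulVec, hvinv', Matrix.one_mulVec] at h1
        have h2 := congrFun h1 (i, ⟨0, hb⟩)
        simp only [ten, Pi.single_eq_same, mul_one, Pi.zero_apply] at h2
        exact hi h2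
    obtain ⟨u', φ, hu', hNf⟩ := ts2c1a2_rank_one N hN hN0
    refine ⟨u', hu', ?_⟩
    intro z
    have hz := hrel z
    rw [htN1, ts2c1a2_kron_one_mulVec N u' φ hNf] at hz
    refine ⟨(bf J1 u u₂ * c)⁻¹ • ctrA φ ((v : Matrix (Fin 2 × Fin b) (Fin 2 × Fin b) F) *ᵥ ten u₂ z), ?_⟩
    rw [ten_smul_right, hz, smul_smul, inv_mul_cancel₀ hne, one_smul]
  · -- B-type
    exact (hB hu hc x hx v hv N hN htN).elim

end Cfsg.Agent.Lib.Helper21.TS
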