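import Cfsg.Agent.Lib.helper17.CB12

set_option autoImplicit false

namespace Cfsg.Agent.Lib.helper17.CB14

open MulAction
open Cfsg.Agent.Lib.helper17.CB12

universe u v

variable {S : Type u} [Group S] {X : Type v} [MulAction (S × S) X]

section Free

variable (r : X → S) (hr : ∀ (t : S) (x : X), r (((1 : S), t) • x) = r x * t⁻¹)

include hr in
/-- a retraction forces the right action to be free -/
theorem right_free (t : S) (x : X) (h : (((1 : S), t) : S × S) • x = x) : t = 1 := by
  have h1 := hr t x
  rw [h] at h1
  have h2 : r x * 1 = r x * t⁻¹ := by rw [mul_one]; exact h1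
  exact inv_eq_one.mp (mul_left_cancel h2).symm

include hr in
theorem label_unique (j t t' : S) (x : X) (h : ((j, t) : S × S) • x = x)
    (h' : ((j, t') : S × S) • x = x) : t = t' := by
  have h1 : (((1 : S), t⁻¹ * t') : S × S) • x = x := by
    have e : (((1 : S), t⁻¹ * t') : S × S) = ((j, t) : S × S)⁻¹ * (j, t') := by
      simp
    rw [e, mul_smul, h', inv_smul_eq_iff, h]
  have := right_free r hr _ x h1
  exact inv_mul_eq_one.mp this

end Free

theorem exists_label (j : S) (y : Ybar S X) (h : barPerm (iotaX S X j) y = y) :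
    ∃ t : S, ((j, t) : S × S) • y.out = y.out := by
  have h1 : barPerm (iotaX S X j) (Quotient.mk (rightRel S X) y.out) =
      Quotient.mk (rightRel S X) y.out := by
    rw [Quotient.out_eq]; exact h
  rw [barPerm_mk] at h1
  obtain ⟨t, ht⟩ : (rightRel S X).r ((iotaX S X j).1 y.out) y.out := Quotient.exact h1
  refine ⟨t, ?_⟩
  rw [iotaX_apply, ← mul_smul] at ht
  simpa using ht

theorem fixed_of_label (j t : S) (x : X) (h : ((j, t) : S × S) • x = x) :
    barPerm (iotaX S X j) (Quotient.mk (rightRel S X) x) = Quotient.mk (rightRel S X) x := by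
  rw [barPerm_mk]
  apply Quotient.sound
  refine ⟨t, ?_⟩
  rw [iotaX_apply, ← mul_smul]
  simpa using h

theorem smul_fixed_of_commute (c j t : S) (hc : c * j = j * c) (x : X)
    (h : ((j, t) : S × S) • x = x) :
    ((j, t) : S × S) • (((c, (1 : S)) : S × S) • x) = ((c, (1 : S)) : S × S) • x := by
  have e : ((j, t) : S × S) * (c, (1 : S)) = (c, (1 : S)) * (j, t) := by
    apply Prod.ext
    · exact hc.symm
    · simp
  rw [← mul_smul, e, mul_smul, h]

theorem barPerm_mul (σ σ' : GX S X) : barPerm (σ * σ') = barPerm σ * barPerm σ' := by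
  apply Equiv.ext
  intro y
  induction y using Quotient.inductionOn with
  | h x => rfl

theorem barPerm_one : barPerm (1 : GX S X) = 1 := by
  apply Equiv.ext
  intro y
  induction y using Quotient.inductionOn with
  | h x => rfl

/-- `barPerm` as a homomorphism -/
def barHom (S : Type u) [Group S] (X : Type v) [MulAction (S × S) X] :
    GX S X →* Equiv.Perm (Ybar S X) where
  toFun := barPerm
  map_one' := barPerm_one
  map_mul' := barPerm_mul

theorem barHom_apply (σ : GX S X) : barHom S X σ = barPerm σ := rfl

theorem barPerm_iota_invol (j : S) (hj : j * j = 1) (y : Ybar S X) :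
    barPerm (iotaX S X j) (barPerm (iotaX S X j) y) = y := by
  have h1 : barPerm (iotaX S X j) * barPerm (iotaX S X j) = 1 := by
    rw [← barPerm_mul, ← map_mul, hj, map_one, barPerm_one]
  have := congrArg (fun e : Equiv.Perm (Ybar S X) => e y) h1
  simpa using this

section Fac

variable {A : Type*} [CommGroup A] (lam : S →* A) (r : X → S)
  (hr : ∀ (t : S) (x : X), r (((1 : S), t) • x) = r x * t⁻¹)

include hr in
theorem fac_of_fixed (j t : S) (x : X) (h : ((j, t) : S × S) • x = x) :
    fac lam r (iotaX S X j) x = lam t := by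
  unfold fac
  have h1 : ((iotaX S X j : GX S X) : Equiv.Perm X) x = (((1 : S), t⁻¹) : S × S) • x := by
    rw [iotaX_apply]
    conv_rhs => rw [← h, ← mul_smul]
    simp
  rw [h1, hr, inv_inv, map_mul, map_mul, map_inv]
  rw [mul_comm (lam (r x)), mul_assoc, mul_inv_cancel, mul_one]

theorem fac_swap (j : S) (hj : j * j = 1) (x : X) :
    fac lam r (iotaX S X j) (((j, (1 : S)) : S × S) • x) = (fac lam r (iotaX S X j) x)⁻¹ := by
  unfold fac
  rw [iotaX_apply, iotaX_apply, ← mul_smul]
  have e : ((j, (1 : S)) : S × S) * (j, (1 : S)) = 1 := by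
    apply Prod.ext
    · exact hj
    · simp
  rw [e, one_smul, ← map_inv, mul_inv_rev, inv_inv]

variable [Fintype (Ybar S X)] [DecidableEq (Ybar S X)]

include hr in
theorem trans_eq_prod_fixed (j : S) (hj : j * j = 1) :
    CB12.trans lam r (iotaX S X j) =
      ∏ y ∈ Finset.univ.filter (fun y : Ybar S X => barPerm (iotaX S X j) y = y),
        fac lam r (iotaX S X j) y.out := by
  unfold CB12.trans
  rw [← Finset.prod_filter_mul_prod_filter_not Finset.univ
    (fun y : Ybar S X => barPerm (iotaX S X j) y = y)]
  have h1 : ∏ y ∈ Finset.univ.filter (fun y : Ybar S X => ¬ barPerm (iotaX S X j) y = y),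
      fac lam r (iotaX S X j) y.out = 1 := by
    apply Finset.prod_involution (fun y _ => barPerm (iotaX S X j) y)
    · intro y _
      have h2 : barPerm (iotaX S X j) y =
          Quotient.mk (rightRel S X) ((iotaX S X j).1 y.out) := by
        conv_lhs => rw [← Quotient.out_eq y]
        exact barPerm_mk _ _
      rw [h2, fac_out lam r hr]
      have h3 : ((iotaX S X j : GX S X) : Equiv.Perm X) y.out = ((j, (1 : S)) : S × S) • y.out :=
        iotaX_apply j y.out
      rw [h3, fac_swap lam r j hj, mul_inv_cancel]
    · intro y hy _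
      exact (Finset.mem_filter.mp hy).2
    · intro y hy
      have hy' := (Finset.mem_filter.mp hy).2
      refine Finset.mem_filter.mpr ⟨Finset.mem_univ _, ?_⟩
      rw [barPerm_iota_invol j hj]
      exact fun h => hy' h.symm
    · intro y _
      exact barPerm_iota_invol j hj y
  rw [h1, mul_one]

end Fac

section Sign

variable (lam : S →* ℤˣ) (r : X → S)
  (hr : ∀ (t : S) (x : X), r (((1 : S), t) • x) = r x * t⁻¹)
variable [Fintype (Ybar S X)] [DecidableEq (Ybar S X)]

theorem odd_card_fixed (j : S) (hj : j * j = 1) (hodd : Odd (Fintype.card (Ybar S X))) :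
    Odd (Finset.univ.filter (fun y : Ybar S X => barPerm (iotaX S X j) y = y)).card := by
  have h1 : ∏ y ∈ Finset.univ.filter (fun y : Ybar S X => ¬ barPerm (iotaX S X j) y = y),
      (-1 : ℤˣ) = 1 := by
    apply Finset.prod_involution (fun y _ => barPerm (iotaX S X j) y)
    · intro y _
      decide
    · intro y hy _
      exact (Finset.mem_filter.mp hy).2
    · intro y hy
      have hy' := (Finset.mem_filter.mp hy).2
      refine Finset.mem_filter.mpr ⟨Finset.mem_univ _, ?_⟩
      rw [barPerm_iota_invol j hj]
      exact fun h => hy' h.symm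
    · intro y _
      exact barPerm_iota_invol j hj y
  rw [Finset.prod_const] at h1
  have h2 : Even (Finset.univ.filter
      (fun y : Ybar S X => ¬ barPerm (iotaX S X j) y = y)).card := by
    by_contra hne
    rw [Nat.not_even_iff_odd] at hne
    rw [hne.neg_one_pow] at h1
    exact absurd h1 (by decide)
  have h3 := Finset.card_filter_add_card_filter_not (s := (Finset.univ : Finset (Ybar S X)))
    (fun y : Ybar S X => barPerm (iotaX S X j) y = y)
  rw [Finset.card_univ] at h3
  rw [← h3] at hodd
  by_contra hne
  rw [Nat.not_odd_iff_even] at hne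
  exact (Nat.not_odd_iff_even.mpr (hne.add h2)) hodd

include hr in
/-- the transfer of an involution, when the number of right orbits is odd and the fixed
orbits with trivial label are even in number -/
theorem trans_eq_neg_one (j : S) (hj : j * j = 1) (hodd : Odd (Fintype.card (Ybar S X)))
    (heven : Even (Finset.univ.filter (fun y : Ybar S X =>
      barPerm (iotaX S X j) y = y ∧ fac lam r (iotaX S X j) y.out = 1)).card) :
    CB12.trans lam r (iotaX S X j) = -1 := by
  rw [trans_eq_prod_fixed lam r hr j hj]
  have h1 : ∀ y : Ybar S X, fac lam r (iotaX S X j) y.out =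
      if fac lam r (iotaX S X j) y.out = 1 then 1 else -1 := by
    intro y
    rcases Int.units_eq_one_or (fac lam r (iotaX S X j) y.out) with h | h
    · rw [if_pos h, h]
    · rw [if_neg (by rw [h]; decide), h]
  rw [Finset.prod_congr rfl (fun y _ => h1 y), Finset.prod_ite, Finset.prod_const_one, one_mul,
    Finset.prod_const]
  have h2 := Finset.card_filter_add_card_filter_not
    (s := Finset.univ.filter (fun y : Ybar S X => barPerm (iotaX S X j) y = y))
    (fun y : Ybar S X => fac lam r (iotaX S X j) y.out = 1)
  have h3 := odd_card_fixed j hj hodd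
  rw [← h2, Finset.filter_filter] at h3
  have h4 : Odd (Finset.filter (fun y : Ybar S X => ¬ fac lam r (iotaX S X j) y.out = 1)
      (Finset.univ.filter (fun y : Ybar S X => barPerm (iotaX S X j) y = y))).card := by
    by_contra hne
    rw [Nat.not_odd_iff_even] at hne
    exact (Nat.not_odd_iff_even.mpr (heven.add hne)) h3
  exact h4.neg_one_pow

end Sign

section Action

/-- the action of a subgroup of `S` on the right orbits, through the left action -/
@[instance_reducible] def actOn (C : Subgroup S) : MulAction C (Ybar S X) :=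
  MulAction.compHom (Ybar S X) (((barHom S X).comp (iotaX S X)).comp C.subtype)

theorem actOn_smul (C : Subgroup S) (c : C) (y : Ybar S X) :
    (letI := actOn (X := X) C; c • y) = barPerm (iotaX S X (c : S)) y := rfl

/-- a stable set of right orbits without a common fixed point of a `p`-group has size
divisible by `p` -/
theorem dvd_card_of_no_fixed [Finite (Ybar S X)] {p : ℕ} [Fact p.Prime] (C : Subgroup S)
    (hC : IsPGroup p C) (Z : Finset (Ybar S X))
    (hstab : ∀ c ∈ C, ∀ y ∈ Z, barPerm (iotaX S X c) y ∈ Z)
    (hnofix : ∀ y ∈ Z, ∃ c ∈ C, barPerm (iotaX S X c) y ≠ y) : p ∣ Z.card := by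
  let _ := actOn (X := X) C
  let Z' : SubMulAction C (Ybar S X) :=
    { carrier := (Z : Set (Ybar S X))
      smul_mem' := fun c y hy => hstab c.1 c.2 y hy }
  have h1 := hC.card_modEq_card_fixedPoints Z'
  have h2 : IsEmpty (fixedPoints C Z') := by
    constructor
    rintro ⟨⟨y, hy⟩, hfix⟩
    obtain ⟨c, hc, hne⟩ := hnofix y hy
    apply hne
    have := hfix ⟨c, hc⟩
    exact congrArg Subtype.val this
  have h4 : Nat.card (fixedPoints C Z') = 0 := Nat.card_of_isEmpty
  have h3 : Nat.card Z' = Z.card := by
    show Nat.card (Z : Set (Ybar S X)) = Z.card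
    rw [Nat.card_coe_set_eq, Set.ncard_coe_finset]
  rw [h3, h4] at h1
  exact (Nat.modEq_zero_iff_dvd).mp h1

end Action

end Cfsg.Agent.Lib.helper17.CB14
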