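import Cfsg.Agent.Lib.helper17.CB13
import Cfsg.Agent.Lib.helper17.CB14
import Cfsg.Agent.Lib.Helper26.FusionFully

set_option autoImplicit false

namespace Cfsg.Agent.Lib.helper17.CB15

open Cfsg Cfsg.FusionSystem MulAction
open Cfsg.Agent.Lib.Helper26
open Cfsg.Agent.Lib.helper17.ParkGraph (graphOf IsFGraph mem_graphOf alpha1 alpha2 alpha1_apply
  alpha2_apply)
open Cfsg.Agent.Lib.helper17.CB1 Cfsg.Agent.Lib.helper17.CB2
open Cfsg.Agent.Lib.helper17.CB11 Cfsg.Agent.Lib.helper17.CB12 Cfsg.Agent.Lib.helper17.CB14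

universe u

variable {Ω : Type u} [Group Ω] {S : Subgroup Ω}

/-- the sign homomorphism of a subgroup of index two -/
noncomputable def signHom {G : Type*} [Group G] (H : Subgroup G) (h : H.index = 2) : G →* ℤˣ := by
  classical
  exact MonoidHom.mk' (fun g => if g ∈ H then 1 else -1) (by
    intro a b
    have := Subgroup.mul_mem_iff_of_index_two h (a := a) (b := b)
    by_cases ha : a ∈ H <;> by_cases hb : b ∈ H <;> simp [ha, hb, this])

theorem signHom_eq_one_iff {G : Type*} [Group G] (H : Subgroup G) (h : H.index = 2) (g : G) :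
    signHom H h g = 1 ↔ g ∈ H := by
  classical
  show (if g ∈ H then (1 : ℤˣ) else -1) = 1 ↔ g ∈ H
  by_cases hg : g ∈ H
  · simp [hg]
  · simp only [hg, if_false, iff_false]
    decide

section Elt

theorem zpowers_mk_pow (a : Ω) (k : ℤ) (h : a ^ k ∈ Subgroup.zpowers a) :
    (⟨a ^ k, h⟩ : Subgroup.zpowers a) = ⟨a, Subgroup.mem_zpowers a⟩ ^ k := by
  apply Subtype.ext
  simp

theorem map_zpowers_elt {a : Ω} (φ : Subgroup.zpowers a →* Ω) (x : Subgroup.zpowers a) :
    φ x ∈ Subgroup.zpowers (φ ⟨a, Subgroup.mem_zpowers a⟩) := by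
  obtain ⟨y, hy⟩ := x
  obtain ⟨k, hk⟩ := Subgroup.mem_zpowers_iff.mp hy
  have e : (⟨y, hy⟩ : Subgroup.zpowers a) = ⟨a, Subgroup.mem_zpowers a⟩ ^ k := by
    apply Subtype.ext
    simp [hk]
  rw [e, map_zpow]
  exact Subgroup.zpow_mem_zpowers _ k

theorem range_zpowers_hom {a : Ω} (φ : Subgroup.zpowers a →* Ω) :
    φ.range = Subgroup.zpowers (φ ⟨a, Subgroup.mem_zpowers a⟩) := by
  apply le_antisymm
  · rintro _ ⟨x, rfl⟩
    exact map_zpowers_elt φ x
  · rw [Subgroup.zpowers_le]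
    exact ⟨_, rfl⟩

theorem isConjElt_trans (F : FusionSystem S) {a b c : Ω} (h1 : F.IsConjElt a b)
    (h2 : F.IsConjElt b c) : F.IsConjElt a c := by
  obtain ⟨φ, hφ, hφa⟩ := h1
  obtain ⟨ψ, hψ, hψb⟩ := h2
  have hmem : ∀ x : Subgroup.zpowers a, φ x ∈ Subgroup.zpowers b := by
    intro x
    have := map_zpowers_elt φ x
    rwa [hφa] at this
  refine ⟨_, F.comp_mem hφ hψ hmem, ?_⟩
  show ψ ⟨φ ⟨a, Subgroup.mem_zpowers a⟩, _⟩ = c
  rw [← hψb]
  congr 1
  exact Subtype.ext hφa

/-- an element normalizing the group generated by an involution centralizes it -/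
theorem conj_eq_of_mem_normalizer_zpowers {j n : Ω} (hj2 : orderOf j = 2)
    (hn : n ∈ Subgroup.normalizer (Subgroup.zpowers j : Set Ω)) : n * j * n⁻¹ = j := by
  have h1 : n * j * n⁻¹ ∈ Subgroup.zpowers j :=
    (Subgroup.mem_normalizer_iff.mp hn j).mp (Subgroup.mem_zpowers j)
  obtain ⟨k, hk⟩ := Subgroup.mem_zpowers_iff.mp h1
  have hjj : j ^ (2 : ℤ) = 1 := by
    have := pow_orderOf_eq_one j
    rw [hj2] at this
    exact_mod_cast this
  rcases Int.emod_two_eq_zero_or_one k with h0 | h0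
  · exfalso
    have h2 : j ^ k = 1 := by
      rw [← Int.mul_ediv_add_emod k 2, h0, add_zero, zpow_mul, hjj, one_zpow]
    rw [h2] at hk
    have h3 : j = 1 := by
      have : n * j * n⁻¹ = n * 1 * n⁻¹ := by rw [← hk]; group
      exact mul_left_cancel (mul_right_cancel this)
    rw [h3, orderOf_one] at hj2
    omega
  · have h2 : j ^ k = j := by
      rw [← Int.mul_ediv_add_emod k 2, h0, zpow_add, zpow_mul, hjj, one_zpow, one_mul, zpow_one]
    rw [← hk, h2]

theorem mem_normalizer_zpowers_of_conj_eq {t g : Ω} (h : g * t * g⁻¹ = t) :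
    g ∈ Subgroup.normalizer (Subgroup.zpowers t : Set Ω) := by
  apply Subgroup.centralizer_le_normalizer
  rw [Subgroup.mem_centralizer_iff]
  intro y hy
  obtain ⟨k, rfl⟩ := Subgroup.mem_zpowers_iff.mp hy
  have hc : Commute g t := by
    show g * t = t * g
    calc g * t = g * t * g⁻¹ * g := by group
      _ = t * g := by rw [h]
  exact (hc.zpow_right k).symm.eq

end Elt

section Biset

variable (F : FusionSystem S) {X : Type u} [MulAction (S × S) X]

theorem graph_right_free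
    (hXg : ∀ (M : Subgroup (S × S)) (x : X), (∀ a ∈ M, a • x = x) → IsFGraph F M)
    (x : X) (t : S) (h : (((1 : S), t) : S × S) • x = x) : t = 1 := by
  have hM : ∀ a ∈ Subgroup.zpowers (((1 : S), t) : S × S), a • x = x := by
    intro a ha
    have h1 : Subgroup.zpowers (((1 : S), t) : S × S) ≤ stabilizer (S × S) x := by
      rw [Subgroup.zpowers_le]
      exact h
    exact h1 ha
  obtain ⟨R, θ, hθ, hMeq⟩ := hXg _ x hM
  have h2 : (((1 : S), t) : S × S) ∈ graphOf S R θ := by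
    rw [← hMeq]
    exact Subgroup.mem_zpowers _
  obtain ⟨h1R, he⟩ := mem_graphOf.mp h2
  apply Subtype.ext
  rw [← he]
  have : (⟨(((1 : S), t) : S × S).1, h1R⟩ : R) = 1 := Subtype.ext rfl
  rw [this, map_one]
  rfl

/-- invariance of the biset transfer under the maps of the system -/
theorem transHom_invariant [Finite S] [Finite X]
    (hXg : ∀ (M : Subgroup (S × S)) (x : X), (∀ a ∈ M, a • x = x) → IsFGraph F M)
    (hst : ∀ L L' : Subgroup (S × S), IsFGraph F L → IsFGraph F L' → F.IsConj (src L) (src L') →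
        Nat.card (Fix X L) = Nat.card (Fix X L'))
    {A : Type*} [CommGroup A] (lam : S →* A) (r : X → S)
    (hr1 : ∀ (t : S) (x : X), r (((1 : S), t) • x) = r x * t⁻¹) [Fintype (Ybar S X)]
    {P : Subgroup Ω} {φ : P →* Ω} (hφ : φ ∈ F.Hom P) (u : P) :
    transHom lam r hr1 (iotaX S X ⟨φ u, apply_mem F hφ u⟩) =
      transHom lam r hr1 (iotaX S X ⟨u, source_le F hφ u.2⟩) := by
  have hP : P ≤ S := source_le F hφ
  have hφS : ∀ x : P, φ x ∈ S := apply_mem F hφ
  obtain ⟨e, he⟩ := exists_twisted_equiv F hXg hst hP φ hφ hφS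
  have heG : e ∈ GX S X := by
    intro t x
    have := he ((1 : P), t) x
    have h1 : alpha1 hP ((1 : P), t) = ((1 : S), t) := by
      rw [alpha1_apply]; apply Prod.ext <;> simp
    have h2 : alpha2 φ hφS ((1 : P), t) = ((1 : S), t) := by
      rw [alpha2_apply]; apply Prod.ext <;> simp
    rw [h1, h2] at this
    exact this
  have hcomm : iotaX S X ⟨φ u, hφS u⟩ * (⟨e, heG⟩ : GX S X) =
      (⟨e, heG⟩ : GX S X) * iotaX S X ⟨u, hP u.2⟩ := by
    apply Subtype.ext
    apply Equiv.ext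
    intro z
    simp only [Subgroup.coe_mul, Equiv.Perm.mul_apply, iotaX_apply]
    have := he (u, (1 : S)) z
    rw [alpha1_apply, alpha2_apply] at this
    exact this.symm
  have h3 := congrArg (transHom lam r hr1) hcomm
  rw [map_mul, map_mul, mul_comm] at h3
  exact mul_left_cancel h3

/-- the point stabilizer of a point fixed, up to the right action, by the whole centralizer of a
fully normalized involution -/
theorem fullyNormalized_of_fixed [Finite S]
    (hXg : ∀ (M : Subgroup (S × S)) (x : X), (∀ a ∈ M, a • x = x) → IsFGraph F M)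
    (j : Ω) (hjS : j ∈ S) (hj2 : orderOf j = 2)
    (hfn : F.IsFullyNormalized (Subgroup.zpowers j))
    (x : X) (t : S) (hfix : (((⟨j, hjS⟩ : S), t) : S × S) • x = x)
    (hall : ∀ c : S, c * ⟨j, hjS⟩ = ⟨j, hjS⟩ * c → ∃ s : S, ((c, s) : S × S) • x = x) :
    F.IsConjElt j (t : Ω) ∧ F.IsFullyNormalized (Subgroup.zpowers (t : Ω)) := by
  obtain ⟨R, θ, hθ, hMeq⟩ := hXg (stabilizer (S × S) x) x (fun a ha => ha)
  have hmem : ∀ c s : S, ((c, s) : S × S) • x = x → ∃ h : (c : Ω) ∈ R, θ ⟨c, h⟩ = (s : Ω) := by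
    intro c s hcs
    have h1 : ((c, s) : S × S) ∈ graphOf S R θ := by
      rw [← hMeq]
      exact hcs
    exact mem_graphOf.mp h1
  obtain ⟨hjR, hθj⟩ := hmem _ _ hfix
  have hzR : Subgroup.zpowers j ≤ R := Subgroup.zpowers_le.mpr hjR
  have hψ := restrict_mem F hθ hzR
  have hψj : (θ.comp (Subgroup.inclusion hzR)) ⟨j, Subgroup.mem_zpowers j⟩ = (t : Ω) := hθj
  have hconjElt : F.IsConjElt j (t : Ω) := ⟨_, hψ, hψj⟩
  have hconj : F.IsConj (Subgroup.zpowers j) (Subgroup.zpowers (t : Ω)) := by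
    refine ⟨_, hψ, ?_⟩
    rw [range_zpowers_hom, hψj]
  refine ⟨hconjElt, Subgroup.zpowers_le.mpr t.2, fun Q hQ => ?_⟩
  refine le_trans (hfn.2 Q (isConj_trans F hconj hQ)) ?_
  -- the injection of normalizers
  have hNR : normalizerIn S (Subgroup.zpowers j) ≤ R := by
    intro n hn
    have hnS : n ∈ S := hn.1
    have hcomm := conj_eq_of_mem_normalizer_zpowers hj2 hn.2
    have hc : (⟨n, hnS⟩ : S) * ⟨j, hjS⟩ = ⟨j, hjS⟩ * ⟨n, hnS⟩ := by
      apply Subtype.ext
      show n * j = j * n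
      calc n * j = n * j * n⁻¹ * n := by group
        _ = j * n := by rw [hcomm]
    obtain ⟨s, hs⟩ := hall _ hc
    obtain ⟨hnR, -⟩ := hmem _ _ hs
    exact hnR
  have hinj := F.injective_of_mem hθ
  have himg : ∀ n : normalizerIn S (Subgroup.zpowers j),
      θ ⟨n, hNR n.2⟩ ∈ normalizerIn S (Subgroup.zpowers (t : Ω)) := by
    intro n
    refine ⟨apply_mem F hθ _, ?_⟩
    apply mem_normalizer_zpowers_of_conj_eq
    have hcomm := conj_eq_of_mem_normalizer_zpowers hj2 n.2.2
    rw [← hθj, ← map_inv, ← map_mul, ← map_mul]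
    congr 1
    exact Subtype.ext hcomm
  have : Finite (normalizerIn S (Subgroup.zpowers (t : Ω))) :=
    Finite.of_injective (Subgroup.inclusion (inf_le_left : normalizerIn S _ ≤ S))
      (Subgroup.inclusion_injective _)
  refine Nat.card_le_card_of_injective
    (fun n : normalizerIn S (Subgroup.zpowers j) =>
      (⟨θ ⟨n, hNR n.2⟩, himg n⟩ : normalizerIn S (Subgroup.zpowers (t : Ω)))) ?_
  intro n n' hnn
  have h1 : θ ⟨n, hNR n.2⟩ = θ ⟨n', hNR n'.2⟩ := congrArg Subtype.val hnn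
  have h2 := hinj h1
  exact Subtype.ext (congrArg (fun z : R => (z : Ω)) h2)

end Biset

section Main

/-- **Thompson transfer for saturated fusion systems** -/
theorem thompson_transfer [Finite Ω] (hS : IsPGroup 2 ↥S) (F : FusionSystem S)
    (hF : F.IsSaturated 2) (T : Subgroup Ω) (hT : T.relIndex S = 2)
    (i : Ω) (hi : i ∈ S) (hi2 : orderOf i = 2)
    (h : ∀ j : Ω, F.IsConjElt i j → F.IsFullyNormalized (Subgroup.zpowers j) → j ∉ T) :
    i ∉ F.focalSubgroup := by
  classical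
  have : Fact (Nat.Prime 2) := ⟨Nat.prime_two⟩
  obtain ⟨X, hfin, hact, hXg, hst, m, hcard, hm⟩ := exists_char_biset hS F hF
  -- the retraction
  have hZ : ∀ (x : X) (c t : S), c ∈ (⊥ : Subgroup S) → ((c, t) : S × S) • x = x → t = c := by
    intro x c t hc hfix
    rw [Subgroup.mem_bot] at hc
    subst hc
    exact graph_right_free F hXg x t hfix
  obtain ⟨r, hr⟩ := exists_retraction (⊥ : Subgroup S) hZ
  have hr1 : ∀ (t : S) (x : X), r (((1 : S), t) • x) = r x * t⁻¹ := by
    intro t x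
    rw [hr 1 (Subgroup.one_mem _) t x, one_mul]
  have : Fintype (Ybar S X) := Fintype.ofFinite _
  have hcard2 := card_eq_of_retraction r hr1
  have hm' : Fintype.card (Ybar S X) = m := by
    rw [hcard, mul_comm] at hcard2
    rw [← Nat.card_eq_fintype_card]
    exact (Nat.eq_of_mul_eq_mul_right Nat.card_pos hcard2).symm
  have hodd : Odd (Fintype.card (Ybar S X)) := by
    rw [hm', ← Nat.not_even_iff_odd, even_iff_two_dvd]
    exact hm
  -- the sign
  have hT' : (T.subgroupOf S).index = 2 := hT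
  obtain ⟨lam, hlam⟩ : ∃ lam : S →* ℤˣ, ∀ s : S, lam s = 1 ↔ (s : Ω) ∈ T :=
    ⟨signHom _ hT', fun s => by rw [signHom_eq_one_iff, Subgroup.mem_subgroupOf]⟩
  -- a fully normalized conjugate
  obtain ⟨Q, ⟨φ, hφ, hφr⟩, hQn⟩ := exists_fullyNormalized_conj F (P := Subgroup.zpowers i)
    (Subgroup.zpowers_le.mpr hi)
  obtain ⟨j, hj⟩ : ∃ j, j = φ ⟨i, Subgroup.mem_zpowers i⟩ := ⟨_, rfl⟩
  have hQj : Q = Subgroup.zpowers j := by
    rw [← hφr, range_zpowers_hom, hj]
  have hij : F.IsConjElt i j := ⟨φ, hφ, hj.symm⟩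
  have hjS : j ∈ S := by rw [hj]; exact apply_mem F hφ _
  have hj2 : orderOf j = 2 := by
    rw [hj, orderOf_injective φ (F.injective_of_mem hφ), Subgroup.orderOf_mk, hi2]
  rw [hQj] at hQn
  have hjj : (⟨j, hjS⟩ : S) * ⟨j, hjS⟩ = 1 := by
    apply Subtype.ext
    show j * j = 1
    rw [← pow_two, ← hj2, pow_orderOf_eq_one]
  -- the transfer
  have hinv := fun (P : Subgroup Ω) (φ : P →* Ω) (hφ : φ ∈ F.Hom P) (u : P) =>
    transHom_invariant F hXg hst lam r hr1 hφ u
  have hfoc : ∀ z (hz : z ∈ S), z ∈ F.focalSubgroup → transHom lam r hr1 (iotaX S X ⟨z, hz⟩) = 1 := by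
    have hle : F.focalSubgroup ≤
        ((transHom lam r hr1).comp (iotaX S X)).ker.map S.subtype := by
      unfold Cfsg.FusionSystem.focalSubgroup
      rw [Subgroup.closure_le]
      rintro y ⟨P, φ, x, hφ, rfl⟩
      have hxS : (x : Ω) ∈ S := source_le F hφ x.2
      have hφS : φ x ∈ S := apply_mem F hφ x
      refine ⟨⟨x, hxS⟩⁻¹ * ⟨φ x, hφS⟩, ?_, rfl⟩
      show _ ∈ ((transHom lam r hr1).comp (iotaX S X)).ker
      rw [MonoidHom.mem_ker, map_mul, map_inv]
      show (transHom lam r hr1 (iotaX S X ⟨x, hxS⟩))⁻¹ *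
        transHom lam r hr1 (iotaX S X ⟨φ x, hφS⟩) = 1
      rw [hinv P φ hφ x]
      exact inv_mul_cancel _
    intro z hz hzf
    obtain ⟨z', hz'ker, hz'⟩ := hle hzf
    have hz'eq : z' = ⟨z, hz⟩ := Subtype.ext hz'
    rw [hz'eq] at hz'ker
    exact hz'ker
  intro hif
  have h1 := hfoc i hi hif
  have h2 := hinv _ φ hφ ⟨i, Subgroup.mem_zpowers i⟩
  have h3 : transHom lam r hr1 (iotaX S X ⟨j, hjS⟩) = 1 := by
    have e : (⟨j, hjS⟩ : S) = ⟨φ ⟨i, Subgroup.mem_zpowers i⟩, apply_mem F hφ _⟩ :=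
      Subtype.ext hj
    rw [e]
    exact h2.trans h1
  -- evaluation at `j`
  have h4 : CB12.trans lam r (iotaX S X ⟨j, hjS⟩) = -1 := by
    apply trans_eq_neg_one lam r hr1 ⟨j, hjS⟩ hjj hodd
    rw [even_iff_two_dvd]
    apply dvd_card_of_no_fixed (Subgroup.centralizer {(⟨j, hjS⟩ : S)}) (hS.to_subgroup _)
    · intro c hc y hy
      rw [Subgroup.mem_centralizer_singleton_iff] at hc
      obtain ⟨-, hyfix, hyfac⟩ := Finset.mem_filter.mp hy
      obtain ⟨t, ht⟩ := exists_label _ y hyfix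
      rw [fac_of_fixed lam r hr1 _ t _ ht] at hyfac
      have ht' := smul_fixed_of_commute c ⟨j, hjS⟩ t hc y.out ht
      have e : barPerm (iotaX S X c) y =
          Quotient.mk (rightRel S X) (((c, (1 : S)) : S × S) • y.out) := by
        conv_lhs => rw [← Quotient.out_eq y]
        rfl
      refine Finset.mem_filter.mpr ⟨Finset.mem_univ _, ?_, ?_⟩
      · rw [e]
        exact fixed_of_label _ t _ ht'
      · rw [e, fac_out lam r hr1, fac_of_fixed lam r hr1 _ t _ ht']
        exact hyfac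
    · intro y hy
      by_contra hcon
      push Not at hcon
      obtain ⟨-, hyfix, hyfac⟩ := Finset.mem_filter.mp hy
      obtain ⟨t, ht⟩ := exists_label _ y hyfix
      rw [fac_of_fixed lam r hr1 _ t _ ht, hlam] at hyfac
      have hall : ∀ c : S, c * ⟨j, hjS⟩ = ⟨j, hjS⟩ * c → ∃ s : S, ((c, s) : S × S) • y.out = y.out := by
        intro c hc
        exact exists_label c y (hcon c (Subgroup.mem_centralizer_singleton_iff.mpr hc))
      obtain ⟨hjt, htn⟩ := fullyNormalized_of_fixed F hXg j hjS hj2 hQn y.out t ht hall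
      exact h _ (isConjElt_trans F hij hjt) htn hyfac
  rw [transHom_apply, h4] at h3
  exact absurd h3 (by decide)

end Main

end Cfsg.Agent.Lib.helper17.CB15
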