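import Mathlib
import Cfsg.Agent.Lib.Helper27.AlperinOrd
import Cfsg.Agent.Lib.Helper27.GTNormSys
import Cfsg.Agent.Lib.Helper27.FusJoin
import Cfsg.Agent.Lib.Helper26.KNorm8
import Cfsg.Agent.Lib.Helper26.Realize

/-!
# Control of weak closure of elements: functors and basic predicates
-/

set_option autoImplicit false

namespace Cfsg.Agent.Lib.helper17.CW

open Cfsg Cfsg.FusionSystem Cfsg.Agent.Lib.Helper26 Cfsg.Agent.Lib.Helper27

universe u

/-- a characteristic functor on finite `p`-groups (as subgroups of ambient groups), containing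
the centre -/
structure PFun (p : ℕ) where
  W : ∀ {Ω : Type u} [Group Ω], Subgroup Ω → Subgroup Ω
  le : ∀ {Ω : Type u} [Group Ω] (S : Subgroup Ω), W S ≤ S
  map : ∀ {Ω Ω' : Type u} [Group Ω] [Group Ω'] (f : Ω →* Ω'), Function.Injective f →
    ∀ (S : Subgroup Ω) [Finite S], IsPGroup p S → W (S.map f) = (W S).map f
  center_le : ∀ {Ω : Type u} [Group Ω] (S : Subgroup Ω) [Finite S], IsPGroup p S →
    S ⊓ Subgroup.centralizer (S : Set Ω) ≤ W S

/-- the functor on subgroups given by a functor on groups -/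
def PFun.ofW {p : ℕ} (W : ∀ (Q : Type u) [Group Q], Subgroup Q)
    (hW2 : ∀ (Q R : Type u) [Group Q] [Group R] [Finite Q], IsPGroup p Q → ∀ φ : Q ≃* R,
      (W Q).map φ.toMonoidHom = W R)
    (hWZ : ∀ (Q : Type u) [Group Q] [Finite Q], IsPGroup p Q → Subgroup.center Q ≤ W Q) :
    PFun.{u} p where
  W := fun S => (W ↥S).map S.subtype
  le := fun S => by
    rintro _ ⟨x, -, rfl⟩
    exact x.2
  map := fun {Ω Ω'} _ _ f hf S _ hS => by
    have h := hW2 ↥S ↥(S.map f) hS (S.equivMapOfInjective f hf)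
    rw [← h, Subgroup.map_map, Subgroup.map_map]
    congr 1
  center_le := fun S _ hS => by
    intro x hx
    have hxS : x ∈ S := hx.1
    have hxc : x ∈ Subgroup.centralizer (S : Set _) := hx.2
    refine ⟨⟨x, hxS⟩, hWZ ↥S hS ?_, rfl⟩
    rw [Subgroup.mem_center_iff]
    intro g
    apply Subtype.ext
    exact (Subgroup.mem_centralizer_iff.mp hxc) g g.2

namespace PFun

variable {p : ℕ} (𝒲 : PFun.{u} p)

theorem W_top_iff {Ω : Type u} [Group Ω] (P : Subgroup Ω) [Finite P] (hP : IsPGroup p P) (x : P) :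
    x ∈ 𝒲.W (⊤ : Subgroup ↥P) ↔ (x : Ω) ∈ 𝒲.W P := by
  have : Finite ↥(⊤ : Subgroup ↥P) := inferInstance
  have hT : IsPGroup p ↥(⊤ : Subgroup ↥P) := hP.of_equiv Subgroup.topEquiv.symm
  have h1 : (⊤ : Subgroup ↥P).map P.subtype = P := by
    rw [← MonoidHom.range_eq_map, Subgroup.range_subtype]
  have h2 := 𝒲.map P.subtype P.subtype_injective (⊤ : Subgroup ↥P) hT
  rw [h1] at h2
  rw [h2]
  constructor
  · intro hx
    exact ⟨x, hx, rfl⟩
  · rintro ⟨y, hy, hyx⟩
    have : y = x := Subtype.ext hyx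
    rwa [← this]

/-- the functor commutes with injective homomorphisms defined on the subgroup -/
theorem W_range {Ω Ω' : Type u} [Group Ω] [Group Ω'] (P : Subgroup Ω) [Finite P]
    (hP : IsPGroup p P) (φ : P →* Ω') (hφ : Function.Injective φ) (x : P) :
    (x : Ω) ∈ 𝒲.W P ↔ φ x ∈ 𝒲.W φ.range := by
  have : Finite ↥(⊤ : Subgroup ↥P) := inferInstance
  have hT : IsPGroup p ↥(⊤ : Subgroup ↥P) := hP.of_equiv Subgroup.topEquiv.symm
  have h1 : (⊤ : Subgroup ↥P).map φ = φ.range := (MonoidHom.range_eq_map φ).symm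
  have h2 := 𝒲.map φ hφ (⊤ : Subgroup ↥P) hT
  rw [h1] at h2
  rw [h2, ← 𝒲.W_top_iff P hP x]
  constructor
  · intro hx
    exact ⟨x, hx, rfl⟩
  · rintro ⟨y, hy, hyx⟩
    have : y = x := hφ hyx
    rwa [← this]

theorem mem_W_of_range {Ω Ω' : Type u} [Group Ω] [Group Ω'] (P : Subgroup Ω) [Finite P]
    (hP : IsPGroup p P) (φ : P →* Ω') (hφ : Function.Injective φ) {y : Ω'}
    (hy : y ∈ 𝒲.W φ.range) : ∃ x : P, (x : Ω) ∈ 𝒲.W P ∧ φ x = y := by
  obtain ⟨x, rfl⟩ := 𝒲.le _ hy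
  exact ⟨x, (𝒲.W_range P hP φ hφ x).mpr hy, rfl⟩

theorem conj_mem {Ω : Type u} [Group Ω] (P : Subgroup Ω) [Finite P] (hP : IsPGroup p P) {g : Ω}
    (hg : g ∈ Subgroup.normalizer (P : Set Ω)) {y : Ω} (hy : y ∈ 𝒲.W P) :
    g * y * g⁻¹ ∈ 𝒲.W P := by
  have hr : (conjHom P g).range = P := by
    ext t
    constructor
    · rintro ⟨x, rfl⟩
      exact conj_mem_of_mem_normalizer hg x
    · intro ht
      refine ⟨⟨g⁻¹ * t * g, conj_inv_mem_of_mem_normalizer hg ⟨t, ht⟩⟩, ?_⟩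
      show g * (g⁻¹ * t * g) * g⁻¹ = t
      group
  have hinj : Function.Injective (conjHom P g) := by
    intro a b hab
    apply Subtype.ext
    have : g * (a : Ω) * g⁻¹ = g * (b : Ω) * g⁻¹ := hab
    simpa using this
  have h := (𝒲.W_range P hP (conjHom P g) hinj ⟨y, 𝒲.le P hy⟩).mp hy
  rw [hr] at h
  exact h

theorem normalizer_le {Ω : Type u} [Group Ω] (P : Subgroup Ω) [Finite P] (hP : IsPGroup p P) :
    Subgroup.normalizer (P : Set Ω) ≤ Subgroup.normalizer (𝒲.W P : Set Ω) := by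
  intro g hg
  refine mem_normalizer_of_forall (fun y hy => 𝒲.conj_mem P hP hg hy) (fun y hy => ?_)
  have := 𝒲.conj_mem P hP (Subgroup.inv_mem _ hg) hy
  rwa [inv_inv] at this

end PFun

end Cfsg.Agent.Lib.helper17.CW
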