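import Mathlib
import Cfsg.Agent.Lib.helper17.CW1

/-!
# Control of weak closure of elements: the predicates `Fixes`, `FixOn`, and Alperin's criterion
-/

set_option autoImplicit false

namespace Cfsg.Agent.Lib.helper17.CW

open Cfsg Cfsg.FusionSystem Cfsg.Agent.Lib.Helper26 Cfsg.Agent.Lib.Helper27

universe u

variable {Ω : Type u} [Group Ω] {S : Subgroup Ω}

/-- every map of `K` whose source contains `z` fixes `z` -/
def Fixes {T : Subgroup Ω} (K : FusionSystem T) (z : Ω) : Prop :=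
  ∀ (P : Subgroup Ω) (φ : P →* Ω), φ ∈ K.Hom P → ∀ hz : z ∈ P, φ ⟨z, hz⟩ = z

/-- every map of `K` which normalizes `V` fixes `z` -/
def FixOn {T : Subgroup Ω} (K : FusionSystem T) (V : Subgroup Ω) (z : Ω) : Prop :=
  ∀ (P : Subgroup Ω) (φ : P →* Ω), φ ∈ K.Hom P → V ≤ P →
    P ≤ Subgroup.normalizer (V : Set Ω) → (∀ x : P, (x : Ω) ∈ V → φ x ∈ V) →
    ∀ hz : z ∈ P, φ ⟨z, hz⟩ = z

theorem FixOn.mono {T T' : Subgroup Ω} {K : FusionSystem T} {K' : FusionSystem T'}
    (h : ∀ P : Subgroup Ω, K'.Hom P ⊆ K.Hom P) {V : Subgroup Ω} {z : Ω} (hK : FixOn K V z) :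
    FixOn K' V z :=
  fun P φ hφ => hK P φ (h P hφ)

theorem Fixes.fixOn {T : Subgroup Ω} {K : FusionSystem T} {z : Ω} (h : Fixes K z)
    (V : Subgroup Ω) : FixOn K V z :=
  fun P φ hφ _ _ _ hz => h P φ hφ hz

/-- a map of a finite subgroup into itself which is injective is onto -/
theorem exists_preimage_of_invariant {P V : Subgroup Ω} [Finite V] (hVP : V ≤ P) {φ : P →* Ω}
    (hinj : Function.Injective φ) (hinv : ∀ x : P, (x : Ω) ∈ V → φ x ∈ V) {y : Ω} (hy : y ∈ V) :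
    ∃ x : P, (x : Ω) ∈ V ∧ φ x = y := by
  let f : V → V := fun v => ⟨φ ⟨v, hVP v.2⟩, hinv _ v.2⟩
  have hf : Function.Injective f := by
    intro a b hab
    have h1 : φ ⟨a, hVP a.2⟩ = φ ⟨b, hVP b.2⟩ := congrArg Subtype.val hab
    have h2 := hinj h1
    exact Subtype.ext (congrArg (fun t : P => (t : Ω)) h2)
  obtain ⟨v, hv⟩ := (Finite.injective_iff_surjective.mp hf) ⟨y, hy⟩
  exact ⟨⟨v, hVP v.2⟩, v.2, congrArg Subtype.val hv⟩

theorem mem_of_apply_mem_of_invariant {P V : Subgroup Ω} [Finite V] (hVP : V ≤ P) {φ : P →* Ω}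
    (hinj : Function.Injective φ) (hinv : ∀ x : P, (x : Ω) ∈ V → φ x ∈ V) {x : P}
    (hx : φ x ∈ V) : (x : Ω) ∈ V := by
  obtain ⟨x', hx', h⟩ := exists_preimage_of_invariant hVP hinj hinv hx
  have := hinj h
  rw [← this]
  exact hx'

/-- a map of `F` defined on `P ⊇ V`, with `P` normalizing `V`, which leaves `V` invariant is a
map of the normalizer system of `V` -/
theorem mem_normalizerHom_of_invariant [Finite S] (F : FusionSystem S) {V P : Subgroup Ω}
    {φ : P →* Ω} (hφ : φ ∈ F.Hom P) (hVP : V ≤ P) (hPN : P ≤ Subgroup.normalizer (V : Set Ω))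
    (hinv : ∀ x : P, (x : Ω) ∈ V → φ x ∈ V) : φ ∈ F.normalizerHom V P := by
  have hPS : P ≤ S := source_le F hφ
  have : Finite V := finite_of_le (hVP.trans hPS)
  have hinj := F.injective_of_mem hφ
  have hconj : ∀ (x : P), ∀ y ∈ V, φ x * y * (φ x)⁻¹ ∈ V := by
    intro x y hy
    obtain ⟨v, hv, rfl⟩ := exists_preimage_of_invariant hVP hinj hinv hy
    have h1 : (x : Ω) * v * (x : Ω)⁻¹ ∈ V := conj_mem_of_mem_normalizer (hPN x.2) ⟨v, hv⟩
    have h2 : φ x * φ v * (φ x)⁻¹ = φ (x * v * x⁻¹) := by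
      rw [map_mul, map_mul, map_inv]
    rw [h2]
    exact hinv _ h1
  refine ⟨hφ, le_inf hPS hPN, fun x => ⟨apply_mem F hφ x, ?_⟩, ?_⟩
  · refine mem_normalizer_of_forall (hconj x) (fun y hy => ?_)
    have := hconj x⁻¹ y hy
    rwa [map_inv, inv_inv] at this
  · obtain ⟨ψ, hψ, h1, h2⟩ := hom_cast' F (sup_eq_left.mpr hVP).symm _ hφ
    refine ⟨ψ, hψ, fun x => h1 x x.2 _, ?_⟩
    rw [h2 V]
    ext y
    constructor
    · rintro ⟨x, hx, rfl⟩
      exact hinv x (Subgroup.mem_subgroupOf.mp hx)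
    · intro hy
      obtain ⟨v, hv, rfl⟩ := exists_preimage_of_invariant hVP hinj hinv hy
      exact ⟨v, Subgroup.mem_subgroupOf.mpr hv, rfl⟩

/-- conversely a map of the normalizer system extends to a map leaving `V` invariant -/
theorem FixOn.of_fixes_normalizerSystem [Finite S] (F : FusionSystem S) {V : Subgroup Ω}
    (N : FusionSystem (normalizerIn S V)) (hN : F.IsNormalizerSystem V N) {z : Ω}
    (h : Fixes N z) : FixOn F V z := by
  intro P φ hφ hVP hPN hinv hz
  have := mem_normalizerHom_of_invariant F hφ hVP hPN hinv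
  rw [← hN P] at this
  exact h P φ this hz

/-! ### the centralizer system of a central subgroup, as a system over `S` -/

theorem centralizerIn_eq_self {Z : Subgroup Ω} (hSZ : S ≤ Subgroup.centralizer (Z : Set Ω)) :
    centralizerIn S Z = S := inf_eq_left.mpr hSZ

/-- the centralizer system of `Z ≤ Z(S)`, as a system over `S` -/
def centSys (F : FusionSystem S) (Z : Subgroup Ω) (hZS : Z ≤ S)
    (hSZ : S ≤ Subgroup.centralizer (Z : Set Ω)) : FusionSystem S :=
  castSystem (centralizerIn_eq_self hSZ) (centralizerSystem F Z hZS)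

theorem centSys_hom (F : FusionSystem S) (Z : Subgroup Ω) (hZS : Z ≤ S)
    (hSZ : S ≤ Subgroup.centralizer (Z : Set Ω)) (P : Subgroup Ω) :
    (centSys F Z hZS hSZ).Hom P = F.centralizerHom Z P := by
  unfold centSys
  rw [castSystem_Hom]
  rfl

theorem apply_eq_of_mem_centralizerHom (F : FusionSystem S) {Z P : Subgroup Ω} {φ : P →* Ω}
    (hφ : φ ∈ F.centralizerHom Z P) (x : P) (hx : (x : Ω) ∈ Z) : φ x = x := by
  obtain ⟨-, -, -, ψ, -, hext, hfix⟩ := hφ
  have h1 := hfix ⟨x, hx⟩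
  have h2 := hext x
  have e : Subgroup.inclusion (le_sup_right : Z ≤ P ⊔ Z) ⟨x, hx⟩ =
      Subgroup.inclusion (le_sup_left : P ≤ P ⊔ Z) x := Subtype.ext rfl
  rw [e, h2] at h1
  exact h1

theorem mem_centralizerHom_of_fix (F : FusionSystem S) {Z P : Subgroup Ω}
    (hSZ : S ≤ Subgroup.centralizer (Z : Set Ω)) {φ : P →* Ω} (hφ : φ ∈ F.Hom P) (hZP : Z ≤ P)
    (hfix : ∀ x : P, (x : Ω) ∈ Z → φ x = x) : φ ∈ F.centralizerHom Z P := by
  have hPS : P ≤ S := source_le F hφ
  refine ⟨hφ, le_inf hPS (hPS.trans hSZ), fun x => ⟨apply_mem F hφ x, hSZ (apply_mem F hφ x)⟩, ?_⟩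
  obtain ⟨ψ, hψ, h1⟩ := hom_cast F (sup_eq_left.mpr hZP).symm _ hφ
  refine ⟨ψ, hψ, fun x => h1 x x.2 _, fun x => ?_⟩
  have := h1 x (hZP x.2) (le_sup_right (a := P) x.2)
  rw [show Subgroup.inclusion (le_sup_right : Z ≤ P ⊔ Z) x = ⟨(x : Ω), le_sup_right (a := P) x.2⟩
    from rfl, this]
  exact hfix ⟨x, hZP x.2⟩ x.2

theorem apply_eq_of_forall_zpowers {P : Subgroup Ω} {φ : P →* Ω} {z : Ω} (hz : z ∈ P)
    (h : φ ⟨z, hz⟩ = z) (x : P) (hx : (x : Ω) ∈ Subgroup.zpowers z) : φ x = x := by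
  obtain ⟨k, hk⟩ := Subgroup.mem_zpowers_iff.mp hx
  have e : x = (⟨z, hz⟩ : P) ^ k := Subtype.ext (by rw [Subgroup.coe_zpow]; exact hk.symm)
  rw [e, map_zpow, h, Subgroup.coe_zpow]

theorem le_centralizer_zpowers {z : Ω} (hzc : ∀ s ∈ S, s * z = z * s) :
    S ≤ Subgroup.centralizer ((Subgroup.zpowers z : Subgroup Ω) : Set Ω) := by
  intro s hs
  rw [Subgroup.mem_centralizer_iff]
  intro y hy
  obtain ⟨k, rfl⟩ := Subgroup.mem_zpowers_iff.mp hy
  have : Commute s z := hzc s hs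
  exact (this.zpow_right k).eq.symm

/-- Alperin's criterion, order-aware: if all automorphisms of `S` and of the essential subgroups
of order larger than `m` fix the central element `z`, then every map of the system whose source
has order larger than `m` is a map of the centralizer system of `⟨z⟩`. -/
theorem alperin_fix [Finite S] {p : ℕ} [Fact p.Prime] (hS : IsPGroup p S) (F : FusionSystem S)
    (hF : F.IsSaturated p) {z : Ω} (hzS : z ∈ S) (hzc : ∀ s ∈ S, s * z = z * s) (m : ℕ)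
    (h : ∀ P : Subgroup Ω, (P = S ∨ F.IsEssential p P) → m < Nat.card P →
      ∀ α ∈ F.autGroup P, ∀ hz : z ∈ P, ((α ⟨z, hz⟩ : P) : Ω) = z)
    (P : Subgroup Ω) (hPS : P ≤ S) (hm : m < Nat.card P) :
    F.Hom P ⊆ F.centralizerHom (Subgroup.zpowers z) P := by
  have hZS : Subgroup.zpowers z ≤ S := (Subgroup.zpowers_le).mpr hzS
  have hSZ := le_centralizer_zpowers hzc
  have key := AlperinOrd.alperin_above p hS F hF (centSys F _ hZS hSZ) m ?_ P hPS hm
  · intro φ hφ
    have := key hφ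
    rwa [centSys_hom] at this
  · intro Q hQ hmQ α hα
    have hQS : Q ≤ S := by
      rcases hQ with rfl | hQ
      · exact le_rfl
      · exact hQ.1.1
    have hzQ : z ∈ Q := by
      rcases hQ with rfl | hQ
      · exact hzS
      · refine hQ.1.2 Q (isConj_refl F hQS) ⟨hzS, ?_⟩
        show z ∈ Subgroup.centralizer (Q : Set Ω)
        rw [Subgroup.mem_centralizer_iff]
        intro y hy
        exact hzc y (hQS hy)
    rw [mem_autGroup_iff _ hQS, centSys_hom]
    have hαF := (mem_autGroup_iff F hQS).mp hα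
    refine mem_centralizerHom_of_fix F hSZ hαF ((Subgroup.zpowers_le).mpr hzQ) ?_
    exact apply_eq_of_forall_zpowers hzQ (h Q hQ hmQ α hα hzQ)

theorem apply_eq_of_mem_centralizerHom_zpowers (F : FusionSystem S) {P : Subgroup Ω} {φ : P →* Ω}
    {z : Ω} (hφ : φ ∈ F.centralizerHom (Subgroup.zpowers z) P) (hz : z ∈ P) : φ ⟨z, hz⟩ = z :=
  apply_eq_of_mem_centralizerHom F hφ ⟨z, hz⟩ (Subgroup.mem_zpowers z)

/-- the conclusion: `z` lies in the centre of the system -/
theorem mem_center_of_forall_centralizerHom (F : FusionSystem S) {z : Ω} (hzS : z ∈ S)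
    (h : ∀ P : Subgroup Ω, F.Hom P ⊆ F.centralizerHom (Subgroup.zpowers z) P) :
    z ∈ F.center := by
  have hc : F.IsCentral (Subgroup.zpowers z) := by
    refine ⟨(Subgroup.zpowers_le).mpr hzS, fun P φ hφ => ?_⟩
    obtain ⟨-, -, -, ψ, hψ, h1, h2⟩ := h P hφ
    exact ⟨ψ, hψ, h1, h2⟩
  have : Subgroup.zpowers z ≤ F.center := le_sSup hc
  exact this (Subgroup.mem_zpowers z)

/-- elements of the centre are fixed by all maps -/
theorem fixes_of_mem_center {T : Subgroup Ω} [Finite T] (K : FusionSystem T) {z : Ω}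
    (hz : z ∈ K.center) : Fixes K z :=
  fun P φ hφ hzP => by
    obtain ⟨ψ, -, hext, hfix⟩ := (isCentral_center K).2 P φ hφ
    have h1 := hfix ⟨z, hz⟩
    have h2 := hext ⟨z, hzP⟩
    have e : Subgroup.inclusion (le_sup_right : K.center ≤ P ⊔ K.center) ⟨z, hz⟩ =
        Subgroup.inclusion (le_sup_left : P ≤ P ⊔ K.center) ⟨z, hzP⟩ := Subtype.ext rfl
    rw [e, h2] at h1
    exact h1

end Cfsg.Agent.Lib.helper17.CW
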