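import Mathlib
import Cfsg.Agent.Lib.helper17.CW2
import Cfsg.Agent.Lib.Helper27.ModelMain

/-!
# Control of weak closure of elements: the local hypothesis and models
-/

set_option autoImplicit false

namespace Cfsg.Agent.Lib.helper17.CW

open Cfsg Cfsg.FusionSystem Cfsg.Agent.Lib.Helper26 Cfsg.Agent.Lib.Helper27

universe u

/-- the local hypothesis, on groups of characteristic `p` -/
def LocalHyp (p n : ℕ) (𝒲 : PFun.{u} p) : Prop :=
  ∀ (G : Type u) [Group G] [Finite G] (P : Sylow p G),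
    Subgroup.centralizer ((pCore p G : Subgroup G) : Set G) ≤ pCore p G →
    ∀ y ∈ (P : Subgroup G), (∀ x ∈ (P : Subgroup G), x * y = y * x) →
      (∀ g ∈ Subgroup.normalizer ((𝒲.W (P : Subgroup G) : Subgroup G) : Set G),
        g * y ^ n = y ^ n * g) →
      ∀ g : G, g * y ^ n = y ^ n * g

variable {Ω : Type u} [Group Ω] {S : Subgroup Ω}

/-- in a system with a model, the local hypothesis gives control -/
theorem fixes_of_model {p n : ℕ} [Fact p.Prime] (𝒲 : PFun.{u} p) (hL : LocalHyp p n 𝒲)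
    {T : Subgroup Ω} [Finite T] (hT : IsPGroup p T) (K : FusionSystem T) {G : Type u} [Group G]
    (ι : T →* G) (hG : K.IsModel p G ι) {y : Ω} (hyT : y ∈ T) (hyc : ∀ s ∈ T, s * y = y * s)
    (hfix : FixOn K (𝒲.W T) (y ^ n)) : Fixes K (y ^ n) := by
  obtain ⟨hfin, hR, ⟨P, hP⟩, hC⟩ := hG
  have := hfin
  have hinj := hR.1
  have hznT : y ^ n ∈ T := T.pow_mem hyT n
  have hιz : ι ⟨y ^ n, hznT⟩ = (ι ⟨y, hyT⟩) ^ n := by
    rw [← map_pow]
    rfl
  have hOr : pCore p G ≤ ι.range := hP ▸ Helper1.pCore_le_sylow p P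
  have hOn : (pCore p G).Normal := Helper1.pCore_normal p
  -- the image of `y` is central in the Sylow subgroup
  have hy'c : ∀ x ∈ (P : Subgroup G), x * ι ⟨y, hyT⟩ = ι ⟨y, hyT⟩ * x := by
    intro x hx
    rw [hP] at hx
    obtain ⟨s, rfl⟩ := hx
    rw [← map_mul, ← map_mul]
    congr 1
    exact Subtype.ext (hyc s s.2)
  have hy'P : ι ⟨y, hyT⟩ ∈ (P : Subgroup G) := by
    rw [hP]
    exact ⟨_, rfl⟩
  -- the image of `z` lies in `O_p(G)`
  have hzO : ι ⟨y ^ n, hznT⟩ ∈ pCore p G := by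
    apply hC
    rw [Subgroup.mem_centralizer_iff]
    intro u hu
    have huP : u ∈ (P : Subgroup G) := hP ▸ hOr hu
    rw [hιz]
    have : Commute u (ι ⟨y, hyT⟩) := hy'c u huP
    exact (this.pow_right n).eq
  have hWr : 𝒲.W (P : Subgroup G) = 𝒲.W ι.range := by rw [hP]
  have hkey : ∀ g ∈ Subgroup.normalizer ((𝒲.W (P : Subgroup G) : Subgroup G) : Set G),
      g * (ι ⟨y, hyT⟩) ^ n = (ι ⟨y, hyT⟩) ^ n * g := by
    intro g hg
    rw [hWr] at hg
    -- the subgroup `R = U ⊔ W(T)`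
    have hUT : preSub ι (pCore p G) ≤ T := preSub_le ι _
    have hWT : 𝒲.W T ≤ T := 𝒲.le T
    have hRT : preSub ι (pCore p G) ⊔ 𝒲.W T ≤ T := sup_le hUT hWT
    let B : Subgroup Ω := ((ι.range).comap ((MulAut.conj g).toMonoidHom.comp ι)).map T.subtype
    have hB : ∀ x : Ω, x ∈ B ↔ ∃ hx : x ∈ T, g * ι ⟨x, hx⟩ * g⁻¹ ∈ ι.range := by
      intro x
      constructor
      · rintro ⟨s, hs, rfl⟩
        exact ⟨s.2, hs⟩
      · rintro ⟨hx, h⟩
        exact ⟨⟨x, hx⟩, h, rfl⟩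
    have hWmem : ∀ x : T, (x : Ω) ∈ 𝒲.W T → g * ι x * g⁻¹ ∈ 𝒲.W ι.range := by
      intro x hx
      have h1 := (𝒲.W_range T hT ι hinj x).mp hx
      exact (Subgroup.mem_normalizer_iff.mp hg _).mp h1
    have hRB : preSub ι (pCore p G) ⊔ 𝒲.W T ≤ B := by
      refine sup_le ?_ ?_
      · intro x hx
        obtain ⟨hxT, hxO⟩ := mem_preSub_iff.mp hx
        exact (hB x).mpr ⟨hxT, hOr (hOn.conj_mem _ hxO g)⟩
      · intro x hx
        exact (hB x).mpr ⟨hWT hx, 𝒲.le _ (hWmem ⟨x, hWT hx⟩ hx)⟩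
    have h : ∀ x : ↥(preSub ι (pCore p G) ⊔ 𝒲.W T), g * ι ⟨x, hRT x.2⟩ * g⁻¹ ∈ ι.range := by
      intro x
      obtain ⟨_, h1⟩ := (hB x).mp (hRB x.2)
      exact h1
    have hφ := pullHom_mem_hom K hR _ hRT g h
    have hzR : y ^ n ∈ preSub ι (pCore p G) ⊔ 𝒲.W T :=
      (le_sup_left : preSub ι (pCore p G) ≤ _) (mem_preSub_iff.mpr ⟨hznT, hzO⟩)
    have hTN : T ≤ Subgroup.normalizer (𝒲.W T : Set Ω) :=
      Subgroup.le_normalizer.trans (𝒲.normalizer_le T hT)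
    have h2 := hfix _ _ hφ le_sup_right (hRT.trans hTN) (fun x hx => by
      have h3 := apply_pullHom hinj _ hRT g h x
      have h4 := hWmem ⟨x, hRT x.2⟩ hx
      rw [← h3] at h4
      exact (𝒲.W_range T hT ι hinj ⟨_, pullHom_mem hinj _ hRT g h x⟩).mpr h4) hzR
    have h5 := apply_pullHom hinj _ hRT g h ⟨y ^ n, hzR⟩
    have h6 : ι ⟨y ^ n, hznT⟩ = g * ι ⟨y ^ n, hznT⟩ * g⁻¹ := by
      rw [← h5]
      congr 1
      exact Subtype.ext h2.symm
    rw [← hιz]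
    calc g * ι ⟨y ^ n, hznT⟩ = (g * ι ⟨y ^ n, hznT⟩ * g⁻¹) * g := by group
      _ = ι ⟨y ^ n, hznT⟩ * g := by rw [← h6]
  have hall := hL G P hC (ι ⟨y, hyT⟩) hy'P hy'c hkey
  intro Q φ hφ hzQ
  obtain ⟨g, hg⟩ := exists_of_mem_hom K hR hφ
  have h1 := hg ⟨y ^ n, hzQ⟩
  have h2 : ι ⟨y ^ n, hznT⟩ = (ι ⟨y, hyT⟩) ^ n := hιz
  have h3 : g * ι ⟨y ^ n, hznT⟩ * g⁻¹ = ι ⟨y ^ n, hznT⟩ := by
    rw [h2, hall g]
    group
  have h4 : ι ⟨φ ⟨y ^ n, hzQ⟩, (K.le_of_mem hφ).2 _⟩ = ι ⟨y ^ n, hznT⟩ := by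
    rw [h1]
    exact h3
  exact congrArg Subtype.val (hinj h4)

/-- the automorphisms of a fully normalized centric subgroup `E` fix `z` as soon as the maps
normalizing `W(N_S(E))` do -/
theorem aut_fixes_of_fixOn [Finite S] {p n : ℕ} [Fact p.Prime] (𝒲 : PFun.{u} p)
    (hL : LocalHyp p n 𝒲) (hS : IsPGroup p S) (F : FusionSystem S) (hF : F.IsSaturated p)
    {E : Subgroup Ω} (hEn : F.IsFullyNormalized E) (hEc : F.IsCentric E) {y : Ω} (hyS : y ∈ S)
    (hyc : ∀ s ∈ S, s * y = y * s) (hfix : FixOn F (𝒲.W (normalizerIn S E)) (y ^ n)) :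
    ∀ α ∈ F.autGroup E, ∀ hz : y ^ n ∈ E, ((α ⟨y ^ n, hz⟩ : E) : Ω) = y ^ n := by
  have hES : E ≤ S := hEn.1
  have hNN := normalizerSystem_isNormalizerSystem F E hES
  have hcon := normalizerSystem_constrained hS F hF hEn hEc _ hNN
  have : Finite ↥(normalizerIn S E) := finite_of_le (normalizerIn_le S E)
  have hT : IsPGroup p ↥(normalizerIn S E) := hS.to_le (normalizerIn_le S E)
  obtain ⟨G, _, ι, hG⟩ := Model.exists_model p hT _ hcon
  have hyT : y ∈ normalizerIn S E := by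
    refine ⟨hyS, mem_normalizer_of_forall (fun x hx => ?_) (fun x hx => ?_)⟩
    · have : y * x = x * y := (hyc x (hES hx)).symm
      rw [this, mul_inv_cancel_right]
      exact hx
    · have : x * y = y * x := hyc x (hES hx)
      rw [mul_assoc, this, inv_mul_cancel_left]
      exact hx
  have hfixN : FixOn (normalizerSystem F E hES) (𝒲.W (normalizerIn S E)) (y ^ n) :=
    hfix.mono (fun P φ hφ => by
      rw [hNN P] at hφ
      exact hφ.1)
  have hall := fixes_of_model 𝒲 hL hT _ ι hG hyT (fun s hs => hyc s (normalizerIn_le S E hs)) hfixN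
  intro α hα hz
  have hαN : α ∈ (normalizerSystem F E hES).autGroup E := by
    rw [normalizerSystem_autGroup_eq F hES _ hNN]
    exact hα
  have h1 := (mem_autGroup_iff _ (le_normalizerIn_self hES)).mp hαN
  exact hall E _ h1 hz

end Cfsg.Agent.Lib.helper17.CW
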