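import Mathlib
import Cfsg.Agent.Lib.helper17.CW3
import Cfsg.Agent.Lib.helper17.PRed6

/-!
# The local hypothesis for functors with the quadratic element condition
-/

set_option autoImplicit false

namespace Cfsg.Agent.Lib.helper17.CW

open Cfsg

open scoped commutatorElement

universe u

/-- an element acting quadratically on an abelian normal subgroup `Z`, whose `p`-th power
centralizes `Z`, centralizes the `p`-th powers of the elements of `Z` -/
theorem conj_pow_eq_of_quadratic {G : Type*} [Group G] {Z : Subgroup G}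
    (hZab : ∀ a ∈ Z, ∀ b ∈ Z, a * b = b * a) (h : G) (hhZ : ∀ v ∈ Z, h * v * h⁻¹ ∈ Z)
    (hquad : ∀ v ∈ Z, ⁅⁅v, h⁆, h⁆ = 1) (p : ℕ) (hp : ∀ v ∈ Z, h ^ p * v * (h ^ p)⁻¹ = v) :
    ∀ v ∈ Z, h * v ^ p * h⁻¹ = v ^ p := by
  intro v hv
  -- `w = [v, h]`
  obtain ⟨w, hw⟩ : ∃ w, w = ⁅v, h⁆ := ⟨_, rfl⟩
  have hwZ : w ∈ Z := by
    rw [hw, commutatorElement_def]
    have h1 : v * h * v⁻¹ * h⁻¹ = v * (h * v⁻¹ * h⁻¹) := by group
    rw [h1]
    exact Z.mul_mem hv (hhZ _ (Z.inv_mem hv))
  have hwh : h * w * h⁻¹ = w := by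
    have h1 := hquad v hv
    rw [← hw, commutatorElement_eq_one_iff_commute] at h1
    rw [← h1.eq, mul_inv_cancel_right]
  have hσv : h * v * h⁻¹ = w⁻¹ * v := by
    rw [hw, commutatorElement_def]
    group
  have hk : ∀ k : ℕ, h ^ k * v * (h ^ k)⁻¹ = (w⁻¹) ^ k * v := by
    intro k
    induction k with
    | zero => simp
    | succ k ih =>
      have e1 : h ^ (k + 1) * v * (h ^ (k + 1))⁻¹ = h * (h ^ k * v * (h ^ k)⁻¹) * h⁻¹ := by
        rw [pow_succ']
        group
      rw [e1, ih]
      have e2 : h * ((w⁻¹) ^ k * v) * h⁻¹ = (h * w * h⁻¹)⁻¹ ^ k * (h * v * h⁻¹) := by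
        have : (h * w * h⁻¹)⁻¹ = h * w⁻¹ * h⁻¹ := by group
        rw [this, conj_pow]
        group
      rw [e2, hwh, hσv, pow_succ, mul_assoc]
  have hwp : (w⁻¹) ^ p = 1 := by
    have h1 := hk p
    rw [hp v hv] at h1
    exact (mul_eq_right (a := (w⁻¹) ^ p) (b := v)).mp h1.symm
  have hcomm : Commute w⁻¹ v := hZab _ (Z.inv_mem hwZ) _ hv
  calc h * v ^ p * h⁻¹ = (h * v * h⁻¹) ^ p := (conj_pow (a := h) (b := v) (i := p)).symm
    _ = (w⁻¹ * v) ^ p := by rw [hσv]
    _ = (w⁻¹) ^ p * v ^ p := hcomm.mul_pow p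
    _ = v ^ p := by rw [hwp, one_mul]

/-- a suitable power of a `p`-element outside a subgroup -/
theorem exists_pow_notMem_pow_mem {G : Type*} [Group G] {p : ℕ} {P Q : Subgroup G}
    (hP : IsPGroup p P) {g : G} (hgP : g ∈ P) (hgQ : g ∉ Q) :
    ∃ h ∈ Subgroup.zpowers g, h ∈ P ∧ h ∉ Q ∧ h ^ p ∈ Q := by
  obtain ⟨k, hk⟩ := hP ⟨g, hgP⟩
  have hk' : g ^ p ^ k = 1 := by
    have := congrArg Subtype.val hk
    simpa using this
  have hex : ∃ j : ℕ, g ^ p ^ j ∈ Q := ⟨k, by rw [hk']; exact Q.one_mem⟩
  classical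
  have hmin : ∀ m, m < Nat.find hex → ¬ g ^ p ^ m ∈ Q := fun m hm => Nat.find_min hex hm
  have hspec := Nat.find_spec hex
  have hne : Nat.find hex ≠ 0 := by
    intro h0
    rw [h0] at hspec
    simp at hspec
    exact hgQ hspec
  obtain ⟨j, hj⟩ := Nat.exists_eq_succ_of_ne_zero hne
  refine ⟨g ^ p ^ j, Subgroup.npow_mem_zpowers g _, P.pow_mem hgP _, ?_, ?_⟩
  · exact hmin j (by omega)
  · rw [← pow_mul, ← pow_succ, ← Nat.succ_eq_add_one, ← hj]
    exact hspec

/-- the quadratic element condition gives the local hypothesis with exponent `p` -/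
theorem localHyp_of_quadratic {p : ℕ} [Fact p.Prime] (𝒲 : PFun.{u} p)
    (hq : ∀ (G : Type u) [Group G] [Finite G] (P : Sylow p G),
      ¬ (𝒲.W (P : Subgroup G)).Normal → ∃ g : G, g ∈ (P : Subgroup G) ∧ g ∉ pCore p G ∧
        ⁅⁅(Subgroup.center ↥(pCore p G)).map (pCore p G).subtype, Subgroup.zpowers g⁆,
          Subgroup.zpowers g⁆ = ⊥) : LocalHyp p p 𝒲 := by
  have key : ∀ (N : ℕ) (G : Type u) [Group G] [Finite G], Nat.card G = N → ∀ P : Sylow p G,
      Subgroup.centralizer ((pCore p G : Subgroup G) : Set G) ≤ pCore p G →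
      ∀ y ∈ (P : Subgroup G), (∀ x ∈ (P : Subgroup G), x * y = y * x) →
      (∀ g ∈ Subgroup.normalizer ((𝒲.W (P : Subgroup G) : Subgroup G) : Set G),
        g * y ^ p = y ^ p * g) → ∀ g : G, g * y ^ p = y ^ p * g := by
    intro N
    induction N using Nat.strong_induction_on with
    | _ N ih =>
      intro G _ _ hcard P hcon y hyP hyc hnorm
      by_cases hWn : (𝒲.W (P : Subgroup G)).Normal
      · intro g
        refine hnorm g ?_
        rw [Subgroup.normalizer_eq_top]
        exact Subgroup.mem_top g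
      obtain ⟨g, hgP, hgQ, hquad⟩ := hq G P hWn
      have hQn : (pCore p G).Normal := Cfsg.Agent.Lib.Helper1.pCore_normal p
      have hQP : pCore p G ≤ (P : Subgroup G) := Cfsg.Agent.Lib.Helper1.pCore_le_sylow p P
      obtain ⟨Z, hZ⟩ : ∃ Z : Subgroup G,
          Z = (Subgroup.center ↥(pCore p G)).map (pCore p G).subtype := ⟨_, rfl⟩
      have hZmem : ∀ v : G, v ∈ Z ↔ v ∈ pCore p G ∧ ∀ q ∈ pCore p G, q * v = v * q := by
        intro v
        rw [hZ]
        constructor
        · rintro ⟨v', hv', rfl⟩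
          refine ⟨v'.2, fun q hq => ?_⟩
          have := (Subgroup.mem_center_iff.mp hv') ⟨q, hq⟩
          exact congrArg Subtype.val this
        · rintro ⟨hvQ, hvc⟩
          refine ⟨⟨v, hvQ⟩, ?_, rfl⟩
          rw [SetLike.mem_coe, Subgroup.mem_center_iff]
          intro q
          exact Subtype.ext (hvc q q.2)
      have hZab : ∀ a ∈ Z, ∀ b ∈ Z, a * b = b * a := fun a ha b hb =>
        ((hZmem b).mp hb).2 a ((hZmem a).mp ha).1
      have hZconj : ∀ (x v : G), v ∈ Z → x * v * x⁻¹ ∈ Z := by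
        intro x v hv
        obtain ⟨hvQ, hvc⟩ := (hZmem v).mp hv
        refine (hZmem _).mpr ⟨hQn.conj_mem v hvQ x, fun q hq => ?_⟩
        have hq' : x⁻¹ * q * x ∈ pCore p G := by
          have := hQn.conj_mem q hq x⁻¹
          rwa [inv_inv] at this
        have h1 := hvc _ hq'
        calc q * (x * v * x⁻¹) = x * ((x⁻¹ * q * x) * v) * x⁻¹ := by group
          _ = x * (v * (x⁻¹ * q * x)) * x⁻¹ := by rw [h1]
          _ = x * v * x⁻¹ * q := by group
      -- `y ∈ Z`
      have hyQ : y ∈ pCore p G := by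
        apply hcon
        rw [Subgroup.mem_centralizer_iff]
        intro u hu
        exact hyc u (hQP hu)
      have hyZ : y ∈ Z := (hZmem y).mpr ⟨hyQ, fun q hq => hyc q (hQP hq)⟩
      -- a power `h` of `g` outside `Q` with `h ^ p ∈ Q`
      obtain ⟨h, hhg, hhP, hhQ, hhpQ⟩ := exists_pow_notMem_pow_mem P.2 hgP hgQ
      have hquad' : ∀ v ∈ Z, ⁅⁅v, h⁆, h⁆ = 1 := by
        intro v hv
        have h1 : ⁅⁅v, h⁆, h⁆ ∈ ⁅⁅Z, Subgroup.zpowers g⁆, Subgroup.zpowers g⁆ :=
          Subgroup.commutator_mem_commutator (Subgroup.commutator_mem_commutator hv hhg) hhg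
        rw [hZ, hquad, Subgroup.mem_bot] at h1
        exact h1
      have hhp : ∀ v ∈ Z, h ^ p * v * (h ^ p)⁻¹ = v := by
        intro v hv
        have := ((hZmem v).mp hv).2 _ hhpQ
        rw [this, mul_inv_cancel_right]
      have hcent := conj_pow_eq_of_quadratic hZab h (fun v hv => hZconj h v hv) hquad' p hhp
      -- the centralizer of the `p`-th powers
      obtain ⟨D, hD⟩ : ∃ D : Subgroup G, D = Subgroup.centralizer {u : G | ∃ v ∈ Z, u = v ^ p} :=
        ⟨_, rfl⟩
      have hDmem : ∀ d : G, d ∈ D ↔ ∀ v ∈ Z, d * v ^ p = v ^ p * d := by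
        intro d
        rw [hD, Subgroup.mem_centralizer_iff]
        constructor
        · intro hd v hv
          exact (hd _ ⟨v, hv, rfl⟩).symm
        · rintro hd _ ⟨v, hv, rfl⟩
          exact (hd v hv).symm
      have hDn : D.Normal := by
        refine ⟨fun d hd x => (hDmem _).mpr (fun v hv => ?_)⟩
        have hv' : x⁻¹ * v * x ∈ Z := by
          have := hZconj x⁻¹ v hv
          rwa [inv_inv] at this
        have h1 := (hDmem d).mp hd _ hv'
        have e : v ^ p = x * (x⁻¹ * v * x) ^ p * x⁻¹ := by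
          have : x⁻¹ * v * x = x⁻¹ * v * x⁻¹⁻¹ := by rw [inv_inv]
          rw [this, conj_pow]
          group
        rw [e]
        calc x * d * x⁻¹ * (x * (x⁻¹ * v * x) ^ p * x⁻¹)
            = x * (d * (x⁻¹ * v * x) ^ p) * x⁻¹ := by group
          _ = x * ((x⁻¹ * v * x) ^ p * d) * x⁻¹ := by rw [h1]
          _ = x * (x⁻¹ * v * x) ^ p * x⁻¹ * (x * d * x⁻¹) := by group
      have hhD : h ∈ D := by
        refine (hDmem h).mpr (fun v hv => ?_)
        have := hcent v hv
        calc h * v ^ p = (h * v ^ p * h⁻¹) * h := by group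
          _ = v ^ p * h := by rw [this]
      have hyD : ∀ d ∈ D, d * y ^ p = y ^ p * d := fun d hd => (hDmem d).mp hd y hyZ
      -- `M = N_G(P ∩ D)`
      obtain ⟨M, hM⟩ : ∃ M : Subgroup G,
          M = Subgroup.normalizer ((((P : Subgroup G) ⊓ D : Subgroup G)) : Set G) := ⟨_, rfl⟩
      have hPM : (P : Subgroup G) ≤ M := by
        rw [hM]
        intro x hx
        rw [Subgroup.mem_normalizer_iff]
        intro t
        constructor
        · rintro ⟨htP, htD⟩
          exact ⟨Subgroup.mul_mem _ (Subgroup.mul_mem _ hx htP) (Subgroup.inv_mem _ hx),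
            hDn.conj_mem t htD x⟩
        · rintro ⟨htP, htD⟩
          refine ⟨?_, ?_⟩
          · have := Subgroup.mul_mem _ (Subgroup.mul_mem _ (Subgroup.inv_mem _ hx) htP) hx
            have e : x⁻¹ * (x * t * x⁻¹) * x = t := by group
            rwa [e] at this
          · have := hDn.conj_mem _ htD x⁻¹
            have e : x⁻¹ * (x * t * x⁻¹) * x⁻¹⁻¹ = t := by group
            rwa [e] at this
      have hMne : M ≠ ⊤ := by
        intro htop
        have hn : ((P : Subgroup G) ⊓ D).Normal := by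
          rw [← Subgroup.normalizer_eq_top_iff, ← hM]
          exact htop
        have hle : (P : Subgroup G) ⊓ D ≤ pCore p G :=
          Cfsg.Agent.Lib.Helper1.le_pCore hn (P.2.to_le inf_le_left)
        exact hhQ (hle ⟨hhP, hhD⟩)
      have hMcard : Nat.card M < N := by
        rw [← hcard]
        by_contra hge
        push Not at hge
        exact hMne (Subgroup.eq_top_of_le_card M hge)
      -- apply the induction hypothesis to `M`
      have hconM : Subgroup.centralizer ((pCore p ↥M : Subgroup ↥M) : Set ↥M) ≤ pCore p ↥M := by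
        intro x hx
        have hQ'n : ((pCore p G).subgroupOf M).Normal := hQn.subgroupOf M
        have hQ'p : IsPGroup p ((pCore p G).subgroupOf M) :=
          (Cfsg.Agent.Lib.Helper1.pCore_isPGroup p).comap_subtype
        have hQ'le : (pCore p G).subgroupOf M ≤ pCore p ↥M :=
          Cfsg.Agent.Lib.Helper1.le_pCore hQ'n hQ'p
        apply hQ'le
        rw [Subgroup.mem_subgroupOf]
        apply hcon
        rw [Subgroup.mem_centralizer_iff]
        intro u hu
        have huM : u ∈ M := hPM (hQP hu)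
        have h1 := (Subgroup.mem_centralizer_iff.mp hx) ⟨u, huM⟩
          (hQ'le (Subgroup.mem_subgroupOf.mpr hu))
        exact congrArg Subtype.val h1
      have hP'coe : ((P.subtype hPM : Sylow p ↥M) : Subgroup ↥M) = (P : Subgroup G).subgroupOf M :=
        Sylow.coe_subtype _ _
      have hWmap : 𝒲.W (P : Subgroup G) =
          (𝒲.W ((P : Subgroup G).subgroupOf M)).map M.subtype := by
        have : Finite ↥((P : Subgroup G).subgroupOf M) := inferInstance
        have hP'p : IsPGroup p ↥((P : Subgroup G).subgroupOf M) :=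
          P.2.comap_of_injective _ (Subgroup.subtype_injective _)
        have := 𝒲.map M.subtype M.subtype_injective ((P : Subgroup G).subgroupOf M) hP'p
        rw [Subgroup.map_subgroupOf_eq_of_le hPM] at this
        exact this
      have hyM : y ∈ M := hPM hyP
      have hIH := ih (Nat.card M) hMcard ↥M rfl (P.subtype hPM) hconM ⟨y, hyM⟩
        (by rw [hP'coe]; exact Subgroup.mem_subgroupOf.mpr hyP)
        (fun x hx => by
          rw [hP'coe] at hx
          exact Subtype.ext (hyc x (Subgroup.mem_subgroupOf.mp hx)))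
        (fun k hk => by
          rw [hP'coe] at hk
          apply Subtype.ext
          refine hnorm k ?_
          rw [hWmap]
          have hconj : ∀ (k' : ↥M), k' ∈ Subgroup.normalizer
              ((𝒲.W ((P : Subgroup G).subgroupOf M) : Subgroup ↥M) : Set ↥M) →
              ∀ u ∈ (𝒲.W ((P : Subgroup G).subgroupOf M)).map M.subtype,
              (k' : G) * u * (k' : G)⁻¹ ∈ (𝒲.W ((P : Subgroup G).subgroupOf M)).map M.subtype := by
            rintro k' hk' _ ⟨u', hu', rfl⟩
            exact ⟨k' * u' * k'⁻¹, (Subgroup.mem_normalizer_iff.mp hk' u').mp hu', rfl⟩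
          refine Cfsg.Agent.Lib.Helper26.mem_normalizer_of_forall (hconj k hk) (fun u hu => ?_)
          have := hconj k⁻¹ (Subgroup.inv_mem _ hk) u hu
          simpa using this)
      intro x
      obtain ⟨a, ha, c, hc, rfl⟩ := Cfsg.Agent.Lib.helper17.frattini_ambient P
        (M := ⊤) (C := D) le_top (by
          intro t _
          have : D.Normal := hDn
          rw [Subgroup.normalizer_eq_top]
          exact Subgroup.mem_top t) (Subgroup.mem_top x)
      have haM : a ∈ M := by
        rw [hM]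
        exact ha.2
      have h1 : a * y ^ p = y ^ p * a := by
        have := hIH ⟨a, haM⟩
        exact congrArg Subtype.val this
      have h2 : c * y ^ p = y ^ p * c := hyD c hc.2
      calc a * c * y ^ p = a * (c * y ^ p) := by group
        _ = a * (y ^ p * c) := by rw [h2]
        _ = (a * y ^ p) * c := by group
        _ = y ^ p * a * c := by rw [h1]
        _ = y ^ p * (a * c) := by group
  intro G _ _ P hcon y hyP hyc hnorm
  exact key (Nat.card G) G rfl P hcon y hyP hyc hnorm

end Cfsg.Agent.Lib.helper17.CW
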