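import Mathlib

/-!
# A trace argument for quadratic action (odd primes)
-/

set_option autoImplicit false

namespace Cfsg.Agent.Lib.helper17.GB

open scoped BigOperators

section Abstract

variable {V : Type*} [CommGroup V] {D : Type*} [Group D] [MulDistribMulAction D V]

theorem pow_smul_of_quadratic (a : D) (u : V) (h : a • (a • u / u) = a • u / u) (i : ℕ) :
    (a ^ i) • u = u * (a • u / u) ^ i := by
  induction i with
  | zero => simp
  | succ i ih =>
    rw [pow_succ', mul_smul, ih, smul_mul', smul_pow', h, pow_succ]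
    have e : a • u = u * (a • u / u) := by rw [mul_div_cancel]
    rw [e]
    simp only [mul_div_cancel_left]
    rw [mul_assoc, mul_comm ((a • u / u) ^ i)]

theorem prod_range_pow_smul (a : D) (u : V) (h : a • (a • u / u) = a • u / u) (n : ℕ) :
    ∏ i ∈ Finset.range n, (a ^ i) • u = u ^ n * (a • u / u) ^ (∑ i ∈ Finset.range n, i) := by
  simp_rw [pow_smul_of_quadratic a u h]
  rw [Finset.prod_mul_distrib, Finset.prod_const, Finset.card_range, Finset.prod_pow_eq_pow_sum]

theorem prod_range_prime_smul {p : ℕ} [hp : Fact p.Prime] (hp2 : p ≠ 2) (a : D) (u : V)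
    (h : a • (a • u / u) = a • u / u) (hup : a • (u ^ p) = u ^ p) :
    ∏ i ∈ Finset.range p, (a ^ i) • u = u ^ p := by
  rw [prod_range_pow_smul a u h, Finset.sum_range_id]
  have hodd : Odd p := hp.out.odd_of_ne_two hp2
  obtain ⟨k, hk⟩ := hodd
  have e : p * (p - 1) / 2 = p * k := by
    have : p - 1 = 2 * k := by omega
    rw [this, ← mul_assoc, mul_comm p 2, mul_assoc, Nat.mul_div_cancel_left _ (by norm_num : 0 < 2)]
  have hw : (a • u / u) ^ p = 1 := by
    rw [div_pow, ← smul_pow', hup, div_self']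
  rw [e, pow_mul, hw, one_pow, mul_one]

end Abstract

section Orbit

variable {V : Type*} [CommGroup V] {D : Type*} [Group D] [MulDistribMulAction D V] [Finite D]

theorem finprod_orbit_eq {p : ℕ} [hp : Fact p.Prime] (D₁ : Subgroup D) [D₁.Normal]
    (hidx : D₁.index = p) (a : D) (ha : a ∉ D₁) (y : V)
    (hstab : MulAction.stabilizer D y ≤ D₁) :
    ∏ᶠ z ∈ MulAction.orbit D y, z =
      ∏ i ∈ Finset.range p, (a ^ i) • (∏ᶠ z ∈ MulAction.orbit D₁ y, z) := by
  classical
  have hcard : Nat.card (D ⧸ D₁) = p := by rw [← Subgroup.index_eq_card]; exact hidx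
  have ha1 : (QuotientGroup.mk a : D ⧸ D₁) ≠ 1 := by
    rw [Ne, QuotientGroup.eq_one_iff]; exact ha
  have hord : orderOf (QuotientGroup.mk a : D ⧸ D₁) = p := by
    have h1 : orderOf (QuotientGroup.mk a : D ⧸ D₁) ∣ p := hcard ▸ orderOf_dvd_natCard _
    rcases (Nat.dvd_prime hp.out).mp h1 with h | h
    · exact absurd (orderOf_eq_one_iff.mp h) ha1
    · exact h
  have hO₁fin : (MulAction.orbit D₁ y).Finite := Set.finite_range _
  have hcover : MulAction.orbit D y =
      ⋃ i ∈ (Finset.range p : Set ℕ), (fun z => (a ^ i) • z) '' MulAction.orbit D₁ y := by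
    ext z
    simp only [Set.mem_iUnion, Set.mem_image]
    constructor
    · rintro ⟨d, rfl⟩
      have hmem : (QuotientGroup.mk d : D ⧸ D₁) ∈
          Subgroup.zpowers (QuotientGroup.mk a : D ⧸ D₁) := by
        have htop : Subgroup.zpowers (QuotientGroup.mk a : D ⧸ D₁) = ⊤ := by
          apply Subgroup.eq_top_of_card_eq
          rw [Nat.card_zpowers, hord, hcard]
        rw [htop]; exact Subgroup.mem_top _
      rw [mem_zpowers_iff_mem_range_orderOf, hord] at hmem
      obtain ⟨i, hi, hid⟩ := Finset.mem_image.mp hmem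
      have hd₁ : (a ^ i)⁻¹ * d ∈ D₁ := by
        rw [← QuotientGroup.eq, QuotientGroup.mk_pow]; exact hid
      refine ⟨i, Finset.mem_coe.mpr hi, (⟨(a ^ i)⁻¹ * d, hd₁⟩ : D₁) • y, ⟨⟨_, hd₁⟩, rfl⟩, ?_⟩
      rw [Subgroup.smul_def, ← mul_smul]
      simp
    · rintro ⟨i, hi, w, ⟨d₁, rfl⟩, rfl⟩
      exact ⟨a ^ i * d₁, by
        show (a ^ i * (d₁ : D)) • y = a ^ i • ((d₁ : D) • y)
        rw [mul_smul]⟩
  have hdisj : ((Finset.range p : Finset ℕ) : Set ℕ).PairwiseDisjoint
      (fun i => (fun z => (a ^ i) • z) '' MulAction.orbit D₁ y) := by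
    intro i hi j hj hij
    rw [Function.onFun, Set.disjoint_left]
    rintro z ⟨w, ⟨d₁, rfl⟩, rfl⟩ ⟨w', ⟨d₁', rfl⟩, h⟩
    apply hij
    have hs : (a ^ i * (d₁ : D))⁻¹ * (a ^ j * (d₁' : D)) ∈ MulAction.stabilizer D y := by
      rw [MulAction.mem_stabilizer_iff, mul_smul, mul_smul]
      have h' : a ^ j • (d₁' : D) • y = a ^ i • (d₁ : D) • y := h
      rw [h', ← mul_smul, ← mul_smul, mul_assoc, inv_mul_cancel, one_smul]
    have hs' := hstab hs
    have h2 : (a ^ i)⁻¹ * a ^ j ∈ D₁ := by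
      have e : (a ^ i)⁻¹ * a ^ j =
          (d₁ : D) * ((a ^ i * (d₁ : D))⁻¹ * (a ^ j * (d₁' : D))) * (d₁' : D)⁻¹ := by group
      rw [e]
      exact D₁.mul_mem (D₁.mul_mem d₁.2 hs') (D₁.inv_mem d₁'.2)
    have h3 : (QuotientGroup.mk a : D ⧸ D₁) ^ i = (QuotientGroup.mk a : D ⧸ D₁) ^ j := by
      rw [← QuotientGroup.mk_pow, ← QuotientGroup.mk_pow, QuotientGroup.eq]
      exact h2
    have hi' : i ∈ Set.Iio (orderOf (QuotientGroup.mk a : D ⧸ D₁)) := by
      rw [hord]; exact Finset.mem_range.mp (Finset.mem_coe.mp hi)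
    have hj' : j ∈ Set.Iio (orderOf (QuotientGroup.mk a : D ⧸ D₁)) := by
      rw [hord]; exact Finset.mem_range.mp (Finset.mem_coe.mp hj)
    exact pow_injOn_Iio_orderOf hi' hj' h3
  rw [hcover, finprod_mem_biUnion hdisj (Finset.finite_toSet _) (fun i _ => hO₁fin.image _),
    finprod_mem_coe_finset]
  apply Finset.prod_congr rfl
  intro i _
  rw [finprod_mem_image (fun z _ w _ h => by simpa using h)]
  exact ((MulDistribMulAction.toMonoidHom V (a ^ i)).map_finprod_mem _ hO₁fin).symm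

theorem finprod_orbit_mem_zpowers {p : ℕ} [hp : Fact p.Prime] (hp2 : p ≠ 2) (hD : IsPGroup p D)
    (c : V) (hc : ∀ d : D, d • c = c) (hVp : ∀ u : V, u ^ p ∈ Subgroup.zpowers c)
    (Q : Set D) (hQ : ∀ a ∈ Q, ∀ v : V, a • (a • v / v) = a • v / v)
    (hgen : Subgroup.closure Q = ⊤) (y : V) (hy : ∃ d : D, d • y ≠ y) :
    ∏ᶠ z ∈ MulAction.orbit D y, z ∈ Subgroup.zpowers c := by
  have hD₀ne : MulAction.stabilizer D y ≠ ⊤ := by
    intro h
    obtain ⟨d, hd⟩ := hy
    exact hd (MulAction.mem_stabilizer_iff.mp (h ▸ Subgroup.mem_top d))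
  obtain ⟨k, hk⟩ := IsPGroup.iff_card.mp hD
  obtain ⟨n, hn⟩ := IsPGroup.iff_card.mp (hD.to_subgroup (MulAction.stabilizer D y))
  have hlt : n < k := by
    have h1 : Nat.card (MulAction.stabilizer D y) < Nat.card D := by
      by_contra h
      push Not at h
      exact hD₀ne (Subgroup.eq_top_of_le_card _ h)
    rw [hn, hk] at h1
    exact (Nat.pow_lt_pow_iff_right hp.out.one_lt).mp h1
  obtain ⟨D₁, hD₁card, hD₀D₁⟩ := Sylow.exists_subgroup_card_pow_prime_le p (n := n) (m := k - 1)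
    (by rw [hk]; exact pow_dvd_pow p (Nat.sub_le k 1)) (MulAction.stabilizer D y) hn (by omega)
  have hidx : D₁.index = p := by
    have h1 := D₁.card_mul_index
    rw [hD₁card, hk] at h1
    have : p ^ k = p ^ (k - 1) * p := by
      rw [← pow_succ]; congr 1; omega
    rw [this] at h1
    exact Nat.eq_of_mul_eq_mul_left (pow_pos hp.out.pos _) h1
  have hnorm : D₁.Normal := by
    apply Subgroup.normal_of_index_eq_minFac_card
    rw [hidx, hk, hp.out.pow_minFac (by omega)]
  obtain ⟨a, haQ, haD₁⟩ : ∃ a ∈ Q, a ∉ D₁ := by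
    by_contra h
    push Not at h
    have h0 : Subgroup.closure Q ≤ D₁ := (Subgroup.closure_le D₁).mpr h
    rw [hgen] at h0
    have h1 : D₁ = ⊤ := top_le_iff.mp h0
    rw [h1, Subgroup.index_top] at hidx
    exact hp.out.one_lt.ne hidx
  rw [finprod_orbit_eq D₁ hidx a haD₁ y hD₀D₁]
  have hup : a • ((∏ᶠ z ∈ MulAction.orbit D₁ y, z) ^ p) = (∏ᶠ z ∈ MulAction.orbit D₁ y, z) ^ p := by
    obtain ⟨m, hm⟩ := Subgroup.mem_zpowers_iff.mp (hVp (∏ᶠ z ∈ MulAction.orbit D₁ y, z))
    rw [← hm, smul_zpow', hc]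
  rw [prod_range_prime_smul hp2 a _ (hQ a haQ _) hup]
  exact hVp _

theorem finprod_mem_stable {p : ℕ} [hp : Fact p.Prime] (hp2 : p ≠ 2) (hD : IsPGroup p D)
    (c : V) (hc : ∀ d : D, d • c = c) (hVp : ∀ u : V, u ^ p ∈ Subgroup.zpowers c)
    (Q : Set D) (hQ : ∀ a ∈ Q, ∀ v : V, a • (a • v / v) = a • v / v)
    (hgen : Subgroup.closure Q = ⊤) (X : Set V) (hX : X.Finite)
    (hstab : ∀ d : D, ∀ z ∈ X, d • z ∈ X) :
    ∃ m : ℤ, ∏ᶠ z ∈ X, z = (∏ᶠ z ∈ X ∩ MulAction.fixedPoints D V, z) * c ^ m := by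
  induction' hn : X.ncard using Nat.strong_induction_on with n ih generalizing X
  by_cases hall : X ⊆ MulAction.fixedPoints D V
  · refine ⟨0, ?_⟩
    rw [Set.inter_eq_left.mpr hall]
    simp
  · obtain ⟨y, hyX, hyfix⟩ := Set.not_subset.mp hall
    have hy : ∃ d : D, d • y ≠ y := by
      by_contra h
      push Not at h
      exact hyfix (MulAction.mem_fixedPoints.mpr h)
    have hOX : MulAction.orbit D y ⊆ X := by
      rintro _ ⟨d, rfl⟩
      exact hstab d y hyX
    have hOfin : (MulAction.orbit D y).Finite := Set.finite_range _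
    have hX'fin : (X \ MulAction.orbit D y).Finite := hX.subset Set.sdiff_subset
    have hX'stab : ∀ d : D, ∀ z ∈ X \ MulAction.orbit D y, d • z ∈ X \ MulAction.orbit D y := by
      rintro d z ⟨hzX, hzO⟩
      refine ⟨hstab d z hzX, fun h => hzO ?_⟩
      have h2 : d⁻¹ • (d • z) ∈ MulAction.orbit D y := MulAction.mem_orbit_of_mem_orbit d⁻¹ h
      rwa [inv_smul_smul] at h2
    have hcardlt : (X \ MulAction.orbit D y).ncard < X.ncard := by
      apply Set.ncard_lt_ncard _ hX
      refine ⟨Set.sdiff_subset, fun h => ?_⟩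
      exact (h hyX).2 (MulAction.mem_orbit_self y)
    obtain ⟨m', hm'⟩ := ih _ (hn ▸ hcardlt) _ hX'fin hX'stab rfl
    obtain ⟨m₀, hm₀⟩ := Subgroup.mem_zpowers_iff.mp
      (finprod_orbit_mem_zpowers hp2 hD c hc hVp Q hQ hgen y hy)
    have hunion : MulAction.orbit D y ∪ (X \ MulAction.orbit D y) = X :=
      Set.union_sdiff_cancel hOX
    have hdisj : Disjoint (MulAction.orbit D y) (X \ MulAction.orbit D y) :=
      Set.disjoint_sdiff_right
    have hfix_eq : X ∩ MulAction.fixedPoints D V =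
        (X \ MulAction.orbit D y) ∩ MulAction.fixedPoints D V := by
      ext z
      constructor
      · rintro ⟨hzX, hzf⟩
        refine ⟨⟨hzX, ?_⟩, hzf⟩
        rintro ⟨d, rfl⟩
        apply hyfix
        rw [MulAction.mem_fixedPoints] at hzf ⊢
        intro e
        have h1 : y = d • y := by
          have := hzf d⁻¹
          rw [inv_smul_smul] at this
          exact this
        have h2 := hzf (e * d⁻¹)
        rw [mul_smul, inv_smul_smul] at h2
        rw [h2]
        exact h1.symm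
      · rintro ⟨⟨hzX, _⟩, hzf⟩
        exact ⟨hzX, hzf⟩
    refine ⟨m₀ + m', ?_⟩
    rw [← hunion, finprod_mem_union hdisj hOfin hX'fin, hm', ← hm₀, hunion, hfix_eq, zpow_add]
    rw [mul_comm (c ^ m₀), mul_assoc, mul_comm (c ^ m') (c ^ m₀)]

end Orbit

end Cfsg.Agent.Lib.helper17.GB
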