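import Mathlib
import Cfsg.Agent.Lib.helper17.GB1

/-!
# The trace argument inside a finite group
-/

set_option autoImplicit false

namespace Cfsg.Agent.Lib.helper17.GB

open scoped BigOperators

theorem central_of_unique_fixed {G : Type*} [Group G] [Finite G] {p : ℕ} [Fact p.Prime]
    (hp2 : p ≠ 2) (V : Subgroup G) [hVn : V.Normal] (hVab : ∀ u ∈ V, ∀ v ∈ V, u * v = v * u)
    (D : Subgroup G) (hD : IsPGroup p D) (Q : Set G) (hgen : Subgroup.closure Q = D)
    (hquad : ∀ a ∈ Q, ∀ v ∈ V, a * (a * v * a⁻¹ * v⁻¹) = (a * v * a⁻¹ * v⁻¹) * a)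
    (c : G) (hc : ∀ g : G, g * c = c * g) (hcV : c ∈ V)
    (hVp : ∀ u ∈ V, u ^ p ∈ Subgroup.zpowers c)
    (x : G) (hxV : x ∈ V) (hxD : ∀ d ∈ D, d * x = x * d)
    (huniq : ∀ g : G, (∀ d ∈ D, d * (g * x * g⁻¹) = (g * x * g⁻¹) * d) → g * x * g⁻¹ = x) :
    ∀ g : G, g * x = x * g := by
  classical
  subst hgen
  let _ : CommGroup V :=
    { (inferInstance : Group V) with mul_comm := fun a b => Subtype.ext (hVab a a.2 b b.2) }
  let _ : MulDistribMulAction (Subgroup.closure Q) V :=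
    MulDistribMulAction.compHom V ((MulAut.conjNormal (H := V)).comp (Subgroup.closure Q).subtype)
  have hsmul : ∀ (d : Subgroup.closure Q) (v : V),
      ((d • v : V) : G) = (d : G) * v * (d : G)⁻¹ := fun d v => rfl
  have hconj : ∀ (g : G) (v : V), ((MulAut.conjNormal g v : V) : G) = g * v * g⁻¹ :=
    fun g v => rfl
  have hc' : ∀ d : Subgroup.closure Q, d • (⟨c, hcV⟩ : V) = ⟨c, hcV⟩ := by
    intro d
    apply Subtype.ext
    rw [hsmul]
    show (d : G) * c * (d : G)⁻¹ = c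
    rw [hc, mul_inv_cancel_right]
  have hVp' : ∀ u : V, u ^ p ∈ Subgroup.zpowers (⟨c, hcV⟩ : V) := by
    intro u
    obtain ⟨m, hm⟩ := Subgroup.mem_zpowers_iff.mp (hVp u u.2)
    refine Subgroup.mem_zpowers_iff.mpr ⟨m, ?_⟩
    apply Subtype.ext
    rw [Subgroup.coe_zpow, Subgroup.coe_pow]
    exact hm
  have hQ' : ∀ a ∈ ((↑) : Subgroup.closure Q → G) ⁻¹' Q, ∀ v : V,
      a • (a • v / v) = a • v / v := by
    intro a ha v
    apply Subtype.ext
    rw [hsmul]
    have e : ((a • v / v : V) : G) = (a : G) * v * (a : G)⁻¹ * (v : G)⁻¹ := by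
      rw [Subgroup.coe_div, hsmul, div_eq_mul_inv]
    rw [e]
    have h := hquad a ha v v.2
    rw [h, mul_inv_cancel_right]
  have hgen' : Subgroup.closure (((↑) : Subgroup.closure Q → G) ⁻¹' Q) = ⊤ :=
    Subgroup.closure_closure_coe_preimage
  have hXfin : (Set.range (fun g : G => MulAut.conjNormal g (⟨x, hxV⟩ : V))).Finite :=
    Set.finite_range _
  have hstab : ∀ d : Subgroup.closure Q,
      ∀ z ∈ Set.range (fun g : G => MulAut.conjNormal g (⟨x, hxV⟩ : V)),
      d • z ∈ Set.range (fun g : G => MulAut.conjNormal g (⟨x, hxV⟩ : V)) := by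
    rintro d _ ⟨g, rfl⟩
    refine ⟨(d : G) * g, ?_⟩
    apply Subtype.ext
    rw [hsmul, hconj, hconj]
    show (d : G) * g * x * ((d : G) * g)⁻¹ = (d : G) * (g * x * g⁻¹) * (d : G)⁻¹
    group
  obtain ⟨m, hm⟩ := finprod_mem_stable hp2 hD (⟨c, hcV⟩ : V) hc' hVp' _ hQ' hgen' _ hXfin hstab
  have hfixed : Set.range (fun g : G => MulAut.conjNormal g (⟨x, hxV⟩ : V)) ∩
      MulAction.fixedPoints (Subgroup.closure Q) V = {⟨x, hxV⟩} := by
    ext z
    constructor
    · rintro ⟨⟨g, rfl⟩, hz⟩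
      rw [Set.mem_singleton_iff]
      apply Subtype.ext
      rw [hconj]
      apply huniq g
      intro d hd
      have h1 := MulAction.mem_fixedPoints.mp hz ⟨d, hd⟩
      have h2 : d * (g * x * g⁻¹) * d⁻¹ = g * x * g⁻¹ := by
        have := congrArg Subtype.val h1
        rw [hsmul, hconj] at this
        exact this
      calc d * (g * x * g⁻¹) = (d * (g * x * g⁻¹) * d⁻¹) * d := by group
        _ = g * x * g⁻¹ * d := by rw [h2]
    · rintro rfl
      refine ⟨⟨1, ?_⟩, ?_⟩
      · apply Subtype.ext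
        rw [hconj]
        show (1 : G) * x * (1 : G)⁻¹ = x
        group
      · rw [MulAction.mem_fixedPoints]
        intro d
        apply Subtype.ext
        rw [hsmul]
        show (d : G) * x * (d : G)⁻¹ = x
        rw [hxD d d.2, mul_inv_cancel_right]
  rw [hfixed, finprod_mem_singleton] at hm
  -- the product is invariant
  have hinv : ∀ g : G, MulAut.conjNormal g
      (∏ᶠ z ∈ Set.range (fun g : G => MulAut.conjNormal g (⟨x, hxV⟩ : V)), z) =
      ∏ᶠ z ∈ Set.range (fun g : G => MulAut.conjNormal g (⟨x, hxV⟩ : V)), z := by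
    intro g
    have himage : (fun z => MulAut.conjNormal g z) ''
        Set.range (fun g : G => MulAut.conjNormal g (⟨x, hxV⟩ : V)) =
        Set.range (fun g : G => MulAut.conjNormal g (⟨x, hxV⟩ : V)) := by
      ext z
      constructor
      · rintro ⟨_, ⟨h, rfl⟩, rfl⟩
        refine ⟨g * h, ?_⟩
        show MulAut.conjNormal (g * h) (⟨x, hxV⟩ : V) = _
        rw [map_mul]
        rfl
      · rintro ⟨h, rfl⟩
        refine ⟨MulAut.conjNormal (g⁻¹ * h) (⟨x, hxV⟩ : V), ⟨g⁻¹ * h, rfl⟩, ?_⟩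
        show MulAut.conjNormal g (MulAut.conjNormal (g⁻¹ * h) (⟨x, hxV⟩ : V)) = _
        rw [← MulAut.mul_apply, ← map_mul, mul_inv_cancel_left]
    rw [(MulAut.conjNormal g : V ≃* V).map_finprod_mem (fun z => z) hXfin]
    have h1 := finprod_mem_image (s := Set.range (fun g : G => MulAut.conjNormal g (⟨x, hxV⟩ : V)))
      (g := fun z => MulAut.conjNormal g z) (f := fun z => z)
      (fun a _ b _ h => (MulAut.conjNormal g : V ≃* V).injective h)
    rw [himage] at h1
    exact h1.symm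
  intro g
  have hx' : (⟨x, hxV⟩ : V) =
      (∏ᶠ z ∈ Set.range (fun g : G => MulAut.conjNormal g (⟨x, hxV⟩ : V)), z) *
        (⟨c, hcV⟩ : V) ^ (-m) := by
    rw [hm, zpow_neg, mul_inv_cancel_right]
  have hcg : MulAut.conjNormal g (⟨c, hcV⟩ : V) = ⟨c, hcV⟩ := by
    apply Subtype.ext
    rw [hconj]
    show g * c * g⁻¹ = c
    rw [hc, mul_inv_cancel_right]
  have h3 : MulAut.conjNormal g (⟨x, hxV⟩ : V) = ⟨x, hxV⟩ := by
    conv_lhs => rw [hx']
    rw [map_mul, map_zpow, hinv, hcg, ← hx']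
  have h4 : g * x * g⁻¹ = x := by
    have := congrArg Subtype.val h3
    rw [hconj] at this
    exact this
  calc g * x = (g * x * g⁻¹) * g := by group
    _ = x * g := by rw [h4]

end Cfsg.Agent.Lib.helper17.GB
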