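import Mathlib
import Cfsg.Agent.Lib.helper17.GB2
import Cfsg.Agent.Lib.helper17.PRed6
import Cfsg.Agent.Lib.helper17.CW3
import Cfsg.Agent.Lib.Helper1.GNPC2.TJQuad

/-!
# Glauberman's theorem on `Z(N(J(P)))` for odd primes: the local step
-/

set_option autoImplicit false

namespace Cfsg.Agent.Lib.helper17.GB

open Cfsg Cfsg.Agent.Lib.helper17 Cfsg.Agent.Lib.Helper9 Cfsg.Agent.Lib.Helper1.GNPC2

universe u

section Theta

variable {G : Type*} [Group G]

/-- the members of `𝒜(P)` normalized by `V` -/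
def theta (P V : Subgroup G) : Set (Subgroup G) :=
  {A | A ∈ famQ (fun A : Subgroup G => IsMulCommutative A) P ∧
    V ≤ Subgroup.normalizer (A : Set G)}

theorem cj_mem_theta {P V : Subgroup G} (hV : V.Normal) {A : Subgroup G} (hA : A ∈ theta P V)
    {g : G} (hgP : cj g A ≤ P) : cj g A ∈ theta P V := by
  obtain ⟨⟨hAP, hAc, hAmax⟩, hVA⟩ := hA
  refine ⟨⟨hgP, ?_, ?_⟩, ?_⟩
  · have := hAc
    exact (inferInstance : IsMulCommutative (A.map (MulAut.conj g).toMonoidHom))
  · intro B hB hBc
    rw [card_cj]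
    exact hAmax B hB hBc
  · rw [normalizer_cj]
    calc V = cj g V := (cj_eq_self_iff.mpr (by
          rw [Subgroup.normalizer_eq_top_iff.mpr hV]; exact Subgroup.mem_top g)).symm
      _ ≤ cj g (Subgroup.normalizer (A : Set G)) := cj_mono hVA

theorem conj_mem_sSup_theta {P V : Subgroup G} {g : G}
    (hg : ∀ A ∈ theta P V, cj g A ∈ theta P V) :
    ∀ z ∈ sSup (theta P V), g * z * g⁻¹ ∈ sSup (theta P V) := by
  intro z hz
  have h1 : cj g (sSup (theta P V)) ≤ sSup (theta P V) := by
    unfold cj
    rw [Subgroup.map_le_iff_le_comap]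
    apply sSup_le
    intro A hA
    rw [← Subgroup.map_le_iff_le_comap]
    exact le_sSup (hg A hA)
  exact h1 (conj_mem_cj hz)

theorem mem_normalizer_sSup_theta [Finite G] {P V : Subgroup G} (hV : V.Normal) {g : G}
    (hg : cj g (sSup (theta P V)) ≤ P) :
    g ∈ Subgroup.normalizer ((sSup (theta P V) : Subgroup G) : Set G) := by
  have h1 : cj g (sSup (theta P V)) ≤ sSup (theta P V) := by
    intro x hx
    rw [mem_cj] at hx
    have h2 := conj_mem_sSup_theta (P := P) (V := V) (g := g)
      (fun A hA => cj_mem_theta hV hA ((cj_mono (le_sSup hA)).trans hg)) _ hx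
    have e : g * (g⁻¹ * x * g) * g⁻¹ = x := by group
    rwa [e] at h2
  have h3 : sSup (theta P V) ≤ cj g⁻¹ (sSup (theta P V)) := cj_le_iff.mp h1
  have h4 := cj_eq_of_le_cj h3
  have h5 : g⁻¹ ∈ Subgroup.normalizer ((sSup (theta P V) : Subgroup G) : Set G) :=
    cj_eq_self_iff.mp h4
  have := Subgroup.inv_mem _ h5
  rwa [inv_inv] at this

end Theta

section Step

theorem step {G : Type u} [Group G] [Finite G] {p : ℕ} [Fact p.Prime] (hp2 : p ≠ 2)
    (P : Sylow p G)
    (hcon : Subgroup.centralizer ((pCore p G : Subgroup G) : Set G) ≤ pCore p G)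
    (y : G) (hyP : y ∈ (P : Subgroup G)) (hyc : ∀ x ∈ (P : Subgroup G), x * y = y * x)
    (hnorm : ∀ g ∈ Subgroup.normalizer
      ((Cfsg.thompsonSubgroupAOf (P : Subgroup G) : Subgroup G) : Set G), g * y = y * g)
    (hc : ∀ g : G, g * y ^ p = y ^ p * g)
    (IH : ∀ M : Subgroup G, M ≠ ⊤ → (P : Subgroup G) ≤ M → ∀ k ∈ M, k * y = y * k) :
    ∀ g : G, g * y = y * g := by
  have hQn : (pCore p G).Normal := Cfsg.Agent.Lib.Helper1.pCore_normal p
  have hQP : pCore p G ≤ (P : Subgroup G) := Cfsg.Agent.Lib.Helper1.pCore_le_sylow p P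
  have hyQ : y ∈ pCore p G := by
    apply hcon
    rw [Subgroup.mem_centralizer_iff]
    intro u hu
    exact hyc u (hQP hu)
  -- the centre of `O_p(G)`
  have hZcn : (pCore p G ⊓ Subgroup.centralizer ((pCore p G : Subgroup G) : Set G)).Normal :=
    inferInstance
  have hyZc : y ∈ pCore p G ⊓ Subgroup.centralizer ((pCore p G : Subgroup G) : Set G) := by
    refine Subgroup.mem_inf.mpr ⟨hyQ, ?_⟩
    rw [Subgroup.mem_centralizer_iff]
    intro u hu
    exact hyc u (hQP hu)
  -- the normal closure of `y`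
  obtain ⟨V, hV⟩ : ∃ V : Subgroup G, V = Subgroup.normalClosure ({y} : Set G) := ⟨_, rfl⟩
  have hVn : V.Normal := by rw [hV]; infer_instance
  have hyV : y ∈ V := by
    rw [hV]
    exact Subgroup.subset_normalClosure (Set.mem_singleton y)
  have hVZc : V ≤ pCore p G ⊓ Subgroup.centralizer ((pCore p G : Subgroup G) : Set G) := by
    rw [hV]
    apply Subgroup.normalClosure_le_normal
    rw [Set.singleton_subset_iff]
    exact hyZc
  have hVQ : V ≤ pCore p G := hVZc.trans inf_le_left
  have hVP : V ≤ (P : Subgroup G) := hVQ.trans hQP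
  have hQV : ∀ q ∈ pCore p G, ∀ v ∈ V, q * v = v * q := by
    intro q hq v hv
    exact ((Subgroup.mem_centralizer_iff.mp (Subgroup.mem_inf.mp (hVZc hv)).2) q hq)
  have hVab : ∀ u ∈ V, ∀ v ∈ V, u * v = v * u := fun u hu v hv => hQV u (hVQ hu) v hv
  have hVc : IsMulCommutative V := ⟨⟨fun a b => Subtype.ext (hVab a a.2 b b.2)⟩⟩
  have hVp : ∀ u ∈ V, u ^ p ∈ Subgroup.zpowers (y ^ p) := by
    intro u hu
    rw [hV] at hu
    unfold Subgroup.normalClosure at hu
    have hVab' : ∀ a ∈ Subgroup.closure (Group.conjugatesOfSet ({y} : Set G)),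
        ∀ b ∈ Subgroup.closure (Group.conjugatesOfSet ({y} : Set G)), a * b = b * a := by
      intro a ha b hb
      apply hVab
      · rw [hV]; exact ha
      · rw [hV]; exact hb
    refine Subgroup.closure_induction (p := fun x _ => x ^ p ∈ Subgroup.zpowers (y ^ p))
      ?_ ?_ ?_ ?_ hu
    · intro x hx
      rw [Group.mem_conjugatesOfSet_iff] at hx
      obtain ⟨b, hb, hbx⟩ := hx
      rw [Set.mem_singleton_iff] at hb
      subst hb
      obtain ⟨g, rfl⟩ := isConj_iff.mp hbx
      have e : (g * b * g⁻¹) ^ p = b ^ p := by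
        rw [conj_pow, hc g, mul_inv_cancel_right]
      rw [e]
      exact Subgroup.mem_zpowers _
    · rw [one_pow]; exact Subgroup.one_mem _
    · intro a b ha hb hap hbp
      have hcm : Commute a b := hVab' a ha b hb
      rw [hcm.mul_pow]
      exact Subgroup.mul_mem _ hap hbp
    · intro a _ hap
      rw [inv_pow]
      exact Subgroup.inv_mem _ hap
  have hcV : y ^ p ∈ V := V.pow_mem hyV p
  -- the centralizer of `V`
  have hCn : (Subgroup.centralizer (V : Set G)).Normal := inferInstance
  have hQC : pCore p G ≤ Subgroup.centralizer (V : Set G) := by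
    intro q hq
    rw [Subgroup.mem_centralizer_iff]
    intro v hv
    exact (hQV q hq v hv).symm
  by_cases hall : ∀ A ∈ famQ (fun A : Subgroup G => IsMulCommutative A) (P : Subgroup G),
      A ≤ Subgroup.centralizer (V : Set G)
  · -- the Thompson subgroup centralizes `V`: Frattini argument
    have hJ : Cfsg.thompsonSubgroupAOf ((P : Subgroup G) ⊓ Subgroup.centralizer (V : Set G)) =
        Cfsg.thompsonSubgroupAOf (P : Subgroup G) :=
      tja_eq_of_forall_le inf_le_left (fun A hA => le_inf hA.1 (hall A hA))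
    intro g
    obtain ⟨a, ha, c, hcC, rfl⟩ := frattini_ambient P (M := ⊤)
      (C := Subgroup.centralizer (V : Set G)) le_top (by
        intro t _
        rw [Subgroup.normalizer_eq_top_iff.mpr hCn]
        exact Subgroup.mem_top t) (Subgroup.mem_top g)
    have h1 : a * y = y * a := by
      apply hnorm
      rw [← hJ]
      exact normalizer_le_normalizer_tja _ ha.2
    have h2 : c * y = y * c := ((Subgroup.mem_centralizer_iff.mp hcC.2) y hyV).symm
    calc a * c * y = a * (c * y) := by group
      _ = a * (y * c) := by rw [h2]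
      _ = (a * y) * c := by group
      _ = y * a * c := by rw [h1]
      _ = y * (a * c) := by group
  · -- there is a quadratic offender
    push Not at hall
    obtain ⟨A₀, hA₀, hA₀C⟩ := hall
    obtain ⟨A, hA, hAC, hVA⟩ := exists_quadratic_comm (P := (P : Subgroup G)) (V := V)
      (H := Subgroup.centralizer (V : Set G)) P.2 hVc hVP (by
        rw [Subgroup.normalizer_eq_top_iff.mpr hVn]; exact le_top) le_rfl ⟨A₀, hA₀, hA₀C⟩
    have hAθ : A ∈ theta (P : Subgroup G) V := ⟨hA, hVA⟩
    obtain ⟨D, hD⟩ : ∃ D : Subgroup G, D = sSup (theta (P : Subgroup G) V) := ⟨_, rfl⟩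
    have hAD : A ≤ D := hD ▸ le_sSup hAθ
    have hDP : D ≤ (P : Subgroup G) := by
      rw [hD]
      exact sSup_le (fun B hB => hB.1.1)
    have hDp : IsPGroup p D := P.2.to_le hDP
    have hgen : Subgroup.closure {a : G | ∃ B ∈ theta (P : Subgroup G) V, a ∈ B} = D := by
      rw [hD]
      apply le_antisymm
      · rw [Subgroup.closure_le]
        rintro a ⟨B, hB, haB⟩
        exact (le_sSup hB) haB
      · apply sSup_le
        intro B hB b hb
        exact Subgroup.subset_closure ⟨B, hB, hb⟩
    have hquad : ∀ a ∈ {a : G | ∃ B ∈ theta (P : Subgroup G) V, a ∈ B}, ∀ v ∈ V,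
        a * (a * v * a⁻¹ * v⁻¹) = (a * v * a⁻¹ * v⁻¹) * a := by
      rintro a ⟨B, hB, haB⟩ v hv
      have hw : v * a⁻¹ * v⁻¹ ∈ B :=
        (Subgroup.mem_normalizer_iff.mp (hB.2 hv) a⁻¹).mp (B.inv_mem haB)
      have hBc : IsMulCommutative B := hB.1.2.1
      have e : a * v * a⁻¹ * v⁻¹ = a * (v * a⁻¹ * v⁻¹) := by group
      rw [e]
      exact setLike_mul_comm haB (B.mul_mem haB hw)
    have hxD : ∀ d ∈ D, d * y = y * d := fun d hd => hyc d (hDP hd)
    -- the normalizer of `D`
    have hPN : (P : Subgroup G) ≤ Subgroup.normalizer (D : Set G) := by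
      intro s hs
      rw [hD]
      apply mem_normalizer_sSup_theta hVn
      rw [← hD]
      intro x hx
      rw [mem_cj] at hx
      have := (P : Subgroup G).mul_mem ((P : Subgroup G).mul_mem hs (hDP hx))
        ((P : Subgroup G).inv_mem hs)
      have e : s * (s⁻¹ * x * s) * s⁻¹ = x := by group
      rwa [e] at this
    have hNne : Subgroup.normalizer (D : Set G) ≠ ⊤ := by
      intro htop
      have hDn : D.Normal := Subgroup.normalizer_eq_top_iff.mp htop
      have hDQ : D ≤ pCore p G := Cfsg.Agent.Lib.Helper1.le_pCore hDn hDp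
      exact hAC ((hAD.trans hDQ).trans hQC)
    have hNy : ∀ k ∈ Subgroup.normalizer (D : Set G), k * y = y * k := IH _ hNne hPN
    -- uniqueness of the fixed conjugate
    have huniq : ∀ g : G, (∀ d ∈ D, d * (g * y * g⁻¹) = (g * y * g⁻¹) * d) →
        g * y * g⁻¹ = y := by
      intro g hg
      obtain ⟨M, hM⟩ : ∃ M : Subgroup G, M = Subgroup.centralizer ({y} : Set G) := ⟨_, rfl⟩
      have hMmem : ∀ k : G, k ∈ M ↔ k * y = y * k := by
        intro k
        rw [hM, Subgroup.mem_centralizer_iff]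
        constructor
        · intro h
          exact (h y (Set.mem_singleton y)).symm
        · intro h z hz
          rw [Set.mem_singleton_iff] at hz
          subst hz
          exact h.symm
      have hPM : (P : Subgroup G) ≤ M := fun s hs => (hMmem s).mpr (hyc s hs)
      have hNM : Subgroup.normalizer (D : Set G) ≤ M := fun k hk => (hMmem k).mpr (hNy k hk)
      have hD'M : cj g⁻¹ D ≤ M := by
        intro x hx
        rw [mem_cj, inv_inv] at hx
        rw [hMmem]
        have h1 := hg _ hx
        have e1 : x * y = g⁻¹ * ((g * x * g⁻¹) * (g * y * g⁻¹)) * g := by group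
        have e2 : y * x = g⁻¹ * ((g * y * g⁻¹) * (g * x * g⁻¹)) * g := by group
        rw [e1, e2, h1]
      obtain ⟨m, hmM, hle⟩ := exists_le_cj_of_isPGroup P (D := M)
        (hPM.trans Subgroup.le_normalizer) hD'M (isPGroup_cj hDp)
      have hle' : cj (m⁻¹ * g⁻¹) D ≤ (P : Subgroup G) := by
        rw [cj_mul]
        have h1 : cj m⁻¹ (cj g⁻¹ D) ≤ cj m⁻¹ (cj m (M ⊓ (P : Subgroup G))) := cj_mono hle
        rw [cj_inv_cj] at h1
        exact h1.trans inf_le_right
      have hmem : m⁻¹ * g⁻¹ ∈ Subgroup.normalizer (D : Set G) := by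
        rw [hD]
        apply mem_normalizer_sSup_theta hVn
        rw [← hD]
        exact hle'
      have h2 : m⁻¹ * g⁻¹ ∈ M := hNM hmem
      have h3 : g⁻¹ ∈ M := by
        have := M.mul_mem hmM h2
        rwa [mul_inv_cancel_left] at this
      have h4 : g ∈ M := by
        have := M.inv_mem h3
        rwa [inv_inv] at this
      rw [(hMmem g).mp h4, mul_inv_cancel_right]
    exact central_of_unique_fixed hp2 V hVab D hDp _ hgen hquad (y ^ p) hc hcV hVp y hyV hxD huniq

end Step

end Cfsg.Agent.Lib.helper17.GB
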