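import Mathlib
import Cfsg.Agent.Lib.helper17.GB3

/-!
# Glauberman's theorem on `Z(N(J(P)))` for odd primes: the local hypothesis
-/

set_option autoImplicit false

namespace Cfsg.Agent.Lib.helper17.GB

open Cfsg Cfsg.Agent.Lib.helper17 Cfsg.Agent.Lib.Helper9 Cfsg.Agent.Lib.Helper1.GNPC2
  Cfsg.Agent.Lib.helper17.CW

universe u

theorem famQ_comm_nonempty' {Ω : Type*} [Group Ω] (S : Subgroup Ω) [Finite S] :
    (famQ (fun A : Subgroup Ω => IsMulCommutative A) S).Nonempty := by
  rw [famQ_comm_eq_image]
  obtain ⟨A', hA'⟩ := famQ_nonempty (G := ↥S) (fun A => IsMulCommutative A)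
    isMulCommutative_bot' ⊤
  exact ⟨A'.map S.subtype, A', ⟨hA'.2.1, fun B hB => hA'.2.2 B le_top hB⟩, rfl⟩

theorem center_le_tja {Ω : Type*} [Group Ω] (S : Subgroup Ω) [Finite S] :
    S ⊓ Subgroup.centralizer (S : Set Ω) ≤ Cfsg.thompsonSubgroupAOf S := by
  intro z hz
  obtain ⟨hzS, hzc⟩ := Subgroup.mem_inf.mp hz
  obtain ⟨A, hA⟩ := famQ_comm_nonempty' S
  rw [thompsonSubgroupAOf_eq_sSup]
  apply (le_sSup hA : A ≤ _)
  obtain ⟨hAS, hAc, hAmax⟩ := hA
  have hzA : Subgroup.zpowers z ≤ Subgroup.centralizer (A : Set Ω) := by
    rw [Subgroup.zpowers_le]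
    rw [Subgroup.mem_centralizer_iff] at hzc ⊢
    intro a ha
    exact hzc a (hAS ha)
  have hc : IsMulCommutative ↥(A ⊔ Subgroup.zpowers z) :=
    comm_sup hAc inferInstance hzA
  have hle : A ⊔ Subgroup.zpowers z ≤ S := sup_le hAS (by rw [Subgroup.zpowers_le]; exact hzS)
  have : Finite ↥(A ⊔ Subgroup.zpowers z) := Finite.of_injective (Subgroup.inclusion hle)
    (Subgroup.inclusion_injective hle)
  have heq : A = A ⊔ Subgroup.zpowers z :=
    Subgroup.eq_of_le_of_card_ge le_sup_left (hAmax _ hle hc)
  rw [heq]
  exact (le_sup_right : Subgroup.zpowers z ≤ _) (Subgroup.mem_zpowers z)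

/-- the Thompson subgroup (generated by the abelian subgroups of largest order) as a functor -/
def thompsonFun (p : ℕ) : PFun.{u} p where
  W := fun S => Cfsg.thompsonSubgroupAOf S
  le := fun S => tja_le S
  map := fun f hf _ _ _ => tja_map f hf.injOn
  center_le := fun S _ _ => center_le_tja S

theorem thompsonFun_W (p : ℕ) {Ω : Type u} [Group Ω] (S : Subgroup Ω) :
    (thompsonFun.{u} p).W S = Cfsg.thompsonSubgroupAOf S := rfl

theorem localHyp_thompson_odd {p : ℕ} [Fact p.Prime] (hp2 : p ≠ 2) :
    LocalHyp p 1 (thompsonFun.{u} p) := by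
  have key : ∀ (N : ℕ) (G : Type u) [Group G] [Finite G], Nat.card G = N → ∀ P : Sylow p G,
      Subgroup.centralizer ((pCore p G : Subgroup G) : Set G) ≤ pCore p G →
      ∀ y ∈ (P : Subgroup G), (∀ x ∈ (P : Subgroup G), x * y = y * x) →
      (∀ g ∈ Subgroup.normalizer
        ((Cfsg.thompsonSubgroupAOf (P : Subgroup G) : Subgroup G) : Set G),
        g * y = y * g) → ∀ g : G, g * y = y * g := by
    intro N
    induction N using Nat.strong_induction_on with
    | _ N ih =>
      intro G _ _ hcard P hcon
      have hQn : (pCore p G).Normal := Cfsg.Agent.Lib.Helper1.pCore_normal p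
      have hQP : pCore p G ≤ (P : Subgroup G) := Cfsg.Agent.Lib.Helper1.pCore_le_sylow p P
      -- the induction hypothesis for proper subgroups containing `P`
      have IHsub : ∀ y ∈ (P : Subgroup G), (∀ x ∈ (P : Subgroup G), x * y = y * x) →
          (∀ g ∈ Subgroup.normalizer
            ((Cfsg.thompsonSubgroupAOf (P : Subgroup G) : Subgroup G) : Set G),
            g * y = y * g) →
          ∀ M : Subgroup G, M ≠ ⊤ → (P : Subgroup G) ≤ M → ∀ k ∈ M, k * y = y * k := by
        intro y hyP hyc hnorm M hMne hPM k hk
        have hMcard : Nat.card M < N := by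
          rw [← hcard]
          by_contra hge
          push Not at hge
          exact hMne (Subgroup.eq_top_of_le_card M hge)
        have hconM : Subgroup.centralizer ((pCore p ↥M : Subgroup ↥M) : Set ↥M) ≤ pCore p ↥M := by
          intro x hx
          have hQ'n : ((pCore p G).subgroupOf M).Normal := hQn.subgroupOf M
          have hQ'p : IsPGroup p ((pCore p G).subgroupOf M) :=
            (Cfsg.Agent.Lib.Helper1.pCore_isPGroup p).comap_subtype
          have hQ'le : (pCore p G).subgroupOf M ≤ pCore p ↥M :=
            Cfsg.Agent.Lib.Helper1.le_pCore hQ'n hQ'p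
          apply hQ'le
          rw [Subgroup.mem_subgroupOf]
          apply hcon
          rw [Subgroup.mem_centralizer_iff]
          intro u hu
          have huM : u ∈ M := hPM (hQP hu)
          have h1 := (Subgroup.mem_centralizer_iff.mp hx) ⟨u, huM⟩
            (hQ'le (Subgroup.mem_subgroupOf.mpr hu))
          exact congrArg Subtype.val h1
        have hP'coe : ((P.subtype hPM : Sylow p ↥M) : Subgroup ↥M) =
            (P : Subgroup G).subgroupOf M := Sylow.coe_subtype _ _
        have hWmap : Cfsg.thompsonSubgroupAOf (P : Subgroup G) =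
            (Cfsg.thompsonSubgroupAOf ((P : Subgroup G).subgroupOf M)).map M.subtype := by
          have := tja_map M.subtype (S := (P : Subgroup G).subgroupOf M)
            (M.subtype_injective.injOn)
          rw [Subgroup.map_subgroupOf_eq_of_le hPM] at this
          exact this
        have hIH := ih (Nat.card M) hMcard ↥M rfl (P.subtype hPM) hconM ⟨y, hPM hyP⟩
          (by rw [hP'coe]; exact Subgroup.mem_subgroupOf.mpr hyP)
          (fun x hx => by
            rw [hP'coe] at hx
            exact Subtype.ext (hyc x (Subgroup.mem_subgroupOf.mp hx)))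
          (fun k hk => by
            rw [hP'coe] at hk
            apply Subtype.ext
            refine hnorm k ?_
            rw [hWmap]
            have hconj : ∀ (k' : ↥M), k' ∈ Subgroup.normalizer
                ((Cfsg.thompsonSubgroupAOf ((P : Subgroup G).subgroupOf M) : Subgroup ↥M) :
                  Set ↥M) →
                ∀ u ∈ (Cfsg.thompsonSubgroupAOf ((P : Subgroup G).subgroupOf M)).map M.subtype,
                (k' : G) * u * (k' : G)⁻¹ ∈
                  (Cfsg.thompsonSubgroupAOf ((P : Subgroup G).subgroupOf M)).map M.subtype := by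
              rintro k' hk' _ ⟨u', hu', rfl⟩
              exact ⟨k' * u' * k'⁻¹, (Subgroup.mem_normalizer_iff.mp hk' u').mp hu', rfl⟩
            refine Cfsg.Agent.Lib.Helper26.mem_normalizer_of_forall (hconj k hk) (fun u hu => ?_)
            have := hconj k⁻¹ (Subgroup.inv_mem _ hk) u hu
            simpa using this)
        exact congrArg Subtype.val (hIH ⟨k, hk⟩)
      -- induction on the order of `y`
      have inner : ∀ (m : ℕ) (y : G), orderOf y = m → y ∈ (P : Subgroup G) →
          (∀ x ∈ (P : Subgroup G), x * y = y * x) →
          (∀ g ∈ Subgroup.normalizer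
            ((Cfsg.thompsonSubgroupAOf (P : Subgroup G) : Subgroup G) : Set G),
            g * y = y * g) → ∀ g : G, g * y = y * g := by
        intro m
        induction m using Nat.strong_induction_on with
        | _ m ihm =>
          intro y hord hyP hyc hnorm
          by_cases hy1 : y = 1
          · subst hy1
            intro g
            rw [mul_one, one_mul]
          have hc : ∀ g : G, g * y ^ p = y ^ p * g := by
            have hlt : orderOf (y ^ p) < m := by
              obtain ⟨k, hk⟩ := (IsPGroup.iff_orderOf.mp P.2) ⟨y, hyP⟩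
              have hk' : orderOf y = p ^ k := by
                rw [← hk]
                exact (Subgroup.orderOf_mk y hyP).symm
              have hk0 : k ≠ 0 := by
                rintro rfl
                rw [pow_zero, orderOf_eq_one_iff] at hk'
                exact hy1 hk'
              have hdvd : p ∣ orderOf y := by
                rw [hk']
                exact dvd_pow_self p hk0
              have hp : p.Prime := Fact.out
              rw [orderOf_pow_of_dvd hp.ne_zero hdvd, hord]
              apply Nat.div_lt_self
              · rw [← hord]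
                exact orderOf_pos y
              · exact hp.one_lt
            refine ihm _ hlt (y ^ p) rfl ((P : Subgroup G).pow_mem hyP p) (fun x hx => ?_)
              (fun g hg => ?_)
            · exact ((show Commute x y from hyc x hx).pow_right p).eq
            · exact ((show Commute g y from hnorm g hg).pow_right p).eq
          exact step hp2 P hcon y hyP hyc hnorm hc (IHsub y hyP hyc hnorm)
      intro y hyP hyc hnorm
      exact inner (orderOf y) y rfl hyP hyc hnorm
  intro G _ _ P hcon y hyP hyc hnorm
  rw [pow_one]
  refine key (Nat.card G) G rfl P hcon y hyP hyc (fun g hg => ?_)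
  have := hnorm g hg
  rwa [pow_one] at this

end Cfsg.Agent.Lib.helper17.GB
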