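import Mathlib
import Cfsg.Agent.Lib.helper17.GB4
import Cfsg.Agent.Lib.helper17.CW6

/-!
# The Thompson subgroup satisfies the quadratic element condition
-/

set_option autoImplicit false

namespace Cfsg.Agent.Lib.helper17.GB

open Cfsg Cfsg.Agent.Lib.helper17 Cfsg.Agent.Lib.Helper9 Cfsg.Agent.Lib.Helper1.GNPC2
  Cfsg.Agent.Lib.helper17.CW

universe u

theorem thompson_quadratic {G : Type u} [Group G] [Finite G] {p : ℕ} [Fact p.Prime] (P : Sylow p G)
    (hn : ¬ (Cfsg.thompsonSubgroupAOf (P : Subgroup G)).Normal) :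
    ∃ g : G, g ∈ (P : Subgroup G) ∧ g ∉ pCore p G ∧
      ⁅⁅(Subgroup.center ↥(pCore p G)).map (pCore p G).subtype, Subgroup.zpowers g⁆,
        Subgroup.zpowers g⁆ = ⊥ := by
  have hQn : (pCore p G).Normal := Cfsg.Agent.Lib.Helper1.pCore_normal p
  have hQP : pCore p G ≤ (P : Subgroup G) := Cfsg.Agent.Lib.Helper1.pCore_le_sylow p P
  by_cases hall : ∀ A ∈ famQ (fun A : Subgroup G => IsMulCommutative A) (P : Subgroup G),
      A ≤ pCore p G
  · exfalso
    apply hn
    have hJ : Cfsg.thompsonSubgroupAOf (pCore p G) = Cfsg.thompsonSubgroupAOf (P : Subgroup G) :=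
      tja_eq_of_forall_le hQP hall
    rw [← hJ, ← Subgroup.normalizer_eq_top_iff, eq_top_iff]
    calc (⊤ : Subgroup G) = Subgroup.normalizer ((pCore p G : Subgroup G) : Set G) :=
          (Subgroup.normalizer_eq_top_iff.mpr hQn).symm
      _ ≤ _ := normalizer_le_normalizer_tja _
  · push Not at hall
    obtain ⟨A₀, hA₀, hA₀Q⟩ := hall
    obtain ⟨Z, hZ⟩ : ∃ Z : Subgroup G,
        Z = (Subgroup.center ↥(pCore p G)).map (pCore p G).subtype := ⟨_, rfl⟩
    rw [← hZ]
    have hZmem : ∀ z : G, z ∈ Z ↔ z ∈ pCore p G ∧ ∀ q ∈ pCore p G, q * z = z * q := by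
      intro z
      rw [hZ]
      constructor
      · rintro ⟨x, hx, rfl⟩
        refine ⟨x.2, fun q hq => ?_⟩
        have := Subgroup.mem_center_iff.mp hx ⟨q, hq⟩
        exact congrArg Subtype.val this
      · rintro ⟨hz, hc⟩
        have hmem : (⟨z, hz⟩ : ↥(pCore p G)) ∈ Subgroup.center ↥(pCore p G) := by
          rw [Subgroup.mem_center_iff]
          intro q
          exact Subtype.ext (hc q q.2)
        exact ⟨⟨z, hz⟩, hmem, rfl⟩
    have hZQ : Z ≤ pCore p G := fun z hz => ((hZmem z).mp hz).1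
    have hZc : IsMulCommutative Z :=
      ⟨⟨fun a b => Subtype.ext (((hZmem b).mp b.2).2 a (hZQ a.2))⟩⟩
    have hZn : ∀ g : G, ∀ z ∈ Z, g * z * g⁻¹ ∈ Z := by
      intro g z hz
      obtain ⟨hzQ, hzc⟩ := (hZmem z).mp hz
      refine (hZmem _).mpr ⟨hQn.conj_mem z hzQ g, fun q hq => ?_⟩
      have hq' : g⁻¹ * q * g ∈ pCore p G := by
        have := hQn.conj_mem q hq g⁻¹
        rwa [inv_inv] at this
      have h1 := hzc _ hq'
      calc q * (g * z * g⁻¹) = g * ((g⁻¹ * q * g) * z) * g⁻¹ := by group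
        _ = g * (z * (g⁻¹ * q * g)) * g⁻¹ := by rw [h1]
        _ = g * z * g⁻¹ * q := by group
    have hPZ : (P : Subgroup G) ≤ Subgroup.normalizer (Z : Set G) := by
      intro s _
      refine Cfsg.Agent.Lib.Helper26.mem_normalizer_of_forall (fun z hz => hZn s z hz)
        (fun z hz => ?_)
      have := hZn s⁻¹ z hz
      rwa [inv_inv] at this
    have hQZ : pCore p G ≤ Subgroup.centralizer (Z : Set G) := by
      intro q hq
      rw [Subgroup.mem_centralizer_iff]
      intro z hz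
      exact (((hZmem z).mp hz).2 q hq).symm
    obtain ⟨A, hA, hAQ, hZA⟩ := exists_quadratic_comm (P := (P : Subgroup G)) (V := Z)
      (H := pCore p G) P.2 hZc (hZQ.trans hQP) hPZ hQZ ⟨A₀, hA₀, hA₀Q⟩
    obtain ⟨g, hgA, hgQ⟩ := SetLike.not_le_iff_exists.mp hAQ
    refine ⟨g, hA.1 hgA, hgQ, ?_⟩
    have hAc : IsMulCommutative A := hA.2.1
    have h2 : Subgroup.zpowers g ≤ A := by
      rw [Subgroup.zpowers_le]
      exact hgA
    have h1 : ⁅Z, Subgroup.zpowers g⁆ ≤ A := by
      rw [Subgroup.commutator_le]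
      intro z hz x hx
      rw [commutatorElement_def]
      have hxA : x ∈ A := h2 hx
      exact A.mul_mem ((Subgroup.mem_normalizer_iff.mp (hZA hz) x).mp hxA) (A.inv_mem hxA)
    rw [eq_bot_iff]
    calc ⁅⁅Z, Subgroup.zpowers g⁆, Subgroup.zpowers g⁆ ≤ ⁅A, A⁆ := Subgroup.commutator_mono h1 h2
      _ = ⊥ := by
        rw [Subgroup.commutator_eq_bot_iff_le_centralizer]
        intro a ha
        rw [Subgroup.mem_centralizer_iff]
        intro b hb
        exact setLike_mul_comm hb ha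

theorem localHyp_thompson_pow {p : ℕ} [Fact p.Prime] : LocalHyp p p (thompsonFun.{u} p) :=
  localHyp_of_quadratic (thompsonFun.{u} p) (fun _ _ _ P hn => thompson_quadratic P hn)

end Cfsg.Agent.Lib.helper17.GB
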