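import Mathlib
import Cfsg.Agent.Lib.Helper5.S1906.Defs

set_option autoImplicit false

/-!
# Project S1906, row U4 (helper17), core: an odd-order automorphism of an abelian 2-group commuting with `σ` is trivial.
The row U1 (`odd_aut_trivial`) enters as the hypothesis `hU1`.
-/

namespace Cfsg.Agent.Lib.Helper5.S1906

open scoped IsMulCommutative

variable {A : Type*} [CommGroup A] [Finite A] {σ : MulAut A} {c z : A}

omit [Finite A] in
theorem s1906u4_mem_fix (β : MulAut A) (a : A) :
    a ∈ Om1 A ⊓ (dl β).ker ↔ a * a = 1 ∧ β a = a := by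
  rw [Subgroup.mem_inf, mem_Om1, MonoidHom.mem_ker, dl_apply, inv_mul_eq_one]
  exact ⟨fun h => ⟨h.1, h.2.symm⟩, fun h => ⟨h.1, h.2.symm⟩⟩

omit [Finite A] in
theorem s1906u4_pow_fix (β : MulAut A) (a : A) (h : β a = a) (k : ℕ) : (β ^ k) a = a := by
  induction k with
  | zero => rw [pow_zero, MulAut.one_apply]
  | succ k ih => rw [pow_succ', MulAut.mul_apply, ih, h]

/-- an automorphism of odd order fixing `a` under its square fixes `a` -/
theorem s1906u4_odd_fix (β : MulAut A) (hβ : Odd (orderOf β)) (a : A) (h : β (β a) = a) :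
    β a = a := by
  obtain ⟨k, hk⟩ := hβ
  have h2 : (β ^ 2) a = a := by rw [pow_two, MulAut.mul_apply, h]
  have h3 : ((β ^ 2) ^ k) a = a := s1906u4_pow_fix (β ^ 2) a h2 k
  have h4 : (β ^ (2 * k + 1)) a = β a := by
    rw [pow_succ', MulAut.mul_apply, pow_mul, h3]
  rw [← hk, pow_orderOf_eq_one, MulAut.one_apply] at h4
  exact h4.symm

/-- a subgroup containing two distinct non-trivial elements, one of them an involution, has at least four elements -/
theorem s1906u4_four_le (H : Subgroup A) (x y : A) (hx : x ∈ H) (hy : y ∈ H) (hx1 : x ≠ 1)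
    (hy1 : y ≠ 1) (hxy : x ≠ y) (hx2 : x * x = 1) : 4 ≤ Nat.card H := by
  classical
  have hxy1 : x * y ≠ 1 := by
    intro h
    apply hxy
    have : x * y = x * x := by rw [h, hx2]
    exact (mul_left_cancel this).symm
  have hxyx : x * y ≠ x := by
    intro h
    apply hy1
    have : x * y = x * 1 := by rw [h, mul_one]
    exact mul_left_cancel this
  have hxyy : x * y ≠ y := by
    intro h
    apply hx1
    have : x * y = 1 * y := by rw [h, one_mul]
    exact mul_right_cancel this
  have hS : ({1, x, y, x * y} : Finset A).card = 4 := by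
    rw [Finset.card_insert_of_notMem, Finset.card_insert_of_notMem,
      Finset.card_insert_of_notMem, Finset.card_singleton]
    · rw [Finset.mem_singleton]
      exact hxyy.symm
    · rw [Finset.mem_insert, Finset.mem_singleton]
      rintro (h | h)
      · exact hxy h
      · exact hxyx h.symm
    · rw [Finset.mem_insert, Finset.mem_insert, Finset.mem_singleton]
      rintro (h | h | h)
      · exact hx1 h.symm
      · exact hy1 h.symm
      · exact hxy1 h.symm
  have hsub : (({1, x, y, x * y} : Finset A) : Set A) ⊆ (H : Set A) := by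
    intro a ha
    simp only [Finset.coe_insert, Finset.coe_singleton, Set.mem_insert_iff,
      Set.mem_singleton_iff] at ha
    rcases ha with rfl | rfl | rfl | rfl
    exacts [H.one_mem, hx, hy, H.mul_mem hx hy]
  have h1 := Set.ncard_le_ncard hsub (Set.toFinite _)
  rw [Set.ncard_coe_finset, hS] at h1
  have h2 : Nat.card H = (H : Set A).ncard := Nat.card_coe_set_eq (H : Set A)
  rw [h2]
  exact h1

/-- an odd-order automorphism fixing pointwise a subgroup of index at most two of `Ω₁(A)` fixes `Ω₁(A)` pointwise -/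
theorem s1906u4_fix_om (β : MulAut A) (hβ : Odd (orderOf β))
    (hcard : Nat.card (Om1 A) ≤ 2 * Nat.card ↥(Om1 A ⊓ (dl β).ker)) (a : A) (ha : a * a = 1) :
    β a = a := by
  classical
  have hfix : ∀ w ∈ Om1 A ⊓ (dl β).ker, β w = w := fun w hw => ((s1906u4_mem_fix β w).mp hw).2
  have hΦle : Om1 A ⊓ (dl β).ker ≤ Om1 A := inf_le_left
  have h1 := Subgroup.card_mul_index ((Om1 A ⊓ (dl β).ker).subgroupOf (Om1 A))
  have h2 : Nat.card ((Om1 A ⊓ (dl β).ker).subgroupOf (Om1 A)) = Nat.card ↥(Om1 A ⊓ (dl β).ker) :=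
    Nat.card_congr (Subgroup.subgroupOfEquivOfLe hΦle).toEquiv
  have hpos : 0 < Nat.card ↥(Om1 A ⊓ (dl β).ker) := Nat.card_pos
  have hΩpos : 0 < Nat.card (Om1 A) := Nat.card_pos
  rw [h2] at h1
  have hidx : ((Om1 A ⊓ (dl β).ker).subgroupOf (Om1 A)).index = 1 ∨
      ((Om1 A ⊓ (dl β).ker).subgroupOf (Om1 A)).index = 2 := by
    have hle : ((Om1 A ⊓ (dl β).ker).subgroupOf (Om1 A)).index ≤ 2 := by
      by_contra hcon
      push Not at hcon
      have : Nat.card ↥(Om1 A ⊓ (dl β).ker) * 3 ≤
          Nat.card ↥(Om1 A ⊓ (dl β).ker) * ((Om1 A ⊓ (dl β).ker).subgroupOf (Om1 A)).index :=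
        Nat.mul_le_mul_left _ hcon
      omega
    have hne : ((Om1 A ⊓ (dl β).ker).subgroupOf (Om1 A)).index ≠ 0 := by
      intro h0
      rw [h0, mul_zero] at h1
      omega
    omega
  by_cases haΦ : a ∈ Om1 A ⊓ (dl β).ker
  · exact hfix a haΦ
  have haΩ : a ∈ Om1 A := (mem_Om1 a).mpr ha
  rcases hidx with h | h
  · exfalso
    rw [Subgroup.index_eq_one, Subgroup.subgroupOf_eq_top] at h
    exact haΦ (h haΩ)
  · have hβaΩ : β a ∈ Om1 A := (mem_Om1 _).mpr (by rw [← map_mul, ha, map_one])
    have hβaΦ : β a ∉ Om1 A ⊓ (dl β).ker := by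
      intro hm
      have h3 : β (β a) = β a := hfix _ hm
      have h4 : β a = a := β.injective h3
      rw [h4] at hm
      exact haΦ hm
    have hiff := Subgroup.mul_mem_iff_of_index_two h (a := (⟨β a, hβaΩ⟩ : Om1 A)) (b := ⟨a, haΩ⟩)
    have hw : β a * a ∈ Om1 A ⊓ (dl β).ker := by
      have h5 := hiff.mpr ⟨fun h => absurd (Subgroup.mem_subgroupOf.mp h) hβaΦ,
        fun h => absurd (Subgroup.mem_subgroupOf.mp h) haΦ⟩
      exact Subgroup.mem_subgroupOf.mp h5
    have hβw : β (β a * a) = β a * a := hfix _ hw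
    have hβa : β a = (β a * a) * a := by rw [mul_assoc, ha, mul_one]
    have hpow : ∀ j : ℕ, (β ^ j) a = (β a * a) ^ j * a := by
      intro j
      induction j with
      | zero => rw [pow_zero, pow_zero, MulAut.one_apply, one_mul]
      | succ j ih =>
        rw [pow_succ', MulAut.mul_apply, ih, map_mul, map_pow, hβw, pow_succ, mul_assoc,
          mul_assoc (β a) a a, ha, mul_one]
    have hm := hpow (orderOf β)
    rw [pow_orderOf_eq_one, MulAut.one_apply] at hm
    have hwm : (β a * a) ^ orderOf β = 1 := by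
      have h6 : (β a * a) ^ orderOf β * a = 1 * a := by rw [one_mul]; exact hm.symm
      exact mul_right_cancel h6
    have hw2 : (β a * a) ^ 2 = 1 := by
      rw [pow_two]
      exact ((s1906u4_mem_fix β _).mp hw).1
    have hw1 : β a * a = 1 := by
      obtain ⟨k, hk⟩ := hβ
      rw [hk, pow_succ, pow_mul, hw2, one_pow, one_mul] at hwm
      exact hwm
    rw [hβa, hw1, one_mul]

/-- U4 with the row U1 as a hypothesis -/
theorem s1906u4_core (h : ACtx σ c z) (hrk : Nat.card (Om1 A) ≤ 8)
    (hU1 : ∀ β : MulAut A, Odd (orderOf β) → (∀ a : A, a * a = 1 → β a = a) → β = 1)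
    (β : MulAut A) (hβ : Odd (orderOf β)) (hcomm : β * σ = σ * β) : β = 1 := by
  have hc' : ∀ a, β (σ a) = σ (β a) := fun a => by
    have := congrArg (fun f : MulAut A => f a) hcomm
    simpa only [MulAut.mul_apply] using this
  -- `β c = c`
  have hβc : β c = c := by
    obtain ⟨a, ha⟩ := h.cD
    have h1 : β c ∈ (dl σ).range := by
      refine ⟨β a, ?_⟩
      rw [dl_apply, ← ha, dl_apply, map_mul, map_inv, hc']
    have h2 : β c * β c = 1 := by rw [← map_mul, h.c2, map_one]
    rcases h.invD (β c) h1 h2 with h3 | h3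
    · exfalso
      apply h.c1
      apply β.injective
      rw [h3, map_one]
    · exact h3
  -- `β z = z`
  have hβz : β z = z := by
    have h1 : σ (β z) = β z := by rw [← hc', h.zf]
    have h2 : β z * β z = 1 := by rw [← map_mul, h.z2, map_one]
    rcases h.invZ (β z) h1 h2 with h3 | h3 | h3 | h3
    · exfalso
      apply h.z1
      apply β.injective
      rw [h3, map_one]
    · exfalso
      apply h.cz
      apply β.injective
      rw [h3, hβc]
    · exact h3
    · apply s1906u4_odd_fix β hβ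
      rw [h3, map_mul, hβc, h3, ← mul_assoc, h.c2, one_mul]
  apply hU1 β hβ
  apply s1906u4_fix_om β hβ
  have h4 : 4 ≤ Nat.card ↥(Om1 A ⊓ (dl β).ker) :=
    s1906u4_four_le _ c z ((s1906u4_mem_fix β c).mpr ⟨h.c2, hβc⟩)
      ((s1906u4_mem_fix β z).mpr ⟨h.z2, hβz⟩) h.c1 h.z1 h.cz h.c2
  omega

end Cfsg.Agent.Lib.Helper5.S1906
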