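import Mathlib
import Cfsg.Agent.Lib.Helper5.S1906.Defs
import Cfsg.Agent.Lib.Helper24.S1906U1
import Cfsg.Agent.Lib.helper17.S1906U4core

set_option autoImplicit false

/-!
# Project S1906, row U4 (helper17): verbatim.
-/

namespace Cfsg.Agent.Lib.Helper5.S1906

open scoped IsMulCommutative

variable {A : Type*} [CommGroup A] [Finite A] {σ : MulAut A} {c z : A}

/-- U4 -/
theorem fix_trivial (hA : IsPGroup 2 A) (h : ACtx σ c z) (hrk : Nat.card (Om1 A) ≤ 8)
    (β : MulAut A) (hβ : Odd (orderOf β)) (hcomm : β * σ = σ * β) : β = 1 :=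
  s1906u4_core h hrk (fun β' hβ' hfix => odd_aut_trivial hA β' hβ' hfix) β hβ hcomm

end Cfsg.Agent.Lib.Helper5.S1906
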