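import Mathlib
import Cfsg.Agent.Lib.Helper5.S1906.Defs
import Cfsg.Agent.Lib.helper17.S1906U4core

set_option autoImplicit false

/-!
# Project S1906, row U6 (helper17), core: `|Ω₁(A)| = 8`, `β ≠ 1` of odd order inverted by `σ`: `β` fixes exactly one involution.
The row U1 (`odd_aut_trivial`) enters as the hypothesis `hU1`.
-/

namespace Cfsg.Agent.Lib.Helper5.S1906

open scoped IsMulCommutative

variable {A : Type*} [CommGroup A] [Finite A] {σ : MulAut A} {c z : A}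

/-- U6 with the row U1 as a hypothesis -/
theorem s1906u6_core (h : ACtx σ c z) (hrk : Nat.card (Om1 A) = 8)
    (hU1 : ∀ β : MulAut A, Odd (orderOf β) → (∀ a : A, a * a = 1 → β a = a) → β = 1)
    (β : MulAut A) (hβ : Odd (orderOf β)) (hβ1 : β ≠ 1) (hinv : σ * β * σ = β⁻¹) :
    ∃ v : A, v ≠ 1 ∧ v * v = 1 ∧ β v = v ∧ ∀ a : A, a * a = 1 → β a = a → a = 1 ∨ a = v := by
  classical
  have hσσ : ∀ a, σ (σ a) = a := fun a => by
    have := congrArg (fun f : MulAut A => f a) h.s2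
    simpa only [MulAut.mul_apply, MulAut.one_apply] using this
  have hinv' : ∀ a, σ (β (σ a)) = β⁻¹ a := fun a => by
    have := congrArg (fun f : MulAut A => f a) hinv
    simpa only [MulAut.mul_apply] using this
  -- `σ c = c`
  have hσc : σ c = c := by
    obtain ⟨a, ha⟩ := h.cD
    have hcinv : c⁻¹ = c := by
      rw [inv_eq_iff_mul_eq_one]
      exact h.c2
    rw [← ha, dl_apply, map_mul, map_inv, hσσ]
    have : (σ a)⁻¹ * a = (a⁻¹ * σ a)⁻¹ := by rw [mul_inv_rev, inv_inv]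
    rw [this, ← dl_apply, ha, hcinv]
  have hcK : c ∈ Om1 A ⊓ (dl σ).ker := (s1906u4_mem_fix σ c).mpr ⟨h.c2, hσc⟩
  have hzK : z ∈ Om1 A ⊓ (dl σ).ker := (s1906u4_mem_fix σ z).mpr ⟨h.z2, h.zf⟩
  have hK4 : 4 ≤ Nat.card ↥(Om1 A ⊓ (dl σ).ker) :=
    s1906u4_four_le _ c z hcK hzK h.c1 h.z1 h.cz h.c2
  -- the pigeonhole
  have hmemΩ : ∀ a b : ↥(Om1 A ⊓ (dl σ).ker), (a : A) * β (b : A) ∈ Om1 A := by
    intro a b
    rw [mem_Om1]
    have ha := ((s1906u4_mem_fix σ _).mp a.2).1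
    have hb := ((s1906u4_mem_fix σ _).mp b.2).1
    have : (a : A) * β (b : A) * ((a : A) * β (b : A)) = ((a : A) * (a : A)) * β ((b : A) * (b : A)) := by
      rw [map_mul]
      exact mul_mul_mul_comm _ _ _ _
    rw [this, ha, hb, map_one, one_mul]
  let f : ↥(Om1 A ⊓ (dl σ).ker) × ↥(Om1 A ⊓ (dl σ).ker) → ↥(Om1 A) :=
    fun p => ⟨(p.1 : A) * β (p.2 : A), hmemΩ p.1 p.2⟩
  haveI : Fintype ↥(Om1 A) := Fintype.ofFinite _
  haveI : Fintype ↥(Om1 A ⊓ (dl σ).ker) := Fintype.ofFinite _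
  have hlt : Fintype.card ↥(Om1 A) <
      Fintype.card (↥(Om1 A ⊓ (dl σ).ker) × ↥(Om1 A ⊓ (dl σ).ker)) := by
    rw [Fintype.card_prod, ← Nat.card_eq_fintype_card, ← Nat.card_eq_fintype_card, hrk]
    have : 4 * 4 ≤ Nat.card ↥(Om1 A ⊓ (dl σ).ker) * Nat.card ↥(Om1 A ⊓ (dl σ).ker) :=
      Nat.mul_le_mul hK4 hK4
    omega
  obtain ⟨⟨a, b⟩, ⟨a', b'⟩, hne, heq⟩ := Fintype.exists_ne_map_eq_of_card_lt f hlt
  have heq' : (a : A) * β (b : A) = (a' : A) * β (b' : A) := congrArg Subtype.val heq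
  -- `v = b' * b⁻¹`
  have hvK : (b' : A) * (b : A)⁻¹ ∈ Om1 A ⊓ (dl σ).ker := Subgroup.mul_mem _ b'.2 (Subgroup.inv_mem _ b.2)
  have hk1K : (a' : A)⁻¹ * (a : A) ∈ Om1 A ⊓ (dl σ).ker := Subgroup.mul_mem _ (Subgroup.inv_mem _ a'.2) a.2
  have hβv : β ((b' : A) * (b : A)⁻¹) = (a' : A)⁻¹ * (a : A) := by
    rw [map_mul, map_inv]
    rw [eq_comm, inv_mul_eq_iff_eq_mul, ← mul_assoc, ← heq', mul_assoc, mul_inv_cancel, mul_one]
  have hv1 : (b' : A) * (b : A)⁻¹ ≠ 1 := by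
    intro hv
    apply hne
    have hbb : (b' : A) = (b : A) := by
      rw [mul_inv_eq_one] at hv
      exact hv
    have haa : (a : A) = (a' : A) := by
      rw [hv, map_one] at hβv
      have := hβv.symm
      rw [inv_mul_eq_one] at this
      exact this.symm
    exact Prod.ext (Subtype.ext haa) (Subtype.ext hbb.symm)
  obtain ⟨hv2, hσv⟩ := (s1906u4_mem_fix σ _).mp hvK
  obtain ⟨-, hσk1⟩ := (s1906u4_mem_fix σ _).mp hk1K
  have hβfix : β ((b' : A) * (b : A)⁻¹) = (b' : A) * (b : A)⁻¹ := by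
    apply s1906u4_odd_fix β hβ
    -- `σ (β v) = β v` and `σ (β (σ v)) = β⁻¹ v`
    have h1 : β⁻¹ ((b' : A) * (b : A)⁻¹) = β ((b' : A) * (b : A)⁻¹) := by
      rw [← hinv', hσv, hβv, hσk1]
    have h2 : β (β⁻¹ ((b' : A) * (b : A)⁻¹)) = (b' : A) * (b : A)⁻¹ := by
      rw [← MulAut.mul_apply, mul_inv_cancel, MulAut.one_apply]
    rw [h1] at h2
    exact h2
  refine ⟨(b' : A) * (b : A)⁻¹, hv1, hv2, hβfix, ?_⟩
  intro x hx2 hβx
  by_contra hcon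
  push Not at hcon
  apply hβ1
  apply hU1 β hβ
  apply s1906u4_fix_om β hβ
  have h4 : 4 ≤ Nat.card ↥(Om1 A ⊓ (dl β).ker) :=
    s1906u4_four_le _ ((b' : A) * (b : A)⁻¹) x ((s1906u4_mem_fix β _).mpr ⟨hv2, hβfix⟩)
      ((s1906u4_mem_fix β x).mpr ⟨hx2, hβx⟩) hv1 hcon.1 (Ne.symm hcon.2) hv2
  omega

end Cfsg.Agent.Lib.Helper5.S1906
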