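import Mathlib
import Cfsg.Agent.Lib.Helper5.S1906.Defs
import Cfsg.Agent.Lib.Helper24.S1906U1
import Cfsg.Agent.Lib.helper17.S1906U6core

set_option autoImplicit false

/-!
# Project S1906, row U6 (helper17): verbatim.
-/

namespace Cfsg.Agent.Lib.Helper5.S1906

open scoped IsMulCommutative

variable {A : Type*} [CommGroup A] [Finite A] {σ : MulAut A} {c z : A}

/-- U6 -/
theorem rank3_fix (hA : IsPGroup 2 A) (h : ACtx σ c z) (hrk : Nat.card (Om1 A) = 8)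
    (β : MulAut A) (hβ : Odd (orderOf β)) (hβ1 : β ≠ 1) (hinv : σ * β * σ = β⁻¹) :
    ∃ v : A, v ≠ 1 ∧ v * v = 1 ∧ β v = v ∧ ∀ a : A, a * a = 1 → β a = a → a = 1 ∨ a = v :=
  s1906u6_core h hrk (fun β' hβ' hfix => odd_aut_trivial hA β' hβ' hfix) β hβ hβ1 hinv

end Cfsg.Agent.Lib.Helper5.S1906
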