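import Mathlib
import Cfsg.Agent.Lib.Lead.BCS.Defs
import Cfsg.Agent.S0292

set_option autoImplicit false

/-!
# Project BCG (helper17, offered to designer helper3): the converse of BCS row B0 `bcs_lift`.
`bcgomega_descend`: the order of an element of `omegaGL (quadFormOdd d F)` (`d ≥ 3`, `2 ≠ 0`) is an element order of `PΩ_{2d+1}(F)`;
`bcgomega_iff`: `N ∈ range orderOf (PΩ) ↔ ∃ X ∈ omegaGL, orderOf X = N`.
-/

namespace Cfsg.Agent.Lib.helper17.BCGOMEGA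

open Matrix

theorem bcgomega_descend {F : Type*} [Field F] [Fintype F] (h2 : (2 : F) ≠ 0) (d : ℕ) (hd : 3 ≤ d)
    (X : GL (Unit ⊕ (Fin d ⊕ Fin d)) F) (hX : X ∈ Cfsg.Geo.omegaGL (Cfsg.quadFormOdd d F)) :
    orderOf X ∈ Set.range (orderOf : Cfsg.POmega F (Cfsg.quadFormOdd d F) → ℕ) := by
  have hc := Cfsg.Agent.S0292.center_trivial h2 d hd
  unfold Cfsg.Geo.omegaGL at hX
  obtain ⟨g0, hg0, rfl⟩ := Subgroup.mem_map.mp hX
  have hinj : Function.Injective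
      (QuotientGroup.mk' (Subgroup.center ↥(Cfsg.Omega F (Cfsg.quadFormOdd d F)))) := by
    rw [← MonoidHom.ker_eq_bot_iff, QuotientGroup.ker_mk', hc]
  set g : ↥(Cfsg.Omega F (Cfsg.quadFormOdd d F)) := ⟨g0, hg0⟩ with hg
  have h1 : orderOf ((QuotientGroup.mk' (Subgroup.center ↥(Cfsg.Omega F (Cfsg.quadFormOdd d F)))) g) =
      orderOf g := orderOf_injective _ hinj g
  refine ⟨(QuotientGroup.mk' (Subgroup.center ↥(Cfsg.Omega F (Cfsg.quadFormOdd d F)))) g, ?_⟩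
  rw [h1]
  show orderOf g = orderOf ((Cfsg.isometryGroup F (Cfsg.quadFormOdd d F)).subtype g0)
  rw [Subgroup.coe_subtype, Subgroup.orderOf_coe, ← Subgroup.orderOf_coe g]

theorem bcgomega_iff {F : Type*} [Field F] [Fintype F] (h2 : (2 : F) ≠ 0) (d : ℕ) (hd : 3 ≤ d) (N : ℕ) :
    N ∈ Set.range (orderOf : Cfsg.POmega F (Cfsg.quadFormOdd d F) → ℕ) ↔
      ∃ X : GL (Unit ⊕ (Fin d ⊕ Fin d)) F, X ∈ Cfsg.Geo.omegaGL (Cfsg.quadFormOdd d F) ∧ orderOf X = N := by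
  constructor
  · rintro ⟨gbar, rfl⟩
    obtain ⟨g, rfl⟩ := QuotientGroup.mk_surjective gbar
    have hc := Cfsg.Agent.S0292.center_trivial h2 d hd
    have hinj : Function.Injective
        (QuotientGroup.mk' (Subgroup.center ↥(Cfsg.Omega F (Cfsg.quadFormOdd d F)))) := by
      rw [← MonoidHom.ker_eq_bot_iff, QuotientGroup.ker_mk', hc]
    have h1 : orderOf ((QuotientGroup.mk' (Subgroup.center ↥(Cfsg.Omega F (Cfsg.quadFormOdd d F)))) g) =
        orderOf g := orderOf_injective _ hinj g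
    refine ⟨((g : ↥(Cfsg.isometryGroup F (Cfsg.quadFormOdd d F))) : GL (Unit ⊕ (Fin d ⊕ Fin d)) F), ?_, ?_⟩
    · unfold Cfsg.Geo.omegaGL
      exact Subgroup.mem_map.mpr ⟨(g : ↥(Cfsg.isometryGroup F (Cfsg.quadFormOdd d F))), g.2, rfl⟩
    · rw [Subgroup.orderOf_coe, Subgroup.orderOf_coe]
      exact h1.symm
  · rintro ⟨X, hX, rfl⟩
    exact bcgomega_descend h2 d hd X hX

end Cfsg.Agent.Lib.helper17.BCGOMEGA
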