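import Mathlib
import Cfsg.Agent.Lib.helper17.T3.DefsC
import Cfsg.Agent.Lib.helper17.T3CD2

/-!
# Project T3C (S2110 family), row D8 `Z3_add_left`, VERBATIM (helper17)

The defect of the relation `sl` upstairs is additive in the short parameter, given the relation `ss2` upstairs.
Extras (prefix `t3cd8_`): the calculus of the triples `T α x β = Y k α * X (k+1) x * Y (k+1) β` (an abelian group upstairs), usable for D3a / D3b / D4 / D9.
-/

set_option autoImplicit false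

namespace Cfsg.Agent.Lib.helper17.T3

open Cfsg.Agent.Lib.helper15.St2 Cfsg.Agent.Lib.helper7.Ce

variable {F K : Type*} [Field F] [Field K] [Algebra F K]

variable {C : Cub F K} {G Γ : Type*} [Group G] [Group Γ]

theorem t3cd8_cj_eq_of_comm {a b : Γ} (h : a * b = b * a) : cj a b = b := by
  unfold cj; rw [h, mul_inv_cancel_right]

theorem t3cd8_cj_eq_cm_mul (a b : Γ) : cj a b = cm a b * b := by
  unfold cj cm; group

section D

variable {S : SysT C G} {σ : Γ →* G} {L : ShortLift S σ}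

theorem t3cd8_X_zero (L : ShortLift S σ) (j : ZMod 6) : L.X j 0 = 1 := by
  have h := L.add j 0 0
  rw [add_zero] at h
  exact mul_eq_left.1 h

theorem t3cd8_Y_zero (M : LongLift S σ L) (j : ZMod 6) : M.Y j 0 = 1 := by
  have h := M.add j 0 0
  rw [add_zero] at h
  exact mul_eq_left.1 h

/-- the triple `Y k α * X (k+1) x * Y (k+1) β` -/
def t3cd8_T (M : LongLift S σ L) (k : ZMod 6) (α : F) (x : K) (β : F) : Γ := M.Y k α * L.X (k + 1) x * M.Y (k + 1) β

theorem t3cd8_T_mul (hT : CLT S σ) (M : LongLift S σ L) (k : ZMod 6) (a a' : F) (x x' : K) (b b' : F) :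
    t3cd8_T M k a x b * t3cd8_T M k a' x' b' = t3cd8_T M k (a + a') (x + x') (b + b') :=
  R2_mul hT M k a a' x x' b b'

theorem t3cd8_T_Y (M : LongLift S σ L) (k : ZMod 6) (a : F) : M.Y k a = t3cd8_T M k a 0 0 := by
  unfold t3cd8_T; rw [t3cd8_X_zero, t3cd8_Y_zero, mul_one, mul_one]

theorem t3cd8_T_X (M : LongLift S σ L) (k : ZMod 6) (x : K) : L.X (k + 1) x = t3cd8_T M k 0 x 0 := by
  unfold t3cd8_T; rw [t3cd8_Y_zero, t3cd8_Y_zero, mul_one, one_mul]

theorem t3cd8_T_Y1 (M : LongLift S σ L) (k : ZMod 6) (b : F) : M.Y (k + 1) b = t3cd8_T M k 0 0 b := by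
  unfold t3cd8_T; rw [t3cd8_X_zero, t3cd8_Y_zero, mul_one, one_mul]

/-- moving `X (k+2) y` to the right of a triple -/
theorem t3cd8_swap (hT : CLT S σ) (M : LongLift S σ L) (k : ZMod 6) (y : K) (a : F) (x : K) (b : F) :
    L.X (k + 2) y * t3cd8_T M k a x b = t3cd8_T M k a x (b + C.tr (x * y)) * L.X (k + 2) y := by
  have e2 : k + 1 + 1 = k + 2 := by ring
  have h1 : L.X (k + 2) y * M.Y k a = M.Y k a * L.X (k + 2) y :=
    (hT.ls2 k a y (M.Y k a) (L.X (k + 2) y) (M.map _ _) (L.map _ _)).symm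
  have h2 : L.X (k + 2) y * M.Y (k + 1) b = M.Y (k + 1) b * L.X (k + 2) y := by
    have := hT.ls1 (k + 1) b y (M.Y (k + 1) b) (L.X (k + 2) y) (M.map _ _) (by rw [L.map, e2])
    exact this.symm
  have h3 : L.X (k + 2) y * L.X (k + 1) x = M.Y (k + 1) (C.tr (x * y)) * L.X (k + 1) x * L.X (k + 2) y := by
    have h := M.ss1 (k + 1) x y
    rw [e2] at h
    have h' : cm (L.X (k + 2) y) (L.X (k + 1) x) = M.Y (k + 1) (C.tr (x * y)) := by
      rw [← cm_inv_swap, h]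
      have := M.add (k + 1) (-(C.tr (x * y))) (C.tr (x * y))
      rw [neg_add_cancel, t3cd8_Y_zero] at this
      exact inv_eq_of_mul_eq_one_right this
    rw [← h']
    unfold cm; group
  have h4 : M.Y (k + 1) (C.tr (x * y)) * L.X (k + 1) x = L.X (k + 1) x * M.Y (k + 1) (C.tr (x * y)) :=
    (hT.sl0 (k + 1) x _ (L.X (k + 1) x) (M.Y (k + 1) _) (L.map _ _) (M.map _ _)).symm
  unfold t3cd8_T
  calc L.X (k + 2) y * (M.Y k a * L.X (k + 1) x * M.Y (k + 1) b)
      = (L.X (k + 2) y * M.Y k a) * L.X (k + 1) x * M.Y (k + 1) b := by group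
    _ = M.Y k a * (L.X (k + 2) y * L.X (k + 1) x) * M.Y (k + 1) b := by rw [h1]; group
    _ = M.Y k a * (L.X (k + 1) x * M.Y (k + 1) (C.tr (x * y))) * (L.X (k + 2) y * M.Y (k + 1) b) := by rw [h3, h4]; group
    _ = M.Y k a * L.X (k + 1) x * (M.Y (k + 1) (C.tr (x * y)) * M.Y (k + 1) b) * L.X (k + 2) y := by rw [h2]; group
    _ = M.Y k a * L.X (k + 1) x * M.Y (k + 1) (b + C.tr (x * y)) * L.X (k + 2) y := by rw [M.add, add_comm (C.tr (x * y)) b]

/-- the algebra of D8 -/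
theorem t3cd8_alg1 (C : Cub F K) (s s' : K) (c : F) :
    c * C.nm s' + -(C.tr (s * -(c • C.sharp s'))) + -(C.tr (C.sharp s * -(c • s'))) + c * C.nm s = c * C.nm (s + s') := by
  apply (algebraMap F K).injective
  simp only [map_add, map_mul, map_neg, C.htr, C.hnm, Cub.sharp, Algebra.smul_def, C.θF, C.θ3]
  ring

theorem t3cd8_alg2 (C : Cub F K) (s s' : K) (c : F) :
    -(c • C.sharp s') + C.cross s (-(c • s')) + -(c • C.sharp s) = -(c • C.sharp (s + s')) := by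
  simp only [map_add, map_mul, map_neg, Cub.sharp, Cub.cross, Algebra.smul_def, C.θF]
  ring

theorem t3cd8_alg3 (C : Cub F K) (s s' : K) (c : F) :
    c ^ 2 * C.nm s' + C.tr (s * C.sharp (-(c • s'))) + (c ^ 2 * C.nm s + C.tr (-(c • C.sharp s) * -(c • s'))) = c ^ 2 * C.nm (s + s') := by
  apply (algebraMap F K).injective
  simp only [map_add, map_mul, map_neg, map_pow, C.htr, C.hnm, Cub.sharp, Algebra.smul_def, C.θF, C.θ3]
  ring

/-- the key identity of D8: conjugating the right hand side of `sl` -/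
theorem t3cd8_key (hT : CLT S σ) (M : LongLift S σ L)
    (hss2 : ∀ k s t, cm (L.X k s) (L.X (k + 2) t) = M.Y k (-(C.tr (C.sharp s * t))) * L.X (k + 1) (C.cross s t) * M.Y (k + 1) (C.tr (s * C.sharp t)))
    (k : ZMod 6) (s s' : K) (c : F) : cj (L.X k s) (R3 L M k s' c) * R3 L M k s c = R3 L M k (s + s') c := by
  have c1 : ∀ a : F, cj (L.X k s) (M.Y k a) = M.Y k a := fun a =>
    t3cd8_cj_eq_of_comm (hT.sl0 k s a (L.X k s) (M.Y k a) (L.map _ _) (M.map _ _))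
  have c2 : ∀ x : K, cj (L.X k s) (L.X (k + 1) x) = M.Y k (-(C.tr (s * x))) * L.X (k + 1) x := fun x => by
    rw [t3cd8_cj_eq_cm_mul, M.ss1]
  have c3 : ∀ b : F, cj (L.X k s) (M.Y (k + 1) b) = M.Y (k + 1) b := fun b =>
    t3cd8_cj_eq_of_comm (hT.sl1 k s b (L.X k s) (M.Y (k + 1) b) (L.map _ _) (M.map _ _))
  have c4 : ∀ y : K, cj (L.X k s) (L.X (k + 2) y) =
      M.Y k (-(C.tr (C.sharp s * y))) * L.X (k + 1) (C.cross s y) * M.Y (k + 1) (C.tr (s * C.sharp y)) * L.X (k + 2) y := fun y => by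
    rw [t3cd8_cj_eq_cm_mul, hss2]
  have e1 : cj (L.X k s) (R3 L M k s' c) =
      t3cd8_T M k (c * C.nm s' + -(C.tr (s * -(c • C.sharp s'))) + -(C.tr (C.sharp s * -(c • s'))))
        (-(c • C.sharp s') + C.cross s (-(c • s'))) (c ^ 2 * C.nm s' + C.tr (s * C.sharp (-(c • s')))) * L.X (k + 2) (-(c • s')) := by
    unfold R3
    rw [cj_mul, cj_mul, cj_mul, c1, c2, c3, c4]
    rw [t3cd8_T_Y M k (c * C.nm s'), t3cd8_T_Y M k (-(C.tr (s * -(c • C.sharp s')))), t3cd8_T_X M k (-(c • C.sharp s')),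
      t3cd8_T_Y1 M k (c ^ 2 * C.nm s')]
    have e : M.Y k (-(C.tr (C.sharp s * -(c • s')))) * L.X (k + 1) (C.cross s (-(c • s'))) * M.Y (k + 1) (C.tr (s * C.sharp (-(c • s'))))
        = t3cd8_T M k (-(C.tr (C.sharp s * -(c • s')))) (C.cross s (-(c • s'))) (C.tr (s * C.sharp (-(c • s')))) := rfl
    rw [e, ← mul_assoc, t3cd8_T_mul hT, t3cd8_T_mul hT, t3cd8_T_mul hT, t3cd8_T_mul hT]
    congr 2
    · ring
    · ring
    · ring
  have e2 : R3 L M k s c = t3cd8_T M k (c * C.nm s) (-(c • C.sharp s)) (c ^ 2 * C.nm s) * L.X (k + 2) (-(c • s)) := rfl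
  have e3 : R3 L M k (s + s') c = t3cd8_T M k (c * C.nm (s + s')) (-(c • C.sharp (s + s'))) (c ^ 2 * C.nm (s + s')) * L.X (k + 2) (-(c • (s + s'))) := rfl
  rw [e1, e2, e3]
  rw [mul_assoc, ← mul_assoc (L.X (k + 2) (-(c • s'))), t3cd8_swap hT, mul_assoc, L.add, ← mul_assoc, t3cd8_T_mul hT]
  rw [t3cd8_alg1, t3cd8_alg2, t3cd8_alg3]
  congr 2
  rw [smul_add]; ring

/-- [D8] [L] additivity of the defect of `sl` in `s`, given `ss2` upstairs (`hss2`).  `cm (X k s * X k s') Yc = cj (X k s) (cm (X k s') Yc) * cm (X k s) Yc`, `Yc = Y (k+2) c`;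
`cm (X k s') Yc = R3 k s' c * Z3 k s' c`; `cj (X k s)` on the four factors of `R3 k s' c`: fixes `Y k _`, `Y (k+1) _`; `X (k+1) x ↦ Y k (-tr (s * x)) * X (k+1) x`;
`X (k+2) y ↦ (Y k (-tr (s^# y)) * X (k+1) (s × y) * Y (k+1) (tr (s y^#))) * X (k+2) y` (`hss2`).  Multiply by `R3 k s c` and sort into `Y k _ * X (k+1) _ * Y (k+1) _ * X (k+2) _`:
`X (k+2) y` commutes with `Y k _` (`hT.ls2`) and `Y (k+1) _` (`hT.ls1 (k+1)`), `X (k+2) y * X (k+1) x = Y (k+1) (tr (x * y)) * X (k+1) x * X (k+2) y` (`M.ss1 (k+1)`).  Compare with `R3 k (s + s') c`: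
`Cub.nm_add`, `Cub.sharp_add`, `Cub.cross_smul_right`, `Cub.sharp_smul`, `Cub.tr_smul` (with `x = -(c • s'^#)`, `y = -(c • s')`). -/
theorem Z3_add_left (h : IsCE σ) (hT : CLT S σ) (M : LongLift S σ L)
    (hss2 : ∀ k s t, cm (L.X k s) (L.X (k + 2) t) = M.Y k (-(C.tr (C.sharp s * t))) * L.X (k + 1) (C.cross s t) * M.Y (k + 1) (C.tr (s * C.sharp t)))
    (k : ZMod 6) (s s' : K) (c : F) : Z3 L M k (s + s') c = Z3 L M k s c * Z3 L M k s' c := by
  have hz : ∀ s : K, σ (Z3 L M k s c) = 1 := fun s => by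
    unfold Z3 R3
    rw [map_mul, map_inv, map_cm, L.map, M.map, map_mul, map_mul, map_mul, M.map, M.map, L.map, L.map, S.sl, mul_inv_cancel]
  have hcm : ∀ s : K, cm (L.X k s) (M.Y (k + 2) c) = Z3 L M k s c * R3 L M k s c := fun s => by
    unfold Z3; group
  have key := t3cd8_key hT M hss2 k s s' c
  have e : Z3 L M k (s + s') c = cm (L.X k s * L.X k s') (M.Y (k + 2) c) * (R3 L M k (s + s') c)⁻¹ := by
    rw [L.add]; rfl
  rw [e, cm_mul_left, hcm s, hcm s', ← key]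
  have z1 := h.comm_of_map_one (hz s')
  have z2 := h.comm_of_map_one (hz s)
  have : L.X k s * (Z3 L M k s' c * R3 L M k s' c) * (L.X k s)⁻¹ = Z3 L M k s' c * cj (L.X k s) (R3 L M k s' c) := by
    unfold cj
    rw [← mul_assoc, ← z1 (L.X k s)]
    group
  rw [this]
  calc Z3 L M k s' c * cj (L.X k s) (R3 L M k s' c) * (Z3 L M k s c * R3 L M k s c) * (cj (L.X k s) (R3 L M k s' c) * R3 L M k s c)⁻¹
      = Z3 L M k s' c * (cj (L.X k s) (R3 L M k s' c) * Z3 L M k s c) * R3 L M k s c * (cj (L.X k s) (R3 L M k s' c) * R3 L M k s c)⁻¹ := by group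
    _ = Z3 L M k s' c * (Z3 L M k s c * cj (L.X k s) (R3 L M k s' c)) * R3 L M k s c * (cj (L.X k s) (R3 L M k s' c) * R3 L M k s c)⁻¹ := by rw [z2]
    _ = Z3 L M k s' c * Z3 L M k s c := by group
    _ = Z3 L M k s c * Z3 L M k s' c := z1 _

end D

end Cfsg.Agent.Lib.helper17.T3
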