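import Cfsg.Agent.Lib.Helper28.TOO.Defs
import Cfsg.Agent.Lib.helper6.TSSIEG
import Cfsg.Agent.Lib.helper7.TOOWT1
import Cfsg.Agent.Lib.helper6.TOOLG4
import Cfsg.Agent.Lib.Helper28.TOOPERP
import Cfsg.Agent.Lib.Helper13.TOOGA6

/-!
# Project TOO (S5681), row WT2 (helper17): the commutator of two `B`-type elements is an `A`-type element.
-/

set_option autoImplicit false
set_option linter.unusedVariables false
set_option linter.unusedSectionVars false

namespace Cfsg.Agent.Lib.Helper28.TOO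

open Matrix
open scoped Kronecker
open Cfsg.Agent.Lib.helper7.TP Cfsg.Agent.Lib.Helper21.TS

variable {a b : ℕ} {F : Type*} [Field F]
variable {J1 : Matrix (Fin a) (Fin a) F} {J2 : Matrix (Fin b) (Fin b) F}

/-- a non-singular vector orthogonal to a given vector, dimension `≥ 3` -/
theorem toowt2_nonsing_perp {n : ℕ} {J : Matrix (Fin n) (Fin n) F} (hJ : Jᵀ = J) (two : (2 : F) ≠ 0)
    (hdet : J.det ≠ 0) (hn : 3 ≤ n) (u : Fin n → F) :
    ∃ x : Fin n → F, bf J u x = 0 ∧ bf J x x ≠ 0 := by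
  classical
  have hSle : Module.finrank F ↥(Submodule.span F ({u} : Set (Fin n → F))) ≤ 1 := by
    have h1 := finrank_span_finset_le_card (R := F) ({u} : Finset (Fin n → F))
    have e : ((({u} : Finset (Fin n → F)) : Set (Fin n → F))) = {u} := by simp
    rw [Set.finrank, e] at h1
    simpa using h1
  have h2 := tooperp_finrank hJ hdet (Submodule.span F ({u} : Set (Fin n → F)))
  rw [Fintype.card_fin] at h2
  obtain ⟨x, hx, hxx⟩ := toolg4_exists_nonsing hJ two hdet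
    (perp J (Submodule.span F ({u} : Set (Fin n → F)))) (by rw [Fintype.card_fin]; omega)
  refine ⟨x, ?_, hxx⟩
  rw [bf_symm hJ]
  exact hx u (Submodule.subset_span (by simp))

theorem toowt2_kron_sub (Z : Matrix (Fin a) (Fin a) F) (A A' : Matrix (Fin b) (Fin b) F) :
    Z ⊗ₖ (A - A') = Z ⊗ₖ A - Z ⊗ₖ A' := by
  ext ⟨i, j⟩ ⟨i', j'⟩
  simp only [Matrix.kroneckerMap_apply, Matrix.sub_apply, mul_sub]

theorem toowt2_neg_kron (Z : Matrix (Fin a) (Fin a) F) (A : Matrix (Fin b) (Fin b) F) :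
    (-Z) ⊗ₖ A = -(Z ⊗ₖ A) := by
  ext ⟨i, j⟩ ⟨i', j'⟩
  simp only [Matrix.kroneckerMap_apply, Matrix.neg_apply, neg_mul]

theorem toowt2_skew_smul {n : ℕ} {J ζ : Matrix (Fin n) (Fin n) F} (h : SkewAdj J ζ) (c : F) :
    SkewAdj J (c • ζ) := by
  unfold SkewAdj at *
  rw [Matrix.transpose_smul, Matrix.smul_mul, h, Matrix.mul_smul, smul_neg]

theorem toowt2_skew_Nw {n : ℕ} {J : Matrix (Fin n) (Fin n) F} (hJ : Jᵀ = J) (w₁ w₂ : Fin n → F) :
    SkewAdj J (Nw J w₁ w₂) := by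
  unfold SkewAdj
  exact eq_neg_of_add_eq_zero_left (tooga6_Nw_skew hJ w₁ w₂)

/-- `(u ∧ x)² = - f(x,x) u u^*` for `u` singular, `x ⊥ u` -/
theorem toowt2_Nw_sq {n : ℕ} {J : Matrix (Fin n) (Fin n) F} (hJ : Jᵀ = J) (u x : Fin n → F)
    (hu : bf J u u = 0) (hux : bf J u x = 0) :
    Nw J u x * Nw J u x = (-(bf J x x)) • opm J u u := by
  have hxu : bf J x u = 0 := by rw [bf_symm hJ]; exact hux
  unfold Nw
  rw [Matrix.sub_mul, Matrix.mul_sub, Matrix.mul_sub, opm_mul_opm, opm_mul_opm, opm_mul_opm,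
    opm_mul_opm, hxu, hu, hux, zero_smul, zero_smul, zero_smul, neg_smul]
  abel

theorem toowt2_Nw_cube {n : ℕ} {J : Matrix (Fin n) (Fin n) F} (hJ : Jᵀ = J) (u x : Fin n → F)
    (hu : bf J u u = 0) (hux : bf J u x = 0) :
    Nw J u x * Nw J u x * Nw J u x = 0 := by
  rw [toowt2_Nw_sq hJ u x hu hux, Matrix.smul_mul]
  have : opm J u u * Nw J u x = 0 := by
    unfold Nw
    rw [Matrix.mul_sub, opm_mul_opm, opm_mul_opm, hu, hux, zero_smul, zero_smul, sub_zero]
  rw [this, smul_zero]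

/-- WT2 THCOMM [M]. -/
theorem w1_th_comm (C : OCtx J1 J2) (ha : 3 ≤ a)
    (M : Subgroup (Matrix.GeneralLinearGroup (Fin a × Fin b) F))
    (hXi : ∀ (ξ : Matrix (Fin a) (Fin a) F) (w : Fin b → F), SkewAdj J1 ξ → bf J2 w w = 0 →
      InM M (XBm J2 ξ w))
    (u : Fin a → F) (hu0 : u ≠ 0) (hu : bf J1 u u = 0) (w w' : Fin b → F) (hw : bf J2 w w = 0)
    (hw' : bf J2 w' w' = 0) (hww' : bf J2 w w' ≠ 0) (c : F) :
    InM M (XAm J1 u (c • Nw J2 w w')) := by
  classical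
  obtain ⟨x, hux, hxx⟩ := toowt2_nonsing_perp C.sym1 C.two C.det1 ha u
  set ξ := Nw J1 u x with hξ
  have hξsk : SkewAdj J1 ξ := toowt2_skew_Nw C.sym1 u x
  have hξ2 : ξ * ξ = (-(bf J1 x x)) • opm J1 u u := toowt2_Nw_sq C.sym1 u x hu hux
  have hξ3 : ξ * ξ * ξ = 0 := toowt2_Nw_cube C.sym1 u x hu hux
  set c' : F := -c / (bf J2 w w' * bf J1 x x) with hc'
  set P := opm J2 w w with hP
  set P' := opm J2 w' w' with hP'
  have hPP : P * P = 0 := by rw [hP, opm_mul_opm, hw, zero_smul]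
  have hP'P' : P' * P' = 0 := by rw [hP', opm_mul_opm, hw', zero_smul]
  have hPP' : P * P' = bf J2 w w' • opm J2 w w' := by rw [hP, hP', opm_mul_opm]
  have hP'P : P' * P = bf J2 w w' • opm J2 w' w := by
    rw [hP, hP', opm_mul_opm, bf_symm C.sym2 w' w]
  set X : Matrix (Fin a × Fin b) (Fin a × Fin b) F := (c' • ξ) ⊗ₖ P with hX
  set Y : Matrix (Fin a × Fin b) (Fin a × Fin b) F := ξ ⊗ₖ P' with hY
  have hXX : X * X = 0 := by
    rw [hX, ← Matrix.mul_kronecker_mul, hPP, Matrix.kronecker_zero]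
  have hYY : Y * Y = 0 := by
    rw [hY, ← Matrix.mul_kronecker_mul, hP'P', Matrix.kronecker_zero]
  have hXYX : X * Y * X = 0 := by
    rw [hX, hY, ← Matrix.mul_kronecker_mul, ← Matrix.mul_kronecker_mul]
    have : c' • ξ * ξ * c' • ξ = 0 := by
      rw [Matrix.smul_mul, Matrix.smul_mul, Matrix.mul_smul, hξ3, smul_zero, smul_zero]
    rw [this, Matrix.zero_kronecker]
  have hYXY : Y * X * Y = 0 := by
    rw [hX, hY, ← Matrix.mul_kronecker_mul, ← Matrix.mul_kronecker_mul]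
    have : ξ * c' • ξ * ξ = 0 := by
      rw [Matrix.mul_smul, Matrix.smul_mul, hξ3, smul_zero]
    rw [this, Matrix.zero_kronecker]
  have hcomm := w1_comm3 X Y hXX hYY hXYX hYXY
  have hden : bf J2 w w' * bf J1 x x ≠ 0 := mul_ne_zero hww' hxx
  have hval : 1 + X * Y - Y * X = XAm J1 u (c • Nw J2 w w') := by
    rw [hX, hY, ← Matrix.mul_kronecker_mul, ← Matrix.mul_kronecker_mul, hPP', hP'P,
      Matrix.smul_mul, Matrix.mul_smul, hξ2, add_sub_assoc, Matrix.kronecker_smul,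
      Matrix.kronecker_smul, ← smul_sub, ← toowt2_kron_sub, XAm]
    congr 1
    have hNw : opm J2 w w' - opm J2 w' w = Nw J2 w w' := rfl
    rw [hNw, Matrix.smul_kronecker, Matrix.smul_kronecker,
      Matrix.kronecker_smul, smul_smul, smul_smul]
    congr 1
    rw [hc']
    field_simp
  have h1 : InM M (1 + X) := by
    have := hXi (c' • ξ) w (toowt2_skew_smul hξsk c') hw
    rwa [XBm] at this
  have h2 : InM M (1 + Y) := by
    have := hXi ξ w' hξsk hw'
    rwa [XBm] at this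
  have h3 : InM M (1 - X) := by
    have := hXi ((-c') • ξ) w (toowt2_skew_smul hξsk (-c')) hw
    rw [XBm, neg_smul, toowt2_neg_kron, ← sub_eq_add_neg] at this
    exact this
  have h4 : InM M (1 - Y) := by
    have := hXi ((-1 : F) • ξ) w' (toowt2_skew_smul hξsk (-1)) hw'
    rw [XBm, neg_smul, one_smul, toowt2_neg_kron, ← sub_eq_add_neg] at this
    exact this
  have h5 := ((h1.mul h2).mul h3).mul h4
  rw [hcomm, hval] at h5
  exact h5

end Cfsg.Agent.Lib.Helper28.TOO
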