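import Mathlib
import Cfsg.Agent.Lib.helper14.OBNd
import Cfsg.Agent.Lib.helper14.DBN.Defs

/-!
Project DBN, row STABS (helper17): the abstract Steinberg character of a split (B,N)-pair
(port of `OBNa.gu_steinberg`, `index_BU_not_dvd`, `card_gu_ppart`).
-/

set_option autoImplicit false

namespace Cfsg.Agent.Lib.helper14.DBN

open Matrix DoubleCoset
open Cfsg.Agent.Lib.helper3 Cfsg.Agent.Lib.helper14
open Cfsg.Agent.Lib.helper14.UBN Cfsg.Agent.Lib.helper14.OBN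

/-- the index of `B` is prime to `p` when only the trivial coset is fixed by the `p`-group `U` -/
theorem dbnstabs_index_not_dvd {G : Type*} [Group G] [Finite G] (p : ℕ) [Fact p.Prime]
    (B U : Subgroup G) (hUB : U ≤ B) (hU : ∀ u ∈ U, ∃ k : ℕ, u ^ (p ^ k) = 1)
    (hfix : ∀ g : G, (∀ u ∈ U, g⁻¹ * u * g ∈ B) → g ∈ B) : ¬ p ∣ B.index := by
  intro hdvd
  have hUp : IsPGroup p ↥U := by
    intro u
    obtain ⟨k, hk⟩ := hU u.1 u.2
    exact ⟨k, Subtype.ext (by simpa using hk)⟩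
  have ha : ((1 : G) : G ⧸ B) ∈ MulAction.fixedPoints ↥U (G ⧸ B) := by
    intro u
    rw [sub_smul_coe, QuotientGroup.eq, mul_one, mul_one]
    exact B.inv_mem (hUB u.2)
  rw [Subgroup.index_eq_card] at hdvd
  obtain ⟨b, hb, hab⟩ := hUp.exists_fixed_point_of_prime_dvd_card_of_fixed_point (G ⧸ B) hdvd ha
  apply hab
  induction b using QuotientGroup.induction_on with
  | H g =>
    rw [QuotientGroup.eq, inv_one, one_mul]
    apply hfix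
    intro u hu
    have h1 := hb ⟨u⁻¹, U.inv_mem hu⟩
    rw [sub_smul_coe, QuotientGroup.eq] at h1
    have e : g⁻¹ * u * g = ((u⁻¹ : G) * g)⁻¹ * g := by group
    rw [e]
    exact h1

/-- `U` and `H` are complements in `B` -/
theorem dbnstabs_compl {G : Type*} [Group G] (B U H : Subgroup G) (hUB : U ≤ B) (hHB : H ≤ B)
    (hUH : ∀ x ∈ U, x ∈ H → x = 1) (hBUH : ∀ b ∈ B, ∃ u ∈ U, ∃ h ∈ H, b = u * h) :
    (U.subgroupOf B).IsComplement' (H.subgroupOf B) := by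
  apply Subgroup.isComplement'_of_disjoint_and_mul_eq_univ
  · rw [Subgroup.disjoint_def]
    intro x hx hx'
    apply Subtype.ext
    exact hUH x.1 (Subgroup.mem_subgroupOf.1 hx) (Subgroup.mem_subgroupOf.1 hx')
  · rw [Set.eq_univ_iff_forall]
    intro b
    obtain ⟨u, hu, h, hh, e⟩ := hBUH b.1 b.2
    refine Set.mem_mul.2 ⟨⟨u, hUB hu⟩, Subgroup.mem_subgroupOf.2 hu, ⟨h, hHB hh⟩,
      Subgroup.mem_subgroupOf.2 hh, ?_⟩
    apply Subtype.ext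
    exact e.symm

/-- STABS [M] -/
theorem st_abstract {G : Type*} [Group G] [Fintype G] (p : ℕ) [Fact p.Prime]
    (P : Cfsg.BNPair G) (U H : Subgroup G) (hUB : U ≤ P.B) (hHB : H ≤ P.B)
    (hUH : ∀ x ∈ U, x ∈ H → x = 1) (hBUH : ∀ b ∈ P.B, ∃ u ∈ U, ∃ h ∈ H, b = u * h)
    (hU : ∀ u ∈ U, ∃ k : ℕ, u ^ (p ^ k) = 1) (hH : ¬ p ∣ Nat.card ↥H)
    (σ : ℕ → G) (r : ℕ) (hσ : ∀ i < r, σ i ∈ P.S) (hσ' : ∀ s ∈ P.S, ∃ i < r, σ i = s)
    {n₀ : G} (hn₀ : n₀ ∈ P.N) (h1 : ∀ s ∈ P.S, ¬ Pp P s n₀⁻¹) (h1' : ∀ s ∈ P.S, ¬ Pp P s n₀)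
    (h2 : ∀ m ∈ P.N, (∀ s ∈ P.S, ¬ Pp P s m) → LAsc P P.S (m * n₀))
    (c1 : ∀ h ∈ H, n₀⁻¹ * h * n₀ ∈ P.B) (c2 : ∀ β ∈ P.B, n₀⁻¹ * β * n₀ ∈ P.B → β ∈ H)
    (hfix : ∀ g : G, (∀ u ∈ U, g⁻¹ * u * g ∈ P.B) → g ∈ P.B) :
    ∃ (θ : G → ℂ) (a r' : ℕ), Cfsg.IsIrrCharacter G θ ∧ θ 1 = ((p ^ a : ℕ) : ℂ) ∧
      Nat.card G = p ^ a * r' ∧ ¬ p ∣ r' ∧
      ∀ z : G, (∀ g : G, g⁻¹ * z * g ∈ P.B) → θ z = θ 1 := by
  classical
  have hp : p.Prime := Fact.out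
  have hcompl := dbnstabs_compl P.B U H hUB hHB hUH hBUH
  -- the order of `U`
  have hUp : IsPGroup p ↥(U.subgroupOf P.B) := by
    intro u
    obtain ⟨k, hk⟩ := hU u.1.1 (Subgroup.mem_subgroupOf.1 u.2)
    refine ⟨k, ?_⟩
    apply Subtype.ext
    apply Subtype.ext
    simpa using hk
  obtain ⟨a, ha⟩ := IsPGroup.iff_card.1 hUp
  have hHcard : Nat.card ↥(H.subgroupOf P.B) = Nat.card ↥H :=
    Nat.card_congr (Subgroup.subgroupOfEquivOfLe hHB).toEquiv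
  have hGa : Nat.card G = p ^ a * (Nat.card ↥(H.subgroupOf P.B) * P.B.index) := by
    rw [← ha, ← mul_assoc, hcompl.card_mul_card, Subgroup.card_mul_index]
  have hr : ¬ p ∣ Nat.card ↥(H.subgroupOf P.B) * P.B.index := by
    intro h
    rcases (Nat.Prime.dvd_mul hp).1 h with h | h
    · rw [hHcard] at h
      exact hH h
    · exact dbnstabs_index_not_dvd p P.B U hUB hU hfix h
  let Q : Finset ℕ → Subgroup G := fun J => P.parabolic (σ '' (J : Set ℕ))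
  set θ : G → ℂ := fun g =>
    ∑ J ∈ (Finset.range r).powerset,
      (-1 : ℂ) ^ J.card * Cfsg.fixedPointCharacter (Q J) g with hθ
  have hval : ∀ b : ↥P.B, θ (b : G) =
      (Nat.card (MulAction.fixedBy (↥P.B ⧸ H.subgroupOf P.B) b) : ℂ) := fun b =>
    st_value P P.B rfl Q σ r hσ hσ' (fun J _ => rfl) hn₀ h1 h2 H
      (fun h hh _ => c1 h hh) c2 b
  have hθ1 : θ 1 = ((p ^ a : ℕ) : ℂ) := by
    have h1 := hval 1
    rw [MulAction.fixedBy_one_eq_univ, Nat.card_congr (Equiv.Set.univ _)] at h1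
    have h2 : Nat.card (↥P.B ⧸ H.subgroupOf P.B) = p ^ a := by
      rw [← Subgroup.index_eq_card, hcompl.index_eq_card, ha]
    rw [h2] at h1
    exact h1
  have hirr : Cfsg.IsIrrCharacter G θ :=
    st_irr_abstract P Q σ r hσ hσ' (fun J _ => rfl) hn₀ h1 h1' h2 θ hθ
      ⟨p ^ a, pow_pos hp.pos _, hθ1⟩
  refine ⟨θ, a, _, hirr, hθ1, hGa, hr, ?_⟩
  intro z hz
  rw [hθ]
  apply Finset.sum_congr rfl
  intro J _
  rw [fpc_of_conj_mem (Q J) z (fun g => le_sup_left (a := P.B) (hz g))]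

end Cfsg.Agent.Lib.helper14.DBN
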