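import Mathlib
import Cfsg.Agent.Lib.Helper18.OPE.Defs
import Cfsg.Agent.Lib.helper17.OPEQCTXO
import Cfsg.Agent.Lib.helper17.OPEQTYBOT
import Cfsg.Agent.Lib.helper17.OPEQTYSUM
import Cfsg.Agent.Lib.helper17.OPEQPERP
import Cfsg.Agent.Lib.helper17.ONENDPERPS
import Cfsg.Agent.Lib.helper17.ONENDSUPS

set_option autoImplicit false

/-!
# Project OPE, row QPEEL (`q_peel`) (helper17): peeling invariant planes of constant type.
-/

namespace Cfsg.Agent.Lib.Helper18.OPE

open Polynomial Module Cfsg.Agent.Lib.Helper13.S5955 Cfsg.Agent.Lib.helper15.S5972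

/-- the sum of two invariant subspaces is invariant -/
theorem opeqpeel_sup_inv {F : Type*} [Field F] {V : Type*} [AddCommGroup V] [Module F V]
    {x : Module.End F V} (U W : Submodule F V) (hU : SInv x U) (hW : SInv x W) : SInv x (U ⊔ W) := by
  intro v hv
  obtain ⟨a, ha, b, hb, rfl⟩ := Submodule.mem_sup.mp hv
  rw [map_add]
  exact Submodule.add_mem _ (Submodule.mem_sup_left (hU a ha)) (Submodule.mem_sup_right (hW b hb))

/-- the zero space -/
theorem opeqpeel_bot {F : Type*} [Field F] {V : Type*} [AddCommGroup V] [Module F V]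
    {x : Module.End F V} (B : LinearMap.BilinForm F V) :
    SInv x (⊥ : Submodule F V) ∧ SND B (⊥ : Submodule F V) := by
  constructor
  · intro v hv
    rw [Submodule.mem_bot] at hv
    rw [hv, map_zero]
    exact Submodule.zero_mem _
  · intro u hu _
    exact (Submodule.mem_bot F).mp hu

/-- QPEEL [M-L] -/
theorem q_peel {F : Type*} [Field F] [Fintype F]
    {V : Type*} [AddCommGroup V] [Module F V] [FiniteDimensional F V] {r : ℕ} (hr : 0 < r)
    {Q : QuadraticForm F V} {x : Module.End F V} (h : QCtx r Q x) (t : ℤ)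
    (hplane : ∀ N : Submodule F V, SInv x N → SND (QuadraticMap.polarBilin Q) N → N ≠ ⊥ →
      ∃ P : Submodule F V, P ≤ N ∧ SInv x P ∧ SND (QuadraticMap.polarBilin Q) P ∧ finrank F P = 2 ∧
        QTy Q P t)
    (N : Submodule F V) (hN : SInv x N) (hNnd : SND (QuadraticMap.polarBilin Q) N) :
    Even (finrank F N) ∧ QTy Q N (t ^ (finrank F N / 2)) ∧
      ∀ k : ℕ, 2 * k ≤ finrank F N → ∃ W : Submodule F V, W ≤ N ∧ SInv x W ∧
        SND (QuadraticMap.polarBilin Q) W ∧ finrank F W = 2 * k ∧ QTy Q W (t ^ k) := by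
  induction' hd : finrank F N using Nat.strong_induction_on with d ih generalizing N
  by_cases hN0 : N = ⊥
  · subst hN0
    rw [finrank_bot] at hd
    subst hd
    refine ⟨⟨0, rfl⟩, ?_, ?_⟩
    · rw [Nat.zero_div, pow_zero]
      exact (qty_bot Q 1).mpr rfl
    · intro k hk
      have hk0 : k = 0 := by omega
      subst hk0
      refine ⟨⊥, le_rfl, (opeqpeel_bot (x := x) (QuadraticMap.polarBilin Q)).1, (opeqpeel_bot (x := x) (QuadraticMap.polarBilin Q)).2, by simp, ?_⟩
      rw [pow_zero]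
      exact (qty_bot Q 1).mpr rfl
  · obtain ⟨P, hPN, hP, hPnd, hPd, hPt⟩ := hplane N hN hNnd hN0
    obtain ⟨-, hsup, hN'nd, hN'o, hN'dim⟩ := Cfsg.Agent.Lib.Helper18.ONE.nd_perp_symm
      (QuadraticMap.polarBilin Q) (opeqtysum_symm Q) N P hNnd hPN hPnd
    set N' : Submodule F V := N ⊓ LinearMap.BilinForm.orthogonal (QuadraticMap.polarBilin Q) P with hN'
    rw [hPd] at hN'dim
    have hN'inv : SInv x N' := by
      intro v hv
      exact ⟨hN v hv.1, (q_perp hr h P hP hPnd).1 v hv.2⟩
    obtain ⟨hev', hty', hlad'⟩ := ih (finrank F N') (by omega) N' hN'inv hN'nd rfl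
    have hPev : Even (finrank F P) := by rw [hPd]; exact even_two
    have hdiv : d / 2 = finrank F N' / 2 + 1 := by omega
    refine ⟨?_, ?_, ?_⟩
    · rw [← hd, ← hN'dim]
      exact hev'.add even_two
    · have h1 := qty_sum Q P N' hPnd hN'nd hN'o hPev hev' t _ hPt hty'
      rw [hsup] at h1
      rw [hdiv, pow_succ']
      exact h1
    · intro k hk
      rcases Nat.eq_zero_or_pos k with hk0 | hk0
      · subst hk0
        refine ⟨⊥, bot_le, (opeqpeel_bot (x := x) (QuadraticMap.polarBilin Q)).1, (opeqpeel_bot (x := x) (QuadraticMap.polarBilin Q)).2, by simp, ?_⟩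
        rw [pow_zero]
        exact (qty_bot Q 1).mpr rfl
      · obtain ⟨k', rfl⟩ : ∃ k', k = k' + 1 := ⟨k - 1, by omega⟩
        obtain ⟨W', hW'N', hW', hW'nd, hW'd, hW't⟩ := hlad' k' (by omega)
        have horth : SOrth (QuadraticMap.polarBilin Q) P W' := fun u hu w hw => hN'o u hu w (hW'N' hw)
        obtain ⟨hsnd, -, hsdim⟩ := Cfsg.Agent.Lib.Helper18.ONE.nd_sup_symm (QuadraticMap.polarBilin Q)
          (opeqtysum_symm Q) P W' hPnd hW'nd horth
        refine ⟨P ⊔ W', sup_le hPN (hW'N'.trans inf_le_left), opeqpeel_sup_inv P W' hP hW', hsnd,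
          by rw [hsdim, hPd, hW'd]; ring, ?_⟩
        have h1 := qty_sum Q P W' hPnd hW'nd horth hPev (by rw [hW'd]; exact even_two_mul _) t _ hPt hW't
        rw [pow_succ']
        exact h1

end Cfsg.Agent.Lib.Helper18.OPE
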