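import Mathlib
import Cfsg.Agent.Lib.Helper18.OPE.Defs
import Cfsg.Agent.Lib.helper17.OPEQCTXO
import Cfsg.Agent.Lib.helper17.OPEQTYSUM
import Cfsg.Agent.Lib.helper17.OPEQOTY
import Cfsg.Agent.Lib.Helper24.S5972SPLIT
import Cfsg.Agent.Lib.Helper19.ONETYEX

set_option autoImplicit false

/-!
# Project OPE, row QINVOL (`q_invol`) (helper17): an involutory isometry, `p` odd, fixes nondegenerate subspaces of every even
dimension `0 < m < d` of both types.
-/

namespace Cfsg.Agent.Lib.Helper18.OPE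

open Polynomial Module Cfsg.Agent.Lib.Helper13.S5955 Cfsg.Agent.Lib.helper15.S5972

/-- QINVOL [M] -/
theorem q_invol {F : Type*} [Field F] [Fintype F] {p : ℕ} [Fact p.Prime] [CharP F p]
    (hp2 : p ≠ 2) {V : Type*} [AddCommGroup V] [Module F V] [FiniteDimensional F V]
    {Q : QuadraticForm F V} {x : Module.End F V} (h : QCtx 2 Q x)
    (d m : ℕ) (hV : finrank F V = 2 * d) (hme : Even m) (hm0 : 0 < m) (hmd : m < d)
    (s : ℤ) (hs : s = 1 ∨ s = -1) : QNDt Q x m s := by
  haveI : Fact (Nat.Prime 2) := ⟨Nat.prime_two⟩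
  have h2 : (2 : F) ≠ 0 := by
    intro h0
    have h1 : ((2 : ℕ) : F) = 0 := by exact_mod_cast h0
    have h3 : p ∣ 2 := (CharP.cast_eq_zero_iff F p 2).mp h1
    exact hp2 ((Nat.prime_dvd_prime_iff_eq (Fact.out : p.Prime) Nat.prime_two).mp h3)
  have ho := qctx_octx h
  obtain ⟨horth, hcompl, hndp, hndm⟩ := o_split (r := 2) (Ne.symm hp2) ho
  have hdim : finrank F (fixS x) + finrank F (cycS 2 x) = 2 * d := by
    rw [Submodule.finrank_add_eq_of_isCompl hcompl, hV]
  have hfix : ∀ u ∈ fixS x, x u = u := by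
    intro u hu
    unfold fixS at hu
    rw [LinearMap.mem_ker] at hu
    simp only [map_sub, aeval_X, map_one, LinearMap.sub_apply, Module.End.one_apply] at hu
    exact sub_eq_zero.mp hu
  have hcyc : ∀ u ∈ cycS 2 x, x u = -u := by
    intro u hu
    unfold cycS at hu
    rw [Polynomial.cyclotomic_two, LinearMap.mem_ker] at hu
    simp only [map_add, aeval_X, map_one, LinearMap.add_apply, Module.End.one_apply] at hu
    exact eq_neg_of_add_eq_zero_left hu
  rcases le_or_gt d (finrank F (fixS x)) with hle | hlt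
  · obtain ⟨W, hWN, hWnd, hWd, hWs⟩ := Cfsg.Agent.Lib.Helper18.ONE.ty_ex h2 (QuadraticMap.polarBilin Q)
      (opeqtysum_symm Q) (fixS x) hndp m hme hm0 (by omega) s hs
    refine ⟨W, ?_, hWnd, hWd, ((q_oty h2 Q W s).1).mpr hWs⟩
    intro w hw
    rw [hfix w (hWN hw)]
    exact hw
  · obtain ⟨W, hWN, hWnd, hWd, hWs⟩ := Cfsg.Agent.Lib.Helper18.ONE.ty_ex h2 (QuadraticMap.polarBilin Q)
      (opeqtysum_symm Q) (cycS 2 x) hndm m hme hm0 (by omega) s hs
    refine ⟨W, ?_, hWnd, hWd, ((q_oty h2 Q W s).1).mpr hWs⟩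
    intro w hw
    rw [hcyc w (hWN hw)]
    exact W.neg_mem hw

end Cfsg.Agent.Lib.Helper18.OPE
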