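import Mathlib
import Cfsg.Agent.Lib.Helper19.SPD.Defs

/-!
# Project SPD (S5961), row ARITH (helper17): `cc_facts`.
-/

set_option autoImplicit false
set_option linter.unusedVariables false
set_option linter.unusedSectionVars false

namespace Cfsg.Agent.Lib.Helper19.SPD

open Polynomial

variable {F : Type*} [Field F] {d : ℕ}

/-- pure arithmetic: `i > 0`, `i ∣ r - 1`, `r ≥ 3` odd `⇒` the facts on `cc i`. -/
theorem spdarith_cc (r i : ℕ) (hr : Odd r) (hr3 : 3 ≤ r) (hi0 : 0 < i) (hdvd : i ∣ r - 1) :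
    Even (cc i) ∧ 2 ≤ cc i ∧ cc i ≤ r - 1 := by
  obtain ⟨m, hm⟩ := hr
  have hr1 : r - 1 = 2 * m := by omega
  have hmpos : 0 < m := by omega
  have hle : i ≤ r - 1 := Nat.le_of_dvd (by omega) hdvd
  unfold cc
  by_cases hev : Even i
  · rw [if_pos hev]
    refine ⟨hev, ?_, hle⟩
    obtain ⟨k, hk⟩ := hev
    omega
  · rw [if_neg hev]
    have hodd : Odd i := Nat.not_even_iff_odd.mp hev
    refine ⟨even_two_mul i, by omega, ?_⟩
    have hcop : Nat.Coprime 2 i := (Nat.coprime_two_left).mpr hodd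
    have h2 : 2 ∣ r - 1 := ⟨m, hr1⟩
    have h2i : 2 * i ∣ r - 1 := hcop.mul_dvd_of_dvd_of_dvd h2 hdvd
    exact Nat.le_of_dvd (by omega) h2i

/-- ARITH [S-M]: `c` is even, `2 ≤ c ≤ r - 1` (`i ∣ r - 1` by `ZMod.pow_card_sub_one_eq_one`; `i` odd and `r - 1` even give `2 i ∣ r - 1`; `i ≥ 1` since `r ∤ q`). -/
theorem cc_facts [Fintype F] {p q : ℕ} [Fact p.Prime] [CharP F p] (hq : Fintype.card F = q)
    (r : ℕ) [Fact r.Prime] (hr2 : r ≠ 2) (hrp : r ≠ p) (i : ℕ) (hi : i = orderOf (q : ZMod r)) :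
    0 < i ∧ Even (cc i) ∧ 2 ≤ cc i ∧ cc i ≤ r - 1 := by
  have hrpr : r.Prime := Fact.out
  have hppr : p.Prime := Fact.out
  have hodd : Odd r := hrpr.odd_of_ne_two hr2
  have hr3 : 3 ≤ r := by
    have := hrpr.two_le
    omega
  -- `q` is a power of `p`, hence nonzero mod `r`
  obtain ⟨n, hn⟩ := FiniteField.card F p
  have hqn : q = p ^ (n : ℕ) := by rw [← hq, hn.2]
  have hp0 : ((p : ℕ) : ZMod r) ≠ 0 := by
    intro h0
    rw [ZMod.natCast_eq_zero_iff] at h0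
    have := (Nat.prime_dvd_prime_iff_eq hrpr hppr).mp h0
    exact hrp this
  have hq0 : ((q : ℕ) : ZMod r) ≠ 0 := by
    rw [hqn, Nat.cast_pow]
    exact pow_ne_zero _ hp0
  have hpow : ((q : ℕ) : ZMod r) ^ (r - 1) = 1 := ZMod.pow_card_sub_one_eq_one hq0
  have hdvd : i ∣ r - 1 := by
    rw [hi]
    exact orderOf_dvd_of_pow_eq_one hpow
  have hi0 : 0 < i := by
    rw [hi]
    apply orderOf_pos_iff.mpr
    rw [isOfFinOrder_iff_pow_eq_one]
    exact ⟨r - 1, by omega, hpow⟩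
  exact ⟨hi0, spdarith_cc r i hodd hr3 hi0 hdvd⟩

end Cfsg.Agent.Lib.Helper19.SPD
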