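import Mathlib
import Cfsg.Agent.Lib.helper17.T3.DefsC
import Cfsg.Agent.Lib.helper17.T3CD8

/-!
# Project T3C (S2110 family), row D1 `ll_up`, VERBATIM (helper17): the relation `ll` upstairs, with no defect
-/

set_option autoImplicit false

namespace Cfsg.Agent.Lib.helper17.T3

open Cfsg.Agent.Lib.helper15.St2 Cfsg.Agent.Lib.helper7.Ce

variable {F K : Type*} [Field F] [Field K] [Algebra F K]

variable {C : Cub F K} {G Γ : Type*} [Group G] [Group Γ]

theorem t3cd1_cm_eq_one {a b : Γ} (h : a * b = b * a) : cm a b = 1 := cm_eq_one_iff.2 h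

section D

variable {S : SysT C G} {σ : Γ →* G} {L : ShortLift S σ}

theorem t3cd1_Y_neg_inv (M : LongLift S σ L) (j : ZMod 6) (a : F) : (M.Y j (-a))⁻¹ = M.Y j a := by
  have := M.add j (-a) a
  rw [neg_add_cancel, t3cd8_Y_zero] at this
  exact inv_eq_of_mul_eq_one_right this

/-- [D1] [M] `ll` upstairs, with NO defect.  Choose `s` with `tr s = -d`: `Y (k+2) d = cm (X (k+2) s) (X (k+3) 1)` (`M.ss1`, `k + 2 + 1 = k + 3`).  `cj (Y k c)` of it `= cm (X (k+2) s) (cj (Y k c) (X (k+3) 1))`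
(`hT.ls2`), and `cj (Y k c) (X (k+3) 1) = cm (Y k c) (X (k+3) 1) * X (k+3) 1` where `cm (Y k c) (X (k+3) 1) = P * z`, `P := X (k+1) (-(c • 1)) * Y (k+1) _ * X (k+2) _ * Y (k+2) _` the canonical lift
of the right side of `S.ls k c 1` and `σ z = 1`; the central `z` drops out of the commutator (`IsCE.cm_mul_central_right` after commuting it to the end, or `IsCE.cm_congr`).  Expand
`cm (X (k+2) s) (b₁ * b₂ * b₃ * b₄ * X (k+3) 1)` by `cm_mul_right`: `cm (X (k+2) s) b₁ = (Y (k+1) (-tr (-(c • 1) * s)))⁻¹ = Y (k+1) (c * d)` (`cm_inv_swap`, `M.ss1 (k+1)`); `X (k+2) s` commutes with `b₂ b₃ b₄`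
(`hT.ls1 (k+1)`, `hT.ss0`, `hT.sl0`); `cm (X (k+2) s) (X (k+3) 1) = Y (k+2) d`, and it commutes with `b₁ … b₄` (`hT.sl1 (k+1)`, `hT.ll1 (k+1)`, `hT.sl0 (k+2)`, `hT.ll0`).  Result:
`cj (Y k c) (Y (k+2) d) = Y (k+1) (c * d) * Y (k+2) d`. -/
theorem ll_up (hC : C.Good) (h : IsCE σ) (hT : CLT S σ) (M : LongLift S σ L) (k : ZMod 6) (c d : F) : cm (M.Y k c) (M.Y (k + 2) d) = M.Y (k + 1) (c * d) := by
  obtain ⟨s, hs⟩ := hC.tr_surj (-d)
  have e3 : k + 2 + 1 = k + 3 := by ring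
  have e2 : k + 1 + 1 = k + 2 := by ring
  -- the element D = Y (k+2) d as a commutator
  have hD : cm (L.X (k + 2) s) (L.X (k + 3) 1) = M.Y (k + 2) d := by
    have := M.ss1 (k + 2) s 1
    rw [e3, mul_one, hs, neg_neg] at this
    exact this
  set A := M.Y k c with hA
  set p := L.X (k + 2) s with hp
  set q := L.X (k + 3) 1 with hq
  set b₁ := L.X (k + 1) (-(c • (1 : K))) with hb1
  set b₂ := M.Y (k + 1) (-(c ^ 2 * C.nm 1)) with hb2
  set b₃ := L.X (k + 2) (c • C.sharp 1) with hb3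
  set b₄ := M.Y (k + 2) (c * C.nm 1) with hb4
  set D := M.Y (k + 2) d with hDdef
  -- conjugation by A
  have hAp : cj A p = p :=
    t3cd8_cj_eq_of_comm (hT.ls2 k c s A p (M.map _ _) (L.map _ _))
  have hAq : σ (cj A q) = σ (b₁ * (b₂ * (b₃ * (b₄ * q)))) := by
    rw [t3cd8_cj_eq_cm_mul, map_mul, map_cm, map_mul, map_mul, map_mul, map_mul]
    rw [hA, hq, hb1, hb2, hb3, hb4, M.map, L.map, L.map, M.map, L.map, M.map, S.ls]
    group
  have h1 : cj A D = cm p (b₁ * (b₂ * (b₃ * (b₄ * q)))) := by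
    rw [← hD, cj_cm, hAp]
    exact h.cm_congr rfl hAq
  -- commutations of p
  have pb2 : cm p b₂ = 1 := by
    apply t3cd1_cm_eq_one
    have := hT.ls1 (k + 1) (-(c ^ 2 * C.nm 1)) s b₂ p (M.map _ _) (by rw [hp, L.map, e2])
    exact this.symm
  have pb3 : cm p b₃ = 1 := by
    apply t3cd1_cm_eq_one
    exact hT.ss0 (k + 2) s (c • C.sharp 1) p b₃ (L.map _ _) (L.map _ _)
  have pb4 : cm p b₄ = 1 := by
    apply t3cd1_cm_eq_one
    exact hT.sl0 (k + 2) s (c * C.nm 1) p b₄ (L.map _ _) (M.map _ _)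
  have pb1 : cm p b₁ = M.Y (k + 1) (c * d) := by
    have h0 := M.ss1 (k + 1) (-(c • (1 : K))) s
    rw [e2] at h0
    rw [← cm_inv_swap, h0]
    have e : -(C.tr (-(c • (1 : K)) * s)) = -(c * d) := by
      have : -(c • (1 : K)) * s = c • (-s) := by
        rw [Algebra.smul_def, Algebra.smul_def]; ring
      rw [this]
      apply (algebraMap F K).injective
      have hs' : algebraMap F K (-d) = s + C.θ s + C.θ (C.θ s) := by rw [← hs, C.htr]
      simp only [map_neg, map_mul, C.htr, Algebra.smul_def, C.θF] at hs' ⊢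
      linear_combination (-(algebraMap F K c)) * hs'
    rw [e, t3cd1_Y_neg_inv]
  -- D commutes with b₁ … b₄
  have Db1 : cj b₁ D = D := by
    apply t3cd8_cj_eq_of_comm
    have := hT.sl1 (k + 1) (-(c • (1 : K))) d b₁ D (L.map _ _) (by rw [hDdef, M.map, e2])
    exact this
  have Db2 : cj b₂ D = D := by
    apply t3cd8_cj_eq_of_comm
    have := hT.ll1 (k + 1) (-(c ^ 2 * C.nm 1)) d b₂ D (M.map _ _) (by rw [hDdef, M.map, e2])
    exact this
  have Db3 : cj b₃ D = D := by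
    apply t3cd8_cj_eq_of_comm
    exact hT.sl0 (k + 2) (c • C.sharp 1) d b₃ D (L.map _ _) (M.map _ _)
  have Db4 : cj b₄ D = D := by
    apply t3cd8_cj_eq_of_comm
    exact hT.ll0 (k + 2) (c * C.nm 1) d b₄ D (M.map _ _) (M.map _ _)
  have h2 : cm p (b₁ * (b₂ * (b₃ * (b₄ * q)))) = M.Y (k + 1) (c * d) * D := by
    have cmr : ∀ a b c : Γ, cm a (b * c) = cm a b * cj b (cm a c) := fun a b c => by
      rw [cm_mul_right]; unfold cj; group
    rw [cmr, cmr p b₂, cmr p b₃, cmr p b₄, pb1, pb2, pb3, pb4, one_mul, one_mul, one_mul, hD, Db4, Db3, Db2, Db1]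
  have h3 : cj A D = M.Y (k + 1) (c * d) * D := h1.trans h2
  have : cm A D = cj A D * D⁻¹ := by unfold cm cj; group
  rw [this, h3, mul_inv_cancel_right]

end D

end Cfsg.Agent.Lib.helper17.T3
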