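import Cfsg.Agent.Lib.Helper28.TOO.Defs
import Cfsg.Agent.Lib.helper6.TSSIEG
import Cfsg.Agent.Lib.Lead.TOOWX2
import Cfsg.Agent.Lib.helper23.TOOLG3

/-!
# Project TOO (S5681), row WX3 (helper17): move `w` to any singular `w'`.
-/

set_option autoImplicit false
set_option linter.unusedVariables false
set_option linter.unusedSectionVars false

namespace Cfsg.Agent.Lib.Helper28.TOO

open Matrix
open scoped Kronecker
open Cfsg.Agent.Lib.helper7.TP Cfsg.Agent.Lib.Helper21.TS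

variable {a b : ℕ} {F : Type*} [Field F]
variable {J1 : Matrix (Fin a) (Fin a) F} {J2 : Matrix (Fin b) (Fin b) F}

/-- WX3 XIALLW [S-M]. WG6 for `J2` (`g w = c w'`), conjugate by `kB g`, then WX2 with `c⁻²`. -/
theorem w1_xi_all_w [Fintype F] (C : OCtx J1 J2) (hb : 5 ≤ b)
    (M : Subgroup (Matrix.GeneralLinearGroup (Fin a × Fin b) F)) (hT : T1 J1 J2 ≤ M)
    (ξ : Matrix (Fin a) (Fin a) F) (w w' : Fin b → F) (hw0 : w ≠ 0) (hw : bf J2 w w = 0)
    (hw'0 : w' ≠ 0) (hw' : bf J2 w' w' = 0) (h : InM M (XBm J2 ξ w)) : InM M (XBm J2 ξ w') := by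
  obtain ⟨β, hβ, c, hc0, hβw⟩ := om_trans_pt C.sym2 C.two C.det2
    (by rw [Fintype.card_fin]; omega) hw0 hw'0 hw hw'
  have hβiso : β ∈ Iso J2 := by
    obtain ⟨g, _, rfl⟩ := Subgroup.mem_map.1 hβ
    exact g.2
  have hkM : Cfsg.Agent.Lib.helper7.TO.kB a b F β ∈ M :=
    hT (Subgroup.mem_sup_right (Subgroup.mem_map_of_mem _ hβ))
  have h1 := h.conj hkM
  rw [toowx2_conjB ξ w β hβiso, hβw, toowx2_smul_w] at h1
  have h2 := w1_xi_smul C hb M hT ((c * c) • ξ) w' hw'0 hw' h1 ((c * c)⁻¹)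
  rw [smul_smul, inv_mul_cancel₀ (mul_ne_zero hc0 hc0), one_smul] at h2
  exact h2

end Cfsg.Agent.Lib.Helper28.TOO
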