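import Mathlib

set_option autoImplicit false

namespace Cfsg.Agent.Lib.helper17.A4GL

open Matrix

/-- reduction mod 2 on scalars -/
noncomputable def cr (n : ℕ) : ZMod (2 ^ (n + 1)) →+* ZMod 2 :=
  ZMod.castHom (dvd_pow_self 2 n.succ_ne_zero) (ZMod 2)

theorem cr_two (n : ℕ) : cr n 2 = 0 := by
  rw [map_ofNat]
  decide

theorem exists_nat (n : ℕ) (x : ZMod (2 ^ (n + 1))) :
    ∃ v : ℕ, (v : ZMod (2 ^ (n + 1))) = x ∧ v < 2 ^ (n + 1) := by
  have : NeZero (2 ^ (n + 1)) := ⟨by positivity⟩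
  exact ⟨x.val, ZMod.natCast_zmod_val x, ZMod.val_lt x⟩

theorem cr_eq_zero_iff (n : ℕ) (x : ZMod (2 ^ (n + 1))) : cr n x = 0 ↔ ∃ y, x = 2 * y := by
  constructor
  · intro h
    obtain ⟨v, rfl, -⟩ := exists_nat n x
    rw [map_natCast, ZMod.natCast_eq_zero_iff] at h
    obtain ⟨w, rfl⟩ := h
    refine ⟨(w : ZMod (2 ^ (n + 1))), ?_⟩
    push_cast
    rfl
  · rintro ⟨y, rfl⟩
    rw [map_mul, cr_two, zero_mul]

theorem two_pow_succ_eq_zero (n : ℕ) : (2 : ZMod (2 ^ (n + 1))) ^ (n + 1) = 0 := by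
  have := ZMod.natCast_self (2 ^ (n + 1))
  push_cast at this
  exact this

theorem cr_eq_zero_of_pow_mul (n m : ℕ) (hm : m ≤ n) (x : ZMod (2 ^ (n + 1)))
    (h : (2 : ZMod (2 ^ (n + 1))) ^ m * x = 0) : cr n x = 0 := by
  obtain ⟨v, rfl, -⟩ := exists_nat n x
  rw [map_natCast, ZMod.natCast_eq_zero_iff]
  have h2 : ((2 ^ m * v : ℕ) : ZMod (2 ^ (n + 1))) = 0 := by
    push_cast
    exact h
  rw [ZMod.natCast_eq_zero_iff] at h2
  have h3 : 2 ^ (n + 1) = 2 ^ m * 2 ^ (n + 1 - m) := by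
    rw [← pow_add]
    congr 1
    omega
  rw [h3] at h2
  have h4 : 2 ^ (n + 1 - m) ∣ v := Nat.dvd_of_mul_dvd_mul_left (by positivity) h2
  exact dvd_trans (dvd_pow_self 2 (by omega)) h4

theorem eq_zero_or_of_two_mul (n : ℕ) (x : ZMod (2 ^ (n + 1))) (h : 2 * x = 0) :
    x = 0 ∨ x = 2 ^ n := by
  obtain ⟨v, rfl, hlt⟩ := exists_nat n x
  have h2 : ((2 * v : ℕ) : ZMod (2 ^ (n + 1))) = 0 := by
    push_cast
    exact h
  rw [ZMod.natCast_eq_zero_iff, pow_succ, mul_comm] at h2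
  have h4 : 2 ^ n ∣ v := Nat.dvd_of_mul_dvd_mul_left (by positivity) h2
  obtain ⟨w, rfl⟩ := h4
  rw [pow_succ] at hlt
  have hw2 : w < 2 := by
    by_contra hcon
    push Not at hcon
    have : 2 ^ n * 2 ≤ 2 ^ n * w := Nat.mul_le_mul_left _ hcon
    omega
  interval_cases w
  · left
    simp
  · right
    simp

end Cfsg.Agent.Lib.helper17.A4GL
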