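import Mathlib
import Cfsg.Agent.Lib.helper17.A4GL1

set_option autoImplicit false

namespace Cfsg.Agent.Lib.helper17.A4GL

open Matrix

abbrev M2 (n : ℕ) := Matrix (Fin 2) (Fin 2) (ZMod (2 ^ (n + 1)))
abbrev M2F := Matrix (Fin 2) (Fin 2) (ZMod 2)

/-- reduction mod 2 on matrices -/
noncomputable def red (n : ℕ) : M2 n →+* M2F := (cr n).mapMatrix

theorem red_apply (n : ℕ) (X : M2 n) (i j : Fin 2) : red n X i j = cr n (X i j) := rfl

theorem red_smul (n : ℕ) (r : ZMod (2 ^ (n + 1))) (X : M2 n) : red n (r • X) = cr n r • red n X := by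
  ext i j
  rw [red_apply, Matrix.smul_apply, Matrix.smul_apply, red_apply, smul_eq_mul, smul_eq_mul, map_mul]

theorem red_eq_zero_iff (n : ℕ) (X : M2 n) :
    red n X = 0 ↔ ∃ Y : M2 n, X = (2 : ZMod (2 ^ (n + 1))) • Y := by
  constructor
  · intro h
    have h1 : ∀ i j, ∃ y, X i j = 2 * y := by
      intro i j
      rw [← cr_eq_zero_iff, ← red_apply, h]
      rfl
    choose Y hY using h1
    refine ⟨Matrix.of Y, ?_⟩
    ext i j
    rw [Matrix.smul_apply, smul_eq_mul, hY]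
    rfl
  · rintro ⟨Y, rfl⟩
    rw [red_smul, cr_two, zero_smul]

theorem red_eq_zero_of_pow_smul (n m : ℕ) (hm : m ≤ n) (X : M2 n)
    (h : (2 : ZMod (2 ^ (n + 1))) ^ m • X = 0) : red n X = 0 := by
  ext i j
  rw [red_apply]
  apply cr_eq_zero_of_pow_mul n m hm
  have := congrFun (congrFun h i) j
  rwa [Matrix.smul_apply, smul_eq_mul] at this

theorem two_pow_succ_smul (n : ℕ) (X : M2 n) : (2 : ZMod (2 ^ (n + 1))) ^ (n + 1) • X = 0 := by
  rw [two_pow_succ_eq_zero, zero_smul]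

end Cfsg.Agent.Lib.helper17.A4GL
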