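import Mathlib
import Cfsg.Agent.Lib.helper17.A4GL2

set_option autoImplicit false

namespace Cfsg.Agent.Lib.helper17.A4GL

open Matrix

abbrev G2 (n : ℕ) := GL (Fin 2) (ZMod (2 ^ (n + 1)))

/-- reduction mod 2 on GL₂ -/
noncomputable def rho (n : ℕ) : G2 n →* GL (Fin 2) (ZMod 2) := Units.map (red n).toMonoidHom

theorem rho_coe (n : ℕ) (a : G2 n) : ((rho n a : GL (Fin 2) (ZMod 2)) : M2F) = red n (a : M2 n) := rfl

theorem exists_of_rho_eq_one (n : ℕ) (a : G2 n) (ha : rho n a = 1) :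
    ∃ X : M2 n, (a : M2 n) = 1 + (2 : ZMod (2 ^ (n + 1))) • X := by
  have h1 : red n ((a : M2 n) - 1) = 0 := by
    rw [map_sub, map_one, ← rho_coe, ha]
    simp
  obtain ⟨X, hX⟩ := (red_eq_zero_iff n _).mp h1
  exact ⟨X, by rw [← hX]; abel⟩

theorem pow_two_pow_of_rho_eq_one (n : ℕ) (a : G2 n) (ha : rho n a = 1) : a ^ (2 ^ n) = 1 := by
  obtain ⟨X, hX⟩ := exists_of_rho_eq_one n a ha
  have key : ∀ j : ℕ, ∃ Y : M2 n, (a : M2 n) ^ (2 ^ j) = 1 + (2 : ZMod (2 ^ (n + 1))) ^ (j + 1) • Y := by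
    intro j
    induction j with
    | zero => exact ⟨X, by simpa using hX⟩
    | succ j ih =>
      obtain ⟨Y, hY⟩ := ih
      refine ⟨Y + (2 : ZMod (2 ^ (n + 1))) ^ j • (Y * Y), ?_⟩
      rw [pow_succ 2 j, pow_mul, hY, sq]
      simp only [mul_add, add_mul, one_mul, mul_one, smul_mul_assoc, mul_smul_comm, smul_smul, smul_add]
      module
  obtain ⟨Y, hY⟩ := key n
  rw [two_pow_succ_smul, add_zero] at hY
  apply Units.ext
  rw [Units.val_pow_eq_pow_val, hY]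
  rfl

end Cfsg.Agent.Lib.helper17.A4GL
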