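import Mathlib
import Cfsg.Agent.Lib.helper17.A4GL3

set_option autoImplicit false

namespace Cfsg.Agent.Lib.helper17.A4GL

open Matrix

theorem card_GL2F2 : Nat.card (GL (Fin 2) (ZMod 2)) = 6 := by
  rw [Matrix.card_GL_field]
  simp [Fin.prod_univ_two]

instance neZeroTwoPow (n : ℕ) : NeZero (2 ^ (n + 1)) := ⟨by positivity⟩

theorem card_sylow_three (n : ℕ) (S : Sylow 3 (G2 n)) : Nat.card S ≤ 3 := by
  have hinj : Function.Injective ((rho n).comp (S : Subgroup (G2 n)).subtype) := by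
    rw [injective_iff_map_eq_one]
    intro x hx
    have h1 : (x : G2 n) ^ (2 ^ n) = 1 := pow_two_pow_of_rho_eq_one n _ hx
    obtain ⟨m, hm⟩ := S.isPGroup' x
    have h2 : (x : G2 n) ^ (3 ^ m) = 1 := by
      rw [← Subgroup.coe_pow, hm]; rfl
    have h3 : orderOf (x : G2 n) ∣ Nat.gcd (2 ^ n) (3 ^ m) :=
      Nat.dvd_gcd (orderOf_dvd_of_pow_eq_one h1) (orderOf_dvd_of_pow_eq_one h2)
    have h4 : Nat.gcd (2 ^ n) (3 ^ m) = 1 := by
      apply Nat.Coprime.pow
      norm_num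
    rw [h4, Nat.dvd_one, orderOf_eq_one_iff] at h3
    exact Subtype.ext h3
  have hdvd : Nat.card S ∣ 6 := by
    have := Subgroup.card_dvd_of_injective _ hinj
    rwa [card_GL2F2] at this
  obtain ⟨m, hm⟩ := IsPGroup.exists_card_eq S.isPGroup'
  rw [hm] at hdvd ⊢
  by_contra hcon
  push Not at hcon
  have hm2 : 2 ≤ m := by
    by_contra h
    push Not at h
    interval_cases m <;> omega
  have : 3 ^ 2 ∣ 6 := dvd_trans (pow_dvd_pow 3 hm2) hdvd
  omega

theorem eq_sylow_of_card_three (n : ℕ) (P : Subgroup (G2 n)) (hP : Nat.card P = 3) :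
    ∃ S : Sylow 3 (G2 n), (S : Subgroup (G2 n)) = P := by
  have hp : IsPGroup 3 P := IsPGroup.of_card (n := 1) (by rw [hP, pow_one])
  obtain ⟨S, hS⟩ := hp.exists_le_sylow
  refine ⟨S, ?_⟩
  symm
  apply Subgroup.eq_of_le_of_card_ge hS
  rw [hP]
  exact card_sylow_three n S

theorem conj_of_card_three (n : ℕ) (P P' : Subgroup (G2 n)) (hP : Nat.card P = 3)
    (hP' : Nat.card P' = 3) : ∃ g : G2 n, P' = P.map (MulAut.conj g).toMonoidHom := by
  obtain ⟨S, hS⟩ := eq_sylow_of_card_three n P hP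
  obtain ⟨S', hS'⟩ := eq_sylow_of_card_three n P' hP'
  obtain ⟨g, hg⟩ := MulAction.exists_smul_eq (G2 n) S S'
  refine ⟨g, ?_⟩
  rw [← hS, ← hS', ← hg]
  rfl

end Cfsg.Agent.Lib.helper17.A4GL
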