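import Mathlib
import Cfsg.Agent.Lib.helper17.A4GL4

set_option autoImplicit false

namespace Cfsg.Agent.Lib.helper17.A4GL

open Matrix

abbrev A4 := ↥(alternatingGroup (Fin 4))

set_option maxRecDepth 100000 in
theorem a4_rel : ∀ γ α : A4, γ ^ 3 = 1 → γ ≠ 1 → α ^ 2 = 1 →
    α * (γ * α * γ⁻¹) = (γ * α * γ⁻¹) * α ∧ α * (γ * α * γ⁻¹) = γ⁻¹ * α * γ := by decide

set_option maxRecDepth 100000 in
theorem a4_decomp : ∀ γ ξ : A4, γ ^ 3 = 1 → γ ≠ 1 →
    ∃ ν : A4, ν ^ 2 = 1 ∧ (ξ = ν ∨ ξ = ν * γ ∨ ξ = ν * γ * γ) := by decide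

set_option maxRecDepth 100000 in
theorem a4_card_inv : Fintype.card {α : A4 // α ^ 2 = 1} = 4 := by decide

/-- the companion matrix of `x² + x + 1` -/
def C0 (n : ℕ) : M2 n := !![0, -1; 1, -1]

/-- its inverse -/
def C0' (n : ℕ) : M2 n := !![-1, 1; -1, 0]

theorem C0_mul_C0' (n : ℕ) : C0 n * C0' n = 1 := by
  ext i j
  fin_cases i <;> fin_cases j <;> simp [C0, C0', Matrix.mul_apply, Fin.sum_univ_two]

theorem C0'_mul_C0 (n : ℕ) : C0' n * C0 n = 1 := by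
  ext i j
  fin_cases i <;> fin_cases j <;> simp [C0, C0', Matrix.mul_apply, Fin.sum_univ_two]

theorem C0_mul_C0 (n : ℕ) : C0 n * C0 n = C0' n := by
  ext i j
  fin_cases i <;> fin_cases j <;> simp [C0, C0', Matrix.mul_apply, Fin.sum_univ_two]

/-- the element of order 3 -/
def c0 (n : ℕ) : G2 n := ⟨C0 n, C0' n, C0_mul_C0' n, C0'_mul_C0 n⟩

theorem c0_coe (n : ℕ) : ((c0 n : G2 n) : M2 n) = C0 n := rfl

theorem c0_inv_coe (n : ℕ) : (((c0 n)⁻¹ : G2 n) : M2 n) = C0' n := rfl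

theorem c0_pow_three (n : ℕ) : c0 n ^ 3 = 1 := by
  apply Units.ext
  rw [Units.val_pow_eq_pow_val, c0_coe, pow_three', C0_mul_C0, C0'_mul_C0]
  rfl

/-- mod 2 versions -/
def Cb : M2F := !![0, 1; 1, 1]
def Cb' : M2F := !![1, 1; 1, 0]

theorem red_C0 (n : ℕ) : red n (C0 n) = Cb := by
  ext i j
  rw [red_apply]
  fin_cases i <;> fin_cases j <;> simp [C0, Cb]

theorem red_C0' (n : ℕ) : red n (C0' n) = Cb' := by
  ext i j
  rw [red_apply]
  fin_cases i <;> fin_cases j <;> simp [C0', Cb']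

theorem c0_ne_one (n : ℕ) : c0 n ≠ 1 := by
  intro h
  have h1 : red n (C0 n) = 1 := by
    rw [← c0_coe, h]
    simp
  rw [red_C0] at h1
  revert h1
  decide

theorem orderOf_c0 (n : ℕ) : orderOf (c0 n) = 3 :=
  orderOf_eq_prime (c0_pow_three n) (c0_ne_one n)

theorem dec1 : ∀ p q r s : ZMod 2,
    (!![p, q; r, s] : M2F) * !![p, q; r, s] = 1 →
    (!![p, q; r, s] : M2F) * (Cb * !![p, q; r, s] * Cb') = (Cb * !![p, q; r, s] * Cb') * !![p, q; r, s] →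
    (!![p, q; r, s] : M2F) = 1 := by decide

theorem dec2 : ∀ ε p q r s : ZMod 2,
    (!![p, q; r, s] : M2F) = ε • ((!![p, q; r, s] : M2F) * !![p, q; r, s]) →
    Cb' * (!![p, q; r, s] : M2F) * Cb = !![p, q; r, s] + Cb * !![p, q; r, s] * Cb' →
    (!![p, q; r, s] : M2F) = 0 := by decide

end Cfsg.Agent.Lib.helper17.A4GL
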