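import Mathlib
import Cfsg.Agent.Lib.helper17.A4GL5

set_option autoImplicit false

namespace Cfsg.Agent.Lib.helper17.A4GL

open Matrix

/-- final entry computation -/
theorem form_of_rel (n : ℕ) (N : M2 n) (h2 : (2 : ZMod (2 ^ (n + 1))) • N = 0)
    (hrel : C0' n * N * C0 n = N + C0 n * N * C0' n) :
    ∃ p q : ZMod (2 ^ (n + 1)), 2 * p = 0 ∧ 2 * q = 0 ∧ 1 + N = !![1 + p, q; p + q, 1 + p] := by
  have hN : N = !![N 0 0, N 0 1; N 1 0, N 1 1] := Matrix.eta_fin_two N
  have e00 : 2 * N 0 0 = 0 := by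
    have := congrFun (congrFun h2 0) 0
    rwa [Matrix.smul_apply, smul_eq_mul] at this
  have e01 : 2 * N 0 1 = 0 := by
    have := congrFun (congrFun h2 0) 1
    rwa [Matrix.smul_apply, smul_eq_mul] at this
  have e10 : 2 * N 1 0 = 0 := by
    have := congrFun (congrFun h2 1) 0
    rwa [Matrix.smul_apply, smul_eq_mul] at this
  have e11 : 2 * N 1 1 = 0 := by
    have := congrFun (congrFun h2 1) 1
    rwa [Matrix.smul_apply, smul_eq_mul] at this
  generalize N 0 0 = p at *
  generalize N 0 1 = q at *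
  generalize N 1 0 = r at *
  generalize N 1 1 = s at *
  subst hN
  have r01 := congrFun (congrFun hrel 0) 1
  have r11 := congrFun (congrFun hrel 1) 1
  simp [C0, C0', Matrix.mul_apply, Fin.sum_univ_two] at r01 r11
  refine ⟨p, q, e00, e01, ?_⟩
  have hs : s = p := by linear_combination (-1 : ZMod (2 ^ (n + 1))) * r01
  have hr : r = p + q := by linear_combination r11 - e01 + hs
  rw [hs, hr]
  ext i j
  fin_cases i <;> fin_cases j <;> simp

end Cfsg.Agent.Lib.helper17.A4GL
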