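import Mathlib
import Cfsg.Agent.Lib.helper17.A4GL6

set_option autoImplicit false

namespace Cfsg.Agent.Lib.helper17.A4GL

open Matrix

section
variable (n : ℕ) (N : M2 n)
  (r1 : N * N = -((2 : ZMod (2 ^ (n + 1))) • N))
  (r2 : C0' n * N * C0 n = N + C0 n * N * C0' n + N * (C0 n * N * C0' n))

include r1 r2 in
theorem step (i : ℕ) (hi : i + 2 ≤ n) (X : M2 n)
    (hX : N = (2 : ZMod (2 ^ (n + 1))) ^ (i + 1) • X) :
    ∃ Z : M2 n, N = (2 : ZMod (2 ^ (n + 1))) ^ (i + 2) • Z := by
  have h1 : (2 : ZMod (2 ^ (n + 1))) ^ (i + 2) • ((2 : ZMod (2 ^ (n + 1))) ^ i • (X * X) + X) = 0 := by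
    have := r1
    rw [hX] at this
    simp only [smul_mul_assoc, mul_smul_comm, smul_smul] at this
    rw [smul_add, smul_smul]
    have e1 : (2 : ZMod (2 ^ (n + 1))) ^ (i + 2) * 2 ^ i = 2 ^ (i + 1) * 2 ^ (i + 1) := by ring
    have e2 : (2 : ZMod (2 ^ (n + 1))) ^ (i + 2) = 2 * 2 ^ (i + 1) := by ring
    rw [e1, this, e2]
    simp
  have h2 : (2 : ZMod (2 ^ (n + 1))) ^ (i + 1) •
      (C0' n * X * C0 n - X - C0 n * X * C0' n - (2 : ZMod (2 ^ (n + 1))) ^ (i + 1) • (X * (C0 n * X * C0' n))) = 0 := by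
    have := r2
    rw [hX] at this
    simp only [smul_mul_assoc, mul_smul_comm, smul_smul] at this
    simp only [smul_sub, smul_smul]
    rw [this]
    abel
  have h1' := red_eq_zero_of_pow_smul n (i + 2) hi _ h1
  have h2' := red_eq_zero_of_pow_smul n (i + 1) (by omega) _ h2
  rw [map_add, red_smul, map_mul] at h1'
  rw [map_sub, map_sub, map_sub, red_smul, map_mul, map_mul, map_mul, map_mul, map_mul, map_mul,
    red_C0, red_C0', map_pow, cr_two, zero_pow (by omega), zero_smul, sub_zero] at h2'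
  have h3 : red n X = 0 := by
    have hx : red n X = !![red n X 0 0, red n X 0 1; red n X 1 0, red n X 1 1] :=
      Matrix.eta_fin_two _
    generalize red n X = x at *
    rw [hx]
    apply dec2 (cr n (2 ^ i)) (x 0 0) (x 0 1) (x 1 0) (x 1 1)
    · rw [← hx]
      have : x = -(cr n (2 ^ i) • (x * x)) := by
        rw [eq_neg_iff_add_eq_zero, add_comm]
        exact h1'
      exact this.trans (ZModModule.neg_eq_self _)
    · rw [← hx]
      rw [sub_sub, sub_eq_zero] at h2'
      exact h2'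
  obtain ⟨Z, hZ⟩ := (red_eq_zero_iff n X).mp h3
  refine ⟨Z, ?_⟩
  rw [hX, hZ, smul_smul]
  congr 1
  ring

end

end Cfsg.Agent.Lib.helper17.A4GL

namespace Cfsg.Agent.Lib.helper17.A4GL

open Matrix

theorem form_of_A (n : ℕ) (A : M2 n) (hAA : A * A = 1)
    (hcomm : A * (C0 n * A * C0' n) = (C0 n * A * C0' n) * A)
    (hprod : A * (C0 n * A * C0' n) = C0' n * A * C0 n) :
    ∃ p q : ZMod (2 ^ (n + 1)), 2 * p = 0 ∧ 2 * q = 0 ∧ A = !![1 + p, q; p + q, 1 + p] := by
  obtain ⟨N, hA⟩ : ∃ N : M2 n, A = 1 + N := ⟨A - 1, by abel⟩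
  subst hA
  have r1 : N * N = -((2 : ZMod (2 ^ (n + 1))) • N) := by
    have h : 1 + N + (N + N * N) = 1 := by simpa [mul_add, add_mul] using hAA
    rw [two_smul, eq_neg_iff_add_eq_zero]
    have h' : 1 + (N * N + (N + N)) = 1 + 0 := by
      rw [add_zero]
      exact Eq.trans (by abel) h
    exact add_left_cancel h'
  have hC1 : C0 n * (1 + N) * C0' n = 1 + C0 n * N * C0' n := by
    rw [mul_add, add_mul, mul_one, C0_mul_C0']
  have hC2 : C0' n * (1 + N) * C0 n = 1 + C0' n * N * C0 n := by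
    rw [mul_add, add_mul, mul_one, C0'_mul_C0]
  have r2 : C0' n * N * C0 n = N + C0 n * N * C0' n + N * (C0 n * N * C0' n) := by
    rw [hC1, hC2] at hprod
    have h : 1 + (N + C0 n * N * C0' n + N * (C0 n * N * C0' n)) = 1 + C0' n * N * C0 n := by
      rw [← hprod, add_mul, one_mul, mul_add, mul_one]
      abel
    exact (add_left_cancel h).symm
  -- base
  have hbase : red n N = 0 := by
    have hx : red n (1 + N) = !![red n (1 + N) 0 0, red n (1 + N) 0 1; red n (1 + N) 1 0, red n (1 + N) 1 1] :=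
      Matrix.eta_fin_two _
    have e1 : red n (1 + N) * red n (1 + N) = 1 := by rw [← map_mul, hAA, map_one]
    have e2 : red n (1 + N) * (Cb * red n (1 + N) * Cb') = (Cb * red n (1 + N) * Cb') * red n (1 + N) := by
      rw [← red_C0 n, ← red_C0' n, ← map_mul, ← map_mul, ← map_mul, hcomm, map_mul]
    have e3 : red n (1 + N) = 1 := by
      generalize red n (1 + N) = x at *
      rw [hx]
      apply dec1 (x 0 0) (x 0 1) (x 1 0) (x 1 1)
      · rw [← hx]; exact e1
      · rw [← hx]; exact e2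
    rw [map_add, map_one] at e3
    exact add_left_cancel (a := (1 : M2F)) (by rw [e3, add_zero])
  obtain ⟨X₁, hX₁⟩ := (red_eq_zero_iff n N).mp hbase
  have hall : ∀ i : ℕ, i + 1 ≤ n → ∃ X : M2 n, N = (2 : ZMod (2 ^ (n + 1))) ^ (i + 1) • X := by
    intro i
    induction i with
    | zero => intro _; exact ⟨X₁, by simpa using hX₁⟩
    | succ i ih =>
      intro hi
      obtain ⟨X, hX⟩ := ih (by omega)
      exact step n N r1 r2 i hi X hX
  have h2N : (2 : ZMod (2 ^ (n + 1))) • N = 0 := by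
    rcases Nat.eq_zero_or_pos n with hn | hn
    · subst hn
      have := two_pow_succ_smul 0 N
      simpa using this
    · obtain ⟨X, hX⟩ := hall (n - 1) (by omega)
      have e : n - 1 + 1 = n := by omega
      rw [e] at hX
      rw [hX, smul_smul, ← pow_succ']
      exact two_pow_succ_smul n X
  have hNN : N * (C0 n * N * C0' n) = 0 := by
    have : N * (C0 n * N * C0' n) = X₁ * (C0 n * ((2 : ZMod (2 ^ (n + 1))) • N) * C0' n) := by
      calc N * (C0 n * N * C0' n)
          = ((2 : ZMod (2 ^ (n + 1))) • X₁) * (C0 n * N * C0' n) := by rw [← hX₁]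
        _ = _ := by simp only [smul_mul_assoc, mul_smul_comm]
    rw [this, h2N, mul_zero, zero_mul, mul_zero]
  rw [hNN, add_zero] at r2
  exact form_of_rel n N h2N r2

end Cfsg.Agent.Lib.helper17.A4GL
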