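import Mathlib
import Cfsg.Agent.Lib.helper17.A4GL7
import Cfsg.Agent.Lib.helper17.Conj

set_option autoImplicit false

namespace Cfsg.Agent.Lib.helper17.A4GL

open Matrix

theorem form_of_mem (n : ℕ) (H : Subgroup (G2 n)) (e : H ≃* A4) (hc : c0 n ∈ H)
    (a : G2 n) (ha : a ∈ H) (ha2 : a ^ 2 = 1) :
    ∃ p q : ZMod (2 ^ (n + 1)), 2 * p = 0 ∧ 2 * q = 0 ∧ (a : M2 n) = !![1 + p, q; p + q, 1 + p] := by
  have hγ3 : (e ⟨c0 n, hc⟩) ^ 3 = 1 := by
    rw [← map_pow]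
    have : (⟨c0 n, hc⟩ : H) ^ 3 = 1 := Subtype.ext (c0_pow_three n)
    rw [this, map_one]
  have hγ1 : e ⟨c0 n, hc⟩ ≠ 1 := by
    intro h
    have : (⟨c0 n, hc⟩ : H) = 1 := e.injective (by rw [h, map_one])
    exact c0_ne_one n (congrArg Subtype.val this)
  have hα : (e ⟨a, ha⟩) ^ 2 = 1 := by
    rw [← map_pow]
    have : (⟨a, ha⟩ : H) ^ 2 = 1 := Subtype.ext ha2
    rw [this, map_one]
  obtain ⟨h1, h2⟩ := a4_rel _ _ hγ3 hγ1 hα
  have k1 : (⟨a, ha⟩ : H) * (⟨c0 n, hc⟩ * ⟨a, ha⟩ * ⟨c0 n, hc⟩⁻¹) =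
      (⟨c0 n, hc⟩ * ⟨a, ha⟩ * ⟨c0 n, hc⟩⁻¹) * ⟨a, ha⟩ := by
    apply e.injective
    simpa only [map_mul, map_inv] using h1
  have k2 : (⟨a, ha⟩ : H) * (⟨c0 n, hc⟩ * ⟨a, ha⟩ * ⟨c0 n, hc⟩⁻¹) =
      ⟨c0 n, hc⟩⁻¹ * ⟨a, ha⟩ * ⟨c0 n, hc⟩ := by
    apply e.injective
    simpa only [map_mul, map_inv] using h2
  have k1' : a * (c0 n * a * (c0 n)⁻¹) = (c0 n * a * (c0 n)⁻¹) * a := congrArg Subtype.val k1
  have k2' : a * (c0 n * a * (c0 n)⁻¹) = (c0 n)⁻¹ * a * c0 n := congrArg Subtype.val k2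
  have k1'' := congrArg (Units.val) k1'
  have k2'' := congrArg (Units.val) k2'
  simp only [Units.val_mul, c0_coe, c0_inv_coe] at k1'' k2''
  have haa : (a : M2 n) * (a : M2 n) = 1 := by
    rw [← Units.val_mul, ← sq, ha2]
    rfl
  exact form_of_A n _ haa k1'' k2''

/-- the explicit four-group (as matrices) -/
def V0 (n : ℕ) : Set (M2 n) :=
  {M | ∃ p q : ZMod (2 ^ (n + 1)), 2 * p = 0 ∧ 2 * q = 0 ∧ M = !![1 + p, q; p + q, 1 + p]}

theorem V0_ncard_le (n : ℕ) : (V0 n).ncard ≤ 4 := by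
  let t : Bool → ZMod (2 ^ (n + 1)) := fun b => if b then 2 ^ n else 0
  let f : Bool × Bool → M2 n := fun b => !![1 + t b.1, t b.2; t b.1 + t b.2, 1 + t b.1]
  have hsub : V0 n ⊆ Set.range f := by
    rintro M ⟨p, q, hp, hq, rfl⟩
    have hp' : ∃ b, t b = p := by
      rcases eq_zero_or_of_two_mul n p hp with h | h
      · exact ⟨false, h.symm⟩
      · exact ⟨true, h.symm⟩
    have hq' : ∃ b, t b = q := by
      rcases eq_zero_or_of_two_mul n q hq with h | h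
      · exact ⟨false, h.symm⟩
      · exact ⟨true, h.symm⟩
    obtain ⟨b₁, rfl⟩ := hp'
    obtain ⟨b₂, rfl⟩ := hq'
    exact ⟨(b₁, b₂), rfl⟩
  calc (V0 n).ncard ≤ (Set.range f).ncard := Set.ncard_le_ncard hsub (Set.toFinite _)
    _ = (f '' Set.univ).ncard := by rw [Set.image_univ]
    _ ≤ (Set.univ : Set (Bool × Bool)).ncard := Set.ncard_image_le (Set.toFinite _)
    _ = 4 := by
      rw [Set.ncard_univ, Nat.card_eq_fintype_card]
      rfl

/-- involutions of `H` as matrices -/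
def invs (n : ℕ) (H : Subgroup (G2 n)) : Set (M2 n) :=
  {M | ∃ a : G2 n, a ∈ H ∧ a ^ 2 = 1 ∧ (a : M2 n) = M}

theorem invs_eq_V0 (n : ℕ) (H : Subgroup (G2 n)) (e : H ≃* A4) (hc : c0 n ∈ H) :
    invs n H = V0 n := by
  have hsub : invs n H ⊆ V0 n := by
    rintro M ⟨a, ha, ha2, rfl⟩
    exact form_of_mem n H e hc a ha ha2
  apply Set.eq_of_subset_of_ncard_le hsub _ (Set.toFinite _)
  let g : {α : A4 // α ^ 2 = 1} → M2 n := fun α => (((e.symm α.1 : H) : G2 n) : M2 n)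
  have hg : Function.Injective g := by
    intro α β h
    have h1 : ((e.symm α.1 : H) : G2 n) = (e.symm β.1 : H) := Units.ext h
    exact Subtype.ext (e.symm.injective (Subtype.ext h1))
  have hrange : Set.range g ⊆ invs n H := by
    rintro M ⟨α, rfl⟩
    refine ⟨((e.symm α.1 : H) : G2 n), (e.symm α.1).2, ?_, rfl⟩
    rw [← Subgroup.coe_pow, ← map_pow, α.2, map_one]
    rfl
  calc (V0 n).ncard ≤ 4 := V0_ncard_le n
    _ = Nat.card {α : A4 // α ^ 2 = 1} := by rw [Nat.card_eq_fintype_card, a4_card_inv]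
    _ = (Set.range g).ncard := by
      rw [← Set.image_univ, Set.ncard_image_of_injective _ hg, Set.ncard_univ]
    _ ≤ (invs n H).ncard := Set.ncard_le_ncard hrange (Set.toFinite _)

theorem le_of_c0_mem (n : ℕ) (H H' : Subgroup (G2 n)) (e : H ≃* A4) (e' : H' ≃* A4)
    (hc : c0 n ∈ H) (hc' : c0 n ∈ H') : H ≤ H' := by
  intro x hx
  have hγ3 : (e ⟨c0 n, hc⟩) ^ 3 = 1 := by
    rw [← map_pow]
    have : (⟨c0 n, hc⟩ : H) ^ 3 = 1 := Subtype.ext (c0_pow_three n)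
    rw [this, map_one]
  have hγ1 : e ⟨c0 n, hc⟩ ≠ 1 := by
    intro h
    have : (⟨c0 n, hc⟩ : H) = 1 := e.injective (by rw [h, map_one])
    exact c0_ne_one n (congrArg Subtype.val this)
  obtain ⟨ν, hν2, hν⟩ := a4_decomp (e ⟨c0 n, hc⟩) (e ⟨x, hx⟩) hγ3 hγ1
  have hv2 : ((e.symm ν : H) : G2 n) ^ 2 = 1 := by
    rw [← Subgroup.coe_pow, ← map_pow, hν2, map_one]
    rfl
  have hvH' : ((e.symm ν : H) : G2 n) ∈ H' := by
    have hm : (((e.symm ν : H) : G2 n) : M2 n) ∈ invs n H :=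
      ⟨_, (e.symm ν).2, hv2, rfl⟩
    rw [invs_eq_V0 n H e hc, ← invs_eq_V0 n H' e' hc'] at hm
    obtain ⟨a, ha, -, haM⟩ := hm
    have : a = ((e.symm ν : H) : G2 n) := Units.ext haM
    rwa [← this]
  have hxe : (⟨x, hx⟩ : H) = e.symm ν ∨ (⟨x, hx⟩ : H) = e.symm ν * ⟨c0 n, hc⟩ ∨
      (⟨x, hx⟩ : H) = e.symm ν * ⟨c0 n, hc⟩ * ⟨c0 n, hc⟩ := by
    rcases hν with h | h | h
    · left
      apply e.injective
      rw [h, e.apply_symm_apply]
    · right; left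
      apply e.injective
      rw [h, map_mul, e.apply_symm_apply]
    · right; right
      apply e.injective
      rw [h, map_mul, map_mul, e.apply_symm_apply]
  rcases hxe with h | h | h
  · have : x = ((e.symm ν : H) : G2 n) := congrArg Subtype.val h
    rw [this]; exact hvH'
  · have : x = ((e.symm ν : H) : G2 n) * c0 n := congrArg Subtype.val h
    rw [this]; exact mul_mem hvH' hc'
  · have : x = ((e.symm ν : H) : G2 n) * c0 n * c0 n := congrArg Subtype.val h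
    rw [this]; exact mul_mem (mul_mem hvH' hc') hc'

theorem eq_of_c0_mem (n : ℕ) (H H' : Subgroup (G2 n)) (e : H ≃* A4) (e' : H' ≃* A4)
    (hc : c0 n ∈ H) (hc' : c0 n ∈ H') : H = H' :=
  le_antisymm (le_of_c0_mem n H H' e e' hc hc') (le_of_c0_mem n H' H e' e hc' hc)

set_option maxRecDepth 100000 in
theorem a4_card : Fintype.card A4 = 12 := by decide

theorem exists_cj_c0_mem (n : ℕ) (H : Subgroup (G2 n)) (e : H ≃* A4) :
    ∃ g : G2 n, c0 n ∈ cj g H := by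
  have hcard : Nat.card H = 12 := by
    rw [Nat.card_congr e.toEquiv, Nat.card_eq_fintype_card, a4_card]
  have : Fact (Nat.Prime 3) := ⟨by norm_num⟩
  obtain ⟨x, hx⟩ := exists_prime_orderOf_dvd_card' (G := H) 3 (by rw [hcard]; norm_num)
  have hP : Nat.card (Subgroup.zpowers (x : G2 n)) = 3 := by
    rw [Nat.card_zpowers, Subgroup.orderOf_coe, hx]
  have hP0 : Nat.card (Subgroup.zpowers (c0 n)) = 3 := by
    rw [Nat.card_zpowers, orderOf_c0]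
  obtain ⟨g, hg⟩ := conj_of_card_three n _ _ hP hP0
  refine ⟨g, ?_⟩
  have h1 : c0 n ∈ cj g (Subgroup.zpowers (x : G2 n)) := by
    show c0 n ∈ (Subgroup.zpowers (x : G2 n)).map (MulAut.conj g).toMonoidHom
    rw [← hg]
    exact Subgroup.mem_zpowers _
  have h2 : Subgroup.zpowers (x : G2 n) ≤ H := by
    rw [Subgroup.zpowers_le]
    exact x.2
  exact cj_mono h2 h1

theorem main (n : ℕ) (H₁ H₂ : Subgroup (G2 n)) (h₁ : Nonempty (H₁ ≃* A4))
    (h₂ : Nonempty (H₂ ≃* A4)) : ∃ g : G2 n, H₂ = H₁.map (MulAut.conj g).toMonoidHom := by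
  obtain ⟨e₁⟩ := h₁
  obtain ⟨e₂⟩ := h₂
  obtain ⟨g₁, hg₁⟩ := exists_cj_c0_mem n H₁ e₁
  obtain ⟨g₂, hg₂⟩ := exists_cj_c0_mem n H₂ e₂
  have f₁ : cj g₁ H₁ ≃* A4 :=
    (H₁.equivMapOfInjective _ (MulAut.conj g₁).injective).symm.trans e₁
  have f₂ : cj g₂ H₂ ≃* A4 :=
    (H₂.equivMapOfInjective _ (MulAut.conj g₂).injective).symm.trans e₂
  have heq : cj g₂ H₂ = cj g₁ H₁ := eq_of_c0_mem n _ _ f₂ f₁ hg₂ hg₁
  refine ⟨g₂⁻¹ * g₁, ?_⟩
  show H₂ = cj (g₂⁻¹ * g₁) H₁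
  rw [cj_mul, ← heq, cj_inv_cj]

end Cfsg.Agent.Lib.helper17.A4GL
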