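import Mathlib
import Cfsg.Agent.Lib.helper8.A7R.Defs
import Cfsg.Agent.Lib.helper8.SylowBasic
import Cfsg.Agent.Lib.helper8.SylowConj
import Cfsg.Agent.Lib.helper8.SubgroupCard
import Cfsg.Agent.Lib.helper8.CountOrder

set_option autoImplicit false

/-!
# A7R row B18 (`two_involutions`): a Sylow 2-subgroup of a simple group of order 2520 (without subgroups of index 7)
has at least two involutions.  Also generic tools for B21.
-/

namespace Cfsg.Agent.Lib.helper8.A7R

open Subgroup Cfsg.Agent.Lib.helper8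

universe u

variable {G : Type u} [Group G]

/-- a group of order 40 has a unique subgroup of order 5 -/
theorem a7rb18_unique5 {K : Type*} [Group K] [Finite K] (hK : Nat.card K = 40) (y y' : K)
    (hy : orderOf y = 5) (hy' : orderOf y' = 5) : y' ∈ zpowers y := by
  have : Fact (Nat.Prime 5) := ⟨by norm_num⟩
  have hG : Nat.card K = 5 ^ 1 * 8 := by rw [hK]; norm_num
  have hm : ¬ 5 ∣ 8 := by norm_num
  have h1 := h8_nsylow_mem 5 1 8 hG hm
  have h2 : Nat.card (Sylow 5 K) = 1 := by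
    have : (Nat.divisors 8).filter (fun d => d % 5 = 1) = {1} := by decide
    rw [this] at h1
    exact Finset.mem_singleton.mp h1
  have : Subsingleton (Sylow 5 K) := (Nat.card_eq_one_iff_unique.mp h2).1
  have hp : ∀ w : K, orderOf w = 5 → IsPGroup 5 (zpowers w) := by
    intro w hw
    apply IsPGroup.of_card (n := 1)
    rw [Nat.card_zpowers, hw, pow_one]
  obtain ⟨Q, hQ⟩ := (hp y hy).exists_le_sylow
  obtain ⟨Q', hQ'⟩ := (hp y' hy').exists_le_sylow
  have hQQ : Q' = Q := Subsingleton.elim _ _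
  have hcard : Nat.card (Q : Subgroup K) = 5 := by
    have := h8_sylow_card 5 1 8 hG hm Q
    simpa using this
  have hzy : zpowers y = (Q : Subgroup K) := by
    apply h8_zpowers_eq_of_prime_card 5 (by norm_num) _ hcard y (hQ (mem_zpowers y))
    intro h
    rw [h, orderOf_one] at hy
    omega
  rw [hzy, ← hQQ]
  exact hQ' (mem_zpowers y')

/-- a subgroup of order 40 has a unique subgroup of order 5 -/
theorem a7rb18_unique5_sub (M : Subgroup G) (hM : Nat.card M = 40) (y y' : G) (hyM : y ∈ M)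
    (hy'M : y' ∈ M) (hy : orderOf y = 5) (hy' : orderOf y' = 5) : y' ∈ zpowers y := by
  have : Finite M := Nat.finite_of_card_ne_zero (by rw [hM]; norm_num)
  have h := a7rb18_unique5 hM (⟨y, hyM⟩ : M) ⟨y', hy'M⟩
    (by rw [← Subgroup.orderOf_coe]; exact hy) (by rw [← Subgroup.orderOf_coe]; exact hy')
  obtain ⟨k, hk⟩ := mem_zpowers_iff.mp h
  refine mem_zpowers_iff.mpr ⟨k, ?_⟩
  have := congrArg Subtype.val hk
  simpa using this

/-- a subgroup whose elements conjugate `y` into `⟨y⟩` normalizes `⟨y⟩` -/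
theorem a7rb18_le_normalizer (H : Subgroup G) (y : G) (h : ∀ g ∈ H, g * y * g⁻¹ ∈ zpowers y) :
    H ≤ normalizer (zpowers y : Set G) := by
  have key : ∀ g ∈ H, ∀ n ∈ zpowers y, g * n * g⁻¹ ∈ zpowers y := by
    intro g hg n hn
    obtain ⟨k, rfl⟩ := mem_zpowers_iff.mp hn
    have : g * y ^ k * g⁻¹ = (g * y * g⁻¹) ^ k := by
      rw [conj_zpow]
    rw [this]
    exact zpow_mem (h g hg) k
  intro g hg
  rw [mem_normalizer_iff]
  intro n
  constructor
  · exact key g hg n
  · intro hn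
    have := key g⁻¹ (inv_mem hg) _ hn
    simpa [mul_assoc] using this

/-- the normalizer of a subgroup of order 5 has order 20 -/
theorem a7rb18_norm5 [Finite G] (hcard : Nat.card G = 2520) (h5 : Nat.card (Sylow 5 G) = 126) (y : G)
    (hy : orderOf y = 5) : Nat.card (normalizer (zpowers y : Set G)) = 20 := by
  have : Fact (Nat.Prime 5) := ⟨by norm_num⟩
  have hf : (Nat.card G).factorization 5 = 1 :=
    h8_factorization_of_eq 5 1 504 _ (by norm_num) (by rw [hcard]; norm_num) (by norm_num)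
  let P : Sylow 5 G := Sylow.ofCard (zpowers y) (by rw [Nat.card_zpowers, hy, hf, pow_one])
  have := h8_card_normalizer_sylow 5 P
  rw [h5, hcard] at this
  have hP : (P : Subgroup G) = zpowers y := rfl
  rw [hP] at this
  omega

theorem a7rb18_cz_symm (a b : G) (h : a ∈ Cz b) : b ∈ Cz a := by
  rw [Subgroup.mem_centralizer_iff] at h ⊢
  intro t ht
  rw [Set.mem_singleton_iff] at ht
  subst ht
  exact (h b (Set.mem_singleton b)).symm

theorem a7rb18_orderOf_conj (g x : G) : orderOf (g * x * g⁻¹) = orderOf x := by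
  have := h8_orderOf_conj g⁻¹ x
  rwa [inv_inv] at this

theorem a7rb18_conj_into [Finite G] (p : ℕ) [Fact p.Prime] (S : Sylow p G) (V : Subgroup G)
    (hV : IsPGroup p V) : ∃ g : G, ∀ v ∈ V, g⁻¹ * v * g ∈ (S : Subgroup G) := by
  obtain ⟨Q, hQ⟩ := hV.exists_le_sylow
  obtain ⟨g, hg⟩ := MulAction.exists_smul_eq G S Q
  refine ⟨g, fun v hv => ?_⟩
  rw [← h8_mem_smul_sylow, hg]
  exact hQ hv

theorem a7rb18_struct [Finite G] (S : Subgroup G) (hS8 : Nat.card S = 8) (hno8 : NoOrd G 8) (z : G)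
    (huniq : ∀ u ∈ S, orderOf u = 2 → u = z) :
    ∀ s ∈ S, s = 1 ∨ s = z ∨ (orderOf s = 4 ∧ s ^ 2 = z) := by
  intro s hs
  have hd : orderOf s ∣ 2 ^ 3 := by
    have := Subgroup.orderOf_dvd_natCard S hs
    rw [hS8] at this
    exact this
  obtain ⟨m, hm, hmo⟩ := (Nat.dvd_prime_pow Nat.prime_two).mp hd
  interval_cases m
  · left
    exact orderOf_eq_one_iff.mp (by simpa using hmo)
  · right; left
    exact huniq s hs (by simpa using hmo)
  · right; right
    have h4 : orderOf s = 4 := by simpa using hmo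
    refine ⟨h4, huniq _ (pow_mem hs 2) ?_⟩
    rw [orderOf_pow' s (by norm_num : (2:ℕ) ≠ 0), h4]
    rfl
  · exact absurd (by simpa using hmo) (hno8 s)

theorem a7rb18_fix (S : Subgroup G) (z : G) (hz : orderOf z = 2)
    (hstruct : ∀ s ∈ S, s = 1 ∨ s = z ∨ (orderOf s = 4 ∧ s ^ 2 = z))
    (c s s₀ : G) (hs : s ∈ S) (hs1 : s ≠ 1) (hs₀ : s₀ ∈ S) (h : c * s * c⁻¹ = s₀) :
    c * z * c⁻¹ = z := by
  have ho : orderOf s₀ = orderOf s := by rw [← h, a7rb18_orderOf_conj]
  rcases hstruct s hs with h1 | h1 | h1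
  · exact absurd h1 hs1
  · rw [h1] at h ho
    rw [hz] at ho
    rcases hstruct s₀ hs₀ with h2 | h2 | h2
    · rw [h2, orderOf_one] at ho; omega
    · rw [h, h2]
    · rw [h2.1] at ho; omega
  · rw [h1.1] at ho
    rcases hstruct s₀ hs₀ with h2 | h2 | h2
    · rw [h2, orderOf_one] at ho; omega
    · rw [h2, hz] at ho; omega
    · calc c * z * c⁻¹ = c * s ^ 2 * c⁻¹ := by rw [h1.2]
        _ = (c * s * c⁻¹) ^ 2 := by rw [conj_pow]
        _ = s₀ ^ 2 := by rw [h]
        _ = z := h2.2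

theorem a7rb18_count [Finite G] (S : Subgroup G) (z : G) (hS8 : Nat.card S = 8)
    (hz : orderOf z = 2) (hCz : Cz z = S)
    (hstruct : ∀ s ∈ S, s = 1 ∨ s = z ∨ (orderOf s = 4 ∧ s ^ 2 = z)) :
    Nat.card G * 7 ≤ 8 * (cnt G 2 + cnt G 4) := by
  classical
  have : Fintype G := Fintype.ofFinite G
  let A : Finset G := Finset.univ.filter (fun g => g ∈ S ∧ g ≠ 1)
  let Sf : Finset G := Finset.univ.filter (fun g => g ∈ S)
  have hA : A.card = 7 := by
    have := h8_card_ne_one_subgroup S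
    rw [hS8, Nat.card_eq_fintype_card, Fintype.card_subtype] at this
    exact this
  have hSf : Sf.card = 8 := by
    rw [← hS8, Nat.card_eq_fintype_card, ← Fintype.card_subtype]
  let D : Finset (G × G) := Finset.univ ×ˢ A
  let f : G × G → G := fun p => p.1 * p.2 * p.1⁻¹
  have hD : D.card = Nat.card G * 7 := by
    rw [Finset.card_product, Finset.card_univ, hA, Nat.card_eq_fintype_card]
  let T2 : Finset G := Finset.univ.filter (fun g => orderOf g = 2)
  let T4 : Finset G := Finset.univ.filter (fun g => orderOf g = 4)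
  have hT2 : cnt G 2 = T2.card := by
    unfold cnt
    rw [Nat.card_eq_fintype_card, Fintype.card_subtype]
  have hT4 : cnt G 4 = T4.card := by
    unfold cnt
    rw [Nat.card_eq_fintype_card, Fintype.card_subtype]
  have himg : D.image f ⊆ T2 ∪ T4 := by
    intro a ha
    rw [Finset.mem_image] at ha
    obtain ⟨⟨g, s⟩, hgs, rfl⟩ := ha
    rw [Finset.mem_product] at hgs
    have hsA := hgs.2
    rw [Finset.mem_filter] at hsA
    have ho : orderOf (g * s * g⁻¹) = orderOf s := a7rb18_orderOf_conj g s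
    rw [Finset.mem_union, Finset.mem_filter, Finset.mem_filter]
    rcases hstruct s hsA.2.1 with h | h | h
    · exact absurd h hsA.2.2
    · left
      exact ⟨Finset.mem_univ _, by rw [ho, h, hz]⟩
    · right
      exact ⟨Finset.mem_univ _, by rw [ho, h.1]⟩
  have hfib : ∀ a ∈ D.image f, (D.filter (fun x => f x = a)).card ≤ 8 := by
    intro a ha
    rw [Finset.mem_image] at ha
    obtain ⟨⟨g₀, s₀⟩, hgs₀, rfl⟩ := ha
    rw [Finset.mem_product] at hgs₀
    have hs₀A := hgs₀.2
    rw [Finset.mem_filter] at hs₀A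
    rw [← hSf]
    apply Finset.card_le_card_of_injOn (fun x => g₀⁻¹ * x.1)
    · intro x hx
      rw [Finset.mem_coe, Finset.mem_filter] at hx
      obtain ⟨hxD, hfx⟩ := hx
      rw [Finset.mem_product] at hxD
      have hxA := hxD.2
      rw [Finset.mem_filter] at hxA
      rw [Finset.mem_coe, Finset.mem_filter]
      refine ⟨Finset.mem_univ _, ?_⟩
      have hc : (g₀⁻¹ * x.1) * x.2 * (g₀⁻¹ * x.1)⁻¹ = s₀ := by
        have h1 : x.1 * x.2 * x.1⁻¹ = g₀ * s₀ * g₀⁻¹ := hfx
        calc (g₀⁻¹ * x.1) * x.2 * (g₀⁻¹ * x.1)⁻¹ = g₀⁻¹ * (x.1 * x.2 * x.1⁻¹) * g₀ := by group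
          _ = s₀ := by rw [h1]; group
      have hfix := a7rb18_fix S z hz hstruct _ _ _ hxA.2.1 hxA.2.2 hs₀A.2.1 hc
      rw [← hCz, Subgroup.mem_centralizer_iff]
      intro t ht
      rw [Set.mem_singleton_iff] at ht
      subst ht
      calc t * (g₀⁻¹ * x.1) = ((g₀⁻¹ * x.1) * t * (g₀⁻¹ * x.1)⁻¹) * (g₀⁻¹ * x.1) := by rw [hfix]
        _ = (g₀⁻¹ * x.1) * t := by group
    · intro x hx x' hx' hxx'
      rw [Finset.mem_coe, Finset.mem_filter] at hx hx'
      have h1 : x.1 = x'.1 := mul_left_cancel hxx'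
      have h2 : x.1 * x.2 * x.1⁻¹ = x'.1 * x'.2 * x'.1⁻¹ := by
        have e1 : f x = _ := hx.2
        have e2 : f x' = _ := hx'.2
        exact e1.trans e2.symm
      rw [← h1] at h2
      have h3 : x.2 = x'.2 := by
        have := mul_right_cancel h2
        exact mul_left_cancel this
      exact Prod.ext h1 h3
  calc Nat.card G * 7 = D.card := hD.symm
    _ ≤ 8 * (D.image f).card := Finset.card_le_mul_card_image D 8 hfib
    _ ≤ 8 * (T2 ∪ T4).card := Nat.mul_le_mul_left _ (Finset.card_le_card himg)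
    _ ≤ 8 * (T2.card + T4.card) := Nat.mul_le_mul_left _ (Finset.card_union_le _ _)
    _ = 8 * (cnt G 2 + cnt G 4) := by rw [hT2, hT4]

/-- B18 -/
theorem two_involutions (hS : Std G) (h1 : St1 G) (h2 : St2 G) (h3 : St3 G) (hno8 : NoOrd G 8)
    (hT : cnt G 2 + cnt G 4 + cnt G 8 + cnt G 10 = 735) (S : Sylow 2 G) :
    ∃ u v : G, u ∈ (S : Subgroup G) ∧ v ∈ (S : Subgroup G) ∧ orderOf u = 2 ∧ orderOf v = 2 ∧ u ≠ v := by
  have := hS.finite
  have := hS.simple
  have : Fact (Nat.Prime 2) := ⟨Nat.prime_two⟩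
  by_contra hcon
  push Not at hcon
  have hG : Nat.card G = 2 ^ 3 * 315 := by rw [hS.card]; norm_num
  have hS8 : Nat.card (S : Subgroup G) = 8 := by
    have := h8_sylow_card 2 3 315 hG (by norm_num) S
    simpa using this
  obtain ⟨z, hzS, hz⟩ : ∃ z ∈ (S : Subgroup G), orderOf z = 2 := by
    obtain ⟨w, hw⟩ := exists_prime_orderOf_dvd_card' (G := (S : Subgroup G)) 2 (by rw [hS8]; norm_num)
    exact ⟨w.1, w.2, by rw [Subgroup.orderOf_coe]; exact hw⟩
  have huniq : ∀ u ∈ (S : Subgroup G), orderOf u = 2 → u = z :=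
    fun u hu hu2 => hcon u z hu hzS hu2 hz
  have hstruct := a7rb18_struct (S : Subgroup G) hS8 hno8 z huniq
  have hconjS : ∀ s ∈ (S : Subgroup G), s * z * s⁻¹ = z := by
    intro s hs
    apply huniq _ (mul_mem (mul_mem hs hzS) (inv_mem hs))
    rw [a7rb18_orderOf_conj, hz]
  have hSle : (S : Subgroup G) ≤ Cz z := by
    intro s hs
    rw [Subgroup.mem_centralizer_iff]
    intro w hw
    rw [Set.mem_singleton_iff] at hw
    subst hw
    have := hconjS s hs
    calc w * s = (s * w * s⁻¹) * s := by rw [this]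
      _ = s * w := by group
  have hno4 : ∀ V : Subgroup G, Nat.card V = 4 → (∀ v ∈ V, v ^ 2 = 1) → False := by
    intro V hV4 hexp
    have hp : IsPGroup 2 V := IsPGroup.of_card (n := 2) (by rw [hV4]; norm_num)
    obtain ⟨g, hg⟩ := a7rb18_conj_into 2 S V hp
    have hle : V ≤ zpowers (g * z * g⁻¹) := by
      intro v hv
      by_cases hv1 : v = 1
      · rw [hv1]; exact one_mem _
      · have ho : orderOf v = 2 := orderOf_eq_prime (hexp v hv) hv1
        have : g⁻¹ * v * g = z := huniq _ (hg v hv) (by rw [h8_orderOf_conj, ho])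
        have hv' : v = g * z * g⁻¹ := by rw [← this]; group
        rw [hv']; exact mem_zpowers _
    have hc := Subgroup.card_le_of_le hle
    rw [hV4, Nat.card_zpowers, a7rb18_orderOf_conj, hz] at hc
    omega
  have h3ndvd : ¬ 3 ∣ Nat.card (Cz z) := by
    intro hd
    have : Fact (Nat.Prime 3) := ⟨by norm_num⟩
    obtain ⟨w, hw⟩ := exists_prime_orderOf_dvd_card' (G := Cz z) 3 hd
    have hx3 : orderOf (w : G) = 3 := by rw [Subgroup.orderOf_coe]; exact hw
    have hzx : z ∈ Cz (w : G) := a7rb18_cz_symm _ _ w.2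
    rcases h3.cent3 _ hx3 with hA | hB
    · obtain ⟨V, -, hV4, hVexp, -, -⟩ := h3.cent3V _ hA
      exact hno4 V hV4 hVexp
    · have := Subgroup.orderOf_dvd_natCard _ hzx
      rw [hB.2, hz] at this
      omega
  have h7ndvd : ¬ 7 ∣ Nat.card (Cz z) := by
    intro hd
    have : Fact (Nat.Prime 7) := ⟨by norm_num⟩
    obtain ⟨w, hw⟩ := exists_prime_orderOf_dvd_card' (G := Cz z) 7 hd
    have hx7 : orderOf (w : G) = 7 := by rw [Subgroup.orderOf_coe]; exact hw
    have hzx : z ∈ Cz (w : G) := a7rb18_cz_symm _ _ w.2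
    rw [h1.selfc7 _ hx7] at hzx
    have := Subgroup.orderOf_dvd_natCard _ hzx
    rw [Nat.card_zpowers, hx7, hz] at this
    omega
  have h8dvd : 8 ∣ Nat.card (Cz z) := by
    rw [← hS8]; exact Subgroup.card_dvd_of_le hSle
  have hdvdG : Nat.card (Cz z) ∣ 63 * 40 := by
    have := Subgroup.card_subgroup_dvd_card (Cz z)
    rw [hS.card] at this
    exact this
  have hm : Nat.card (Cz z) = 8 ∨ Nat.card (Cz z) = 40 := by
    have hc3 : Nat.Coprime (Nat.card (Cz z)) 3 := by
      rw [Nat.coprime_comm, Nat.Prime.coprime_iff_not_dvd (by norm_num)]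
      exact h3ndvd
    have hc7 : Nat.Coprime (Nat.card (Cz z)) 7 := by
      rw [Nat.coprime_comm, Nat.Prime.coprime_iff_not_dvd (by norm_num)]
      exact h7ndvd
    have hc63 : Nat.Coprime (Nat.card (Cz z)) 63 := by
      have : (63 : ℕ) = 3 * 3 * 7 := by norm_num
      rw [this]
      exact Nat.Coprime.mul_right (Nat.Coprime.mul_right hc3 hc3) hc7
    have h40 : Nat.card (Cz z) ∣ 40 := hc63.dvd_of_dvd_mul_left hdvdG
    have hle : Nat.card (Cz z) ≤ 40 := Nat.le_of_dvd (by norm_num) h40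
    generalize Nat.card (Cz z) = m at *
    interval_cases m <;> omega
  rcases hm with hm8 | hm40
  · have hCS : Cz z = (S : Subgroup G) := by
      symm
      apply Subgroup.eq_of_le_of_card_ge hSle
      rw [hm8, hS8]
    have hcount := a7rb18_count (S : Subgroup G) z hS8 hz hCS hstruct
    rw [hS.card] at hcount
    omega
  · have : Fact (Nat.Prime 5) := ⟨by norm_num⟩
    obtain ⟨w, hw⟩ := exists_prime_orderOf_dvd_card' (G := Cz z) 5 (by rw [hm40]; norm_num)
    have hy5 : orderOf (w : G) = 5 := by rw [Subgroup.orderOf_coe]; exact hw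
    have hle : Cz z ≤ normalizer (zpowers (w : G) : Set G) := by
      apply a7rb18_le_normalizer
      intro g hg
      apply a7rb18_unique5_sub (Cz z) hm40 _ _ w.2 (mul_mem (mul_mem hg w.2) (inv_mem hg)) hy5
      rw [a7rb18_orderOf_conj, hy5]
    have := Subgroup.card_dvd_of_le hle
    rw [hm40, a7rb18_norm5 hS.card h2.syl5 _ hy5] at this
    omega

end Cfsg.Agent.Lib.helper8.A7R
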