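import Mathlib
import Cfsg.Agent.Lib.helper8.A7R.Defs
import Cfsg.Agent.Lib.helper8.SylowBasic
import Cfsg.Agent.Lib.helper8.SylowConj
import Cfsg.Agent.Lib.helper8.SubgroupCard
import Cfsg.Agent.Lib.helper8.CountOrder
import Cfsg.Agent.Lib.helper8.Burnside
import Cfsg.Agent.Lib.helper17.A7RB18

set_option autoImplicit false

/-!
# A7R row B21 (`selfc_five`): elements of order 5 are self-centralizing.

Route: if `C(y) ≠ ⟨y⟩` then `C(y)` has even order (it lies in `N(⟨y⟩)` of order 20), so `y ∈ C(i)` for an involution `i`;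
`|C(i)| ∈ {40, 120}`; in both cases `⟨y⟩` is normal in `C(i)` (order 40: unique Sylow 5; order 120: Burnside transfer at the
prime 3 gives a normal subgroup of order 40 containing all elements of order 5), so `|C(i)|` divides `|N(⟨y⟩)| = 20`.
-/

namespace Cfsg.Agent.Lib.helper8.A7R

open Subgroup Cfsg.Agent.Lib.helper8

universe u

variable {G : Type u} [Group G]

theorem a7rb21_cent_zpowers {K : Type*} [Group K] (x : K) :
    centralizer ((zpowers x : Subgroup K) : Set K) = centralizer ({x} : Set K) := by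
  ext c
  rw [Subgroup.mem_centralizer_iff, Subgroup.mem_centralizer_iff]
  constructor
  · intro h t ht
    rw [Set.mem_singleton_iff] at ht
    subst ht
    exact h t (mem_zpowers t)
  · intro h t ht
    obtain ⟨k, rfl⟩ := mem_zpowers_iff.mp ht
    have hc : Commute x c := h x (Set.mem_singleton x)
    exact hc.zpow_left k

/-- a group of order 120 in which an element of order 3 has a centralizer of order 12: every subgroup of order 5 is normal -/
theorem a7rb21_k120 {K : Type*} [Group K] [Finite K] (hK : Nat.card K = 120) (x : K)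
    (hx : orderOf x = 3) (hC : Nat.card (centralizer ({x} : Set K)) = 12) (y h : K)
    (hy : orderOf y = 5) : h * y * h⁻¹ ∈ zpowers y := by
  have : Fact (Nat.Prime 3) := ⟨by norm_num⟩
  have hG : Nat.card K = 3 ^ 1 * 40 := by rw [hK]; norm_num
  have hm : ¬ 3 ∣ 40 := by norm_num
  have hf : (Nat.card K).factorization 3 = 1 :=
    h8_factorization_of_eq 3 1 40 _ (by norm_num) hG hm
  let P : Sylow 3 K := Sylow.ofCard (zpowers x) (by rw [Nat.card_zpowers, hx, hf, pow_one])
  have hP : (P : Subgroup K) = zpowers x := rfl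
  have hcent : centralizer ((P : Subgroup K) : Set K) = centralizer ({x} : Set K) := by
    rw [hP]; exact a7rb21_cent_zpowers x
  have hcardP : Nat.card (P : Subgroup K) = 3 := by rw [hP, Nat.card_zpowers, hx]
  have hrel := h8_relIndex_centralizer_normalizer_dvd_prime 3 (by norm_num) (P : Subgroup K) hcardP
  have hCN := h8_card_centralizer_mul_relIndex (P : Subgroup K)
  have hNS := h8_card_normalizer_sylow 3 P
  have hmod := h8_nsylow_mod (G := K) 3
  rw [hK] at hNS
  have hC' : Nat.card (centralizer ((P : Subgroup K) : Set K)) = 12 := by rw [hcent]; exact hC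
  rw [hC'] at hCN
  have hr : (centralizer ((P : Subgroup K) : Set K)).relIndex (normalizer ((P : Subgroup K) : Set K)) = 1 := by
    have h12 : (centralizer ((P : Subgroup K) : Set K)).relIndex (normalizer ((P : Subgroup K) : Set K)) ∣ 2 := hrel
    rcases (Nat.dvd_prime Nat.prime_two).mp h12 with h1 | h2
    · exact h1
    · exfalso
      rw [h2] at hCN
      rw [← hCN] at hNS
      omega
  have hNC : normalizer ((P : Subgroup K) : Set K) ≤ centralizer ((P : Subgroup K) : Set K) :=
    h8_normalizer_le_centralizer_of_relIndex _ hr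
  have hc := MonoidHom.ker_transferSylow_isComplement' P hNC
  have hcard := hc.card_mul
  have hM40 : Nat.card (MonoidHom.transferSylow P hNC).ker = 40 := by
    rw [hcardP, hK] at hcard
    omega
  have hidx : (MonoidHom.transferSylow P hNC).ker.index = 3 := by
    have := (MonoidHom.transferSylow P hNC).ker.card_mul_index
    rw [hM40, hK] at this
    omega
  have hyM : ∀ w : K, orderOf w = 5 → w ∈ (MonoidHom.transferSylow P hNC).ker := by
    intro w hw
    have h3 := Subgroup.pow_index_mem (MonoidHom.transferSylow P hNC).ker w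
    rw [hidx] at h3
    have h5 : w ^ 5 = 1 := by rw [← hw]; exact pow_orderOf_eq_one w
    have h6 : w = (w ^ 3) ^ 2 := by
      rw [← pow_mul]
      calc w = w ^ 1 := (pow_one w).symm
        _ = w ^ (5 + 1) := by rw [pow_add, h5, one_mul]
    rw [h6]
    exact pow_mem h3 2
  have hy' : orderOf (h * y * h⁻¹) = 5 := by rw [a7rb18_orderOf_conj, hy]
  exact a7rb18_unique5_sub _ hM40 y (h * y * h⁻¹) (hyM y hy) (hyM _ hy') hy hy'

/-- subgroup version of `a7rb21_k120` -/
theorem a7rb21_k120_sub (H : Subgroup G) (hH : Nat.card H = 120) (x : G) (hxH : x ∈ H)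
    (hx : orderOf x = 3) (hC : Nat.card (H ⊓ Cz x : Subgroup G) = 12) (y h : G) (hyH : y ∈ H) (hhH : h ∈ H)
    (hy : orderOf y = 5) : h * y * h⁻¹ ∈ zpowers y := by
  have : Finite H := Nat.finite_of_card_ne_zero (by rw [hH]; norm_num)
  have hC' : Nat.card (centralizer ({(⟨x, hxH⟩ : H)} : Set H)) = 12 := by
    rw [← hC]
    apply Nat.card_congr
    refine ⟨fun c => ⟨c.1.1, c.1.2, ?_⟩, fun c => ⟨⟨c.1, c.2.1⟩, ?_⟩, fun c => rfl, fun c => rfl⟩
    · have hc := c.2
      rw [Subgroup.mem_centralizer_iff] at hc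
      change (c.1.1 : G) ∈ Cz x
      rw [Subgroup.mem_centralizer_iff]
      intro t ht
      rw [Set.mem_singleton_iff] at ht
      subst ht
      have := hc ⟨t, hxH⟩ (Set.mem_singleton _)
      exact congrArg Subtype.val this
    · have hc : (c.1 : G) ∈ Cz x := c.2.2
      rw [Subgroup.mem_centralizer_iff] at hc ⊢
      intro t ht
      rw [Set.mem_singleton_iff] at ht
      subst ht
      apply Subtype.ext
      exact hc x (Set.mem_singleton x)
  have key := a7rb21_k120 hH (⟨x, hxH⟩ : H) (by rw [← Subgroup.orderOf_coe]; exact hx) hC'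
    (⟨y, hyH⟩ : H) ⟨h, hhH⟩ (by rw [← Subgroup.orderOf_coe]; exact hy)
  obtain ⟨k, hk⟩ := mem_zpowers_iff.mp key
  refine mem_zpowers_iff.mpr ⟨k, ?_⟩
  have := congrArg Subtype.val hk
  simpa using this

/-- elements of an elementary abelian 2-group commute -/
theorem a7rb21_comm_of_exp2 (V : Subgroup G) (hexp : ∀ v ∈ V, v ^ 2 = 1) (a b : G) (ha : a ∈ V)
    (hb : b ∈ V) : a * b = b * a := by
  have h1 := hexp a ha
  have h2 := hexp b hb
  have h3 := hexp (a * b) (mul_mem ha hb)
  have ha' : a⁻¹ = a := by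
    rw [inv_eq_iff_mul_eq_one, ← pow_two]; exact h1
  have hb' : b⁻¹ = b := by
    rw [inv_eq_iff_mul_eq_one, ← pow_two]; exact h2
  have hab : (a * b)⁻¹ = a * b := by
    rw [inv_eq_iff_mul_eq_one, ← pow_two]; exact h3
  rw [mul_inv_rev, ha', hb'] at hab
  exact hab.symm

/-- B21 -/
theorem selfc_five (hS : Std G) (h1 : St1 G) (h2 : St2 G) (h3 : St3 G) (hinv : InvC8 G) (hno8 : NoOrd G 8)
    (hd8 : ∀ S : Sylow 2 G, IsD8 (S : Subgroup G)) : SelfC G 5 := by
  have := hS.finite
  intro y hy
  by_contra hne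
  have hyC : y ∈ Cz y := by
    rw [Subgroup.mem_centralizer_iff]
    intro t ht
    rw [Set.mem_singleton_iff] at ht
    subst ht
    rfl
  have hzle : zpowers y ≤ Cz y := by
    rw [zpowers_le]; exact hyC
  have hN20 := a7rb18_norm5 hS.card h2.syl5 y hy
  have hCN : Cz y ≤ normalizer (zpowers y : Set G) := by
    apply a7rb18_le_normalizer
    intro g hg
    rw [Subgroup.mem_centralizer_iff] at hg
    have hgy : y * g = g * y := hg y (Set.mem_singleton y)
    have : g * y * g⁻¹ = y := by
      rw [← hgy]; group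
    rw [this]; exact mem_zpowers y
  have hd20 : Nat.card (Cz y) ∣ 20 := by
    rw [← hN20]; exact Subgroup.card_dvd_of_le hCN
  have hd5 : 5 ∣ Nat.card (Cz y) := by
    have := Subgroup.card_dvd_of_le hzle
    rwa [Nat.card_zpowers, hy] at this
  have hne5 : Nat.card (Cz y) ≠ 5 := by
    intro h
    apply hne
    symm
    apply Subgroup.eq_of_le_of_card_ge hzle
    rw [h, Nat.card_zpowers, hy]
  have h2dvd : 2 ∣ Nat.card (Cz y) := by
    have hle : Nat.card (Cz y) ≤ 20 := Nat.le_of_dvd (by norm_num) hd20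
    generalize Nat.card (Cz y) = m at *
    interval_cases m <;> omega
  have : Fact (Nat.Prime 2) := ⟨Nat.prime_two⟩
  obtain ⟨w, hw⟩ := exists_prime_orderOf_dvd_card' (G := Cz y) 2 h2dvd
  have hi2 : orderOf (w : G) = 2 := by rw [Subgroup.orderOf_coe]; exact hw
  obtain ⟨i, hiC, hi2'⟩ : ∃ i : G, i ∈ Cz y ∧ orderOf i = 2 := ⟨w.1, w.2, hi2⟩
  clear hw hi2 w
  have hyH : y ∈ Cz i := a7rb18_cz_symm _ _ hiC
  -- the order of `C(i)`
  have h8 : 8 ∣ Nat.card (Cz i) := hinv i hi2'
  have h5 : 5 ∣ Nat.card (Cz i) := by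
    have := Subgroup.orderOf_dvd_natCard _ hyH
    rwa [hy] at this
  have h7ndvd : ¬ 7 ∣ Nat.card (Cz i) := by
    intro hd
    have : Fact (Nat.Prime 7) := ⟨by norm_num⟩
    obtain ⟨w, hw⟩ := exists_prime_orderOf_dvd_card' (G := Cz i) 7 hd
    have hx7 : orderOf (w : G) = 7 := by rw [Subgroup.orderOf_coe]; exact hw
    have hzx : i ∈ Cz (w : G) := a7rb18_cz_symm _ _ w.2
    rw [h1.selfc7 _ hx7] at hzx
    have := Subgroup.orderOf_dvd_natCard _ hzx
    rw [Nat.card_zpowers, hx7, hi2'] at this
    omega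
  have h9ndvd : ¬ 9 ∣ Nat.card (Cz i) := by
    intro hd
    have : Fact (Nat.Prime 3) := ⟨by norm_num⟩
    obtain ⟨Q, hQ⟩ := Sylow.exists_subgroup_card_pow_prime (G := Cz i) 3 (n := 2) (by norm_num; exact hd)
    have hQ' : Nat.card (Q.map (Cz i).subtype) = 3 ^ 2 := by
      rw [← hQ]
      exact Nat.card_congr (Q.equivMapOfInjective _ (Cz i).subtype_injective).symm.toEquiv
    have hf : (Nat.card G).factorization 3 = 2 :=
      h8_factorization_of_eq 3 2 280 _ (by norm_num) (by rw [hS.card]; norm_num) (by norm_num)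
    let P : Sylow 3 G := Sylow.ofCard (Q.map (Cz i).subtype) (by rw [hQ', hf])
    have hP : (P : Subgroup G) = Q.map (Cz i).subtype := rfl
    have hPle : (P : Subgroup G) ≤ Cz i := by
      rw [hP]; exact Subgroup.map_subtype_le Q
    have hiP : i ∈ Cs (P : Subgroup G) := by
      rw [Subgroup.mem_centralizer_iff]
      intro t ht
      have := hPle ht
      rw [Subgroup.mem_centralizer_iff] at this
      exact (this i (Set.mem_singleton i)).symm
    rw [h3.centP P] at hiP
    have := Subgroup.orderOf_dvd_natCard _ hiP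
    rw [hP, hQ', hi2'] at this
    omega
  have hdvdG : Nat.card (Cz i) ∣ 7 * 360 := by
    have := Subgroup.card_subgroup_dvd_card (Cz i)
    rw [hS.card] at this
    exact this
  have hm : Nat.card (Cz i) = 40 ∨ Nat.card (Cz i) = 120 := by
    have hc7 : Nat.Coprime (Nat.card (Cz i)) 7 := by
      rw [Nat.coprime_comm, Nat.Prime.coprime_iff_not_dvd (by norm_num)]
      exact h7ndvd
    have h360 : Nat.card (Cz i) ∣ 360 := hc7.dvd_of_dvd_mul_left hdvdG
    have h40 : 40 ∣ Nat.card (Cz i) :=
      Nat.Coprime.mul_dvd_of_dvd_of_dvd (by norm_num : Nat.Coprime 8 5) h8 h5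
    obtain ⟨c, hc⟩ := h40
    rw [hc] at h360 h9ndvd ⊢
    have hc9 : c ∣ 9 := by
      have : 40 * c ∣ 40 * 9 := by norm_num; exact h360
      exact Nat.dvd_of_mul_dvd_mul_left (by norm_num) this
    have hle : c ≤ 9 := Nat.le_of_dvd (by norm_num) hc9
    interval_cases c <;> omega
  have hall : ∀ g ∈ Cz i, g * y * g⁻¹ ∈ zpowers y := by
    rcases hm with hm40 | hm120
    · intro g hg
      apply a7rb18_unique5_sub (Cz i) hm40 _ _ hyH (mul_mem (mul_mem hg hyH) (inv_mem hg)) hy
      rw [a7rb18_orderOf_conj, hy]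
    · have : Fact (Nat.Prime 3) := ⟨by norm_num⟩
      obtain ⟨w, hw⟩ := exists_prime_orderOf_dvd_card' (G := Cz i) 3 (by rw [hm120]; norm_num)
      have hx3 : orderOf (w : G) = 3 := by rw [Subgroup.orderOf_coe]; exact hw
      obtain ⟨x, hxH, hx3'⟩ : ∃ x : G, x ∈ Cz i ∧ orderOf x = 3 := ⟨w.1, w.2, hx3⟩
      clear hw hx3 w
      have hix : i ∈ Cz x := a7rb18_cz_symm _ _ hxH
      have hA : Is3A x := by
        rcases h3.cent3 x hx3' with hA | hB
        · exact hA
        · exfalso
          have := Subgroup.orderOf_dvd_natCard _ hix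
          rw [hB.2, hi2'] at this
          omega
      obtain ⟨V, hVle, hV4, hVexp, -, hVinv⟩ := h3.cent3V x hA
      have hiV : i ∈ V := hVinv i hix hi2'
      have hVH : V ≤ Cz i := by
        intro v hv
        rw [Subgroup.mem_centralizer_iff]
        intro t ht
        rw [Set.mem_singleton_iff] at ht
        subst ht
        exact a7rb21_comm_of_exp2 V hVexp _ _ hiV hv
      have hxx : x ∈ Cz x := by
        rw [Subgroup.mem_centralizer_iff]
        intro t ht
        rw [Set.mem_singleton_iff] at ht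
        subst ht
        rfl
      have hc12 : Nat.card (Cz i ⊓ Cz x : Subgroup G) = 12 := by
        have d4 : 4 ∣ Nat.card (Cz i ⊓ Cz x : Subgroup G) := by
          rw [← hV4]; exact Subgroup.card_dvd_of_le (le_inf hVH hVle)
        have d3 : 3 ∣ Nat.card (Cz i ⊓ Cz x : Subgroup G) := by
          have := Subgroup.orderOf_dvd_natCard (Cz i ⊓ Cz x : Subgroup G) (x := x) ⟨hxH, hxx⟩
          rwa [hx3'] at this
        have d36 : Nat.card (Cz i ⊓ Cz x : Subgroup G) ∣ 36 := by
          rw [← hA.2]; exact Subgroup.card_dvd_of_le inf_le_right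
        have d120 : Nat.card (Cz i ⊓ Cz x : Subgroup G) ∣ 120 := by
          rw [← hm120]; exact Subgroup.card_dvd_of_le inf_le_left
        have hle : Nat.card (Cz i ⊓ Cz x : Subgroup G) ≤ 36 := Nat.le_of_dvd (by norm_num) d36
        generalize Nat.card (Cz i ⊓ Cz x : Subgroup G) = m at *
        interval_cases m <;> omega
      intro g hg
      exact a7rb21_k120_sub (Cz i) hm120 x hxH hx3' hc12 y g hyH hg hy
  have hle : Cz i ≤ normalizer (zpowers y : Set G) := a7rb18_le_normalizer _ _ hall
  have := Subgroup.card_dvd_of_le hle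
  rw [hN20] at this
  rcases hm with hm40 | hm120
  · rw [hm40] at this; omega
  · rw [hm120] at this; omega

end Cfsg.Agent.Lib.helper8.A7R
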