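import Mathlib

set_option autoImplicit false

namespace Cfsg.Agent.Lib.helper17.AffEight

open Equiv

abbrev B := ZMod 2 × ZMod 2
abbrev W := B × ZMod 2

/-- affine maps of `𝔽₂³` -/
def Aff (g : W → W) : Prop := ∀ x y z : W, g (x + y + z) = g x + g y + g z

instance (g : W → W) : Decidable (Aff g) := by unfold Aff; infer_instance

/-- the affine group as a subgroup of `Perm W` -/
def affSub : Subgroup (Perm W) where
  carrier := {g | Aff g}
  one_mem' := fun x y z => rfl
  mul_mem' := by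
    intro g h hg hh x y z
    show g (h (x + y + z)) = g (h x) + g (h y) + g (h z)
    rw [hh, hg]
  inv_mem' := by
    intro g hg x y z
    show g⁻¹ (x + y + z) = g⁻¹ x + g⁻¹ y + g⁻¹ z
    apply g.injective
    rw [hg]
    simp

theorem mem_affSub {g : Perm W} : g ∈ affSub ↔ Aff g := Iff.rfl

/-- partition-preserving maps -/
def PP (g : W → W) : Prop := ∀ x y : W, x.1 = y.1 ↔ (g x).1 = (g y).1

def ppSub : Subgroup (Perm W) where
  carrier := {g | PP g}
  one_mem' := fun x y => Iff.rfl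
  mul_mem' := by
    intro g h hg hh x y
    show x.1 = y.1 ↔ (g (h x)).1 = (g (h y)).1
    rw [hh x y, hg (h x) (h y)]
  inv_mem' := by
    intro g hg x y
    show x.1 = y.1 ↔ (g⁻¹ x).1 = (g⁻¹ y).1
    rw [hg (g⁻¹ x) (g⁻¹ y)]
    simp

theorem mem_ppSub {g : Perm W} : g ∈ ppSub ↔ PP g := Iff.rfl

theorem dec_pi : ∀ π : Perm B, ∀ a b c : B, π (a + b + c) = π a + π b + π c := by decide

theorem dec_eps : ∀ ε : B → ZMod 2, (∑ a, ε a = 0) → ∀ a b c : B, ε (a + b + c) = ε a + ε b + ε c := by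
  decide

theorem dec_sign : ∀ ε : B → ZMod 2, (∏ a, (if ε a = 0 then (1 : ℤˣ) else -1)) = 1 → ∑ a, ε a = 0 := by
  decide

theorem sign_addRight : ∀ c : ZMod 2, Perm.sign (Equiv.addRight c) = if c = 0 then (1 : ℤˣ) else -1 := by
  decide

end Cfsg.Agent.Lib.helper17.AffEight
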