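import Mathlib
import Cfsg.Agent.Lib.helper17.AffEight1

set_option autoImplicit false

namespace Cfsg.Agent.Lib.helper17.AffEight

open Equiv

theorem zmod2_ne : ∀ u v : ZMod 2, u ≠ v → u = 1 + v := by decide

theorem main_W (g : Perm W) (hpp : PP g) (hs : Perm.sign g = 1) : Aff g := by
  have hpp' : PP (g⁻¹ : Perm W) := mem_ppSub.mp (ppSub.inv_mem (mem_ppSub.mpr hpp))
  let π : Perm B :=
    { toFun := fun a => (g (a, 0)).1
      invFun := fun a => (g⁻¹ (a, 0)).1
      left_inv := by
        intro a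
        show (g⁻¹ ((g (a, 0)).1, 0)).1 = a
        have h1 : (((g (a, 0)).1, (0 : ZMod 2)) : W).1 = (g (a, 0)).1 := rfl
        have h2 := (hpp' ((g (a, 0)).1, 0) (g (a, 0))).mp h1
        rw [h2]
        simp
      right_inv := by
        intro a
        show (g ((g⁻¹ (a, 0)).1, 0)).1 = a
        have h1 : (((g⁻¹ (a, 0)).1, (0 : ZMod 2)) : W).1 = (g⁻¹ (a, 0)).1 := rfl
        have h2 := (hpp ((g⁻¹ (a, 0)).1, 0) (g⁻¹ (a, 0))).mp h1
        rw [h2]
        simp }
  let ε : B → ZMod 2 := fun a => (g (a, 0)).2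
  have key : ∀ (a : B) (t : ZMod 2), g (a, t) = (π a, t + ε a) := by
    intro a t
    have h0 : g (a, 0) = (π a, 0 + ε a) := by
      rw [zero_add]
      exact Prod.ext rfl rfl
    have ht : ∀ t : ZMod 2, t = 0 ∨ t = 1 := by decide
    rcases ht t with rfl | rfl
    · exact h0
    · have h1 : (g (a, 1)).1 = (g (a, 0)).1 := (hpp (a, 1) (a, 0)).mp rfl
      have h2 : (g (a, 1)).2 ≠ (g (a, 0)).2 := by
        intro h
        have : g (a, 1) = g (a, 0) := Prod.ext h1 h
        have := g.injective this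
        simp at this
      have h3 := zmod2_ne _ _ h2
      exact Prod.ext h1 h3
  have hg : g = (prodCongrLeft (fun _ : ZMod 2 => π)) * (prodCongrRight (fun a : B => Equiv.addRight (ε a))) := by
    ext1 x
    obtain ⟨a, t⟩ := x
    rw [key]
    rfl
  have hsign : (∏ a, (if ε a = 0 then (1 : ℤˣ) else -1)) = 1 := by
    rw [hg, map_mul, Perm.sign_prodCongrLeft, Perm.sign_prodCongrRight] at hs
    have h1 : (∏ _k : ZMod 2, Perm.sign π) = 1 := by
      rw [Finset.prod_const, Finset.card_univ, ZMod.card]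
      exact Int.units_sq _
    rw [h1, one_mul] at hs
    refine Eq.trans ?_ hs
    apply Finset.prod_congr rfl
    intro a _
    exact (sign_addRight (ε a)).symm
  have hε := dec_eps ε (dec_sign ε hsign)
  have hπ := dec_pi π
  rintro ⟨a, t⟩ ⟨b, u⟩ ⟨c, w⟩
  show g (a + b + c, t + u + w) = g (a, t) + g (b, u) + g (c, w)
  rw [key, key, key, key, hπ, hε]
  refine Prod.ext rfl ?_
  show t + u + w + (ε a + ε b + ε c) = t + ε a + (u + ε b) + (w + ε c)
  abel

/-- an even affine map that does not preserve the partition -/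
def k1 : Perm W := Equiv.swap ((0, 1), 0) ((0, 0), 1) * Equiv.swap ((1, 1), 0) ((1, 0), 1)

theorem k1_sign : Perm.sign k1 = 1 := by
  unfold k1
  rw [map_mul, Perm.sign_swap (by decide), Perm.sign_swap (by decide)]
  rfl

theorem k1_aff : Aff k1 := by decide

theorem k1_not_pp : ¬ PP k1 := by
  intro h
  have := (h ((0, 0), 0) ((0, 0), 1)).mp rfl
  revert this
  decide

/-- an even map that is not affine -/
def k2 : Perm W := Equiv.swap ((0, 0), 0) ((0, 0), 1) * Equiv.swap ((0, 0), 1) ((0, 1), 0)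

theorem k2_sign : Perm.sign k2 = 1 := by
  unfold k2
  rw [map_mul, Perm.sign_swap (by decide), Perm.sign_swap (by decide)]
  rfl

theorem k2_not_aff : ¬ Aff k2 := by decide

end Cfsg.Agent.Lib.helper17.AffEight
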