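import Mathlib
import Cfsg.Agent.Lib.helper17.AffEight2

set_option autoImplicit false

namespace Cfsg.Agent.Lib.helper17.AffEight

open Equiv

theorem exists_model {Ω : Type*} [Fintype Ω] (f : Ω → Fin 4)
    (hf : ∀ i : Fin 4, Nat.card {x : Ω // f x = i} = 2) :
    ∃ e : Ω ≃ W, ∀ x y : Ω, f x = f y ↔ (e x).1 = (e y).1 := by
  have h1 : ∀ i : Fin 4, Nonempty ({x : Ω // f x = i} ≃ ZMod 2) := by
    intro i
    rw [← Finite.card_eq, hf i]
    simp
  choose φ _ using fun i => (⟨(h1 i).some, trivial⟩ : ∃ _ : {x : Ω // f x = i} ≃ ZMod 2, True)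
  have b : Fin 4 ≃ B := Fintype.equivOfCardEq (by simp)
  refine ⟨(Equiv.sigmaFiberEquiv f).symm.trans ((Equiv.sigmaCongrRight φ).trans
    ((Equiv.sigmaEquivProd (Fin 4) (ZMod 2)).trans (Equiv.prodCongr b (Equiv.refl _)))), ?_⟩
  intro x y
  show f x = f y ↔ b (f x) = b (f y)
  exact b.injective.eq_iff.symm

theorem main {Ω : Type*} [Fintype Ω] [DecidableEq Ω]
    (f : Ω → Fin 4) (hf : ∀ i : Fin 4, Nat.card {x : Ω // f x = i} = 2) :
    ¬ IsCoatom ((Subgroup.closure {g : Equiv.Perm Ω | ∀ x y : Ω, f x = f y ↔ f (g x) = f (g y)} ⊓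
      alternatingGroup Ω).subgroupOf (alternatingGroup Ω)) := by
  obtain ⟨e, he⟩ := exists_model f hf
  intro hco
  -- the partition preserving subgroup
  have hcl : Subgroup.closure {g : Equiv.Perm Ω | ∀ x y : Ω, f x = f y ↔ f (g x) = f (g y)} ≤
      ppSub.comap e.permCongrHom.toMonoidHom := by
    rw [Subgroup.closure_le]
    intro g hg
    show PP (e.permCongrHom g)
    intro w w'
    show w.1 = w'.1 ↔ (e (g (e.symm w))).1 = (e (g (e.symm w'))).1
    rw [← he, ← hg, he]
    simp
  let K : Subgroup (Equiv.Perm Ω) := affSub.comap e.permCongrHom.toMonoidHom ⊓ alternatingGroup Ω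
  have hsign : ∀ g : Equiv.Perm Ω, Perm.sign (e.permCongrHom g) = Perm.sign g := by
    intro g
    exact Perm.sign_permCongr e g
  have hHK : Subgroup.closure {g : Equiv.Perm Ω | ∀ x y : Ω, f x = f y ↔ f (g x) = f (g y)} ⊓
      alternatingGroup Ω ≤ K := by
    intro g hg
    refine ⟨?_, hg.2⟩
    show Aff (e.permCongrHom g)
    apply main_W
    · exact hcl hg.1
    · rw [hsign]
      exact Perm.mem_alternatingGroup.mp hg.2
  -- g₁
  have hg1K : e.permCongrHom.symm k1 ∈ K := by
    refine ⟨?_, ?_⟩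
    · show Aff (e.permCongrHom (e.permCongrHom.symm k1))
      rw [MulEquiv.apply_symm_apply]
      exact k1_aff
    · show e.permCongrHom.symm k1 ∈ alternatingGroup Ω
      rw [Perm.mem_alternatingGroup, ← hsign, MulEquiv.apply_symm_apply]
      exact k1_sign
  have hg1H : e.permCongrHom.symm k1 ∉
      Subgroup.closure {g : Equiv.Perm Ω | ∀ x y : Ω, f x = f y ↔ f (g x) = f (g y)} ⊓
      alternatingGroup Ω := by
    intro h
    have := hcl h.1
    have h2 : PP (e.permCongrHom (e.permCongrHom.symm k1)) := this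
    rw [MulEquiv.apply_symm_apply] at h2
    exact k1_not_pp h2
  have hg2A : e.permCongrHom.symm k2 ∈ alternatingGroup Ω := by
    rw [Perm.mem_alternatingGroup, ← hsign, MulEquiv.apply_symm_apply]
    exact k2_sign
  have hg2K : e.permCongrHom.symm k2 ∉ K := by
    intro h
    have h2 : Aff (e.permCongrHom (e.permCongrHom.symm k2)) := h.1
    rw [MulEquiv.apply_symm_apply] at h2
    exact k2_not_aff h2
  have hlt : (Subgroup.closure {g : Equiv.Perm Ω | ∀ x y : Ω, f x = f y ↔ f (g x) = f (g y)} ⊓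
      alternatingGroup Ω).subgroupOf (alternatingGroup Ω) < K.subgroupOf (alternatingGroup Ω) := by
    rw [lt_iff_le_and_ne]
    refine ⟨fun x hx => hHK hx, ?_⟩
    intro heq
    have hmem : (⟨e.permCongrHom.symm k1, hg1K.2⟩ : alternatingGroup Ω) ∈
        K.subgroupOf (alternatingGroup Ω) := hg1K
    rw [← heq] at hmem
    exact hg1H hmem
  have htop := hco.2 _ hlt
  have hmem : (⟨e.permCongrHom.symm k2, hg2A⟩ : alternatingGroup Ω) ∈
      K.subgroupOf (alternatingGroup Ω) := by
    rw [htop]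
    exact Subgroup.mem_top _
  exact hg2K hmem

end Cfsg.Agent.Lib.helper17.AffEight
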