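import Mathlib
import Cfsg.Prelude.Def_Amalgam
import Cfsg.Prelude.Def_LocalStructure
import Cfsg.Agent.Lib.helper17.Amalgam4
import Cfsg.Agent.Lib.helper17.Op
import Cfsg.Agent.Lib.helper17.PIrr

set_option autoImplicit false

namespace Cfsg.Agent.Lib.helper17.Amal5

open Cfsg.Agent.Lib.helper17
open scoped commutatorElement

variable {X : Type*} [Group X] {M₁ M₂ : Subgroup X}

/-! ### The action on the coset graph -/

theorem stabilizer_smul (g : X) (δ : Cfsg.CosetVertex M₁ M₂) :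
    MulAction.stabilizer X (g • δ) = cj g (MulAction.stabilizer X δ) :=
  MulAction.stabilizer_smul_eq_stabilizer_map_conj g δ

theorem dist_smul_le (hc : (Cfsg.cosetGraph M₁ M₂).Preconnected) (g : X) (a b : Cfsg.CosetVertex M₁ M₂) :
    (Cfsg.cosetGraph M₁ M₂).dist (g • a) (g • b) ≤ (Cfsg.cosetGraph M₁ M₂).dist a b := by
  obtain ⟨w, hw⟩ := (hc a b).exists_walk_length_eq_dist
  have := SimpleGraph.dist_le (w.map (cosetGraphSmulHom M₁ M₂ g))
  rw [SimpleGraph.Walk.length_map, hw] at this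
  exact this

theorem dist_smul (hc : (Cfsg.cosetGraph M₁ M₂).Preconnected) (g : X) (a b : Cfsg.CosetVertex M₁ M₂) :
    (Cfsg.cosetGraph M₁ M₂).dist (g • a) (g • b) = (Cfsg.cosetGraph M₁ M₂).dist a b := by
  apply le_antisymm (dist_smul_le hc g a b)
  have := dist_smul_le hc g⁻¹ (g • a) (g • b)
  rwa [inv_smul_smul, inv_smul_smul] at this

/-- The vertex stabilizer is transitive on the neighbours. -/
theorem exists_smul_eq_of_adj {l m m' : Cfsg.CosetVertex M₁ M₂}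
    (h : (Cfsg.cosetGraph M₁ M₂).Adj l m) (h' : (Cfsg.cosetGraph M₁ M₂).Adj l m') :
    ∃ g ∈ MulAction.stabilizer X l, g • m = m' := by
  rw [cosetGraph_adj_iff] at h h'
  obtain ⟨z, ⟨h1, h2⟩ | ⟨h1, h2⟩⟩ := h <;> obtain ⟨z', ⟨h1', h2'⟩ | ⟨h1', h2'⟩⟩ := h'
  · refine ⟨z' * z⁻¹, ?_, ?_⟩
    · rw [MulAction.mem_stabilizer_iff, h1, smul_inl_mk, inv_mul_cancel_right, ← h1', ← h1]
    · rw [h2, smul_inr_mk, inv_mul_cancel_right, h2']
  · rw [h1] at h1'; exact absurd h1' (by simp)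
  · rw [h1] at h1'; exact absurd h1' (by simp)
  · refine ⟨z' * z⁻¹, ?_, ?_⟩
    · rw [MulAction.mem_stabilizer_iff, h1, smul_inr_mk, inv_mul_cancel_right, ← h1', ← h1]
    · rw [h2, smul_inl_mk, inv_mul_cancel_right, h2']

/-- Every vertex has a neighbour. -/
theorem exists_adj (l : Cfsg.CosetVertex M₁ M₂) : ∃ m, (Cfsg.cosetGraph M₁ M₂).Adj l m := by
  rcases l with a | a
  · obtain ⟨x, rfl⟩ := QuotientGroup.mk_surjective a
    exact ⟨_, cosetGraph_adj_inl_inr x⟩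
  · obtain ⟨x, rfl⟩ := QuotientGroup.mk_surjective a
    exact ⟨_, (cosetGraph_adj_inl_inr x).symm⟩

/-! ### Conjugation equivariance of `Z_δ` and `V_δ^{(n)}` -/

theorem exists_sylow_map_eq {p : ℕ} [Fact p.Prime] {H T : Subgroup X} [Finite ↥H]
    (hTH : T ≤ H) (hc : Nat.card T = p ^ (Nat.card ↥H).factorization p) :
    ∃ S : Sylow p ↥H, (S : Subgroup ↥H).map H.subtype = T := by
  have e : Nat.card (T.subgroupOf H) = p ^ (Nat.card ↥H).factorization p := by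
    rw [← hc]
    exact Nat.card_congr (Subgroup.subgroupOfEquivOfLe hTH).toEquiv
  refine ⟨Sylow.ofCard (T.subgroupOf H) e, ?_⟩
  rw [Sylow.coe_ofCard]
  exact Subgroup.map_subgroupOf_eq_of_le hTH

theorem card_sylow_map {p : ℕ} [Fact p.Prime] {H : Subgroup X} [Finite ↥H] (S : Sylow p ↥H) :
    Nat.card ((S : Subgroup ↥H).map H.subtype) = p ^ (Nat.card ↥H).factorization p := by
  rw [Subgroup.card_map_of_injective (Subgroup.subtype_injective _)]
  exact Sylow.card_eq_multiplicity S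

theorem cj_sylowCenterClosure_le {p : ℕ} [Fact p.Prime] (g : X) (H : Subgroup X) [Finite ↥H] :
    cj g (Cfsg.sylowCenterClosure p H) ≤ Cfsg.sylowCenterClosure p (cj g H) := by
  have hf : Finite ↥(cj g H) := finite_cj g inferInstance
  rw [sylowCenterClosure_eq_iSup, cj_iSup]
  apply iSup_le
  intro S
  unfold sylowOmegaCenter
  rw [cj_omegaOne_center]
  have hle : cj g ((S : Subgroup ↥H).map H.subtype) ≤ cj g H := cj_mono (Subgroup.map_subtype_le _)
  have hcard : Nat.card (cj g ((S : Subgroup ↥H).map H.subtype)) = p ^ (Nat.card ↥(cj g H)).factorization p := by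
    rw [card_cj, card_cj, card_sylow_map]
  obtain ⟨S', hS'⟩ := exists_sylow_map_eq hle hcard
  rw [← hS']
  exact le_iSup (fun S : Sylow p ↥(cj g H) => sylowOmegaCenter p (cj g H) S) S'

theorem cj_sylowCenterClosure {p : ℕ} [Fact p.Prime] (g : X) (H : Subgroup X) [Finite ↥H] :
    cj g (Cfsg.sylowCenterClosure p H) = Cfsg.sylowCenterClosure p (cj g H) := by
  apply le_antisymm (cj_sylowCenterClosure_le g H)
  have hf : Finite ↥(cj g H) := finite_cj g inferInstance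
  have := cj_sylowCenterClosure_le (p := p) g⁻¹ (cj g H)
  rw [cj_inv_cj, cj_le_iff, inv_inv] at this
  exact this

theorem cj_vertexZ {p : ℕ} [Fact p.Prime] (g : X) (δ : Cfsg.CosetVertex M₁ M₂)
    [Finite ↥(MulAction.stabilizer X δ)] :
    cj g (Cfsg.vertexZ p δ) = Cfsg.vertexZ p (g • δ) := by
  show cj g (Cfsg.sylowCenterClosure p _) = Cfsg.sylowCenterClosure p _
  rw [cj_sylowCenterClosure, stabilizer_smul]

theorem finite_stabilizer {p : ℕ} (h : Cfsg.IsCharPAmalgamPair p M₁ M₂) (δ : Cfsg.CosetVertex M₁ M₂) :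
    Finite ↥(MulAction.stabilizer X δ) := by
  obtain ⟨g, hg | hg⟩ := exists_stabilizer_eq δ
  · rw [hg]; exact finite_cj g h.2.1
  · rw [hg]; exact finite_cj g h.2.2.1

theorem cj_vertexVIter_le {p : ℕ} [Fact p.Prime] (h : Cfsg.IsCharPAmalgamPair p M₁ M₂) (g : X) (n : ℕ)
    (δ : Cfsg.CosetVertex M₁ M₂) :
    cj g (Cfsg.vertexVIter p M₁ M₂ n δ) ≤ Cfsg.vertexVIter p M₁ M₂ n (g • δ) := by
  have hc := cosetGraph_preconnected h.1.1
  unfold Cfsg.vertexVIter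
  rw [cj_iSup]
  apply iSup_le
  rintro ⟨μ, hμ⟩
  have := finite_stabilizer h μ
  show cj g (Cfsg.vertexZ p μ) ≤ _
  rw [cj_vertexZ]
  have hd : (Cfsg.cosetGraph M₁ M₂).dist (g • δ) (g • μ) ≤ n := by rw [dist_smul hc]; exact hμ
  exact le_iSup (fun ν : {ν : Cfsg.CosetVertex M₁ M₂ // (Cfsg.cosetGraph M₁ M₂).dist (g • δ) ν ≤ n} =>
    Cfsg.vertexZ p (ν : Cfsg.CosetVertex M₁ M₂)) ⟨g • μ, hd⟩

theorem cj_vertexVIter {p : ℕ} [Fact p.Prime] (h : Cfsg.IsCharPAmalgamPair p M₁ M₂) (g : X) (n : ℕ)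
    (δ : Cfsg.CosetVertex M₁ M₂) :
    cj g (Cfsg.vertexVIter p M₁ M₂ n δ) = Cfsg.vertexVIter p M₁ M₂ n (g • δ) := by
  apply le_antisymm (cj_vertexVIter_le h g n δ)
  have := cj_vertexVIter_le h g⁻¹ n (g • δ)
  rw [inv_smul_smul, cj_le_iff, inv_inv] at this
  exact this

theorem stabilizer_le_normalizer_vertexVIter {p : ℕ} [Fact p.Prime] (h : Cfsg.IsCharPAmalgamPair p M₁ M₂)
    (n : ℕ) (δ : Cfsg.CosetVertex M₁ M₂) :
    MulAction.stabilizer X δ ≤ Subgroup.normalizer ((Cfsg.vertexVIter p M₁ M₂ n δ : Subgroup X) : Set X) := by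
  intro g hg
  rw [← cj_eq_self_iff, cj_vertexVIter h, MulAction.mem_stabilizer_iff.mp hg]

theorem vertexZ_le_vertexVIter {p : ℕ} (n : ℕ) (δ : Cfsg.CosetVertex M₁ M₂) :
    Cfsg.vertexZ p δ ≤ Cfsg.vertexVIter p M₁ M₂ n δ := by
  unfold Cfsg.vertexVIter
  have hd : (Cfsg.cosetGraph M₁ M₂).dist δ δ ≤ n := by rw [SimpleGraph.dist_self]; exact Nat.zero_le n
  exact le_iSup (fun ν : {ν : Cfsg.CosetVertex M₁ M₂ // (Cfsg.cosetGraph M₁ M₂).dist δ ν ≤ n} =>
    Cfsg.vertexZ p (ν : Cfsg.CosetVertex M₁ M₂)) ⟨δ, hd⟩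

/-- `V_μ^{(k)} ≤ V_λ^{(k+1)}` for adjacent vertices. -/
theorem vertexVIter_le_succ_of_adj {p : ℕ} {l m : Cfsg.CosetVertex M₁ M₂}
    (hadj : (Cfsg.cosetGraph M₁ M₂).Adj l m) (k : ℕ) :
    Cfsg.vertexVIter p M₁ M₂ k m ≤ Cfsg.vertexVIter p M₁ M₂ (k + 1) l := by
  unfold Cfsg.vertexVIter
  apply iSup_le
  rintro ⟨ν, hν⟩
  have h2 : (Cfsg.cosetGraph M₁ M₂).dist l ν ≤ (Cfsg.cosetGraph M₁ M₂).dist l m + (Cfsg.cosetGraph M₁ M₂).dist m ν :=
    hadj.reachable.dist_triangle_left ν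
  have h3 : (Cfsg.cosetGraph M₁ M₂).dist l m = 1 := SimpleGraph.dist_eq_one_iff_adj.mpr hadj
  have hd : (Cfsg.cosetGraph M₁ M₂).dist l ν ≤ k + 1 := by omega
  exact le_iSup (fun ν : {ν : Cfsg.CosetVertex M₁ M₂ // (Cfsg.cosetGraph M₁ M₂).dist l ν ≤ k + 1} =>
    Cfsg.vertexZ p (ν : Cfsg.CosetVertex M₁ M₂)) ⟨ν, hd⟩

/-! ### Edge Sylow subgroups -/

/-- `Ω₁(Z(T)) ≤ Z_H` for a Sylow `p`-subgroup `T` of `H`. -/
theorem omega_le_sylowCenterClosure {p : ℕ} [Fact p.Prime] {H T : Subgroup X} [Finite ↥H]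
    (hTH : T ≤ H) (hc : Nat.card T = p ^ (Nat.card ↥H).factorization p) :
    Cfsg.omegaOne p (T ⊓ Subgroup.centralizer (T : Set X)) ≤ Cfsg.sylowCenterClosure p H := by
  obtain ⟨S, hS⟩ := exists_sylow_map_eq hTH hc
  rw [← hS, sylowCenterClosure_eq_iSup]
  exact le_iSup (fun S : Sylow p ↥H => sylowOmegaCenter p H S) S

/-- An edge Sylow subgroup. -/
theorem exists_edge_sylow {p : ℕ} [Fact p.Prime] (h : Cfsg.IsCharPAmalgamPair p M₁ M₂)
    {l m : Cfsg.CosetVertex M₁ M₂} (hadj : (Cfsg.cosetGraph M₁ M₂).Adj l m) :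
    ∃ T : Subgroup X, T ≤ MulAction.stabilizer X l ⊓ MulAction.stabilizer X m ∧
      Nat.card T = p ^ (Nat.card ↥(MulAction.stabilizer X l)).factorization p ∧
      Nat.card T = p ^ (Nat.card ↥(MulAction.stabilizer X m)).factorization p ∧
      Nat.card T = p ^ (Nat.card ↥(MulAction.stabilizer X l ⊓ MulAction.stabilizer X m)).factorization p := by
  have hE := edgeData_of_adj h hadj
  have hfA := hE.finA
  have hf : Finite ↥(MulAction.stabilizer X l ⊓ MulAction.stabilizer X m) := finite_inf_left _ hfA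
  obtain ⟨S⟩ := (inferInstance : Nonempty (Sylow p ↥(MulAction.stabilizer X l ⊓ MulAction.stabilizer X m)))
  refine ⟨_, Subgroup.map_subtype_le _, (hE.card_sylow S).1, (hE.card_sylow S).2, card_sylow_map S⟩

/-- `Z_λ` is generated by the `Z_μ`, `μ` a neighbour of `λ`. -/
theorem vertexZ_le_of_adj {p : ℕ} [Fact p.Prime] (h : Cfsg.IsCharPAmalgamPair p M₁ M₂)
    (l : Cfsg.CosetVertex M₁ M₂) {W : Subgroup X}
    (hW : ∀ m, (Cfsg.cosetGraph M₁ M₂).Adj l m → Cfsg.vertexZ p m ≤ W) : Cfsg.vertexZ p l ≤ W := by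
  obtain ⟨m, hadj⟩ := exists_adj l
  obtain ⟨T, hT, hcl, hcm, -⟩ := exists_edge_sylow h hadj
  have hfl := finite_stabilizer h l
  have hfm := finite_stabilizer h m
  obtain ⟨S0, hS0⟩ := exists_sylow_map_eq (hT.trans inf_le_left) hcl
  show Cfsg.sylowCenterClosure p _ ≤ W
  rw [sylowCenterClosure_eq_iSup]
  apply iSup_le
  intro S
  obtain ⟨a, ha⟩ := MulAction.exists_smul_eq (↥(MulAction.stabilizer X l)) S0 S
  rw [← ha, ← cj_sylowOmegaCenter]
  have h1 : sylowOmegaCenter p (MulAction.stabilizer X l) S0 ≤ Cfsg.vertexZ p m := by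
    unfold sylowOmegaCenter
    rw [hS0]
    exact omega_le_sylowCenterClosure (hT.trans inf_le_right) hcm
  have h2 : cj (a : X) (Cfsg.vertexZ p m) = Cfsg.vertexZ p ((a : X) • m) := cj_vertexZ _ _
  have hadj' : (Cfsg.cosetGraph M₁ M₂).Adj l ((a : X) • m) := by
    have := cosetGraph_adj_smul (a : X) hadj
    rwa [MulAction.mem_stabilizer_iff.mp a.2] at this
  exact ((cj_mono h1).trans h2.le).trans (hW _ hadj')

/-- `V_λ^{(n+1)}` is generated by the `V_μ^{(n)}`, `μ` a neighbour of `λ`. -/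
theorem vertexVIter_succ_le {p : ℕ} [Fact p.Prime] (h : Cfsg.IsCharPAmalgamPair p M₁ M₂)
    (l : Cfsg.CosetVertex M₁ M₂) (n : ℕ) {W : Subgroup X}
    (hW : ∀ m, (Cfsg.cosetGraph M₁ M₂).Adj l m → Cfsg.vertexVIter p M₁ M₂ n m ≤ W) :
    Cfsg.vertexVIter p M₁ M₂ (n + 1) l ≤ W := by
  have hc := cosetGraph_preconnected h.1.1
  unfold Cfsg.vertexVIter
  apply iSup_le
  rintro ⟨ν, hν⟩
  show Cfsg.vertexZ p ν ≤ W
  by_cases h0 : (Cfsg.cosetGraph M₁ M₂).dist l ν = 0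
  · rw [SimpleGraph.dist_eq_zero_iff_eq_or_not_reachable] at h0
    rcases h0 with h0 | h0
    · subst h0
      apply vertexZ_le_of_adj h
      intro m hm
      exact (vertexZ_le_vertexVIter n m).trans (hW m hm)
    · exact absurd (hc l ν) h0
  · obtain ⟨w, hadj, hd⟩ := exists_adj_dist_eq h0
    have hd' : (Cfsg.cosetGraph M₁ M₂).dist w ν ≤ n := by omega
    refine le_trans ?_ (hW w hadj)
    unfold Cfsg.vertexVIter
    exact le_iSup (fun ν : {ν : Cfsg.CosetVertex M₁ M₂ // (Cfsg.cosetGraph M₁ M₂).dist w ν ≤ n} =>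
      Cfsg.vertexZ p (ν : Cfsg.CosetVertex M₁ M₂)) ⟨ν, hd'⟩

/-! ### `O^p(L_λ)` is transitive on the neighbours of `λ` -/

theorem factorization_eq_of_le {p : ℕ} [hp : Fact p.Prime] {T L A : Subgroup X} [Finite ↥A]
    (hTL : T ≤ L) (hLA : L ≤ A) (hc : Nat.card T = p ^ (Nat.card ↥A).factorization p) :
    (Nat.card ↥L).factorization p = (Nat.card ↥A).factorization p := by
  have hfL : Finite ↥L := Finite.of_injective (Subgroup.inclusion hLA) (Subgroup.inclusion_injective _)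
  have hL0 : Nat.card ↥L ≠ 0 := Nat.card_pos.ne'
  have hA0 : Nat.card ↥A ≠ 0 := Nat.card_pos.ne'
  have h1 : Nat.card ↥T ∣ Nat.card ↥L := Subgroup.card_dvd_of_le hTL
  have h2 : Nat.card ↥L ∣ Nat.card ↥A := Subgroup.card_dvd_of_le hLA
  apply le_antisymm
  · exact (Nat.factorization_le_iff_dvd hL0 hA0).mpr h2 p
  · rw [hc] at h1
    exact (hp.out.pow_dvd_iff_le_factorization hL0).mp h1

theorem exists_residual_smul_eq {p : ℕ} [Fact p.Prime] (h : Cfsg.IsSpeAmalgamPair p M₁ M₂)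
    {l m m' : Cfsg.CosetVertex M₁ M₂}
    (hadj : (Cfsg.cosetGraph M₁ M₂).Adj l m) (hadj' : (Cfsg.cosetGraph M₁ M₂).Adj l m') :
    ∃ r ∈ (Cfsg.pResidual p ↥(Cfsg.pElementClosure p (MulAction.stabilizer X l))).map
      (Cfsg.pElementClosure p (MulAction.stabilizer X l)).subtype, r • m = m' := by
  obtain ⟨g, hg, hgm⟩ := exists_smul_eq_of_adj hadj hadj'
  obtain ⟨T, hT, hcl, hcm, hclm⟩ := exists_edge_sylow h.1 hadj
  have hfl := finite_stabilizer h.1 l
  have hNC := normCond_of_adj h hadj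
  have hTA : T ≤ MulAction.stabilizer X l := hT.trans inf_le_left
  have hTB : T ≤ MulAction.stabilizer X m := hT.trans inf_le_right
  obtain ⟨n, hn, c, hc, hnc⟩ := exists_mul_pElementClosure_normalizer hTA hcl
    ((MulAction.stabilizer X l).inv_mem hg)
  have hnB : n ∈ MulAction.stabilizer X m := ((hNC T hT hclm).2 hn).2
  have hTp : IsPGroup p T := isPGroup_of_card_eq hcl
  have hTL : T ≤ Cfsg.pElementClosure p (MulAction.stabilizer X l) := le_pElementClosure hTA hTp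
  have hLA := pElementClosure_le p (MulAction.stabilizer X l)
  have hfL : Finite ↥(Cfsg.pElementClosure p (MulAction.stabilizer X l)) :=
    Finite.of_injective (Subgroup.inclusion hLA) (Subgroup.inclusion_injective _)
  have hcL : Nat.card T = p ^ (Nat.card ↥(Cfsg.pElementClosure p (MulAction.stabilizer X l))).factorization p := by
    rw [factorization_eq_of_le hTL hLA hcl]; exact hcl
  obtain ⟨T', hT'⟩ := exists_sylow_map_eq hTL hcL
  have hsup := pResidual_sup_sylow T'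
  have hRn := pResidual_normal p ↥(Cfsg.pElementClosure p (MulAction.stabilizer X l))
  have hcmem : (⟨c⁻¹, Subgroup.inv_mem _ hc⟩ : ↥(Cfsg.pElementClosure p (MulAction.stabilizer X l))) ∈
      Cfsg.pResidual p ↥(Cfsg.pElementClosure p (MulAction.stabilizer X l)) ⊔ (T' : Subgroup _) := by
    rw [hsup]; exact Subgroup.mem_top _
  rw [← SetLike.mem_coe, Subgroup.normal_mul, Set.mem_mul] at hcmem
  obtain ⟨r, hr, t, ht, hrt⟩ := hcmem
  refine ⟨(r : X), ⟨r, hr, rfl⟩, ?_⟩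
  have htT : (t : X) ∈ T := by
    rw [← hT']
    exact ⟨t, ht, rfl⟩
  have e1 : (r : X) * (t : X) = c⁻¹ := by
    have := congrArg Subtype.val hrt
    simpa using this
  have e2 : g = c⁻¹ * n⁻¹ := by
    have : g⁻¹ = n * c := hnc
    calc g = (g⁻¹)⁻¹ := (inv_inv g).symm
      _ = (n * c)⁻¹ := by rw [this]
      _ = c⁻¹ * n⁻¹ := mul_inv_rev n c
  rw [← hgm, e2, ← e1, mul_smul, mul_smul]
  have h1 : n⁻¹ • m = m := MulAction.mem_stabilizer_iff.mp (Subgroup.inv_mem _ hnB)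
  have h2 : (t : X) • m = m := MulAction.mem_stabilizer_iff.mp (hTB htT)
  rw [h1, h2]

/-! ### `Z_λ ≠ 1` -/

theorem dvd_card_stabilizer {p : ℕ} (h : Cfsg.IsCharPAmalgamPair p M₁ M₂) (δ : Cfsg.CosetVertex M₁ M₂) :
    p ∣ Nat.card ↥(MulAction.stabilizer X δ) := by
  obtain ⟨g, hg | hg⟩ := exists_stabilizer_eq δ
  · rw [hg, card_cj]; exact h.2.2.2.1
  · rw [hg, card_cj]; exact h.2.2.2.2.1

theorem vertexZ_ne_bot {p : ℕ} [hp : Fact p.Prime] (h : Cfsg.IsCharPAmalgamPair p M₁ M₂)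
    (l : Cfsg.CosetVertex M₁ M₂) : Cfsg.vertexZ p l ≠ ⊥ := by
  obtain ⟨m, hadj⟩ := exists_adj l
  obtain ⟨T, hT, hcl, -, -⟩ := exists_edge_sylow h hadj
  have hfl := finite_stabilizer h l
  have hTA : T ≤ MulAction.stabilizer X l := hT.trans inf_le_left
  have hTp : IsPGroup p T := isPGroup_of_card_eq hcl
  have hfT : Finite ↥T := Finite.of_injective (Subgroup.inclusion hTA) (Subgroup.inclusion_injective _)
  have hpos : 0 < (Nat.card ↥(MulAction.stabilizer X l)).factorization p :=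
    hp.out.factorization_pos_of_dvd Nat.card_pos.ne' (dvd_card_stabilizer h l)
  have hTnt : Nontrivial ↥T := by
    rw [← Finite.one_lt_card_iff_nontrivial, hcl]
    exact Nat.one_lt_pow hpos.ne' hp.out.one_lt
  have hcen := hTp.center_nontrivial
  obtain ⟨z, hz⟩ := exists_ne (1 : ↥(Subgroup.center ↥T))
  intro hbot
  have hle := omega_le_sylowCenterClosure hTA hcl
  have hle' : Cfsg.omegaOne p (T ⊓ Subgroup.centralizer (T : Set X)) ≤ (⊥ : Subgroup X) := by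
    rw [← hbot]; exact hle
  have hZp : IsPGroup p (T ⊓ Subgroup.centralizer (T : Set X) : Subgroup X) := hTp.to_le inf_le_left
  have hZbot := eq_bot_of_omegaOne_eq_bot hZp (le_bot_iff.mp hle')
  have hzmem : ((z : ↥T) : X) ∈ T ⊓ Subgroup.centralizer (T : Set X) := by
    refine Subgroup.mem_inf.mpr ⟨(z : ↥T).2, ?_⟩
    rw [Subgroup.mem_centralizer_iff]
    intro y hy
    have := (Subgroup.mem_center_iff.mp z.2) ⟨y, hy⟩
    exact congrArg Subtype.val this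
  rw [hZbot, Subgroup.mem_bot] at hzmem
  apply hz
  apply Subtype.ext
  apply Subtype.ext
  simpa using hzmem

/-! ### The final contradiction -/

theorem vertexQ_le_stabilizer_of_adj {p : ℕ} [Fact p.Prime] (h : Cfsg.IsCharPAmalgamPair p M₁ M₂)
    {l m : Cfsg.CosetVertex M₁ M₂} (hadj : (Cfsg.cosetGraph M₁ M₂).Adj l m) :
    Cfsg.vertexQ p l ≤ MulAction.stabilizer X l ⊓ MulAction.stabilizer X m := by
  obtain ⟨T, hT, hcl, -, -⟩ := exists_edge_sylow h hadj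
  have hfl := finite_stabilizer h l
  exact (le_of_card_eq_of_normal (hT.trans inf_le_left) hcl (pCoreOf_le p _) (pCoreOf_isPGroup p _)
    (le_normalizer_pCoreOf p _)).trans hT

/-- If `V_λ^{(n+1)} ≤ V_μ^{(n)}` for a neighbour `μ` of `λ`, then `V_λ^{(n+1)}` is not inside `Q_λ`. -/
theorem not_le_vertexQ {p : ℕ} [Fact p.Prime] (h : Cfsg.IsCharPAmalgamPair p M₁ M₂)
    {l m : Cfsg.CosetVertex M₁ M₂} (hadj : (Cfsg.cosetGraph M₁ M₂).Adj l m) (n : ℕ)
    (hVU : Cfsg.vertexVIter p M₁ M₂ (n + 1) l ≤ Cfsg.vertexVIter p M₁ M₂ n m) :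
    ¬ Cfsg.vertexVIter p M₁ M₂ (n + 1) l ≤ Cfsg.vertexQ p l := by
  intro hVQ
  have hE := edgeData_of_adj h hadj
  have heq : Cfsg.vertexVIter p M₁ M₂ (n + 1) l = Cfsg.vertexVIter p M₁ M₂ n m :=
    le_antisymm hVU (vertexVIter_le_succ_of_adj hadj n)
  have hA := stabilizer_le_normalizer_vertexVIter h (n + 1) l
  have hB := stabilizer_le_normalizer_vertexVIter h n m
  rw [← heq] at hB
  have hnorm : (Cfsg.vertexVIter p M₁ M₂ (n + 1) l).Normal := by
    rw [← Subgroup.normalizer_eq_top_iff, eq_top_iff, ← hE.sup_eq]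
    exact sup_le hA hB
  have hbot := hE.faithful _ (hVQ.trans (vertexQ_le_stabilizer_of_adj h hadj)) hnorm
  apply vertexZ_ne_bot h l
  rw [← le_bot_iff, ← hbot]
  exact vertexZ_le_vertexVIter (n + 1) l

/-- The key reduction: if the commutators of `O^p(L_λ)` with `V_μ^{(n)}` land in `N`, then
`V_λ^{(n+1)} ≤ V_μ^{(n)} ⊔ N`. -/
theorem vertexVIter_succ_le_sup {p : ℕ} [Fact p.Prime] (h : Cfsg.IsSpeAmalgamPair p M₁ M₂)
    {l m : Cfsg.CosetVertex M₁ M₂} (hadj : (Cfsg.cosetGraph M₁ M₂).Adj l m) (n : ℕ) (N : Subgroup X)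
    (hN : ⁅Cfsg.vertexVIter p M₁ M₂ (n + 1) l,
      (Cfsg.pResidual p ↥(Cfsg.pElementClosure p (MulAction.stabilizer X l))).map
        (Cfsg.pElementClosure p (MulAction.stabilizer X l)).subtype⁆ ≤ N) :
    Cfsg.vertexVIter p M₁ M₂ (n + 1) l ≤ Cfsg.vertexVIter p M₁ M₂ n m ⊔ N := by
  apply vertexVIter_succ_le h.1
  intro m' hadj'
  obtain ⟨r, hr, hrm⟩ := exists_residual_smul_eq h hadj hadj'
  rw [← hrm, ← cj_vertexVIter h.1]
  intro x hx
  rw [mem_cj] at hx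
  -- `x = r v r⁻¹` with `v ∈ V_μ^{(n)}`
  have hv' : r⁻¹ * x * r ∈ Cfsg.vertexVIter p M₁ M₂ (n + 1) l := vertexVIter_le_succ_of_adj hadj n hx
  have hcomm : ⁅r⁻¹ * x * r, r⁆ ∈ N := hN (Subgroup.commutator_mem_commutator hv' hr)
  -- ⁅v, r⁆ = v r v⁻¹ r⁻¹, so `x = r v r⁻¹ = (⁅v, r⁆)⁻¹ ... `
  have e : x = (⁅r⁻¹ * x * r, r⁆)⁻¹ * (r⁻¹ * x * r) := by
    rw [commutatorElement_def]; group
  rw [e]
  exact Subgroup.mul_mem _ (Subgroup.mem_sup_right (Subgroup.inv_mem _ hcomm)) (Subgroup.mem_sup_left hx)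

/-! ### A nilpotent-action lemma -/

theorem nilp_le {Q : Type*} [Group Q] [hnil : Group.IsNilpotent Q] (U V : Subgroup Q) [hU : U.Normal]
    (h : V ≤ U ⊔ ⁅V, (⊤ : Subgroup Q)⁆) : V ≤ U := by
  obtain ⟨n, hn⟩ := Subgroup.nilpotent_iff_lowerCentralSeries.mp hnil
  have key : ∀ i : ℕ, V ≤ U ⊔ (⊤ : Subgroup Q).lowerCentralSeries i := by
    intro i
    induction i with
    | zero =>
      show V ≤ U ⊔ ⊤
      rw [sup_top_eq]; exact le_top
    | succ i ih =>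
      refine h.trans (sup_le le_sup_left ?_)
      refine (Subgroup.commutator_mono ih le_rfl).trans ?_
      rw [Subgroup.commutator_le]
      intro x hx q _
      rw [← SetLike.mem_coe, Subgroup.normal_mul, Set.mem_mul] at hx
      obtain ⟨u, hu, c, hc, rfl⟩ := hx
      have e : ⁅u * c, q⁆ = u * ⁅c, q⁆ * (q * u⁻¹ * q⁻¹) := by
        rw [commutatorElement_def, commutatorElement_def]; group
      rw [e]
      refine Subgroup.mul_mem _ (Subgroup.mul_mem _ (Subgroup.mem_sup_left hu) (Subgroup.mem_sup_right ?_))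
        (Subgroup.mem_sup_left (hU.conj_mem _ (U.inv_mem hu) q))
      exact Subgroup.commutator_mem_commutator hc (Subgroup.mem_top q)
  have := key n
  rwa [hn, sup_bot_eq] at this

theorem le_of_le_sup_commutator {p : ℕ} [Fact p.Prime] {Q U V : Subgroup X} [Finite ↥Q]
    (hQ : IsPGroup p Q) (hUQ : U ≤ Q) (hVQ : V ≤ Q)
    (hQU : Q ≤ Subgroup.normalizer (U : Set X))
    (h : V ≤ U ⊔ ⁅V, Q⁆) : V ≤ U := by
  have hnil : Group.IsNilpotent ↥Q := hQ.isNilpotent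
  have hUn : (U.subgroupOf Q).Normal := (Subgroup.normal_subgroupOf_iff_le_normalizer hUQ).mpr hQU
  have hcQ : ⁅V, Q⁆ ≤ Q := by
    rw [Subgroup.commutator_le]
    intro v hv q hq
    exact Q.mul_mem (Q.mul_mem (Q.mul_mem (hVQ hv) hq) (Q.inv_mem (hVQ hv))) (Q.inv_mem hq)
  have ecomm : ⁅V.subgroupOf Q, (⊤ : Subgroup ↥Q)⁆ = ⁅V, Q⁆.subgroupOf Q := by
    have h1 : (⁅V.subgroupOf Q, (⊤ : Subgroup ↥Q)⁆).map Q.subtype = ⁅V, Q⁆ := by
      rw [Subgroup.map_commutator, Subgroup.map_subgroupOf_eq_of_le hVQ, ← MonoidHom.range_eq_map,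
        Subgroup.range_subtype]
    rw [← h1]
    exact (Subgroup.comap_map_eq_self_of_injective (Subgroup.subtype_injective Q) _).symm
  have h' : V.subgroupOf Q ≤ U.subgroupOf Q ⊔ ⁅V.subgroupOf Q, (⊤ : Subgroup ↥Q)⁆ := by
    rw [ecomm, ← Subgroup.subgroupOf_sup hUQ hcQ]
    intro x hx
    exact Subgroup.mem_subgroupOf.mpr (h (Subgroup.mem_subgroupOf.mp hx))
  have := nilp_le (U.subgroupOf Q) (V.subgroupOf Q) h'
  intro v hv
  exact Subgroup.mem_subgroupOf.mp (this (Subgroup.mem_subgroupOf.mpr (show ((⟨v, hVQ hv⟩ : ↥Q) : X) ∈ V from hv)))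

end Cfsg.Agent.Lib.helper17.Amal5
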