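import Mathlib
import Cfsg.Agent.Lib.helper17.PRed7

set_option autoImplicit false

namespace Cfsg.Agent.Lib.helper17

open scoped commutatorElement

variable {G : Type*} [Group G]

/-- The closure of a set of pairwise commuting elements of order dividing `p` is elementary abelian. -/
theorem closure_isElementaryAbelian {p : ℕ} {S : Set G} (hc : ∀ a ∈ S, ∀ b ∈ S, a * b = b * a)
    (hp : ∀ a ∈ S, a ^ p = 1) : Cfsg.IsElementaryAbelian p (Subgroup.closure S) := by
  have h1 : Subgroup.closure S ≤ Subgroup.centralizer ((Subgroup.closure S : Subgroup G) : Set G) := by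
    rw [Subgroup.centralizer_closure, Subgroup.closure_le]
    intro a ha
    rw [SetLike.mem_coe, Subgroup.mem_centralizer_iff]
    intro b hb
    exact hc b hb a ha
  rw [isElementaryAbelian_iff]
  refine ⟨fun a ha b hb => ((Subgroup.mem_centralizer_iff.mp (h1 hb)) a ha), ?_⟩
  intro a ha
  have key : a ∈ Subgroup.closure S ∧ a ^ p = 1 := by
    induction ha using Subgroup.closure_induction with
    | mem x hx => exact ⟨Subgroup.subset_closure hx, hp x hx⟩
    | one => exact ⟨Subgroup.one_mem _, one_pow p⟩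
    | mul x y _ _ ihx ihy =>
      refine ⟨Subgroup.mul_mem _ ihx.1 ihy.1, ?_⟩
      have hcomm : Commute x y := (Subgroup.mem_centralizer_iff.mp (h1 ihy.1)) x ihx.1
      rw [hcomm.mul_pow, ihx.2, ihy.2, one_mul]
    | inv x _ ihx =>
      exact ⟨Subgroup.inv_mem _ ihx.1, by rw [inv_pow, ihx.2, inv_one]⟩
  exact key.2

/-- If all `L`-conjugates of the elementary abelian `X` commute with `X`, then `⟨X^L⟩` is elementary abelian. -/
theorem conjClosure_isElementaryAbelian_of_commute {p : ℕ} {L X : Subgroup G}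
    (hX : Cfsg.IsElementaryAbelian p X)
    (h : ∀ l ∈ L, ∀ x ∈ X, ∀ y ∈ X, x * (l * y * l⁻¹) = (l * y * l⁻¹) * x) :
    Cfsg.IsElementaryAbelian p (conjClosure L X) := by
  have hXe := isElementaryAbelian_iff.mp hX
  have e : conjClosure L X = Subgroup.closure (⋃ l : ↥L, ((cj (l : G) X : Subgroup G) : Set G)) := by
    unfold conjClosure
    rw [Subgroup.closure_iUnion]
    congr 1
    ext l
    rw [Subgroup.closure_eq]
  rw [e]
  apply closure_isElementaryAbelian
  · intro a ha b hb
    obtain ⟨l, hl⟩ := Set.mem_iUnion.mp ha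
    obtain ⟨l', hl'⟩ := Set.mem_iUnion.mp hb
    obtain ⟨x, hx, rfl⟩ := hl
    obtain ⟨y, hy, rfl⟩ := hl'
    simp only [MulEquiv.coe_toMonoidHom, MulAut.conj_apply]
    have h1 := h ((l : G)⁻¹ * (l' : G)) (L.mul_mem (L.inv_mem l.2) l'.2) x hx y hy
    calc (l : G) * x * (l : G)⁻¹ * ((l' : G) * y * (l' : G)⁻¹)
        = (l : G) * (x * (((l : G)⁻¹ * (l' : G)) * y * ((l : G)⁻¹ * (l' : G))⁻¹)) * (l : G)⁻¹ := by group
      _ = (l : G) * ((((l : G)⁻¹ * (l' : G)) * y * ((l : G)⁻¹ * (l' : G))⁻¹) * x) * (l : G)⁻¹ := by rw [h1]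
      _ = (l' : G) * y * (l' : G)⁻¹ * ((l : G) * x * (l : G)⁻¹) := by group
  · intro a ha
    obtain ⟨l, hl⟩ := Set.mem_iUnion.mp ha
    obtain ⟨x, hx, rfl⟩ := hl
    simp only [MulEquiv.coe_toMonoidHom, MulAut.conj_apply]
    rw [conj_pow, hXe.2 x hx, mul_one, mul_inv_cancel]

/-- the normal closure in `N` of `X ≤ N`, seen in the ambient group, lies in `conjClosure N X` -/
theorem normalClosure_subgroupOf_map_le {N X : Subgroup G} (hXN : X ≤ N) :
    (Subgroup.normalClosure ((X.subgroupOf N : Subgroup ↥N) : Set ↥N)).map N.subtype ≤ conjClosure N X := by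
  have hn : ((conjClosure N X).subgroupOf N).Normal := iSup_cj_normal hXN
  have h1 : Subgroup.normalClosure ((X.subgroupOf N : Subgroup ↥N) : Set ↥N) ≤ (conjClosure N X).subgroupOf N := by
    apply Subgroup.normalClosure_le_normal
    intro x hx
    exact Subgroup.mem_subgroupOf.mpr (le_conjClosure N X (Subgroup.mem_subgroupOf.mp hx))
  rintro _ ⟨x, hx, rfl⟩
  exact Subgroup.mem_subgroupOf.mp (h1 hx)

/-- asymmetric subgroups: conjugates normalising each other commute -/
theorem commutator_eq_bot_of_not_isSymmetricIn {A : Subgroup G} (h : ¬ Cfsg.IsSymmetricIn A) {g : G}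
    (h1 : cj g A ≤ Subgroup.normalizer (A : Set G))
    (h2 : A ≤ Subgroup.normalizer ((cj g A : Subgroup G) : Set G)) : ⁅A, cj g A⁆ = ⊥ := by
  by_contra hne
  apply h
  refine ⟨g, hne, le_inf ?_ ?_⟩
  · rw [Subgroup.commutator_comm]
    exact Subgroup.le_normalizer_iff_commutator_le_right.mp h1
  · exact Subgroup.le_normalizer_iff_commutator_le_right.mp h2

end Cfsg.Agent.Lib.helper17
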