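import Mathlib
import Cfsg.Agent.Lib.helper17.PRed8

set_option autoImplicit false

namespace Cfsg.Agent.Lib.helper17

open scoped commutatorElement

variable {G : Type*} [Group G]

/-- `T ∩ C` is a maximal `p`-subgroup of `C` when the Sylow subgroup `T` normalises `C`. -/
theorem eq_sylow_inf_of_isPGroup [Finite G] {p : ℕ} [Fact p.Prime] (T : Sylow p G) {C P : Subgroup G}
    (hTC : (T : Subgroup G) ≤ Subgroup.normalizer (C : Set G)) (hP : IsPGroup p P) (hPC : P ≤ C)
    (h : (T : Subgroup G) ⊓ C ≤ P) : P = (T : Subgroup G) ⊓ C := by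
  have h1 : ((sylowInfOfLeNormalizer T hTC : Sylow p ↥C) : Subgroup ↥C) ≤ P.subgroupOf C := by
    rw [sylowInfOfLeNormalizer_coe]
    intro x hx
    exact Subgroup.mem_subgroupOf.mpr (h ⟨Subgroup.mem_subgroupOf.mp hx, x.2⟩)
  have h2 : P.subgroupOf C = (T : Subgroup G).subgroupOf C :=
    (sylowInfOfLeNormalizer T hTC).3 (hP.comap_subtype (K := C)) h1
  have h3 := congrArg (Subgroup.map C.subtype) h2
  rw [Subgroup.subgroupOf_map_subtype, Subgroup.subgroupOf_map_subtype, inf_eq_left.mpr hPC] at h3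
  exact h3

/-- In a `p`-closed subgroup `D` normalised by the Sylow subgroup `T`, every `p`-subgroup lies in `T`. -/
theorem le_sylow_of_isPClosed [Finite G] {p : ℕ} [Fact p.Prime] (T : Sylow p G) {D P : Subgroup G}
    (hTD : (T : Subgroup G) ≤ Subgroup.normalizer (D : Set G)) (hD : Cfsg.IsPClosed p ↥D)
    (hP : IsPGroup p P) (hPD : P ≤ D) : P ≤ (T : Subgroup G) := by
  obtain ⟨Q₀, hQ₀⟩ := (hP.comap_subtype (K := D)).exists_le_sylow
  have hn := hD (sylowInfOfLeNormalizer T hTD)
  have := Sylow.unique_of_normal (sylowInfOfLeNormalizer T hTD) hn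
  rw [Subsingleton.elim Q₀ (sylowInfOfLeNormalizer T hTD), sylowInfOfLeNormalizer_coe] at hQ₀
  intro x hx
  exact Subgroup.mem_subgroupOf.mp (hQ₀ (Subgroup.mem_subgroupOf.mpr (show ((⟨x, hPD hx⟩ : ↥D) : G) ∈ P from hx)))

theorem IsInFrakM.pCoreOf_eq [Finite G] {p : ℕ} [Fact p.Prime] (S : Sylow p G) {M : Subgroup G}
    (hSM : (S : Subgroup G) ≤ M) (hM : Cfsg.IsInFrakM p M) :
    Cfsg.pCoreOf p M = (S : Subgroup G) ⊓
      Subgroup.centralizer ((Cfsg.largestPReducedOf p M : Subgroup G) : Set G) := by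
  have hY : PRedIn p M (Cfsg.largestPReducedOf p M) := largestPReducedOf_pRedIn p M
  have hMC : M ≤ Subgroup.normalizer ((Subgroup.centralizer ((Cfsg.largestPReducedOf p M : Subgroup G) : Set G) : Subgroup G) : Set G) :=
    hY.2.1.trans (normalizer_le_normalizer_centralizer' _)
  have hMD : M ≤ Subgroup.normalizer ((M ⊓ Subgroup.centralizer ((Cfsg.largestPReducedOf p M : Subgroup G) : Set G) : Subgroup G) : Set G) :=
    le_normalizer_inf' Subgroup.le_normalizer hMC
  have hcl : Cfsg.IsPClosed p ↥(M ⊓ Subgroup.centralizer ((Cfsg.largestPReducedOf p M : Subgroup G) : Set G)) :=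
    hM.2.2.2.2.1
  apply le_antisymm
  · exact le_inf (pCoreOf_le_sylow S hSM) hY.pCoreOf_le_centralizer
  · apply le_pCoreOf (inf_le_left.trans hSM) (S.isPGroup'.to_le inf_le_left)
    apply le_normalizer_of_cj_le'
    intro m hm
    have hle : cj m ((S : Subgroup G) ⊓ Subgroup.centralizer ((Cfsg.largestPReducedOf p M : Subgroup G) : Set G)) ≤
        M ⊓ Subgroup.centralizer ((Cfsg.largestPReducedOf p M : Subgroup G) : Set G) := by
      rw [← cj_eq_self_iff.mpr (hMD hm)]
      exact cj_mono (inf_le_inf_right _ hSM)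
    apply le_inf
    · exact le_sylow_of_isPClosed S (hSM.trans hMD) hcl
        (isPGroup_cj (S.isPGroup'.to_le inf_le_left)) hle
    · exact hle.trans inf_le_right

end Cfsg.Agent.Lib.helper17
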