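import Mathlib
import Cfsg.Agent.Lib.helper17.FrakM
import Cfsg.Agent.S2845

set_option autoImplicit false

namespace Cfsg.Agent.Lib.helper17

open scoped commutatorElement

variable {G : Type*} [Group G]

theorem pCore_ne_bot_of_pCoreOf_ne_bot {p : ℕ} {X : Subgroup G} (h : Cfsg.pCoreOf p X ≠ ⊥) :
    Cfsg.pCore p ↥X ≠ ⊥ := by
  intro hbot
  apply h
  unfold Cfsg.pCoreOf
  rw [hbot, Subgroup.map_bot]

/-- With a large subgroup around, a subgroup containing a Sylow `p`-subgroup with `O_p ≠ 1` lies in `𝓛_G`. -/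
theorem mem_charPSubgroups_of_parabolic [Finite G] {p : ℕ} [Fact p.Prime] {Q : Subgroup G}
    (hQp : IsPGroup p Q) (hQ1 : Q ≠ ⊥) (hL : Cfsg.IsLarge Q) {X : Subgroup G}
    (hX : Cfsg.IsParabolic p X) (hP : Cfsg.pCoreOf p X ≠ ⊥) : X ∈ Cfsg.charPSubgroups p G := by
  refine ⟨pCore_ne_bot_of_pCoreOf_ne_bot hP, ?_⟩
  exact Cfsg.Agent.S2845.large_parabolic hQp hQ1 hL hX hP

/-- The basic property: every overgroup of `M` with `O_p ≠ 1` lies in `M†`. -/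
theorem IsInFrakM.le_dagger [Finite G] {p : ℕ} [Fact p.Prime] (S : Sylow p G) {Q : Subgroup G}
    (hQp : IsPGroup p Q) (hQ1 : Q ≠ ⊥) (hL : Cfsg.IsLarge Q) {M : Subgroup G}
    (hSM : (S : Subgroup G) ≤ M) (hM : Cfsg.IsInFrakM p M) {X : Subgroup G} (hMX : M ≤ X)
    (hP : Cfsg.pCoreOf p X ≠ ⊥) :
    X ≤ M ⊔ Subgroup.centralizer ((Cfsg.largestPReducedOf p M : Subgroup G) : Set G) := by
  have hX : X ∈ Cfsg.charPSubgroups p G :=
    mem_charPSubgroups_of_parabolic hQp hQ1 hL ⟨S, hSM.trans hMX⟩ hP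
  obtain ⟨X', hXX', hmax⟩ := Finite.exists_le_maximal (p := fun Z => Z ∈ Cfsg.charPSubgroups p G) hX
  have hX'max : X' ∈ Cfsg.maxCharPSubgroups p G := by
    refine ⟨hmax.1, ?_⟩
    intro Z hZ hX'Z
    exact le_antisymm (hmax.2 hZ hX'Z) hX'Z
  have := hM.2.2.1 X' hX'max (hMX.trans hXX')
  rw [← this]
  exact hXX'

/-- `N_G(I) ≤ M†` for a nontrivial normal `p`-subgroup `I` of `M`. -/
theorem IsInFrakM.normalizer_le_dagger [Finite G] {p : ℕ} [Fact p.Prime] (S : Sylow p G) {Q : Subgroup G}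
    (hQp : IsPGroup p Q) (hQ1 : Q ≠ ⊥) (hL : Cfsg.IsLarge Q) {M : Subgroup G}
    (hSM : (S : Subgroup G) ≤ M) (hM : Cfsg.IsInFrakM p M) {I : Subgroup G} (hI1 : I ≠ ⊥)
    (hIp : IsPGroup p I) (hMI : M ≤ Subgroup.normalizer (I : Set G)) :
    Subgroup.normalizer (I : Set G) ≤
      M ⊔ Subgroup.centralizer ((Cfsg.largestPReducedOf p M : Subgroup G) : Set G) := by
  apply IsInFrakM.le_dagger S hQp hQ1 hL hSM hM hMI
  have h1 : I ≤ Cfsg.pCoreOf p (Subgroup.normalizer (I : Set G)) :=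
    le_pCoreOf Subgroup.le_normalizer hIp le_rfl
  intro hbot
  apply hI1
  rw [← le_bot_iff, ← hbot]
  exact h1

end Cfsg.Agent.Lib.helper17
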