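import Mathlib
import Cfsg.Prelude.Def_LocalStructure
import Cfsg.Agent.Lib.helper17.Conj
import Cfsg.Agent.Lib.helper17.SylowNormal

set_option autoImplicit false

namespace Cfsg.Agent.Lib.helper17.PMF1

open Cfsg.Agent.Lib.helper17
open scoped Pointwise

variable {G : Type*} [Group G]

/-- `S` is a Sylow `p`-subgroup of `E` (ambient form). -/
structure SylIn (p : ℕ) (S E : Subgroup G) : Prop where
  le : S ≤ E
  pg : IsPGroup p S
  idx : ¬ p ∣ S.relIndex E

theorem SylIn.of_sylow [Finite G] {p : ℕ} [Fact p.Prime] (T : Sylow p G) :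
    SylIn p (T : Subgroup G) ⊤ :=
  ⟨le_top, T.isPGroup', by rw [Subgroup.relIndex_top_right]; exact T.not_dvd_index⟩

/-- Build an honest Sylow subgroup of `↥E`. -/
theorem SylIn.exists_sylow {p : ℕ} [Fact p.Prime] {S E : Subgroup G} (h : SylIn p S E) :
    ∃ P : Sylow p ↥E, (P : Subgroup ↥E) = S.subgroupOf E :=
  ⟨IsPGroup.toSylow (P := S.subgroupOf E) h.pg.comap_subtype h.idx, rfl⟩

theorem SylIn.mono {p : ℕ} {S D E : Subgroup G} (h : SylIn p S E) (hSD : S ≤ D) (hDE : D ≤ E) :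
    SylIn p S D := by
  refine ⟨hSD, h.pg, fun hd => h.idx ?_⟩
  rw [← Subgroup.relIndex_mul_relIndex S D E hSD hDE]
  exact Dvd.dvd.mul_right hd _

theorem SylIn.map_cj {p : ℕ} {S E : Subgroup G} (h : SylIn p S E) (g : G) :
    SylIn p (cj g S) (cj g E) := by
  refine ⟨cj_mono h.le, isPGroup_cj h.pg, ?_⟩
  have : (cj g S).relIndex (cj g E) = S.relIndex E :=
    Subgroup.relIndex_map_map_of_injective S E (MulAut.conj g).injective
  rw [this]
  exact h.idx

/-- A Sylow subgroup meets a normal subgroup in a Sylow subgroup (relative form). -/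
theorem SylIn.inf_of_normal [Finite G] {p : ℕ} [Fact p.Prime] {S N F : Subgroup G} (h : SylIn p S N)
    (hFN : F ≤ N) (hN : N ≤ Subgroup.normalizer (F : Set G)) : SylIn p (S ⊓ F) F := by
  refine ⟨inf_le_right, h.pg.to_le inf_le_left, ?_⟩
  rw [Subgroup.inf_relIndex_right]
  obtain ⟨P, hP⟩ := h.exists_sylow
  have : (F.subgroupOf N).Normal := Subgroup.normal_subgroupOf_of_le_normalizer hN
  have h1 := not_dvd_relIndex_of_normal P (F.subgroupOf N)
  rw [hP, Subgroup.relIndex_subgroupOf hFN] at h1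
  exact h1

/-- Two relative Sylow subgroups are conjugate. -/
theorem SylIn.exists_conj [Finite G] {p : ℕ} [Fact p.Prime] {S S' D : Subgroup G}
    (h : SylIn p S D) (h' : SylIn p S' D) : ∃ d ∈ D, S' = Cfsg.Agent.Lib.helper17.cj d S := by
  obtain ⟨P, hP⟩ := h.exists_sylow
  obtain ⟨P', hP'⟩ := h'.exists_sylow
  obtain ⟨d, hd⟩ := MulAction.exists_smul_eq (↥D) P P'
  refine ⟨d, d.2, ?_⟩
  have key : ∀ x : ↥D, x ∈ (P' : Subgroup ↥D) ↔ d⁻¹ * x * d ∈ (P : Subgroup ↥D) := by
    intro x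
    rw [← hd, Sylow.smul_def, Sylow.pointwise_smul_def,
      Subgroup.mem_pointwise_smul_iff_inv_smul_mem]
    simp [mul_assoc]
  rw [hP, hP'] at key
  ext x
  rw [mem_cj]
  constructor
  · intro hx
    have hxD : x ∈ D := h'.le hx
    have h1 := (key ⟨x, hxD⟩).mp (Subgroup.mem_subgroupOf.mpr hx)
    exact Subgroup.mem_subgroupOf.mp h1
  · intro hx
    have hxD : x ∈ D := by
      have h2 : (d : G)⁻¹ * x * d ∈ D := h.le hx
      have h3 := D.mul_mem (D.mul_mem d.2 h2) (D.inv_mem d.2)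
      simpa [mul_assoc] using h3
    have h1 := (key ⟨x, hxD⟩).mpr (Subgroup.mem_subgroupOf.mpr hx)
    exact Subgroup.mem_subgroupOf.mp h1

/-- Dedekind's law for a normal subgroup `Q ≤ X`. -/
theorem inf_sup_normal {Q : Subgroup G} [Q.Normal] {X : Subgroup G} (hQX : Q ≤ X) (E : Subgroup G) :
    X ⊓ (E ⊔ Q) = (X ⊓ E) ⊔ Q := by
  apply le_antisymm
  · rintro x ⟨hxX, hxEQ⟩
    obtain ⟨e, he, q, hq, rfl⟩ := Subgroup.mem_sup_of_normal_right.mp hxEQ
    have heX : e ∈ X := by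
      have := X.mul_mem hxX (X.inv_mem (hQX hq))
      simpa [mul_assoc] using this
    exact Subgroup.mul_mem_sup ⟨heX, he⟩ hq
  · exact sup_le (inf_le_inf_left _ le_sup_left) (le_inf hQX le_sup_right)

/-- The index of `T` in `E ⊔ Q` equals the index in `E` when `Q ≤ T` is normal. -/
theorem relIndex_sup_normal {Q : Subgroup G} [Q.Normal] {T : Subgroup G} (hQT : Q ≤ T) (E : Subgroup G) :
    T.relIndex (E ⊔ Q) = T.relIndex E := by
  have hker : (QuotientGroup.mk' Q).ker ≤ T := by rw [QuotientGroup.ker_mk']; exact hQT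
  have h1 : (T.map (QuotientGroup.mk' Q)).comap (QuotientGroup.mk' Q) = T :=
    Subgroup.comap_map_eq_self hker
  have h2 : ∀ K : Subgroup G, T.relIndex K = (T.map (QuotientGroup.mk' Q)).relIndex (K.map (QuotientGroup.mk' Q)) := by
    intro K
    conv_lhs => rw [← h1]
    exact Subgroup.relIndex_comap _ _ _
  rw [h2 (E ⊔ Q), h2 E, Subgroup.map_sup]
  have h3 : Q.map (QuotientGroup.mk' Q) = ⊥ := by
    rw [← le_bot_iff, Subgroup.map_le_iff_le_comap]
    intro x hx
    rw [Subgroup.mem_comap, Subgroup.mem_bot]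
    exact (QuotientGroup.eq_one_iff x).mpr hx
  rw [h3, sup_bot_eq]

end Cfsg.Agent.Lib.helper17.PMF1
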