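import Mathlib
import Cfsg.Agent.Lib.helper17.QS7

set_option autoImplicit false

namespace Cfsg.Agent.Lib.helper17

open scoped commutatorElement

open Cfsg.Agent.Lib.Lead (conjAut conjAut_coe)

section Norm

variable {G : Type*} [Group G]

/-- The "norm" from `L` to its abelianization with respect to a finite group `Q` normalizing `L`. -/
noncomputable def normAb (L Q : Subgroup G) [Fintype Q]
    (hQL : Q ≤ Subgroup.normalizer (L : Set G)) : L →* Abelianization L :=
  ∏ q : Q, (Abelianization.of).comp (conjAut L q (hQL q.2)).toMonoidHom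

theorem normAb_apply (L Q : Subgroup G) [Fintype Q]
    (hQL : Q ≤ Subgroup.normalizer (L : Set G)) (x : L) :
    normAb L Q hQL x = ∏ q : Q, Abelianization.of (conjAut L q (hQL q.2) x) := by
  simp [normAb]

theorem normAb_conj (L Q : Subgroup G) [Fintype Q]
    (hQL : Q ≤ Subgroup.normalizer (L : Set G)) (q₀ : Q) (x : L) :
    normAb L Q hQL (conjAut L q₀ (hQL q₀.2) x) = normAb L Q hQL x := by
  rw [normAb_apply, normAb_apply]
  apply Fintype.prod_equiv (Equiv.mulRight q₀)
  intro q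
  congr 1
  apply Subtype.ext
  simp [conjAut_coe, mul_assoc]

theorem normAb_of_mem_centralizer (L Q : Subgroup G) [Fintype Q]
    (hQL : Q ≤ Subgroup.normalizer (L : Set G)) (z : L)
    (hz : (z : G) ∈ Subgroup.centralizer (Q : Set G)) :
    normAb L Q hQL z = (Abelianization.of z) ^ Nat.card Q := by
  rw [normAb_apply]
  have h : ∀ q : Q, conjAut L q (hQL q.2) z = z := by
    intro q
    apply Subtype.ext
    rw [conjAut_coe]
    have h1 := (Subgroup.mem_centralizer_iff.mp hz) q q.2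
    rw [h1]
    group
  simp [h, Finset.prod_const, Nat.card_eq_fintype_card]

theorem normAb_commutator (L Q : Subgroup G) [Fintype Q]
    (hQL : Q ≤ Subgroup.normalizer (L : Set G)) {y : G} (hy : y ∈ ⁅L, Q⁆) :
    ∃ hyL : y ∈ L, normAb L Q hQL ⟨y, hyL⟩ = 1 := by
  rw [Subgroup.commutator_def] at hy
  induction hy using Subgroup.closure_induction with
  | mem y hy =>
    obtain ⟨x, hx, q, hq, rfl⟩ := hy
    have hc : q * x⁻¹ * q⁻¹ ∈ L :=
      (Subgroup.mem_normalizer_iff.mp (hQL hq) x⁻¹).mp (L.inv_mem hx)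
    have e : ⁅x, q⁆ = x * (q * x⁻¹ * q⁻¹) := by rw [commutatorElement_def]; group
    have hyL : ⁅x, q⁆ ∈ L := by rw [e]; exact L.mul_mem hx hc
    refine ⟨hyL, ?_⟩
    have e2 : (⟨⁅x, q⁆, hyL⟩ : L) = ⟨x, hx⟩ * conjAut L q (hQL hq) (⟨x, hx⟩⁻¹) := by
      apply Subtype.ext
      simp [conjAut_coe, e, mul_assoc]
    rw [e2, map_mul]
    have := normAb_conj L Q hQL ⟨q, hq⟩ (⟨x, hx⟩⁻¹)
    simp only at this
    rw [this, map_inv, mul_inv_cancel]
  | one => exact ⟨L.one_mem, map_one _⟩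
  | mul x y _ _ hx hy =>
    obtain ⟨hxL, ex⟩ := hx
    obtain ⟨hyL, ey⟩ := hy
    refine ⟨L.mul_mem hxL hyL, ?_⟩
    have e : (⟨x * y, L.mul_mem hxL hyL⟩ : L) = ⟨x, hxL⟩ * ⟨y, hyL⟩ := rfl
    rw [e, map_mul, ex, ey, one_mul]
  | inv x _ hx =>
    obtain ⟨hxL, ex⟩ := hx
    refine ⟨L.inv_mem hxL, ?_⟩
    have e : (⟨x⁻¹, L.inv_mem hxL⟩ : L) = (⟨x, hxL⟩ : L)⁻¹ := rfl
    rw [e, map_inv, ex, inv_one]

/-- The norm argument: an element of `[L,Q]` centralized by `Q` has its `|Q|`-th power in `L'`. -/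
theorem pow_card_mem_commutator_of_mem_centralizer (L Q : Subgroup G) [Finite Q]
    (hQL : Q ≤ Subgroup.normalizer (L : Set G)) {z : G} (hz : z ∈ ⁅L, Q⁆)
    (hzQ : z ∈ Subgroup.centralizer (Q : Set G)) :
    ∃ hzL : z ∈ L, (⟨z, hzL⟩ : L) ^ Nat.card Q ∈ commutator L := by
  have : Fintype Q := Fintype.ofFinite Q
  obtain ⟨hzL, h1⟩ := normAb_commutator L Q hQL hz
  refine ⟨hzL, ?_⟩
  rw [normAb_of_mem_centralizer L Q hQL ⟨z, hzL⟩ hzQ, ← map_pow] at h1
  rw [← Abelianization.ker_of]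
  exact h1

end Norm

section Frat

variable {L : Type*} [Group L]

theorem commutatorElement_mul_central_left {z : L} (hz : z ∈ Subgroup.center L) (m y : L) :
    ⁅m * z, y⁆ = ⁅m, y⁆ := by
  have h := Subgroup.mem_center_iff.mp hz
  rw [commutatorElement_def, commutatorElement_def]
  have e : m * z * y * (m * z)⁻¹ * y⁻¹ = m * (z * y) * z⁻¹ * m⁻¹ * y⁻¹ := by group
  rw [e, ← h y]
  group

theorem commutatorElement_mul_central_right {z : L} (hz : z ∈ Subgroup.center L) (x m : L) :
    ⁅x, m * z⁆ = ⁅x, m⁆ := by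
  have h := Subgroup.mem_center_iff.mp hz
  rw [commutatorElement_def, commutatorElement_def]
  have e : x * (m * z) * x⁻¹ * (m * z)⁻¹ = x * m * (z * x⁻¹) * z⁻¹ * m⁻¹ := by group
  rw [e, ← h x⁻¹]
  group

/-- A central subgroup inside the derived subgroup lies in the Frattini subgroup. -/
theorem le_frattini_of_central_of_le_commutator (Z : Subgroup L)
    (hZc : Z ≤ Subgroup.center L) (hZd : Z ≤ commutator L) : Z ≤ frattini L := by
  unfold frattini Order.radical
  apply le_iInf₂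
  intro M hM
  by_contra hZM
  have htop : M ⊔ Z = ⊤ := by
    by_contra hne
    have hlt : M ⊔ Z < ⊤ := lt_top_iff_ne_top.mpr hne
    have := hM.le_iff_eq hne
    have h2 : M ⊔ Z = M := by
      by_contra h3
      exact hne (hM.2 _ (lt_of_le_of_ne le_sup_left (Ne.symm h3)))
    exact hZM (h2 ▸ le_sup_right)
  have hZn : Z.Normal := by
    refine ⟨fun n hn g => ?_⟩
    have h := Subgroup.mem_center_iff.mp (hZc hn)
    rw [h g]
    simpa using hn
  have hcomm : commutator L ≤ M := by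
    rw [commutator_def, Subgroup.commutator_le]
    intro x _ y _
    have hx : x ∈ M ⊔ Z := htop ▸ Subgroup.mem_top x
    have hy : y ∈ M ⊔ Z := htop ▸ Subgroup.mem_top y
    obtain ⟨m, hm, z, hz, rfl⟩ := Subgroup.mem_sup_of_normal_right.mp hx
    obtain ⟨m', hm', z', hz', rfl⟩ := Subgroup.mem_sup_of_normal_right.mp hy
    rw [commutatorElement_mul_central_left (hZc hz), commutatorElement_mul_central_right (hZc hz')]
    exact Subgroup.commutator_mem_commutator hm hm' |> fun h =>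
      (Subgroup.commutator_le_self M) h
  exact hZM (hZd.trans hcomm)

end Frat

end Cfsg.Agent.Lib.helper17
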