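import Mathlib
import Cfsg.Agent.Lib.helper17.QS8

set_option autoImplicit false

namespace Cfsg.Agent.Lib.helper17

open scoped commutatorElement

variable {G : Type*} [Group G]

theorem centralizer_sup_eq (A B : Subgroup G) :
    Subgroup.centralizer ((A ⊔ B : Subgroup G) : Set G) =
      Subgroup.centralizer (A : Set G) ⊓ Subgroup.centralizer (B : Set G) := by
  apply le_antisymm
  · exact le_inf (Subgroup.centralizer_le (show A ≤ A ⊔ B from le_sup_left))
      (Subgroup.centralizer_le (show B ≤ A ⊔ B from le_sup_right))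
  · intro x hx
    exact mem_centralizer_sup hx.1 hx.2

theorem le_normalizer_centralizer' {X A : Subgroup G}
    (h : X ≤ Subgroup.normalizer (A : Set G)) :
    X ≤ Subgroup.normalizer ((Subgroup.centralizer (A : Set G) : Subgroup G) : Set G) := by
  intro x hx
  rw [← cj_eq_self_iff, ← centralizer_cj, cj_eq_self_iff.mpr (h hx)]

/-- If `X` normalizes `T` and `T` centralizes `[X,Q]`, then `X` normalizes `C_T(Q)`. -/
theorem le_normalizer_inf_centralizer_of_le_centralizer_commutator {X Q T : Subgroup G}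
    (hXT : X ≤ Subgroup.normalizer (T : Set G))
    (hTL : T ≤ Subgroup.centralizer ((⁅X, Q⁆ : Subgroup G) : Set G)) :
    X ≤ Subgroup.normalizer ((T ⊓ Subgroup.centralizer (Q : Set G) : Subgroup G) : Set G) := by
  apply le_normalizer_of_cj_le'
  intro x hx
  rintro _ ⟨t, ⟨htT, htQ⟩, rfl⟩
  have h1 : x * t * x⁻¹ ∈ T := (Subgroup.mem_normalizer_iff.mp (hXT hx) t).mp htT
  simp only [MulEquiv.coe_toMonoidHom, MulAut.conj_apply]
  refine ⟨h1, ?_⟩
  change x * t * x⁻¹ ∈ Subgroup.centralizer (Q : Set G)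
  have htQ' : t ∈ Subgroup.centralizer (Q : Set G) := htQ
  rw [Subgroup.mem_centralizer_iff]
  intro q hq
  have hc : ⁅q, x⁆ ∈ ⁅X, Q⁆ := by
    rw [Subgroup.commutator_comm]
    exact Subgroup.commutator_mem_commutator hq hx
  have h2 := (Subgroup.mem_centralizer_iff.mp (hTL h1)) _ hc
  have h3 := (Subgroup.mem_centralizer_iff.mp htQ') q hq
  calc q * (x * t * x⁻¹) = ⁅q, x⁆ * (x * (q * t) * q⁻¹ * x⁻¹) * ⁅q, x⁆⁻¹ * q := by
        rw [commutatorElement_def]; group
    _ = ⁅q, x⁆ * (x * t * x⁻¹) * ⁅q, x⁆⁻¹ * q := by rw [h3]; group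
    _ = (x * t * x⁻¹) * ⁅q, x⁆ * ⁅q, x⁆⁻¹ * q := by rw [h2]
    _ = x * t * x⁻¹ * q := by group

theorem map_commutator_subtype (L : Subgroup G) : (commutator L).map L.subtype = ⁅L, L⁆ := by
  rw [commutator_def, Subgroup.map_commutator, ← MonoidHom.range_eq_map, Subgroup.range_subtype]

end Cfsg.Agent.Lib.helper17
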