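import Mathlib
import Cfsg.Prelude.Def_LocalStructure
import Cfsg.Agent.Lib.helper17.Op
import Cfsg.Agent.Lib.helper17.Large2

set_option autoImplicit false
set_option linter.unusedSectionVars false
set_option linter.unusedVariables false

open scoped commutatorElement

namespace Cfsg.Agent.Lib.helper17

variable {G : Type*} [Group G]

/-- three subgroups lemma modulo a normal subgroup -/
theorem three_subgroups_normal' (H₁ H₂ H₃ K : Subgroup G) [K.Normal]
    (h1 : ⁅⁅H₂, H₃⁆, H₁⁆ ≤ K) (h2 : ⁅⁅H₃, H₁⁆, H₂⁆ ≤ K) : ⁅⁅H₁, H₂⁆, H₃⁆ ≤ K := by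
  have e : ∀ A B C : Subgroup G, ⁅⁅A, B⁆, C⁆ ≤ K ↔
      ⁅⁅A.map (QuotientGroup.mk' K), B.map (QuotientGroup.mk' K)⁆, C.map (QuotientGroup.mk' K)⁆ = ⊥ := by
    intro A B C
    rw [← Subgroup.map_commutator, ← Subgroup.map_commutator, Subgroup.map_eq_bot_iff,
      QuotientGroup.ker_mk']
  rw [e] at h1 h2 ⊢
  exact Subgroup.commutator_commutator_eq_bot_of_rotate h1 h2

/-- Three subgroups lemma modulo a subgroup `N` normalized by the three subgroups. -/
theorem three_subgroups_rel {A B C N : Subgroup G}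
    (hA : A ≤ Subgroup.normalizer (N : Set G)) (hB : B ≤ Subgroup.normalizer (N : Set G))
    (hC : C ≤ Subgroup.normalizer (N : Set G))
    (h1 : ⁅⁅B, C⁆, A⁆ ≤ N) (h2 : ⁅⁅C, A⁆, B⁆ ≤ N) : ⁅⁅A, B⁆, C⁆ ≤ N := by
  set X := Subgroup.normalizer (N : Set G) with hX
  have hn : (N.subgroupOf X).Normal := Subgroup.normal_in_normalizer
  have key : ∀ S T U : Subgroup G, S ≤ X → T ≤ X → U ≤ X →
      (⁅⁅S, T⁆, U⁆ ≤ N ↔ ⁅⁅S.subgroupOf X, T.subgroupOf X⁆, U.subgroupOf X⁆ ≤ N.subgroupOf X) := by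
    intro S T U hS hT hU
    have e : (⁅⁅S.subgroupOf X, T.subgroupOf X⁆, U.subgroupOf X⁆).map X.subtype = ⁅⁅S, T⁆, U⁆ := by
      rw [Subgroup.map_commutator, Subgroup.map_commutator, Subgroup.map_subgroupOf_eq_of_le hS,
        Subgroup.map_subgroupOf_eq_of_le hT, Subgroup.map_subgroupOf_eq_of_le hU]
    rw [← e, Subgroup.map_le_iff_le_comap]
    rfl
  rw [key A B C hA hB hC]
  rw [key B C A hB hC hA] at h1
  rw [key C A B hC hA hB] at h2
  exact three_subgroups_normal' _ _ _ _ h1 h2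

/-- Binary version of `commutator_iSup_le`. -/
theorem commutator_sup_le' {A B C E : Subgroup G}
    (hn : A ⊔ B ≤ Subgroup.normalizer (E : Set G)) (hA : ⁅A, C⁆ ≤ E) (hB : ⁅B, C⁆ ≤ E) :
    ⁅A ⊔ B, C⁆ ≤ E := by
  have h1 : A ⊔ B = ⨆ b : Bool, (bif b then A else B) := by
    rw [iSup_bool_eq]
    rfl
  rw [h1] at hn ⊢
  apply commutator_iSup_le _ C E hn
  intro b
  cases b
  · exact hB
  · exact hA

/-- `Q^k ≤ [K, Q] Q` for `k ∈ K`. -/
theorem cj_le_commutator_sup {K Q : Subgroup G} {k : G} (hk : k ∈ K) : cj k Q ≤ ⁅K, Q⁆ ⊔ Q := by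
  rintro _ ⟨q, hq, rfl⟩
  have e : (MulAut.conj k).toMonoidHom q = ⁅k, q⁆ * q := by
    simp [commutatorElement_def]
  rw [e]
  exact Subgroup.mul_mem_sup (Subgroup.commutator_mem_commutator hk hq) hq

/-- In a subgroup `L` containing the weakly closed `Q`, every `L`-conjugate of `Q` is an
`O^p(L)`-conjugate. -/
theorem WCStrong.conj_by_opOf [Finite G] {p : ℕ} [Fact p.Prime] {Q L : Subgroup G}
    (h : WCStrong p Q) (hQ : IsPGroup p Q) (hQL : Q ≤ L) {l : G} (hl : l ∈ L) :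
    ∃ k ∈ opOf p L, cj l Q = cj k Q := by
  obtain ⟨T, hT⟩ := (hQ.comap_subtype (K := L) : IsPGroup p (Q.subgroupOf L)).exists_le_sylow
  have hsup := pResidual_sup_sylow T
  have hn : (Cfsg.pResidual p ↥L).Normal := pResidual_normal p ↥L
  have hmem : (⟨l, hl⟩ : ↥L) ∈ Cfsg.pResidual p ↥L ⊔ (T : Subgroup ↥L) := by
    rw [hsup]; trivial
  have hLE : (T : Subgroup ↥L) ≤ Subgroup.normalizer ((Cfsg.pResidual p ↥L : Subgroup ↥L) : Set ↥L) := by
    rw [Subgroup.normalizer_eq_top_iff.mpr hn]; exact le_top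
  obtain ⟨k', hk', t', ht', hkt⟩ := exists_mul_of_mem_sup_right hLE hmem
  have hk : (k' : G) ∈ opOf p L := by
    rw [← map_pResidual_eq_opOf]
    exact ⟨k', hk', rfl⟩
  have hQR : Q ≤ (T : Subgroup ↥L).map L.subtype := by
    intro x hx
    exact ⟨⟨x, hQL hx⟩, hT (Subgroup.mem_subgroupOf.mpr hx), rfl⟩
  have hR : IsPGroup p ((T : Subgroup ↥L).map L.subtype) := T.isPGroup'.map _
  have ht : (t' : G) ∈ Subgroup.normalizer (Q : Set G) :=
    h.normalizer_le hR hQR (Subgroup.le_normalizer ⟨t', ht', rfl⟩)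
  refine ⟨k', hk, ?_⟩
  have e : l = (k' : G) * (t' : G) := congrArg Subtype.val hkt
  rw [e, cj_mul, cj_eq_self_iff.mpr ht]

/-- For `Q ≤ L ≤ N_G(...)`: if `L` is generated by `L`-conjugates of the weakly closed `Q`, then
`L = [O^p(L), Q] Q`. -/
theorem WCStrong.le_commutator_opOf_sup [Finite G] {p : ℕ} [Fact p.Prime] {Q L : Subgroup G}
    (h : WCStrong p Q) (hQ : IsPGroup p Q) (hQL : Q ≤ L) {ι : Type*} (f : ι → G)
    (hL : L = ⨆ i, cj (f i) Q) : L ≤ ⁅opOf p L, Q⁆ ⊔ Q := by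
  have hle : ∀ i, cj (f i) Q ≤ L := by
    intro i
    rw [hL]
    exact le_iSup (fun i => cj (f i) Q) i
  conv_lhs => rw [hL]
  apply iSup_le
  intro i
  obtain ⟨l, hl, hl2⟩ := h.conj_in_subgroup hQ hQL (f i) (hle i)
  obtain ⟨k, hk, hk2⟩ := h.conj_by_opOf hQ hQL hl
  rw [hl2, hk2]
  exact cj_le_commutator_sup hk

/-- If moreover `Q` normalizes `L`... in fact always: `O^p(L) = [O^p(L), Q]`. -/
theorem WCStrong.opOf_eq_commutator [Finite G] {p : ℕ} [Fact p.Prime] {Q L : Subgroup G}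
    (h : WCStrong p Q) (hQ : IsPGroup p Q) (hQL : Q ≤ L) {ι : Type*} (f : ι → G)
    (hL : L = ⨆ i, cj (f i) Q) : ⁅opOf p L, Q⁆ = opOf p L := by
  have hQN : Q ≤ Subgroup.normalizer ((opOf p L : Subgroup G) : Set G) :=
    (hQL.trans Subgroup.le_normalizer).trans (normalizer_le_normalizer_opOf p L)
  have hle : ⁅opOf p L, Q⁆ ≤ opOf p L := Subgroup.le_normalizer_iff_commutator_le_left.mp hQN
  apply le_antisymm hle
  have h1 := h.le_commutator_opOf_sup hQ hQL f hL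
  apply opOf_le_of_le_sup (hle.trans (opOf_le p L)) ?_ hQ hQL h1
  refine h1.trans ?_
  apply sup_le
  · exact hle.trans (Subgroup.normalizer_commutator_ge_left _ _)
  · exact Subgroup.normalizer_commutator_ge_right _ _

theorem WCStrong.eq_opOf_sup [Finite G] {p : ℕ} [Fact p.Prime] {Q L : Subgroup G}
    (h : WCStrong p Q) (hQ : IsPGroup p Q) (hQL : Q ≤ L) {ι : Type*} (f : ι → G)
    (hL : L = ⨆ i, cj (f i) Q) : L = opOf p L ⊔ Q := by
  apply le_antisymm
  · refine (h.le_commutator_opOf_sup hQ hQL f hL).trans (sup_le_sup_right ?_ Q)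
    rw [h.opOf_eq_commutator hQ hQL f hL]
  · exact sup_le (opOf_le p L) hQL

end Cfsg.Agent.Lib.helper17
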