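import Mathlib
import Cfsg.Prelude.Def_LocalStructure
import Cfsg.Agent.Lib.helper17.WCProd
import Cfsg.Agent.Lib.helper17.CharP4
import Cfsg.Agent.Lib.helper17.Amalgam3

set_option autoImplicit false
set_option linter.unusedSectionVars false
set_option linter.unusedVariables false

open scoped commutatorElement

namespace Cfsg.Agent.Lib.helper17

variable {G : Type*} [Group G]

/-- The weak closure of `Q` in `A Q`, as a join of conjugates. -/
def wcl (Q A : Subgroup G) : Subgroup G := ⨆ k : ↥(A ⊔ Q), cj (k : G) Q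

/-- The setting: `H° = ⟨Q^G⟩ = A B` with `A, B ⊴ H°`, `[A, B] ≤ N(Q)`. -/
structure ProdSetting (p : ℕ) (Q Hc A B : Subgroup G) : Prop where
  wc : WCStrong p Q
  pgrp : IsPGroup p Q
  hc : Hc = ⨆ g : G, cj g Q
  leA : A ≤ Hc
  nA : Hc ≤ Subgroup.normalizer (A : Set G)
  leB : B ≤ Hc
  nB : Hc ≤ Subgroup.normalizer (B : Set G)
  prod : A ⊔ B = Hc
  comm : ⁅A, B⁆ ≤ Subgroup.normalizer (Q : Set G)

namespace ProdSetting

variable {p : ℕ} [hp : Fact p.Prime] [Finite G] {Q Hc A B : Subgroup G}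

theorem symm (s : ProdSetting p Q Hc A B) : ProdSetting p Q Hc B A :=
  ⟨s.wc, s.pgrp, s.hc, s.leB, s.nB, s.leA, s.nA, by rw [sup_comm]; exact s.prod,
    by rw [Subgroup.commutator_comm]; exact s.comm⟩

theorem cj_le (s : ProdSetting p Q Hc A B) (g : G) : cj g Q ≤ Hc := by
  rw [s.hc]; exact le_iSup (fun g => cj g Q) g

theorem Q_le (s : ProdSetting p Q Hc A B) : Q ≤ Hc := by
  have := s.cj_le 1
  rwa [cj_one] at this

theorem D_le_A (s : ProdSetting p Q Hc A B) : ⁅A, B⁆ ≤ A :=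
  Subgroup.le_normalizer_iff_commutator_le_left.mp (s.leB.trans s.nA)

theorem D_le_B (s : ProdSetting p Q Hc A B) : ⁅A, B⁆ ≤ B :=
  Subgroup.le_normalizer_iff_commutator_le_right.mp (s.leA.trans s.nB)

theorem nD (s : ProdSetting p Q Hc A B) : Hc ≤ Subgroup.normalizer ((⁅A, B⁆ : Subgroup G) : Set G) :=
  le_normalizer_commutator s.nA s.nB

theorem nP (s : ProdSetting p Q Hc A B) :
    Hc ≤ Subgroup.normalizer ((Cfsg.pCoreOf p ⁅A, B⁆ : Subgroup G) : Set G) :=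
  s.nD.trans (normalizer_le_normalizer_pCoreOf p _)

theorem P_le_A (s : ProdSetting p Q Hc A B) : Cfsg.pCoreOf p ⁅A, B⁆ ≤ A :=
  (pCoreOf_le p _).trans s.D_le_A

theorem P_le_B (s : ProdSetting p Q Hc A B) : Cfsg.pCoreOf p ⁅A, B⁆ ≤ B :=
  (pCoreOf_le p _).trans s.D_le_B

/-- `[Q^g, D] ≤ O_p(D)`. -/
theorem comm_cj_D (s : ProdSetting p Q Hc A B) (g : G) :
    ⁅cj g Q, ⁅A, B⁆⁆ ≤ Cfsg.pCoreOf p ⁅A, B⁆ := by
  obtain ⟨h, hh, hgh⟩ := s.wc.conj_in_subgroup s.pgrp s.Q_le g (s.cj_le g)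
  rw [hgh]
  have hDn : ⁅A, B⁆ ≤ Subgroup.normalizer ((cj h Q : Subgroup G) : Set G) := by
    rw [normalizer_cj]
    have h1 : cj h ⁅A, B⁆ = ⁅A, B⁆ := cj_eq_self_iff.mpr (s.nD hh)
    rw [← h1]
    exact cj_mono s.comm
  have h1 : ⁅cj h Q, ⁅A, B⁆⁆ ≤ cj h Q := Subgroup.le_normalizer_iff_commutator_le_left.mp hDn
  have h2 : ⁅cj h Q, ⁅A, B⁆⁆ ≤ ⁅A, B⁆ :=
    Subgroup.le_normalizer_iff_commutator_le_right.mp ((s.cj_le h).trans s.nD)
  refine (le_inf h1 h2).trans ?_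
  apply le_pCoreOf inf_le_right ((isPGroup_cj s.pgrp).to_le inf_le_left)
  exact le_normalizer_inf' hDn Subgroup.le_normalizer

/-- `[H°, D] ≤ O_p(D)`. -/
theorem comm_Hc_D (s : ProdSetting p Q Hc A B) :
    ⁅Hc, ⁅A, B⁆⁆ ≤ Cfsg.pCoreOf p ⁅A, B⁆ := by
  have hn := s.nP
  rw [s.hc] at hn ⊢
  exact commutator_iSup_le _ _ _ hn s.comm_cj_D

theorem comm_D_Hc (s : ProdSetting p Q Hc A B) :
    ⁅⁅A, B⁆, Hc⁆ ≤ Cfsg.pCoreOf p ⁅A, B⁆ := by
  rw [Subgroup.commutator_comm]; exact s.comm_Hc_D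

/-! ### The `A`-side -/

theorem Q_le_sup (Q A : Subgroup G) : Q ≤ A ⊔ Q := le_sup_right

theorem Q_le_wcl (Q A : Subgroup G) : Q ≤ wcl Q A := le_iSup_cj (A ⊔ Q) Q

theorem wcl_le (Q A : Subgroup G) : wcl Q A ≤ A ⊔ Q :=
  iSup_le fun k => cj_le_of_mem le_sup_right k.2

theorem sup_le_normalizer_wcl (Q A : Subgroup G) :
    A ⊔ Q ≤ Subgroup.normalizer ((wcl Q A : Subgroup G) : Set G) := by
  have h := iSup_cj_normal (K := A ⊔ Q) (Q := Q) le_sup_right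
  exact (Subgroup.normal_subgroupOf_iff_le_normalizer (wcl_le Q A)).mp h

theorem sup_le_normalizer_K (Q A : Subgroup G) :
    A ⊔ Q ≤ Subgroup.normalizer ((opOf p (wcl Q A) : Subgroup G) : Set G) :=
  (sup_le_normalizer_wcl Q A).trans (normalizer_le_normalizer_opOf p _)

theorem K_comm_Q (s : ProdSetting p Q Hc A B) : ⁅opOf p (wcl Q A), Q⁆ = opOf p (wcl Q A) :=
  s.wc.opOf_eq_commutator s.pgrp (Q_le_wcl Q A) (fun k : ↥(A ⊔ Q) => (k : G)) rfl

theorem wcl_eq (s : ProdSetting p Q Hc A B) : wcl Q A = opOf p (wcl Q A) ⊔ Q :=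
  s.wc.eq_opOf_sup s.pgrp (Q_le_wcl Q A) (fun k : ↥(A ⊔ Q) => (k : G)) rfl

theorem K_le_A (s : ProdSetting p Q Hc A B) : opOf p (wcl Q A) ≤ A := by
  have hQA : Q ≤ Subgroup.normalizer (A : Set G) := s.Q_le.trans s.nA
  have h1 : opOf p (wcl Q A) ≤ A ⊓ wcl Q A := by
    apply opOf_le_of_le_sup inf_le_right ?_ s.pgrp (Q_le_wcl Q A)
    · intro l hl
      obtain ⟨a, ha, q, hq, rfl⟩ := exists_mul_of_mem_sup_right hQA (wcl_le Q A hl)
      have haL : a ∈ wcl Q A := by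
        have := Subgroup.mul_mem _ hl (Subgroup.inv_mem _ (Q_le_wcl Q A hq))
        simpa using this
      exact Subgroup.mul_mem_sup (Subgroup.mem_inf.mpr ⟨ha, haL⟩) hq
    · apply le_normalizer_inf' _ Subgroup.le_normalizer
      exact (wcl_le Q A).trans (sup_le Subgroup.le_normalizer hQA)
  exact h1.trans inf_le_left

theorem K_le_Hc (s : ProdSetting p Q Hc A B) : opOf p (wcl Q A) ≤ Hc := s.K_le_A.trans s.leA

theorem nAA (s : ProdSetting p Q Hc A B) : Hc ≤ Subgroup.normalizer ((⁅A, A⁆ : Subgroup G) : Set G) :=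
  le_normalizer_commutator s.nA s.nA

/-- `K ≤ [A, A] D`. -/
theorem K_le_AA_D (s : ProdSetting p Q Hc A B) : opOf p (wcl Q A) ≤ ⁅A, A⁆ ⊔ ⁅A, B⁆ := by
  have h1 : ⁅A ⊔ B, opOf p (wcl Q A)⁆ ≤ ⁅A, A⁆ ⊔ ⁅A, B⁆ := by
    apply commutator_sup_le'
    · rw [s.prod]; exact le_normalizer_sup s.nAA s.nD
    · exact (Subgroup.commutator_mono le_rfl s.K_le_A).trans le_sup_left
    · rw [Subgroup.commutator_comm A B]
      exact (Subgroup.commutator_mono le_rfl s.K_le_A).trans le_sup_right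
  rw [s.prod, Subgroup.commutator_comm] at h1
  rw [← s.K_comm_Q]
  exact (Subgroup.commutator_mono le_rfl s.Q_le).trans h1

/-- `K ≤ [A, A] O_p(D)`. -/
theorem K_le_AA_P (s : ProdSetting p Q Hc A B) :
    opOf p (wcl Q A) ≤ ⁅A, A⁆ ⊔ Cfsg.pCoreOf p ⁅A, B⁆ := by
  have hAA : ⁅A, A⁆ ≤ Hc := (Subgroup.commutator_le_self A).trans s.leA
  have h1 : ⁅⁅A, A⁆ ⊔ ⁅A, B⁆, Q⁆ ≤ ⁅A, A⁆ ⊔ Cfsg.pCoreOf p ⁅A, B⁆ := by
    apply commutator_sup_le'
    · exact (sup_le hAA (s.D_le_A.trans s.leA)).trans (le_normalizer_sup s.nAA s.nP)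
    · exact (Subgroup.le_normalizer_iff_commutator_le_left.mp (s.Q_le.trans s.nAA)).trans le_sup_left
    · exact ((Subgroup.commutator_mono le_rfl s.Q_le).trans s.comm_D_Hc).trans le_sup_right
  rw [← s.K_comm_Q]
  exact (Subgroup.commutator_mono s.K_le_AA_D le_rfl).trans h1

theorem K_eq_opOf (p : ℕ) (Q A : Subgroup G) : opOf p (opOf p (wcl Q A)) = opOf p (wcl Q A) :=
  opOf_opOf p _

/-- (3) `K ≤ [A, A]`. -/
theorem K_le_AA (s : ProdSetting p Q Hc A B) : opOf p (wcl Q A) ≤ ⁅A, A⁆ := by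
  have hAA : ⁅A, A⁆ ≤ Hc := (Subgroup.commutator_le_self A).trans s.leA
  refine (le_of_eq (K_eq_opOf p Q A).symm).trans ((opOf_mono s.K_le_AA_P).trans ?_)
  apply opOf_le_of_le_sup le_sup_left ?_ (pCoreOf_isPGroup p _) le_sup_right le_rfl
  exact (sup_le hAA (s.P_le_A.trans s.leA)).trans s.nAA

/-- `[[A, A], B] ≤ O_p(D)`. -/
theorem comm_AA_B (s : ProdSetting p Q Hc A B) : ⁅⁅A, A⁆, B⁆ ≤ Cfsg.pCoreOf p ⁅A, B⁆ := by
  apply three_subgroups_rel (s.leA.trans s.nP) (s.leA.trans s.nP) (s.leB.trans s.nP)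
  · exact (Subgroup.commutator_mono le_rfl s.leA).trans s.comm_D_Hc
  · rw [Subgroup.commutator_comm B A]
    exact (Subgroup.commutator_mono le_rfl s.leA).trans s.comm_D_Hc

theorem comm_K_B (s : ProdSetting p Q Hc A B) :
    ⁅opOf p (wcl Q A), B⁆ ≤ Cfsg.pCoreOf p ⁅A, B⁆ :=
  (Subgroup.commutator_mono s.K_le_AA le_rfl).trans s.comm_AA_B

theorem A_le_nK (s : ProdSetting p Q Hc A B) :
    A ≤ Subgroup.normalizer ((opOf p (wcl Q A) : Subgroup G) : Set G) :=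
  le_sup_left.trans (sup_le_normalizer_K Q A)

theorem B_le_nK (s : ProdSetting p Q Hc A B) :
    B ≤ Subgroup.normalizer ((opOf p (wcl Q A) : Subgroup G) : Set G) := by
  have hPK : Cfsg.pCoreOf p ⁅A, B⁆ ≤ Subgroup.normalizer ((opOf p (wcl Q A) : Subgroup G) : Set G) :=
    s.P_le_A.trans s.A_le_nK
  have h1 : ⁅opOf p (wcl Q A) ⊔ Cfsg.pCoreOf p ⁅A, B⁆, B⁆ ≤
      opOf p (wcl Q A) ⊔ Cfsg.pCoreOf p ⁅A, B⁆ := by
    apply commutator_sup_le' Subgroup.le_normalizer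
    · exact s.comm_K_B.trans le_sup_right
    · exact (Subgroup.le_normalizer_iff_commutator_le_left.mp (s.leB.trans s.nP)).trans le_sup_right
  have h2 : B ≤ Subgroup.normalizer
      ((opOf p (wcl Q A) ⊔ Cfsg.pCoreOf p ⁅A, B⁆ : Subgroup G) : Set G) :=
    Subgroup.le_normalizer_iff_commutator_le_left.mpr h1
  have h3 : opOf p (opOf p (wcl Q A) ⊔ Cfsg.pCoreOf p ⁅A, B⁆) = opOf p (wcl Q A) := by
    apply le_antisymm
    · apply opOf_le_of_le_sup le_sup_left ?_ (pCoreOf_isPGroup p _) le_sup_right le_rfl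
      exact sup_le Subgroup.le_normalizer hPK
    · conv_lhs => rw [← K_eq_opOf]
      exact opOf_mono le_sup_left
  rw [← h3]
  exact h2.trans (normalizer_le_normalizer_opOf p _)

/-- (4) `K ⊴ H°`. -/
theorem Hc_le_nK (s : ProdSetting p Q Hc A B) :
    Hc ≤ Subgroup.normalizer ((opOf p (wcl Q A) : Subgroup G) : Set G) := by
  rw [← s.prod]
  exact sup_le s.A_le_nK s.B_le_nK

/-- (2) `[K, A] = K`. -/
theorem K_comm_A (s : ProdSetting p Q Hc A B) : ⁅opOf p (wcl Q A), A⁆ = opOf p (wcl Q A) := by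
  have hle : ⁅opOf p (wcl Q A), A⁆ ≤ opOf p (wcl Q A) :=
    Subgroup.le_normalizer_iff_commutator_le_left.mp s.A_le_nK
  apply le_antisymm hle
  have hnKA : Hc ≤ Subgroup.normalizer ((⁅opOf p (wcl Q A), A⁆ : Subgroup G) : Set G) :=
    le_normalizer_commutator s.Hc_le_nK s.nA
  have h1 : ⁅A ⊔ B, opOf p (wcl Q A)⁆ ≤ ⁅opOf p (wcl Q A), A⁆ ⊔ Cfsg.pCoreOf p ⁅A, B⁆ := by
    apply commutator_sup_le'
    · rw [s.prod]; exact le_normalizer_sup hnKA s.nP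
    · rw [Subgroup.commutator_comm]; exact le_sup_left
    · rw [Subgroup.commutator_comm]; exact s.comm_K_B.trans le_sup_right
  rw [s.prod, Subgroup.commutator_comm] at h1
  have h2 : opOf p (wcl Q A) ≤ ⁅opOf p (wcl Q A), A⁆ ⊔ Cfsg.pCoreOf p ⁅A, B⁆ := by
    conv_lhs => rw [← s.K_comm_Q]
    exact (Subgroup.commutator_mono le_rfl s.Q_le).trans h1
  refine (le_of_eq (K_eq_opOf p Q A).symm).trans ((opOf_mono h2).trans ?_)
  apply opOf_le_of_le_sup le_sup_left ?_ (pCoreOf_isPGroup p _) le_sup_right le_rfl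
  exact sup_le Subgroup.le_normalizer ((s.P_le_A.trans s.leA).trans hnKA)

/-- (6) `[K₁, K₂] ≤ O_p(H°)`. -/
theorem comm_K_K (s : ProdSetting p Q Hc A B) :
    ⁅opOf p (wcl Q A), opOf p (wcl Q B)⁆ ≤ Cfsg.pCoreOf p Hc := by
  refine (Subgroup.commutator_mono le_rfl s.symm.K_le_A).trans (s.comm_K_B.trans ?_)
  exact le_pCoreOf (s.P_le_A.trans s.leA) (pCoreOf_isPGroup p _) s.nP

/-- (5) `O^p(H°) = K₁ K₂`. -/
theorem K_sup_K (s : ProdSetting p Q Hc A B) :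
    opOf p (wcl Q A) ⊔ opOf p (wcl Q B) = opOf p Hc := by
  apply le_antisymm
  · apply sup_le
    · exact opOf_mono ((wcl_le Q A).trans (sup_le s.leA s.Q_le))
    · exact opOf_mono ((wcl_le Q B).trans (sup_le s.leB s.Q_le))
  · have hn : Hc ≤ Subgroup.normalizer
        ((opOf p (wcl Q A) ⊔ opOf p (wcl Q B) : Subgroup G) : Set G) :=
      le_normalizer_sup s.Hc_le_nK s.symm.Hc_le_nK
    apply opOf_le_of_le_sup (sup_le s.K_le_Hc s.symm.K_le_Hc) hn s.pgrp s.Q_le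
    conv_lhs => rw [s.hc]
    apply iSup_le
    intro g
    obtain ⟨x, hx, hgx⟩ := s.wc.conj_in_subgroup s.pgrp s.Q_le g (s.cj_le g)
    rw [hgx]
    rw [← s.prod] at hx
    obtain ⟨a, ha, b, hb, rfl⟩ := exists_mul_of_mem_sup_right (s.leB.trans s.nA) hx
    rw [cj_mul]
    have h1 : cj b Q ≤ opOf p (wcl Q B) ⊔ Q := by
      rw [← s.symm.wcl_eq]
      exact le_iSup (fun k : ↥(B ⊔ Q) => cj (k : G) Q) ⟨b, le_sup_left (a := B) hb⟩
    have h2 : cj a Q ≤ opOf p (wcl Q A) ⊔ Q := by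
      rw [← s.wcl_eq]
      exact le_iSup (fun k : ↥(A ⊔ Q) => cj (k : G) Q) ⟨a, le_sup_left (a := A) ha⟩
    have h3 : cj a (opOf p (wcl Q B)) = opOf p (wcl Q B) :=
      cj_eq_self_iff.mpr (s.symm.Hc_le_nK (s.leA ha))
    refine (cj_mono h1).trans ?_
    rw [cj_sup, h3]
    apply sup_le
    · exact le_sup_right.trans le_sup_left
    · refine h2.trans ?_
      exact sup_le (le_sup_left.trans le_sup_left) le_sup_right

end ProdSetting

end Cfsg.Agent.Lib.helper17
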