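import Mathlib
import Cfsg.Prelude.Def_LocalStructure
import Cfsg.Agent.Lib.helper17.QS
import Cfsg.Agent.Lib.helper17.WCProd2

set_option autoImplicit false
set_option linter.unusedSectionVars false
set_option linter.unusedVariables false

open scoped commutatorElement

namespace Cfsg.Agent.Lib.helper17

variable {X : Type*} [Group X]

theorem cj_eq_self_of_mem_centralizer {k : X} {Z : Subgroup X}
    (hk : k ∈ Subgroup.centralizer (Z : Set X)) : cj k Z = Z :=
  cj_eq_self_iff.mpr (Subgroup.centralizer_le_normalizer (Z : Set X) hk)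

/-- In a finite group `X` with `O_p(X) = 1`, a quasisimple normal subgroup `K ≥ O^p(X)` satisfies
`[K, Y] = K` for every nontrivial `p`-subgroup `Y`. -/
theorem commutator_quasisimple_pgroup_eq [Finite X] {p : ℕ} [Fact p.Prime] {K Y : Subgroup X}
    (hK : K.Normal) (hq : Cfsg.IsQuasisimple ↥K) (hres : Cfsg.pResidual p X ≤ K)
    (hO : Cfsg.pCore p X = ⊥) (hY : IsPGroup p Y) (hY1 : Y ≠ ⊥) : ⁅K, Y⁆ = K := by
  rcases commutator_quasisimple_eq_or_bot hq (Subgroup.commutator_le_left K Y) with h | h
  · exact h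
  exfalso
  obtain ⟨T, hYT⟩ := hY.exists_le_sylow
  have hsup := pResidual_sup_sylow T
  have hn : (Cfsg.pResidual p X).Normal := pResidual_normal p X
  have hLE : (T : Subgroup X) ≤ Subgroup.normalizer ((Cfsg.pResidual p X : Subgroup X) : Set X) := by
    rw [Subgroup.normalizer_eq_top_iff.mpr hn]; exact le_top
  have hconj : ∀ x : X, cj x Y ≤ (T : Subgroup X) := by
    intro x
    have hx : x ∈ Cfsg.pResidual p X ⊔ (T : Subgroup X) := by rw [hsup]; trivial
    obtain ⟨k, hk, t, ht, rfl⟩ := exists_mul_of_mem_sup_right hLE hx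
    rw [cj_mul]
    have h1 : cj t Y ≤ (T : Subgroup X) := cj_le_of_mem hYT ht
    have h2 : ⁅K, cj t Y⁆ = ⊥ := by
      have h3 : cj t K = K := cj_eq_self_of_normal' t hK
      have h4 : ⁅cj t K, cj t Y⁆ = cj t ⁅K, Y⁆ := by
        unfold cj
        rw [Subgroup.map_commutator]
      rw [h3, h, ] at h4
      rw [h4]
      unfold cj
      exact Subgroup.map_bot _
    have h5 : k ∈ Subgroup.centralizer ((cj t Y : Subgroup X) : Set X) := by
      rw [Subgroup.commutator_eq_bot_iff_le_centralizer] at h2
      exact h2 (hres hk)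
    rw [cj_eq_self_of_mem_centralizer h5]
    exact h1
  have hN : Subgroup.normalClosure (Y : Set X) ≤ (T : Subgroup X) := by
    unfold Subgroup.normalClosure
    rw [Subgroup.closure_le]
    intro a ha
    obtain ⟨y, hy, hconj'⟩ := Group.mem_conjugatesOfSet_iff.mp ha
    obtain ⟨c, hc⟩ := isConj_iff.mp hconj'
    rw [← hc]
    exact hconj c (conj_mem_cj hy)
  have hNp : IsPGroup p (Subgroup.normalClosure (Y : Set X)) := T.isPGroup'.to_le hN
  have hNle : Subgroup.normalClosure (Y : Set X) ≤ Cfsg.pCore p X :=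
    le_pCore Subgroup.normalClosure_normal hNp
  rw [hO, le_bot_iff] at hNle
  apply hY1
  rw [← le_bot_iff, ← hNle]
  exact Subgroup.le_normalClosure

end Cfsg.Agent.Lib.helper17
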