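import Mathlib
import Cfsg.Prelude.Def_LocalStructure
import Cfsg.Agent.Lib.helper17.QS9
import Cfsg.Agent.Lib.helper17.WCProd2
import Cfsg.Agent.Lib.helper17.QSY

set_option autoImplicit false
set_option linter.unusedSectionVars false
set_option linter.unusedVariables false

open scoped commutatorElement

namespace Cfsg.Agent.Lib.helper17

variable {G : Type*} [Group G]

theorem subgroupOf_le_subgroupOf_iff' {A Z E : Subgroup G} (hA : A ≤ E) :
    A.subgroupOf E ≤ Z.subgroupOf E ↔ A ≤ Z := by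
  constructor
  · intro h x hx
    exact Subgroup.mem_subgroupOf.mp (h (Subgroup.mem_subgroupOf.mpr (show ((⟨x, hA hx⟩ : ↥E) : G) ∈ A from hx)))
  · intro h x hx
    exact Subgroup.mem_subgroupOf.mpr (h (Subgroup.mem_subgroupOf.mp hx))

theorem subgroupOf_commutator {A B E : Subgroup G} (hA : A ≤ E) (hB : B ≤ E) :
    (⁅A, B⁆ : Subgroup G).subgroupOf E = ⁅A.subgroupOf E, B.subgroupOf E⁆ := by
  have hAB : ⁅A, B⁆ ≤ E := (Subgroup.commutator_mono hA hB).trans (Subgroup.commutator_le_self E)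
  apply Subgroup.map_injective E.subtype_injective
  rw [Subgroup.map_commutator, Subgroup.map_subgroupOf_eq_of_le hA, Subgroup.map_subgroupOf_eq_of_le hB,
    Subgroup.map_subgroupOf_eq_of_le hAB]

/-- The image of `A` in `E / C_E`. -/
def bar (E C : Subgroup G) [(C.subgroupOf E).Normal] (A : Subgroup G) :
    Subgroup (↥E ⧸ C.subgroupOf E) :=
  (A.subgroupOf E).map (QuotientGroup.mk' (C.subgroupOf E))

variable {E C : Subgroup G} [hn : (C.subgroupOf E).Normal]

theorem bar_le_bar_iff {A B : Subgroup G} (hA : A ≤ E) (hB : B ≤ E) :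
    bar E C A ≤ bar E C B ↔ A ≤ B ⊔ (E ⊓ C) := by
  unfold bar
  rw [Subgroup.map_le_map_iff, QuotientGroup.ker_mk', ← Subgroup.inf_subgroupOf_left C E,
    ← Subgroup.subgroupOf_sup hB inf_le_left, subgroupOf_le_subgroupOf_iff' hA]

theorem bar_commutator {A B : Subgroup G} (hA : A ≤ E) (hB : B ≤ E) :
    bar E C ⁅A, B⁆ = ⁅bar E C A, bar E C B⁆ := by
  unfold bar
  rw [subgroupOf_commutator hA hB, Subgroup.map_commutator]

theorem bar_eq_bot_iff {A : Subgroup G} (hA : A ≤ E) : bar E C A = ⊥ ↔ A ≤ C := by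
  unfold bar
  rw [Subgroup.map_eq_bot_iff, QuotientGroup.ker_mk', subgroupOf_le_subgroupOf_iff' hA]

theorem bar_isPGroup {p : ℕ} {A : Subgroup G} (hp : IsPGroup p A) : IsPGroup p (bar E C A) :=
  (hp.comap_subtype (K := E)).map _

theorem subgroupOf_opOf (p : ℕ) (E : Subgroup G) :
    (opOf p E).subgroupOf E = Cfsg.pResidual p ↥E := by
  rw [← map_pResidual_eq_opOf]
  exact Subgroup.comap_map_eq_self_of_injective E.subtype_injective _

/-- The preimage `K₀ = O^p(E) C_E` of the quasisimple group. -/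
theorem bar_K0 (p : ℕ) :
    bar E C (opOf p E ⊔ (E ⊓ C)) =
      (Cfsg.pResidual p ↥E ⊔ C.subgroupOf E).map (QuotientGroup.mk' (C.subgroupOf E)) := by
  unfold bar
  rw [Subgroup.subgroupOf_sup (opOf_le p E) inf_le_left, subgroupOf_opOf, Subgroup.inf_subgroupOf_left]

section

variable [Finite G] {p : ℕ} [Fact p.Prime]

/-- (Q-i) -/
theorem K0_le_commutator_sup
    (hred : Cfsg.pCore p (↥E ⧸ C.subgroupOf E) = ⊥)
    (hqs : Cfsg.IsQuasisimple ↥((Cfsg.pResidual p ↥E ⊔ C.subgroupOf E).map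
      (QuotientGroup.mk' (C.subgroupOf E))))
    {Y : Subgroup G} (hYE : Y ≤ E) (hYp : IsPGroup p Y) (hYC : ¬ Y ≤ C) :
    opOf p E ⊔ (E ⊓ C) ≤ ⁅opOf p E ⊔ (E ⊓ C), Y⁆ ⊔ (E ⊓ C) := by
  have hK0E : opOf p E ⊔ (E ⊓ C) ≤ E := sup_le (opOf_le p E) inf_le_left
  have hcomE : ⁅opOf p E ⊔ (E ⊓ C), Y⁆ ≤ E :=
    (Subgroup.commutator_mono hK0E hYE).trans (Subgroup.commutator_le_self E)
  rw [← bar_le_bar_iff hK0E hcomE, bar_commutator hK0E hYE]
  have hres : (Cfsg.pResidual p ↥E).Normal := pResidual_normal p ↥E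
  have hKn : ((Cfsg.pResidual p ↥E ⊔ C.subgroupOf E).map
      (QuotientGroup.mk' (C.subgroupOf E))).Normal := by
    have : (Cfsg.pResidual p ↥E ⊔ C.subgroupOf E).Normal := inferInstance
    exact this.map _ (QuotientGroup.mk'_surjective _)
  have hle : Cfsg.pResidual p (↥E ⧸ C.subgroupOf E) ≤
      (Cfsg.pResidual p ↥E ⊔ C.subgroupOf E).map (QuotientGroup.mk' (C.subgroupOf E)) := by
    rw [← pResidual_map_surjective (QuotientGroup.mk' (C.subgroupOf E)) (QuotientGroup.mk'_surjective _)]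
    exact Subgroup.map_mono le_sup_left
  have hY1 : bar E C Y ≠ ⊥ := by
    rw [Ne, bar_eq_bot_iff hYE]; exact hYC
  rw [bar_K0]
  exact (commutator_quasisimple_pgroup_eq hKn hqs hle hred (bar_isPGroup hYp) hY1).symm.le

/-- (Q-ii) -/
theorem K0_le_commutator_self_sup
    (hqs : Cfsg.IsQuasisimple ↥((Cfsg.pResidual p ↥E ⊔ C.subgroupOf E).map
      (QuotientGroup.mk' (C.subgroupOf E)))) :
    opOf p E ⊔ (E ⊓ C) ≤ ⁅opOf p E ⊔ (E ⊓ C), opOf p E ⊔ (E ⊓ C)⁆ ⊔ (E ⊓ C) := by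
  have hK0E : opOf p E ⊔ (E ⊓ C) ≤ E := sup_le (opOf_le p E) inf_le_left
  have hcomE : ⁅opOf p E ⊔ (E ⊓ C), opOf p E ⊔ (E ⊓ C)⁆ ≤ E :=
    (Subgroup.commutator_mono hK0E hK0E).trans (Subgroup.commutator_le_self E)
  rw [← bar_le_bar_iff hK0E hcomE, bar_commutator hK0E hK0E, bar_K0]
  have h1 := hqs.1.commutator_eq_top
  have h2 := map_commutator_subtype ((Cfsg.pResidual p ↥E ⊔ C.subgroupOf E).map
      (QuotientGroup.mk' (C.subgroupOf E)))
  rw [h1, ← MonoidHom.range_eq_map, Subgroup.range_subtype] at h2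
  exact h2.le

end

end Cfsg.Agent.Lib.helper17
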