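import Mathlib
import Cfsg.Prelude.Def_LocalStructure
import Cfsg.Agent.Lib.helper17.PMF1
import Cfsg.Agent.Lib.helper17.Residual
import Cfsg.Agent.Lib.helper17.QBar
import Cfsg.Agent.Lib.helper17.Op

set_option autoImplicit false

namespace Cfsg.Agent.Lib.helper17.PMF2

open Cfsg.Agent.Lib.helper17

variable {G : Type*} [Group G]

/-- Ambient form of `E` being `S`-minimal with unique maximal subgroup `E₀ ≥ S`. -/
structure MinIn (S E E₀ : Subgroup G) : Prop where
  le₀ : S ≤ E₀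
  le : E₀ ≤ E
  ne : E₀ ≠ E
  uniq : ∀ X : Subgroup G, S ≤ X → X ≤ E → X ≠ E → X ≤ E₀
  gen : ∀ N : Subgroup G, S ≤ N → N ≤ E → E ≤ Subgroup.normalizer (N : Set G) → N = E

theorem exists_minIn [Finite G] {S E : Subgroup G} (hSE : S ≤ E)
    (h : Cfsg.IsMinimalOver (S.subgroupOf E)) : ∃ E₀, MinIn S E E₀ := by
  obtain ⟨hnc, M, ⟨hM, hPM⟩, huniq⟩ := h
  refine ⟨M.map E.subtype, ?_, Subgroup.map_subtype_le _, ?_, ?_, ?_⟩
  · intro x hx
    exact ⟨⟨x, hSE hx⟩, hPM (Subgroup.mem_subgroupOf.mpr hx), rfl⟩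
  · intro heq
    apply hM.1
    have h1 : (M.map E.subtype).subgroupOf E = M :=
      Subgroup.comap_map_eq_self_of_injective E.subtype_injective M
    rw [← h1, heq]
    exact Subgroup.subgroupOf_self E
  · intro X hSX hXE hne
    have h1 : X.subgroupOf E ≠ ⊤ := by
      rw [Ne, Subgroup.subgroupOf_eq_top]
      exact fun hle => hne (le_antisymm hXE hle)
    obtain ⟨M', hM', hXM'⟩ := exists_coatom_ge h1
    have h2 : S.subgroupOf E ≤ M' := le_trans (by
      intro x hx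
      exact Subgroup.mem_subgroupOf.mpr (hSX (Subgroup.mem_subgroupOf.mp hx))) hXM'
    have h3 : M' = M := huniq M' ⟨hM', h2⟩
    rw [h3] at hXM'
    intro x hx
    exact ⟨⟨x, hXE hx⟩, hXM' (Subgroup.mem_subgroupOf.mpr hx), rfl⟩
  · intro N hSN hNE hEN
    have hn : (N.subgroupOf E).Normal := (Subgroup.normal_subgroupOf_iff_le_normalizer hNE).mpr hEN
    have h1 : Subgroup.normalClosure ((S.subgroupOf E : Subgroup ↥E) : Set ↥E) ≤ N.subgroupOf E := by
      apply Subgroup.normalClosure_le_normal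
      intro x hx
      exact Subgroup.mem_subgroupOf.mpr (hSN (Subgroup.mem_subgroupOf.mp hx))
    rw [hnc, top_le_iff, Subgroup.subgroupOf_eq_top] at h1
    exact le_antisymm hNE h1

/-- Ambient form of strong `p`-irreducibility. -/
structure SpiIn (p : ℕ) (E : Subgroup G) : Prop where
  npc : ¬ Cfsg.IsPClosed p ↥E
  spi : ∀ N : Subgroup G, N ≤ E → E ≤ Subgroup.normalizer (N : Set G) →
    ¬ ⁅N, E⁆ ≤ Cfsg.pCoreOf p E → opOf p E ≤ N

theorem spiIn_of {p : ℕ} {E : Subgroup G} (h : Cfsg.IsStronglyPIrreducible p ↥E) : SpiIn p E := by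
  refine ⟨h.1, ?_⟩
  intro N hNE hEN hcomm
  have hn : (N.subgroupOf E).Normal := (Subgroup.normal_subgroupOf_iff_le_normalizer hNE).mpr hEN
  have h1 : ¬ ⁅N.subgroupOf E, (⊤ : Subgroup ↥E)⁆ ≤ Cfsg.pCore p ↥E := by
    intro hle
    apply hcomm
    have h2 := Subgroup.map_mono (f := E.subtype) hle
    rw [Subgroup.map_commutator, Subgroup.map_subgroupOf_eq_of_le hNE, ← MonoidHom.range_eq_map,
      Subgroup.range_subtype] at h2
    exact h2
  have h3 := h.2 (N.subgroupOf E) hn h1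
  have h4 := Subgroup.map_mono (f := E.subtype) h3
  rw [map_pResidual_eq_opOf, Subgroup.map_subgroupOf_eq_of_le hNE] at h4
  exact h4

end Cfsg.Agent.Lib.helper17.PMF2
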