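import Mathlib
import Cfsg.Prelude.Def_LocalStructure
import Cfsg.Agent.Lib.helper17.PMF1
import Cfsg.Agent.Lib.helper17.PMF2
import Cfsg.Agent.Lib.helper17.PIrr
import Cfsg.Agent.Lib.helper17.Cores
import Cfsg.Agent.Lib.helper17.SylSub
import Cfsg.Agent.Lib.helper17.WC4

set_option autoImplicit false

namespace Cfsg.Agent.Lib.helper17.PMF3

open Cfsg.Agent.Lib.helper17 PMF1 PMF2

variable {H : Type*} [Group H]

/-- The hypotheses on the family `𝒦`. -/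
structure Fam (p : ℕ) (𝒦 : Set (Subgroup H)) : Prop where
  ne : 𝒦.Nonempty
  inv : ∀ h : H, ∀ E ∈ 𝒦, cj h E ∈ 𝒦
  tr : ∀ E ∈ 𝒦, ∀ K ∈ 𝒦, ∃ h : H, K = cj h E
  res : Cfsg.pResidual p H ≤ sSup 𝒦
  norm : ∀ E ∈ 𝒦, sSup 𝒦 ⊔ Cfsg.pCore p H ≤
    Subgroup.normalizer ((E ⊔ Cfsg.pCore p H : Subgroup H) : Set H)

theorem pCore_le_sylow' {p : ℕ} [Fact p.Prime] (T : Sylow p H) :
    Cfsg.pCore p H ≤ (T : Subgroup H) := by
  have hn := pCore_normal p H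
  have h1 : IsPGroup p ((Cfsg.pCore p H ⊔ (T : Subgroup H) : Subgroup H)) :=
    IsPGroup.to_sup_of_normal_left (pCore_isPGroup p H) T.isPGroup'
  have h2 := T.3 h1 le_sup_right
  exact h2 ▸ le_sup_left

theorem cj_normal {N : Subgroup H} (hN : N.Normal) (g : H) : cj g N = N :=
  cj_eq_self_iff.mpr (by rw [Subgroup.normalizer_eq_top_iff.mpr hN]; exact Subgroup.mem_top g)

section

variable {p : ℕ} {𝒦 : Set (Subgroup H)}

theorem Fam.sSup_normal (hF : Fam p 𝒦) : (sSup 𝒦).Normal := by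
  constructor
  intro n hn g
  have h1 : sSup 𝒦 ≤ (sSup 𝒦).comap (MulAut.conj g).toMonoidHom := by
    apply sSup_le
    intro E hE
    rw [← Subgroup.map_le_iff_le_comap]
    exact le_sSup (hF.inv g E hE)
  exact h1 hn

theorem Fam.RQ_normal (hF : Fam p 𝒦) : (sSup 𝒦 ⊔ Cfsg.pCore p H).Normal := by
  have := hF.sSup_normal
  have := pCore_normal p H
  exact Subgroup.sup_normal _ _

theorem Fam.F_le (hF : Fam p 𝒦) {E : Subgroup H} (hE : E ∈ 𝒦) :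
    E ⊔ Cfsg.pCore p H ≤ sSup 𝒦 ⊔ Cfsg.pCore p H :=
  sup_le_sup_right (le_sSup hE) _

theorem Fam.cj_F (hF : Fam p 𝒦) {E : Subgroup H} (hE : E ∈ 𝒦) {r : H}
    (hr : r ∈ sSup 𝒦 ⊔ Cfsg.pCore p H) : cj r (E ⊔ Cfsg.pCore p H) = E ⊔ Cfsg.pCore p H :=
  cj_eq_self_iff.mpr (hF.norm E hE hr)

variable [Finite H] [Fact p.Prime]

theorem Fam.sup_sylow (hF : Fam p 𝒦) (T : Sylow p H) : sSup 𝒦 ⊔ (T : Subgroup H) = ⊤ := by
  rw [← top_le_iff, ← pResidual_sup_sylow T]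
  exact sup_le_sup_right hF.res _

/-- `T ∩ EQ` is Sylow in `EQ`. -/
theorem Fam.sylIn_F (hF : Fam p 𝒦) (T : Sylow p H) {E : Subgroup H} (hE : E ∈ 𝒦) :
    SylIn p ((T : Subgroup H) ⊓ (E ⊔ Cfsg.pCore p H)) (E ⊔ Cfsg.pCore p H) := by
  have h0 := SylIn.of_sylow T
  have hRQ := hF.RQ_normal
  have h1 : SylIn p ((T : Subgroup H) ⊓ (sSup 𝒦 ⊔ Cfsg.pCore p H)) (sSup 𝒦 ⊔ Cfsg.pCore p H) :=
    h0.inf_of_normal le_top (by rw [Subgroup.normalizer_eq_top_iff.mpr hRQ])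
  have h2 := h1.inf_of_normal (hF.F_le hE) (hF.norm E hE)
  rw [inf_assoc, inf_eq_right.mpr (hF.F_le hE)] at h2
  exact h2

/-- `T ∩ E` is Sylow in `E`. -/
theorem Fam.sylIn_E (hF : Fam p 𝒦) (T : Sylow p H) {E : Subgroup H} (hE : E ∈ 𝒦) :
    SylIn p ((T : Subgroup H) ⊓ E) E := by
  have hn := pCore_normal p H
  refine ⟨inf_le_right, T.isPGroup'.to_le inf_le_left, ?_⟩
  have h1 := (hF.sylIn_F T hE).idx
  rw [Subgroup.inf_relIndex_right, relIndex_sup_normal (pCore_le_sylow' T)] at h1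
  rw [Subgroup.inf_relIndex_right]
  exact h1

/-- A subgroup containing `T` and a member of `𝒦` is everything. -/
theorem Fam.eq_top_of_le (hF : Fam p 𝒦) (T : Sylow p H) {Y : Subgroup H}
    (hTY : (T : Subgroup H) ≤ Y) {E : Subgroup H} (hE : E ∈ 𝒦) (hEY : E ≤ Y) : Y = ⊤ := by
  have hn := hF.sSup_normal
  rw [← top_le_iff, ← hF.sup_sylow T]
  refine sup_le (sSup_le ?_) hTY
  intro K hK
  obtain ⟨h, rfl⟩ := hF.tr E hE K hK
  have hh : h ∈ (T : Subgroup H) ⊔ sSup 𝒦 := by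
    rw [sup_comm, hF.sup_sylow T]; exact Subgroup.mem_top h
  obtain ⟨t, ht, r, hr, rfl⟩ := Subgroup.mem_sup_of_normal_right.mp hh
  rw [cj_mul]
  have h1 : cj r E ≤ Y := by
    calc cj r E ≤ cj r (E ⊔ Cfsg.pCore p H) := cj_mono le_sup_left
      _ = E ⊔ Cfsg.pCore p H := hF.cj_F hE (Subgroup.mem_sup_left hr)
      _ ≤ Y := sup_le hEY ((pCore_le_sylow' T).trans hTY)
  calc cj t (cj r E) ≤ cj t Y := cj_mono h1
    _ = Y := cj_eq_self_of_mem (hTY ht)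

end

end Cfsg.Agent.Lib.helper17.PMF3
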