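import Mathlib
import Cfsg.Prelude.Def_LocalStructure
import Cfsg.Agent.Lib.helper17.PMF3

set_option autoImplicit false
set_option linter.unusedSectionVars false
set_option linter.unusedVariables false

namespace Cfsg.Agent.Lib.helper17.PMF4

open Cfsg.Agent.Lib.helper17 PMF1 PMF2 PMF3

variable {H : Type*} [Group H]

/-- The join of all proper subgroups of `F` containing `S`. -/
def Jsub (S F : Subgroup H) : Subgroup H := sSup {X | S ≤ X ∧ X ≤ F ∧ X ≠ F}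

theorem Jsub_le (S F : Subgroup H) : Jsub S F ≤ F :=
  sSup_le fun _ hX => hX.2.1

theorem le_Jsub {S F X : Subgroup H} (h1 : S ≤ X) (h2 : X ≤ F) (h3 : X ≠ F) : X ≤ Jsub S F :=
  le_sSup ⟨h1, h2, h3⟩

theorem cj_injective (g : H) : Function.Injective (cj g : Subgroup H → Subgroup H) :=
  Subgroup.map_injective (MulAut.conj g).injective

theorem Jsub_cj (g : H) (S F : Subgroup H) : cj g (Jsub S F) = Jsub (cj g S) (cj g F) := by
  apply le_antisymm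
  · rw [cj_le_iff]
    apply sSup_le
    rintro X ⟨h1, h2, h3⟩
    rw [← cj_le_iff]
    exact le_Jsub (cj_mono h1) (cj_mono h2) (fun h => h3 (cj_injective g h))
  · apply sSup_le
    rintro X ⟨h1, h2, h3⟩
    have h4 : cj g⁻¹ X ≤ Jsub S F := by
      apply le_Jsub
      · exact cj_le_iff.mp h1
      · rw [cj_le_iff, inv_inv]; exact h2
      · intro h
        apply h3
        rw [← h, cj_cj_inv]
    have h5 := cj_mono (g := g) h4
    rwa [cj_cj_inv] at h5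


theorem cjInf (g : H) (A B : Subgroup H) : cj g (A ⊓ B) = cj g A ⊓ cj g B :=
  Subgroup.map_inf_eq A B _ (MulAut.conj g).injective

theorem cjSup (g : H) (A B : Subgroup H) : cj g (A ⊔ B) = cj g A ⊔ cj g B :=
  Subgroup.map_sup A B _

theorem le_normalizer_inf'' {K A B : Subgroup H} (hA : K ≤ Subgroup.normalizer (A : Set H))
    (hB : K ≤ Subgroup.normalizer (B : Set H)) :
    K ≤ Subgroup.normalizer ((A ⊓ B : Subgroup H) : Set H) := by
  intro k hk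
  rw [← cj_eq_self_iff, cjInf, cj_eq_self_iff.mpr (hA hk), cj_eq_self_iff.mpr (hB hk)]

/-- `F₀(E)`: the join of the proper subgroups of `EQ` containing `T ∩ EQ`. -/
def F0 (p : ℕ) (T E : Subgroup H) : Subgroup H :=
  Jsub (T ⊓ (E ⊔ Cfsg.pCore p H)) (E ⊔ Cfsg.pCore p H)

theorem F0_le (p : ℕ) (T E : Subgroup H) : F0 p T E ≤ E ⊔ Cfsg.pCore p H := Jsub_le _ _

theorem F0_congr {p : ℕ} (T : Subgroup H) {E E' : Subgroup H}
    (h : E ⊔ Cfsg.pCore p H = E' ⊔ Cfsg.pCore p H) : F0 p T E = F0 p T E' := by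
  unfold F0
  rw [h]

theorem F0_cj {p : ℕ} {T : Subgroup H} {t : H} (ht : t ∈ T) (E : Subgroup H) :
    cj t (F0 p T E) = F0 p T (cj t E) := by
  unfold F0
  rw [Jsub_cj, cjInf, cjSup, cj_eq_self_of_mem ht, cj_normal (pCore_normal p H)]

section

variable {p : ℕ} {𝒦 : Set (Subgroup H)} [Finite H] [Fact p.Prime]

/-- Properties of `F₀(E)` coming from the minimality of `E`. -/
theorem F0_props (T : Sylow p H) {E E₀ : Subgroup H} (hmin : MinIn ((T : Subgroup H) ⊓ E) E E₀) :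
    (T : Subgroup H) ⊓ (E ⊔ Cfsg.pCore p H) ≤ F0 p (T : Subgroup H) E ∧
      F0 p (T : Subgroup H) E ≠ E ⊔ Cfsg.pCore p H := by
  have hn := pCore_normal p H
  have hQT := pCore_le_sylow' T
  -- P2
  have hP2 : E₀ ⊔ Cfsg.pCore p H ≠ E ⊔ Cfsg.pCore p H := by
    intro heq
    apply hmin.ne
    apply le_antisymm hmin.le
    intro x hx
    have hx' : x ∈ E₀ ⊔ Cfsg.pCore p H := heq ▸ (Subgroup.mem_sup_left hx)
    obtain ⟨e, he, q, hq, rfl⟩ := Subgroup.mem_sup_of_normal_right.mp hx'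
    have hqE : q ∈ E := by
      have := E.mul_mem (E.inv_mem (hmin.le he)) hx
      simpa [mul_assoc] using this
    exact E₀.mul_mem he (hmin.le₀ ⟨hQT hq, hqE⟩)
  -- J0 part
  have hS : (T : Subgroup H) ⊓ (E ⊔ Cfsg.pCore p H) ≤ E₀ ⊔ Cfsg.pCore p H := by
    rw [inf_sup_normal hQT]
    exact sup_le_sup_right hmin.le₀ _
  have hle : E₀ ⊔ Cfsg.pCore p H ≤ E ⊔ Cfsg.pCore p H := sup_le_sup_right hmin.le _
  have h0 : E₀ ⊔ Cfsg.pCore p H ≤ F0 p (T : Subgroup H) E := le_Jsub hS hle hP2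
  refine ⟨hS.trans h0, ?_⟩
  -- P1
  have hP1 : F0 p (T : Subgroup H) E ≤ E₀ ⊔ Cfsg.pCore p H := by
    apply sSup_le
    rintro X ⟨h1, h2, h3⟩
    have hQX : Cfsg.pCore p H ≤ X := (le_inf hQT le_sup_right).trans h1
    have h4 : X = (X ⊓ E) ⊔ Cfsg.pCore p H := by
      rw [← inf_sup_normal hQX, inf_eq_left.mpr h2]
    rw [h4]
    apply sup_le_sup_right
    apply hmin.uniq
    · exact le_inf ((inf_le_inf_left _ le_sup_left).trans h1) inf_le_right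
    · exact inf_le_right
    · intro h5
      apply h3
      apply le_antisymm h2
      exact sup_le (inf_eq_right.mp h5) hQX
  intro heq
  apply hP2
  apply le_antisymm hle
  rw [← heq]
  exact hP1

/-- If `EQ` normalises `F₀(E)` we get a contradiction. -/
theorem not_le_normalizer_F0 (T : Sylow p H) {E E₀ : Subgroup H}
    (hmin : MinIn ((T : Subgroup H) ⊓ E) E E₀) :
    ¬ E ≤ Subgroup.normalizer ((F0 p (T : Subgroup H) E : Subgroup H) : Set H) := by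
  intro hle
  obtain ⟨h0, h1⟩ := F0_props T hmin
  have hQT := pCore_le_sylow' T
  have h2 : F0 p (T : Subgroup H) E ⊓ E = E := by
    apply hmin.gen
    · exact le_inf ((inf_le_inf_left _ le_sup_left).trans h0) inf_le_right
    · exact inf_le_right
    · exact le_normalizer_inf'' hle Subgroup.le_normalizer
  apply h1
  apply le_antisymm (F0_le _ _ _)
  exact sup_le (inf_eq_right.mp h2) ((le_inf hQT le_sup_right).trans h0)


/-- A proper subgroup containing `T` meets `RQ` inside the normaliser of each `F₀(E)`. -/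
theorem normalizes_F0 (hF : Fam p 𝒦) (T : Sylow p H) {Y : Subgroup H}
    (hTY : (T : Subgroup H) ≤ Y) (hY : Y ≠ ⊤) {E : Subgroup H} (hE : E ∈ 𝒦) {y : H}
    (hyY : y ∈ Y) (hyR : y ∈ sSup 𝒦 ⊔ Cfsg.pCore p H) :
    cj y (F0 p (T : Subgroup H) E) = F0 p (T : Subgroup H) E := by
  have hyF : cj y (E ⊔ Cfsg.pCore p H) = E ⊔ Cfsg.pCore p H := hF.cj_F hE hyR
  have hSD : (T : Subgroup H) ⊓ (E ⊔ Cfsg.pCore p H) ≤ Y ⊓ (E ⊔ Cfsg.pCore p H) :=
    inf_le_inf_right _ hTY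
  have hDF : Y ⊓ (E ⊔ Cfsg.pCore p H) ≤ E ⊔ Cfsg.pCore p H := inf_le_right
  have hDne : Y ⊓ (E ⊔ Cfsg.pCore p H) ≠ E ⊔ Cfsg.pCore p H := by
    intro h
    exact hY (hF.eq_top_of_le T hTY hE (le_sup_left.trans (inf_eq_right.mp h)))
  have hD0 : Y ⊓ (E ⊔ Cfsg.pCore p H) ≤ F0 p (T : Subgroup H) E := le_Jsub hSD hDF hDne
  have hS := hF.sylIn_F T hE
  have hSD' := hS.mono hSD hDF
  have hcjD : cj y (Y ⊓ (E ⊔ Cfsg.pCore p H)) = Y ⊓ (E ⊔ Cfsg.pCore p H) := by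
    rw [cjInf, hyF, cj_eq_self_of_mem hyY]
  have hS2 := hSD'.map_cj y
  rw [hcjD] at hS2
  obtain ⟨d, hd, hcj⟩ := hSD'.exists_conj hS2
  have hdF : cj d (E ⊔ Cfsg.pCore p H) = E ⊔ Cfsg.pCore p H := cj_eq_self_of_mem (hDF hd)
  have h7 : Jsub (cj d ((T : Subgroup H) ⊓ (E ⊔ Cfsg.pCore p H))) (E ⊔ Cfsg.pCore p H) =
      cj d (F0 p (T : Subgroup H) E) := by
    unfold F0
    rw [Jsub_cj, hdF]
  have h8 : cj y (F0 p (T : Subgroup H) E) =
      Jsub (cj d ((T : Subgroup H) ⊓ (E ⊔ Cfsg.pCore p H))) (E ⊔ Cfsg.pCore p H) := by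
    unfold F0
    rw [Jsub_cj, hyF, hcj]
  rw [h8, h7]
  exact cj_eq_self_of_mem (hD0 hd)

/-- The subgroup `Ñ`. -/
def Ntil (p : ℕ) (𝒦 : Set (Subgroup H)) (T : Subgroup H) : Subgroup H :=
  (sSup 𝒦 ⊔ Cfsg.pCore p H) ⊓ ⨅ E ∈ 𝒦, Subgroup.normalizer ((F0 p T E : Subgroup H) : Set H)

theorem mem_Ntil {T : Subgroup H} {x : H} :
    x ∈ Ntil p 𝒦 T ↔ x ∈ sSup 𝒦 ⊔ Cfsg.pCore p H ∧ ∀ E ∈ 𝒦, cj x (F0 p T E) = F0 p T E := by
  unfold Ntil
  rw [Subgroup.mem_inf]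
  simp only [Subgroup.mem_iInf, cj_eq_self_iff]

theorem sylow_le_normalizer_Ntil (hF : Fam p 𝒦) (T : Sylow p H) :
    (T : Subgroup H) ≤ Subgroup.normalizer ((Ntil p 𝒦 (T : Subgroup H) : Subgroup H) : Set H) := by
  intro t ht
  rw [← cj_eq_self_iff]
  apply cj_eq_of_cj_le'
  intro x' hx'
  rw [mem_cj] at hx'
  rw [mem_Ntil] at hx' ⊢
  have hRQ := hF.RQ_normal
  constructor
  · have := hRQ.conj_mem _ hx'.1 t
    simpa [mul_assoc] using this
  · intro E hE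
    have hx : x' = t * (t⁻¹ * x' * t) * t⁻¹ := by group
    rw [hx, cj_mul, cj_mul]
    have htinv : t⁻¹ ∈ (T : Subgroup H) := Subgroup.inv_mem _ ht
    rw [F0_cj htinv, hx'.2 _ (hF.inv t⁻¹ E hE), ← F0_cj htinv, cj_cj_inv]

theorem le_Ntil_sup (hF : Fam p 𝒦) (T : Sylow p H) {Y : Subgroup H}
    (hTY : (T : Subgroup H) ≤ Y) (hY : Y ≠ ⊤) : Y ≤ Ntil p 𝒦 (T : Subgroup H) ⊔ (T : Subgroup H) := by
  intro y hyY
  have hRQ := hF.RQ_normal
  have hy : y ∈ (T : Subgroup H) ⊔ (sSup 𝒦 ⊔ Cfsg.pCore p H) := by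
    have h1 : (⊤ : Subgroup H) ≤ (T : Subgroup H) ⊔ (sSup 𝒦 ⊔ Cfsg.pCore p H) := by
      calc (⊤ : Subgroup H) = sSup 𝒦 ⊔ (T : Subgroup H) := (hF.sup_sylow T).symm
        _ ≤ (T : Subgroup H) ⊔ (sSup 𝒦 ⊔ Cfsg.pCore p H) :=
          sup_le (le_sup_left.trans le_sup_right) le_sup_left
    exact h1 (Subgroup.mem_top y)
  obtain ⟨t, ht, r, hr, rfl⟩ := Subgroup.mem_sup_of_normal_right.mp hy
  have hrY : r ∈ Y := by
    have h3 : t⁻¹ * (t * r) ∈ Y := Y.mul_mem (Y.inv_mem (hTY ht)) hyY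
    rwa [inv_mul_cancel_left] at h3
  have hrN : r ∈ Ntil p 𝒦 (T : Subgroup H) :=
    mem_Ntil.mpr ⟨hr, fun E hE => normalizes_F0 hF T hTY hY hE hrY hr⟩
  exact Subgroup.mul_mem _ (Subgroup.mem_sup_right ht) (Subgroup.mem_sup_left hrN)

theorem Ntil_sup_ne_top (hF : Fam p 𝒦) (T : Sylow p H)
    (hmin : ∀ E ∈ 𝒦, ∃ E₀, MinIn ((T : Subgroup H) ⊓ E) E E₀) :
    Ntil p 𝒦 (T : Subgroup H) ⊔ (T : Subgroup H) ≠ ⊤ := by
  intro htop
  obtain ⟨E, hE⟩ := hF.ne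
  obtain ⟨E₀, hE₀⟩ := hmin E hE
  apply not_le_normalizer_F0 T hE₀
  intro e he
  have he' : e ∈ Ntil p 𝒦 (T : Subgroup H) ⊔ (T : Subgroup H) := htop ▸ Subgroup.mem_top e
  obtain ⟨n, hn, t, ht, rfl⟩ := exists_mul_of_mem_sup_right (sylow_le_normalizer_Ntil hF T) he'
  rw [mem_Ntil] at hn
  have htR : t ∈ sSup 𝒦 ⊔ Cfsg.pCore p H := by
    have h1 : n * t ∈ sSup 𝒦 ⊔ Cfsg.pCore p H := Subgroup.mem_sup_left (le_sSup hE he)
    have := Subgroup.mul_mem _ (Subgroup.inv_mem _ hn.1) h1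
    simpa [mul_assoc] using this
  rw [← cj_eq_self_iff, cj_mul, F0_cj ht]
  have h2 : cj t E ⊔ Cfsg.pCore p H = E ⊔ Cfsg.pCore p H := by
    have h3 := hF.cj_F hE htR
    rw [cjSup, cj_normal (pCore_normal p H)] at h3
    exact h3
  rw [F0_congr _ h2]
  exact hn.2 E hE

/-- Part (a). -/
theorem part_a (hF : Fam p 𝒦)
    (hyp : ∀ E ∈ 𝒦, ∀ T' : Sylow p ↥E, Cfsg.IsMinimalOver (T' : Subgroup ↥E)) (T : Sylow p H) :
    Cfsg.IsMinimalOver (T : Subgroup H) := by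
  have hmin : ∀ E ∈ 𝒦, ∃ E₀, MinIn ((T : Subgroup H) ⊓ E) E E₀ := by
    intro E hE
    obtain ⟨P, hP⟩ := (hF.sylIn_E T hE).exists_sylow
    have h1 := hyp E hE P
    rw [hP] at h1
    exact exists_minIn inf_le_right h1
  constructor
  · have hn : (Subgroup.normalClosure ((T : Subgroup H) : Set H)).Normal := Subgroup.normalClosure_normal
    rw [← top_le_iff, ← hF.sup_sylow T]
    refine sup_le (sSup_le ?_) Subgroup.le_normalClosure
    intro E hE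
    obtain ⟨E₀, hE₀⟩ := hmin E hE
    have h2 : Subgroup.normalClosure ((T : Subgroup H) : Set H) ⊓ E = E := by
      apply hE₀.gen
      · exact inf_le_inf_right _ Subgroup.le_normalClosure
      · exact inf_le_right
      · apply le_normalizer_inf'' _ Subgroup.le_normalizer
        rw [Subgroup.normalizer_eq_top_iff.mpr hn]
        exact le_top
    exact inf_eq_right.mp h2
  · obtain ⟨M, hM, hle⟩ := exists_coatom_ge (Ntil_sup_ne_top hF T hmin)
    refine ⟨M, ⟨hM, le_sup_right.trans hle⟩, ?_⟩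
    rintro M' ⟨hM', hTM'⟩
    have h1 : M' ≤ M := (le_Ntil_sup hF T hTM' hM'.1).trans hle
    exact ((hM'.le_iff_eq hM.1).mp h1).symm

end

end Cfsg.Agent.Lib.helper17.PMF4
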