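import Mathlib
import Cfsg.Prelude.Def_LocalStructure
import Cfsg.Agent.Lib.helper17.PMF4
import Cfsg.Agent.Lib.helper17.Subn
import Cfsg.Agent.Lib.helper17.PClosed

set_option autoImplicit false
set_option linter.unusedSectionVars false
set_option linter.unusedVariables false

namespace Cfsg.Agent.Lib.helper17.PMF5

open Cfsg.Agent.Lib.helper17 PMF1 PMF2 PMF3 PMF4
open scoped commutatorElement

variable {H : Type*} [Group H]

/-! ### Commuting modulo a normal subgroup -/

/-- `X` and `Y` commute modulo the normal subgroup `Q`. -/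
def CentMod (Q : Subgroup H) [Q.Normal] (X Y : Subgroup H) : Prop :=
  ∀ x ∈ X, ∀ y ∈ Y, QuotientGroup.mk' Q x * QuotientGroup.mk' Q y =
    QuotientGroup.mk' Q y * QuotientGroup.mk' Q x

section CentMod

variable {Q : Subgroup H} [Q.Normal]

theorem mk_commute_iff (x y : H) :
    QuotientGroup.mk' Q x * QuotientGroup.mk' Q y = QuotientGroup.mk' Q y * QuotientGroup.mk' Q x ↔
      ⁅x, y⁆ ∈ Q := by
  rw [← QuotientGroup.eq_one_iff (N := Q), commutatorElement_def]
  change _ ↔ QuotientGroup.mk' Q (x * y * x⁻¹ * y⁻¹) = 1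
  rw [map_mul, map_mul, map_mul, map_inv, map_inv]
  constructor
  · intro h
    rw [h]
    group
  · intro h
    have h2 : QuotientGroup.mk' Q x * QuotientGroup.mk' Q y =
        (QuotientGroup.mk' Q x * QuotientGroup.mk' Q y * (QuotientGroup.mk' Q x)⁻¹ *
          (QuotientGroup.mk' Q y)⁻¹) * (QuotientGroup.mk' Q y * QuotientGroup.mk' Q x) := by group
    rw [h2, h, one_mul]

theorem centMod_iff {X Y : Subgroup H} : CentMod Q X Y ↔ ⁅X, Y⁆ ≤ Q := by
  rw [Subgroup.commutator_le]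
  unfold CentMod
  simp only [mk_commute_iff]

theorem CentMod.symm {X Y : Subgroup H} (h : CentMod Q X Y) : CentMod Q Y X :=
  fun y hy x hx => (h x hx y hy).symm

theorem CentMod.mono {X Y X' Y' : Subgroup H} (h : CentMod Q X Y) (hX : X' ≤ X) (hY : Y' ≤ Y) :
    CentMod Q X' Y' :=
  fun x hx y hy => h x (hX hx) y (hY hy)

theorem mk'_one {q : H} (hq : q ∈ Q) : QuotientGroup.mk' Q q = 1 :=
  (QuotientGroup.eq_one_iff (N := Q) q).mpr hq

theorem mem_of_mk'_one {q : H} (hq : QuotientGroup.mk' Q q = 1) : q ∈ Q :=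
  (QuotientGroup.eq_one_iff (N := Q) q).mp hq

theorem mk_eq_of_mul_mem {x q : H} (hq : q ∈ Q) :
    QuotientGroup.mk' Q (x * q) = QuotientGroup.mk' Q x := by
  rw [map_mul, mk'_one hq, mul_one]

theorem CentMod.sup_left {X Y : Subgroup H} (h : CentMod Q X Y) : CentMod Q (X ⊔ Q) Y := by
  intro z hz y hy
  obtain ⟨x, hx, q, hq, rfl⟩ := Subgroup.mem_sup_of_normal_right.mp hz
  rw [mk_eq_of_mul_mem hq]
  exact h x hx y hy

theorem CentMod.sup_right {X Y : Subgroup H} (h : CentMod Q X Y) : CentMod Q X (Y ⊔ Q) :=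
  (h.symm.sup_left).symm

/-- The centraliser of `X` modulo `Q`. -/
def CQ (Q : Subgroup H) [Q.Normal] (X : Subgroup H) : Subgroup H :=
  (Subgroup.centralizer ((X.map (QuotientGroup.mk' Q) : Subgroup (H ⧸ Q)) : Set (H ⧸ Q))).comap
    (QuotientGroup.mk' Q)

theorem mem_CQ {X : Subgroup H} {c : H} :
    c ∈ CQ Q X ↔ ∀ x ∈ X, QuotientGroup.mk' Q x * QuotientGroup.mk' Q c =
      QuotientGroup.mk' Q c * QuotientGroup.mk' Q x := by
  unfold CQ
  rw [Subgroup.mem_comap, Subgroup.mem_centralizer_iff]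
  constructor
  · intro h x hx
    exact h _ (Subgroup.mem_map_of_mem _ hx)
  · rintro h _ ⟨x, hx, rfl⟩
    exact h x hx

theorem centMod_iff_le_CQ {X Y : Subgroup H} : CentMod Q X Y ↔ Y ≤ CQ Q X := by
  constructor
  · intro h y hy
    rw [mem_CQ]
    intro x hx
    exact h x hx y hy
  · intro h x hx y hy
    exact mem_CQ.mp (h hy) x hx

theorem pCore_le_CQ (X : Subgroup H) : Q ≤ CQ Q X := by
  intro q hq
  rw [mem_CQ]
  intro x hx
  rw [mk'_one hq, mul_one, one_mul]

/-- Elements normalising `X` normalise its centraliser modulo `Q`. -/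
theorem normalizer_le_normalizer_CQ (X : Subgroup H) :
    Subgroup.normalizer (X : Set H) ≤ Subgroup.normalizer ((CQ Q X : Subgroup H) : Set H) := by
  apply le_normalizer_of_cj_le'
  intro e he c' hc'
  rw [mem_cj] at hc'
  rw [mem_CQ] at hc' ⊢
  intro x hx
  have hx' : e⁻¹ * x * e ∈ X := by
    have h1 : cj e X = X := cj_eq_self_iff.mpr he
    rw [← mem_cj, h1]
    exact hx
  have h2 := hc' _ hx'
  simp only [map_mul, map_inv] at h2
  have h3 : QuotientGroup.mk' Q x * QuotientGroup.mk' Q c' =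
      QuotientGroup.mk' Q e * (((QuotientGroup.mk' Q e)⁻¹ * QuotientGroup.mk' Q x * QuotientGroup.mk' Q e) *
        ((QuotientGroup.mk' Q e)⁻¹ * QuotientGroup.mk' Q c' * QuotientGroup.mk' Q e)) *
        (QuotientGroup.mk' Q e)⁻¹ := by group
  rw [h3, h2]
  group

end CentMod


/-! ### `p`-elements -/

theorem isPElt_of_commute {G' : Type*} [Group G'] {p : ℕ} {a b : G'} (hab : a * b = b * a)
    (hb : IsPElt p b) (hm : IsPElt p (a * b)) : IsPElt p a := by
  obtain ⟨k, hk⟩ := hb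
  obtain ⟨j, hj⟩ := hm
  refine ⟨k + j, ?_⟩
  have hc : Commute a b := hab
  have h1 : (a * b) ^ (p ^ (k + j)) = 1 := by
    rw [pow_add, mul_comm, pow_mul, hj, one_pow]
  have h2 : b ^ (p ^ (k + j)) = 1 := by
    rw [pow_add, pow_mul, hk, one_pow]
  rw [hc.mul_pow, h2, mul_one] at h1
  exact h1

/-! ### Subnormal chains -/

theorem isSubnormal_of_chain {X F N : Subgroup H} (hXF : X ≤ F)
    (hFX : F ≤ Subgroup.normalizer (X : Set H)) (hFN : F ≤ N)
    (hNF : N ≤ Subgroup.normalizer (F : Set H)) (hN : N.Normal) : X.IsSubnormal := by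
  have h1 : N.IsSubnormal := hN.isSubnormal
  have h2 : F.IsSubnormal :=
    Subgroup.IsSubnormal.step F N hFN h1 ((Subgroup.normal_subgroupOf_iff_le_normalizer hFN).mpr hNF)
  exact Subgroup.IsSubnormal.step X F hXF h2 ((Subgroup.normal_subgroupOf_iff_le_normalizer hXF).mpr hFX)

section Main

variable {p : ℕ} {𝒦 : Set (Subgroup H)} [Finite H] [Fact p.Prime]

theorem Fam.F_isSubnormal (hF : Fam p 𝒦) {E : Subgroup H} (hE : E ∈ 𝒦) :
    (E ⊔ Cfsg.pCore p H).IsSubnormal :=
  Subgroup.IsSubnormal.step _ _ (hF.F_le hE) hF.RQ_normal.isSubnormal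
    ((Subgroup.normal_subgroupOf_iff_le_normalizer (hF.F_le hE)).mpr (hF.norm E hE))

/-- If `c` lies in a subnormal subgroup `Y ≥ O_p(H)` which centralises `c` modulo `O_p(H)`, and `c` is a
`p`-element modulo `O_p(H)`, then `c ∈ O_p(H)`. -/
theorem mem_pCore_of_isPElt {Y : Subgroup H} (hY : Y.IsSubnormal) (hQY : Cfsg.pCore p H ≤ Y)
    {c : H} (hcY : c ∈ Y)
    (hcent : haveI := pCore_normal p H
      ∀ y ∈ Y, QuotientGroup.mk' (Cfsg.pCore p H) y * QuotientGroup.mk' (Cfsg.pCore p H) c =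
        QuotientGroup.mk' (Cfsg.pCore p H) c * QuotientGroup.mk' (Cfsg.pCore p H) y)
    (hp : haveI := pCore_normal p H
      IsPElt p (QuotientGroup.mk' (Cfsg.pCore p H) c)) : c ∈ Cfsg.pCore p H := by
  have := pCore_normal p H
  set φ := QuotientGroup.mk' (Cfsg.pCore p H) with hφ
  set Xc : Subgroup H := (Subgroup.zpowers (φ c)).comap φ with hXc
  have hXp : IsPGroup p Xc := by
    apply IsPGroup.comap_of_ker_isPGroup hp.isPGroup_zpowers
    rw [hφ, QuotientGroup.ker_mk']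
    exact pCore_isPGroup p H
  have hcX : c ∈ Xc := Subgroup.mem_comap.mpr (Subgroup.mem_zpowers _)
  have hXY : Xc ≤ Y := by
    intro x hx
    obtain ⟨n, hn⟩ := Subgroup.mem_zpowers_iff.mp (Subgroup.mem_comap.mp hx)
    have h1 : φ (x * (c ^ n)⁻¹) = 1 := by
      rw [map_mul, map_inv, map_zpow, hn, mul_inv_cancel]
    have h2 : x * (c ^ n)⁻¹ ∈ Cfsg.pCore p H := mem_of_mk'_one h1
    have h3 := Y.mul_mem (hQY h2) (Y.zpow_mem hcY n)
    simpa [mul_assoc] using h3
  have hYX : Y ≤ Subgroup.normalizer (Xc : Set H) := by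
    apply le_normalizer_of_cj_le'
    intro y hy x' hx'
    rw [mem_cj] at hx'
    obtain ⟨n, hn⟩ := Subgroup.mem_zpowers_iff.mp (Subgroup.mem_comap.mp hx')
    rw [hXc, Subgroup.mem_comap, Subgroup.mem_zpowers_iff]
    refine ⟨n, ?_⟩
    have hcomm : Commute (φ y) (φ c) := hcent y hy
    have h1 : φ x' = φ y * φ (y⁻¹ * x' * y) * (φ y)⁻¹ := by
      simp only [map_mul, map_inv]; group
    rw [h1, ← hn]
    have h2 : Commute (φ y) (φ c ^ n) := hcomm.zpow_right n
    rw [h2.eq, mul_assoc, mul_inv_cancel, mul_one]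
  have hsub : Xc.IsSubnormal :=
    Subgroup.IsSubnormal.step Xc Y hXY hY ((Subgroup.normal_subgroupOf_iff_le_normalizer hXY).mpr hYX)
  exact le_pCore_of_subnormal_isPGroup hsub hXp hcX

/-- `O_p(E) ≤ O_p(H)` for `E ∈ 𝒦`. -/
theorem Fam.pCoreOf_le_pCore (hF : Fam p 𝒦) {E : Subgroup H} (hE : E ∈ 𝒦) :
    Cfsg.pCoreOf p E ≤ Cfsg.pCore p H := by
  have hn := pCore_normal p H
  have hXp : IsPGroup p ((Cfsg.pCoreOf p E ⊔ Cfsg.pCore p H : Subgroup H)) :=
    IsPGroup.to_sup_of_normal_right (pCoreOf_isPGroup p E) (pCore_isPGroup p H)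
  have hsub : (Cfsg.pCoreOf p E ⊔ Cfsg.pCore p H : Subgroup H).IsSubnormal := by
    apply isSubnormal_of_chain (F := E ⊔ Cfsg.pCore p H) (N := sSup 𝒦 ⊔ Cfsg.pCore p H)
    · exact sup_le_sup_right (pCoreOf_le p E) _
    · apply sup_le
      · apply le_normalizer_sup (le_normalizer_pCoreOf p E)
        rw [Subgroup.normalizer_eq_top_iff.mpr hn]; exact le_top
      · exact le_sup_right.trans Subgroup.le_normalizer
    · exact hF.F_le hE
    · exact hF.norm E hE
    · exact hF.RQ_normal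
  exact le_sup_left.trans (le_pCore_of_subnormal_isPGroup hsub hXp)

theorem sylIn_opOf_sup {S E : Subgroup H} (h : SylIn p S E) : opOf p E ⊔ S = E := by
  obtain ⟨P, hP⟩ := h.exists_sylow
  have h1 := opOf_sup_sylowSub P
  rw [hP, Subgroup.map_subgroupOf_eq_of_le h.le] at h1
  exact h1

/-- If a relative Sylow subgroup is normalised then the group is `p`-closed. -/
theorem sylIn_isPClosed {S E : Subgroup H} (h : SylIn p S E)
    (hn : E ≤ Subgroup.normalizer (S : Set H)) : Cfsg.IsPClosed p ↥E := by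
  obtain ⟨P, hP⟩ := h.exists_sylow
  have h1 : (P : Subgroup ↥E).Normal := by
    rw [hP]
    exact (Subgroup.normal_subgroupOf_iff_le_normalizer h.le).mpr hn
  intro P'
  exact sylow_normal_of_normal P h1 P'

/-- A strongly `p`-irreducible group is generated by the conjugates of a Sylow subgroup. -/
theorem spiIn_gen {S E : Subgroup H} (h : SpiIn p E) (hS : SylIn p S E) {N : Subgroup H}
    (hSN : S ≤ N) (hNE : N ≤ E) (hEN : E ≤ Subgroup.normalizer (N : Set H)) : N = E := by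
  by_cases hc : ⁅N, E⁆ ≤ Cfsg.pCoreOf p E
  · exfalso
    apply h.npc
    apply sylIn_isPClosed hS
    obtain ⟨P, hP⟩ := hS.exists_sylow
    have hOS : Cfsg.pCoreOf p E ≤ S := by
      have h1 := le_sylowSub_of_normal P (pCoreOf_le p E) (pCoreOf_isPGroup p E)
        (le_normalizer_pCoreOf p E)
      rw [hP, Subgroup.map_subgroupOf_eq_of_le hS.le] at h1
      exact h1
    apply le_normalizer_of_cj_le'
    intro e he x' hx'
    rw [mem_cj] at hx'
    have h2 : ⁅e, e⁻¹ * x' * e⁆ ∈ ⁅E, N⁆ :=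
      Subgroup.commutator_mem_commutator he (hSN hx')
    rw [Subgroup.commutator_comm] at h2
    have h3 : ⁅e, e⁻¹ * x' * e⁆ ∈ S := hOS (hc h2)
    have h4 : x' = ⁅e, e⁻¹ * x' * e⁆ * (e⁻¹ * x' * e) := by
      rw [commutatorElement_def]; group
    rw [h4]
    exact S.mul_mem h3 hx'
  · have h1 := h.spi N hNE hEN hc
    apply le_antisymm hNE
    rw [← sylIn_opOf_sup hS]
    exact sup_le h1 hSN


/-- The basic pass: if `[X, E] ≤ Z`, `Z` centralises `E` modulo `O_p(H)` and `Z` has no `p`-elements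
modulo `O_p(H)`, then `X` centralises `E` modulo `O_p(H)`. -/
theorem pass (hF : Fam p 𝒦) (T : Sylow p H) {E : Subgroup H} (hE : E ∈ 𝒦) (hspi : SpiIn p E)
    {X Z : Subgroup H} (hEX : E ≤ Subgroup.normalizer (X : Set H)) (hXZ : ⁅X, E⁆ ≤ Z)
    (hZE : haveI := pCore_normal p H; CentMod (Cfsg.pCore p H) Z E)
    (hZp : haveI := pCore_normal p H
      ∀ c ∈ Z, IsPElt p (QuotientGroup.mk' (Cfsg.pCore p H) c) → c ∈ Cfsg.pCore p H) :
    haveI := pCore_normal p H; CentMod (Cfsg.pCore p H) X E := by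
  have hn := pCore_normal p H
  have hSN : (T : Subgroup H) ⊓ E ≤ E ⊓ CQ (Cfsg.pCore p H) X := by
    intro s hs
    refine ⟨hs.2, ?_⟩
    change s ∈ CQ (Cfsg.pCore p H) X
    rw [mem_CQ]
    intro x hx
    have hcZ : ⁅x, s⁆ ∈ Z := hXZ (Subgroup.commutator_mem_commutator hx hs.2)
    have hcs := hZE _ hcZ s hs.2
    have hsP : IsPElt p s := isPElt_of_mem T.isPGroup' hs.1
    have h1 : ⁅x, s⁆ * s = x * s * x⁻¹ := by rw [commutatorElement_def]; group
    have hm : IsPElt p (QuotientGroup.mk' (Cfsg.pCore p H) ⁅x, s⁆ *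
        QuotientGroup.mk' (Cfsg.pCore p H) s) := by
      rw [← map_mul, h1]
      exact (hsP.conj x).map _
    have hc := isPElt_of_commute hcs (hsP.map _) hm
    exact (mk_commute_iff x s).mpr (hZp _ hcZ hc)
  have hC : E ⊓ CQ (Cfsg.pCore p H) X = E :=
    spiIn_gen hspi (hF.sylIn_E T hE) hSN inf_le_left
      (le_normalizer_inf'' Subgroup.le_normalizer (hEX.trans (normalizer_le_normalizer_CQ X)))
  exact centMod_iff_le_CQ.mpr (inf_eq_left.mp hC)

end Main

end Cfsg.Agent.Lib.helper17.PMF5
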