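import Mathlib
import Cfsg.Prelude.Def_LocalStructure
import Cfsg.Agent.Lib.helper17.PMF5

set_option autoImplicit false
set_option linter.unusedSectionVars false
set_option linter.unusedVariables false

namespace Cfsg.Agent.Lib.helper17.PMF6

open Cfsg.Agent.Lib.helper17 PMF1 PMF2 PMF3 PMF4 PMF5
open scoped commutatorElement

variable {H : Type*} [Group H]

theorem commutator_le_of_le_normalizer {X F : Subgroup H}
    (h : X ≤ Subgroup.normalizer (F : Set H)) : ⁅X, F⁆ ≤ F := by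
  rw [Subgroup.commutator_le]
  intro x hx f hf
  rw [commutatorElement_def]
  have h1 : x * f * x⁻¹ ∈ F := (Subgroup.mem_normalizer_iff.mp (h hx) f).mp hf
  exact F.mul_mem h1 (F.inv_mem hf)

variable {p : ℕ} {𝒦 : Set (Subgroup H)} [Finite H] [Fact p.Prime]

theorem not_isPClosed_top (hF : Fam p 𝒦) (hspi : ∀ E ∈ 𝒦, SpiIn p E) : ¬ Cfsg.IsPClosed p H := by
  intro hpc
  obtain ⟨T⟩ : Nonempty (Sylow p H) := inferInstance
  have hT : (T : Subgroup H).Normal := hpc T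
  obtain ⟨E, hE⟩ := hF.ne
  apply (hspi E hE).npc
  apply sylIn_isPClosed (hF.sylIn_E T hE)
  apply le_normalizer_inf'' _ Subgroup.le_normalizer
  rw [Subgroup.normalizer_eq_top_iff.mpr hT]
  exact le_top

/-- Step A. -/
theorem stepA (hF : Fam p 𝒦) (T : Sylow p H) {N : Subgroup H} (hN : N.Normal) {E : Subgroup H}
    (hE : E ∈ 𝒦) (h : opOf p E ≤ N ⊔ Cfsg.pCore p H) : Cfsg.pResidual p H ≤ N := by
  have hn := pCore_normal p H
  have hNQ : (N ⊔ Cfsg.pCore p H).Normal := Subgroup.sup_normal _ _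
  have hall : ∀ K ∈ 𝒦, K ≤ N ⊔ (T : Subgroup H) := by
    intro K hK
    obtain ⟨g, rfl⟩ := hF.tr E hE K hK
    have h1 : opOf p (cj g E) ≤ N ⊔ Cfsg.pCore p H := by
      rw [← cj_opOf, ← cj_normal hNQ g]
      exact cj_mono h
    rw [← sylIn_opOf_sup (hF.sylIn_E T hK)]
    apply sup_le
    · exact h1.trans (sup_le le_sup_left ((pCore_le_sylow' T).trans le_sup_right))
    · exact inf_le_left.trans le_sup_right
  have htop : (⊤ : Subgroup H) ≤ N ⊔ (T : Subgroup H) := by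
    rw [← hF.sup_sylow T]
    exact sup_le (sSup_le hall) le_sup_right
  unfold Cfsg.pResidual
  rw [Subgroup.closure_le]
  intro g hg
  exact mem_of_mem_sup_of_coprime N (T : Subgroup H) T.isPGroup' (htop (Subgroup.mem_top g)) hg

theorem centMod_RQ {X : Subgroup H}
    (h : haveI := pCore_normal p H; ∀ E ∈ 𝒦, CentMod (Cfsg.pCore p H) X E) :
    haveI := pCore_normal p H; CentMod (Cfsg.pCore p H) X (sSup 𝒦 ⊔ Cfsg.pCore p H) := by
  have hn := pCore_normal p H
  rw [centMod_iff_le_CQ]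
  exact sup_le (sSup_le fun E hE => centMod_iff_le_CQ.mp (h E hE)) (pCore_le_CQ X)

/-- Final step: if `NQ` centralises `RQ` modulo `Q` then `N` is `p`-closed. -/
theorem isPClosed_of_centMod (hF : Fam p 𝒦) (T : Sylow p H) {N : Subgroup H} (hN : N.Normal)
    (h : haveI := pCore_normal p H
      CentMod (Cfsg.pCore p H) (N ⊔ Cfsg.pCore p H) (sSup 𝒦 ⊔ Cfsg.pCore p H)) :
    Cfsg.IsPClosed p ↥N := by
  have hn := pCore_normal p H
  have hS : SylIn p ((T : Subgroup H) ⊓ N) N :=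
    (SylIn.of_sylow T).inf_of_normal le_top (by rw [Subgroup.normalizer_eq_top_iff.mpr hN])
  apply sylIn_isPClosed hS
  apply le_normalizer_of_cj_le'
  intro n hn' x' hx'
  rw [mem_cj] at hx'
  -- decompose n
  have hnN : N ≤ Subgroup.normalizer ((opOf p N : Subgroup H) : Set H) :=
    Subgroup.le_normalizer.trans (normalizer_le_normalizer_opOf p N)
  have hn2 : n ∈ opOf p N ⊔ (T : Subgroup H) ⊓ N := by
    rw [sylIn_opOf_sup hS]; exact hn'
  obtain ⟨a, ha, y, hy, rfl⟩ := exists_mul_of_mem_sup_right (inf_le_right.trans hnN) hn2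
  have haN : a ∈ N := opOf_le p N ha
  have haR : a ∈ sSup 𝒦 ⊔ Cfsg.pCore p H := by
    have h1 : opOf p N ≤ Cfsg.pResidual p H := by
      rw [opOf_le_iff]
      intro g _ hc
      exact mem_pResidual_of_coprime hc
    exact le_sup_left (a := sSup 𝒦) (hF.res (h1 ha))
  -- x'' := y * (stuff) * y⁻¹
  set x := (a * y)⁻¹ * x' * (a * y) with hx
  have hx2 : y * x * y⁻¹ ∈ (T : Subgroup H) ⊓ N :=
    Subgroup.mul_mem _ (Subgroup.mul_mem _ hy hx') (Subgroup.inv_mem _ hy)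
  have hcomm : ⁅a, y * x * y⁻¹⁆ ∈ Cfsg.pCore p H := by
    have h3 := h (y * x * y⁻¹) (Subgroup.mem_sup_left hx2.2) a haR
    rw [mk_commute_iff] at h3
    have h4 : ⁅a, y * x * y⁻¹⁆ = ⁅y * x * y⁻¹, a⁆⁻¹ := by
      rw [commutatorElement_inv]
    rw [h4]
    exact Subgroup.inv_mem _ h3
  have h5 : x' = ⁅a, y * x * y⁻¹⁆ * (y * x * y⁻¹) := by
    rw [commutatorElement_def, hx]; group
  rw [h5]
  refine Subgroup.mul_mem _ ⟨pCore_le_sylow' T hcomm, ?_⟩ hx2
  rw [commutatorElement_def]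
  exact N.mul_mem (N.mul_mem (N.mul_mem haN hx2.2) (N.inv_mem haN)) (N.inv_mem hx2.2)


/-- `(A ∩ E)Q` centralises `E` modulo `Q` when `O^p(E) ≰ A`. -/
theorem centMod_inf (hF : Fam p 𝒦) {E : Subgroup H} (hE : E ∈ 𝒦) (hspi : SpiIn p E)
    {A : Subgroup H} (hEA : E ≤ Subgroup.normalizer (A : Set H)) (hQA : Cfsg.pCore p H ≤ A)
    (hA : ¬ opOf p E ≤ A) :
    haveI := pCore_normal p H
    CentMod (Cfsg.pCore p H) (A ⊓ (E ⊔ Cfsg.pCore p H)) E := by
  have hn := pCore_normal p H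
  have h1 : ⁅A ⊓ E, E⁆ ≤ Cfsg.pCoreOf p E := by
    by_contra hc
    apply hA
    exact (hspi.spi (A ⊓ E) inf_le_right (le_normalizer_inf'' hEA Subgroup.le_normalizer) hc).trans
      inf_le_left
  have h2 : CentMod (Cfsg.pCore p H) (A ⊓ E) E :=
    centMod_iff.mpr (h1.trans (PMF5.Fam.pCoreOf_le_pCore hF hE))
  rw [inf_sup_normal hQA]
  exact h2.sup_left

/-- Part (b), irreducibility. -/
theorem part_b2 (hF : Fam p 𝒦) (hspi : ∀ E ∈ 𝒦, SpiIn p E) {N : Subgroup H} (hN : N.Normal)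
    (hnpc : ¬ Cfsg.IsPClosed p ↥N) : Cfsg.pResidual p H ≤ N := by
  by_contra hres
  apply hnpc
  obtain ⟨T⟩ : Nonempty (Sylow p H) := inferInstance
  have hn := pCore_normal p H
  have hRQ := hF.RQ_normal
  have hNQ : (N ⊔ Cfsg.pCore p H).Normal := Subgroup.sup_normal _ _
  have hAn : ((N ⊔ Cfsg.pCore p H) ⊓ (sSup 𝒦 ⊔ Cfsg.pCore p H)).Normal := Subgroup.normal_inf_normal _ _
  have hQA : Cfsg.pCore p H ≤ (N ⊔ Cfsg.pCore p H) ⊓ (sSup 𝒦 ⊔ Cfsg.pCore p H) :=
    le_inf le_sup_right le_sup_right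
  have hstepA : ∀ E ∈ 𝒦, ¬ opOf p E ≤ N ⊔ Cfsg.pCore p H :=
    fun E hE h => hres (stepA hF T hN hE h)
  -- pass 1
  have hpass1 : ∀ E ∈ 𝒦, CentMod (Cfsg.pCore p H)
      ((N ⊔ Cfsg.pCore p H) ⊓ (sSup 𝒦 ⊔ Cfsg.pCore p H)) E := by
    intro E hE
    have hEA : E ≤ Subgroup.normalizer
        ((((N ⊔ Cfsg.pCore p H) ⊓ (sSup 𝒦 ⊔ Cfsg.pCore p H) : Subgroup H)) : Set H) := by
      rw [Subgroup.normalizer_eq_top_iff.mpr hAn]; exact le_top
    have hZ := centMod_inf hF hE (hspi E hE) hEA hQA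
      (fun h => hstepA E hE (h.trans inf_le_left))
    apply pass hF T hE (hspi E hE) hEA _ hZ
    · intro c hc hp
      apply mem_pCore_of_isPElt (PMF5.Fam.F_isSubnormal hF hE) le_sup_right hc.2 _ hp
      intro y hy
      obtain ⟨e, he, q, hq, rfl⟩ := Subgroup.mem_sup_of_normal_right.mp hy
      rw [mk_eq_of_mul_mem hq]
      exact (hZ c hc e he).symm
    · apply le_inf
      · exact Subgroup.commutator_le_left _ _
      · exact (Subgroup.commutator_mono inf_le_right (le_sup_left (b := Cfsg.pCore p H))).trans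
          (commutator_le_of_le_normalizer (hF.norm E hE))
  have hA_RQ := centMod_RQ hpass1
  -- pass 2
  have hpass2 : ∀ E ∈ 𝒦, CentMod (Cfsg.pCore p H) (N ⊔ Cfsg.pCore p H) E := by
    intro E hE
    have hEX : E ≤ Subgroup.normalizer (((N ⊔ Cfsg.pCore p H : Subgroup H)) : Set H) := by
      rw [Subgroup.normalizer_eq_top_iff.mpr hNQ]; exact le_top
    apply pass hF T hE (hspi E hE) hEX _ (hpass1 E hE)
    · intro c hc hp
      apply mem_pCore_of_isPElt hAn.isSubnormal hQA hc _ hp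
      intro y hy
      exact hA_RQ y hy c hc.2
    · apply le_inf
      · exact Subgroup.commutator_le_left _ _
      · exact (Subgroup.commutator_mono le_top ((le_sSup hE).trans le_sup_left)).trans
          (Subgroup.commutator_le_right _ _)
  exact isPClosed_of_centMod hF T hN (centMod_RQ hpass2)


/-- Part (b), the dichotomy. -/
theorem part_b3 (hF : Fam p 𝒦) (hspi : ∀ E ∈ 𝒦, SpiIn p E) {E K : Subgroup H} (hE : E ∈ 𝒦)
    (hK : K ∈ 𝒦) :
    opOf p (E ⊔ Cfsg.pCore p H) = opOf p (K ⊔ Cfsg.pCore p H) ∨ ⁅E, K⁆ ≤ Cfsg.pCore p H := by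
  obtain ⟨T⟩ : Nonempty (Sylow p H) := inferInstance
  have hn := pCore_normal p H
  have hEX : E ≤ Subgroup.normalizer (((K ⊔ Cfsg.pCore p H : Subgroup H)) : Set H) :=
    ((le_sSup hE).trans le_sup_left).trans (hF.norm K hK)
  by_cases h : opOf p E ≤ K ⊔ Cfsg.pCore p H
  · left
    have h1 : opOf p (E ⊔ Cfsg.pCore p H) ≤ K ⊔ Cfsg.pCore p H := by
      have a1 : (K ⊔ Cfsg.pCore p H) ⊓ (E ⊔ Cfsg.pCore p H) ≤ E ⊔ Cfsg.pCore p H := inf_le_right
      have a2 : E ⊔ Cfsg.pCore p H ≤ Subgroup.normalizer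
          ((((K ⊔ Cfsg.pCore p H) ⊓ (E ⊔ Cfsg.pCore p H) : Subgroup H)) : Set H) :=
        le_normalizer_inf'' ((hF.F_le hE).trans (hF.norm K hK)) Subgroup.le_normalizer
      have a3 : IsPGroup p ((((T : Subgroup H) ⊓ E) ⊔ Cfsg.pCore p H : Subgroup H)) :=
        T.isPGroup'.to_le (sup_le inf_le_left (pCore_le_sylow' T))
      have a4 : ((T : Subgroup H) ⊓ E) ⊔ Cfsg.pCore p H ≤ E ⊔ Cfsg.pCore p H :=
        sup_le_sup_right inf_le_right _
      have a5 : opOf p E ≤ (K ⊔ Cfsg.pCore p H) ⊓ (E ⊔ Cfsg.pCore p H) :=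
        le_inf h ((opOf_le p E).trans le_sup_left)
      have a6 : E ≤ (K ⊔ Cfsg.pCore p H) ⊓ (E ⊔ Cfsg.pCore p H) ⊔
          (((T : Subgroup H) ⊓ E) ⊔ Cfsg.pCore p H) := by
        have a7 := sylIn_opOf_sup (hF.sylIn_E T hE)
        calc E = opOf p E ⊔ (T : Subgroup H) ⊓ E := a7.symm
          _ ≤ _ := sup_le_sup a5 le_sup_left
      have a8 : E ⊔ Cfsg.pCore p H ≤ (K ⊔ Cfsg.pCore p H) ⊓ (E ⊔ Cfsg.pCore p H) ⊔
          (((T : Subgroup H) ⊓ E) ⊔ Cfsg.pCore p H) :=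
        sup_le a6 (le_sup_right.trans le_sup_right)
      have h3 := opOf_le_of_le_sup (p := p) a1 a2 a3 a4 a8
      exact h3.trans inf_le_left
    have h2 : opOf p (E ⊔ Cfsg.pCore p H) ≤ opOf p (K ⊔ Cfsg.pCore p H) := by
      rw [← opOf_opOf]
      exact opOf_mono h1
    apply Subgroup.eq_of_le_of_card_ge h2
    obtain ⟨g, rfl⟩ := hF.tr E hE K hK
    have h4 : cj g E ⊔ Cfsg.pCore p H = cj g (E ⊔ Cfsg.pCore p H) := by
      rw [cjSup, cj_normal hn]
    rw [h4, ← cj_opOf, card_cj]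
  · right
    have hZ := centMod_inf hF hE (hspi E hE) hEX le_sup_right h
    have hpass := pass hF T hE (hspi E hE) hEX (Z := (K ⊔ Cfsg.pCore p H) ⊓ (E ⊔ Cfsg.pCore p H))
      (by
        apply le_inf
        · rw [Subgroup.commutator_comm]
          exact commutator_le_of_le_normalizer hEX
        · exact (Subgroup.commutator_mono (hF.F_le hK) (le_sup_left (b := Cfsg.pCore p H))).trans
            (commutator_le_of_le_normalizer (hF.norm E hE)))
      hZ
      (by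
        intro c hc hp
        apply mem_pCore_of_isPElt (PMF5.Fam.F_isSubnormal hF hE) le_sup_right hc.2 _ hp
        intro y hy
        obtain ⟨e, he, q, hq, rfl⟩ := Subgroup.mem_sup_of_normal_right.mp hy
        rw [mk_eq_of_mul_mem hq]
        exact (hZ c hc e he).symm)
    have h5 := centMod_iff.mp hpass
    rw [Subgroup.commutator_comm]
    exact (Subgroup.commutator_mono le_sup_left le_rfl).trans h5

end Cfsg.Agent.Lib.helper17.PMF6
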