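import Mathlib
import Cfsg.Agent.Lib.helper17.FrakM2
import Cfsg.Agent.Lib.helper17.PMF6
import Cfsg.Agent.S2824

set_option autoImplicit false

namespace Cfsg.Agent.Lib.helper17.BPM

open Cfsg.Agent.Lib.helper17

variable {G : Type*} [Group G]

theorem charPSub_of_mem {p : ℕ} {X : Subgroup G} (h : X ∈ Cfsg.charPSubgroups p G) : CharPSub p X :=
  inf_le_right.trans h.2

theorem pCoreOf_ne_bot_of_mem {p : ℕ} {X : Subgroup G} (h : X ∈ Cfsg.charPSubgroups p G) :
    Cfsg.pCoreOf p X ≠ ⊥ := Cfsg.Agent.S2845.pCoreOf_ne_bot h.1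

/-- In a group of parabolic characteristic `p`, a subgroup containing a Sylow `p`-subgroup with `O_p ≠ 1`
lies in `𝓛_G`. -/
theorem mem_charP_of_parab [Finite G] {p : ℕ} [Fact p.Prime]
    (hG : Cfsg.IsOfParabolicCharacteristic p G) (T : Sylow p G) {X : Subgroup G}
    (hTX : (T : Subgroup G) ≤ X) (hP : Cfsg.pCoreOf p X ≠ ⊥) : X ∈ Cfsg.charPSubgroups p G := by
  refine ⟨pCore_ne_bot_of_pCoreOf_ne_bot hP, ?_⟩
  change Subgroup.centralizer ((Cfsg.pCoreOf p X : Subgroup G) : Set G) ≤ Cfsg.pCoreOf p X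
  set R := Cfsg.pCoreOf p X with hR
  set N := Subgroup.normalizer (R : Set G) with hN
  have hXN : X ≤ N := le_normalizer_pCoreOf p X
  have hpar : Cfsg.IsParabolic p N := ⟨T, hTX.trans hXN⟩
  have h1 := hG R (pCoreOf_isPGroup p X) hP hpar
  have h2 : CharPSub p N := (charPSub_iff p N).mp h1
  have hON : Cfsg.pCoreOf p N ≤ R := by
    apply le_pCoreOf ((pCoreOf_le_sylow T (hTX.trans hXN)).trans hTX) (pCoreOf_isPGroup p N)
    exact hXN.trans (le_normalizer_pCoreOf p N)
  have hCN : Subgroup.centralizer (R : Set G) ≤ N := Subgroup.centralizer_le_normalizer _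
  have hCC : Subgroup.centralizer (R : Set G) ≤
      Subgroup.centralizer ((Cfsg.pCoreOf p N : Subgroup G) : Set G) :=
    Subgroup.centralizer_le (SetLike.coe_subset_coe.mpr hON)
  exact ((le_inf hCN hCC).trans h2).trans hON

/-- Monotonicity of `Y`: `T ≤ R ≤ L` with `L` of characteristic `p` gives `Y_R ≤ Y_L`. -/
theorem largestPReducedOf_mono [Finite G] {p : ℕ} [Fact p.Prime] (T : Sylow p G) {R L : Subgroup G}
    (hTR : (T : Subgroup G) ≤ R) (hRL : R ≤ L) (hL : CharPSub p L) :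
    Cfsg.largestPReducedOf p R ≤ Cfsg.largestPReducedOf p L := by
  have hX' : PRedIn p R (Cfsg.largestPReducedOf p R) := largestPReducedOf_pRedIn p R
  have hTL := hTR.trans hRL
  have hOT : Cfsg.pCoreOf p L ≤ (T : Subgroup G) := pCoreOf_le_sylow T hTL
  have hOR : Cfsg.pCoreOf p L ≤ Cfsg.pCoreOf p R := by
    apply le_pCoreOf (hOT.trans hTR) (pCoreOf_isPGroup p L)
    exact hRL.trans (le_normalizer_pCoreOf p L)
  have hXc : Cfsg.largestPReducedOf p R ≤
      Subgroup.centralizer ((Cfsg.pCoreOf p L : Subgroup G) : Set G) :=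
    hX'.le_centralizer_pCoreOf.trans (Subgroup.centralizer_le (SetLike.coe_subset_coe.mpr hOR))
  have hXL : Cfsg.largestPReducedOf p R ≤ L := hX'.1.trans hRL
  have hW : PRedIn p L (conjClosure L (Cfsg.largestPReducedOf p R)) := by
    apply pRedIn_conjClosure T hTL hXL
      (conjClosure_isElementaryAbelian hL hXL hXc hX'.2.2.1.2)
    intro D _ hD hp
    have h1 : D ⊓ R ≤ Subgroup.centralizer ((Cfsg.largestPReducedOf p R : Subgroup G) : Set G) := by
      apply hX'.2.2.2 (D ⊓ R) inf_le_right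
      · exact le_normalizer_inf' (hRL.trans hD) Subgroup.le_normalizer
      · exact hp.mono inf_le_left
          (Subgroup.centralizer_le (SetLike.coe_subset_coe.mpr (le_conjClosure L _)))
    exact (inf_le_inf_left D hTR).trans h1
  exact (le_conjClosure L _).trans (le_largestPReducedOf hW)

/-- `Y_L ≠ 1` for `L ≥ T` of characteristic `p` with `T ≠ 1`. -/
theorem largestPReducedOf_ne_bot [Finite G] {p : ℕ} [Fact p.Prime] (T : Sylow p G) {L : Subgroup G}
    (hTL : (T : Subgroup G) ≤ L) (hL : CharPSub p L) (hT : (T : Subgroup G) ≠ ⊥) :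
    Cfsg.largestPReducedOf p L ≠ ⊥ := by
  obtain ⟨z, hzT, hzo, hzc⟩ := exists_central_orderOf_eq_prime T.isPGroup' hT
  have hz : z ∈ Cfsg.omegaOne p ((T : Subgroup G) ⊓ Subgroup.centralizer ((T : Subgroup G) : Set G)) := by
    apply mem_omegaOne
    · refine ⟨hzT, ?_⟩
      change z ∈ Subgroup.centralizer ((T : Subgroup G) : Set G)
      rw [Subgroup.mem_centralizer_iff]
      intro s hs
      exact hzc s hs
    · rw [← hzo]; exact pow_orderOf_eq_one z
  have hzY := omegaOne_center_sylow_le_largestPReducedOf T hTL hL hz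
  intro hbot
  rw [hbot, Subgroup.mem_bot] at hzY
  rw [hzY, orderOf_one] at hzo
  exact (Fact.out : p.Prime).ne_one hzo.symm

theorem sylow_ne_bot_of_mem [Finite G] {p : ℕ} [Fact p.Prime] (T : Sylow p G) {L : Subgroup G}
    (hTL : (T : Subgroup G) ≤ L) (hL : L ∈ Cfsg.charPSubgroups p G) : (T : Subgroup G) ≠ ⊥ := by
  intro hbot
  apply pCoreOf_ne_bot_of_mem hL
  rw [← le_bot_iff, ← hbot]
  exact pCoreOf_le_sylow T hTL

/-- Any subgroup `X ≥ T` normalising a nontrivial `p`-subgroup `Y ≤ X` has `O_p(X) ≠ 1`. -/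
theorem pCoreOf_ne_bot_of_le_normalizer {p : ℕ} {X Y : Subgroup G} (hYX : Y ≤ X) (hY : IsPGroup p Y)
    (hY1 : Y ≠ ⊥) (hXN : X ≤ Subgroup.normalizer (Y : Set G)) : Cfsg.pCoreOf p X ≠ ⊥ := by
  intro hbot
  apply hY1
  rw [← le_bot_iff, ← hbot]
  exact le_pCoreOf hYX hY hXN

theorem exists_max_ge [Finite G] {p : ℕ} {L : Subgroup G} (hL : L ∈ Cfsg.charPSubgroups p G) :
    ∃ X ∈ Cfsg.maxCharPSubgroups p G, L ≤ X := by
  obtain ⟨X', hXX', hmax⟩ := Finite.exists_le_maximal (p := fun Z => Z ∈ Cfsg.charPSubgroups p G) hL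
  have hX'max : X' ∈ Cfsg.maxCharPSubgroups p G := by
    refine ⟨hmax.1, ?_⟩
    intro Z hZ hX'Z
    exact le_antisymm (hmax.2 hZ hX'Z) hX'Z
  exact ⟨X', hX'max, hXX'⟩

theorem isPGroup_largestPReducedOf (p : ℕ) (L : Subgroup G) : IsPGroup p (Cfsg.largestPReducedOf p L) :=
  (pCoreOf_isPGroup p L).to_le (largestPReducedOf_pRedIn p L).le_pCoreOf

/-- `C_G(Y_X) ≤ X` for a maximal member `X ≥ T` of `𝓛_G`. -/
theorem centralizer_le_of_max [Finite G] {p : ℕ} [Fact p.Prime]
    (hG : Cfsg.IsOfParabolicCharacteristic p G) (T : Sylow p G) {X : Subgroup G}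
    (hTX : (T : Subgroup G) ≤ X) (hX : X ∈ Cfsg.maxCharPSubgroups p G) :
    Subgroup.centralizer ((Cfsg.largestPReducedOf p X : Subgroup G) : Set G) ≤ X := by
  have hY : PRedIn p X (Cfsg.largestPReducedOf p X) := largestPReducedOf_pRedIn p X
  have hY1 := largestPReducedOf_ne_bot T hTX (charPSub_of_mem hX.1) (sylow_ne_bot_of_mem T hTX hX.1)
  have hn : X ⊔ Subgroup.centralizer ((Cfsg.largestPReducedOf p X : Subgroup G) : Set G) ≤
      Subgroup.normalizer ((Cfsg.largestPReducedOf p X : Subgroup G) : Set G) :=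
    sup_le hY.2.1 (Subgroup.centralizer_le_normalizer _)
  have h1 : X ⊔ Subgroup.centralizer ((Cfsg.largestPReducedOf p X : Subgroup G) : Set G) ∈
      Cfsg.charPSubgroups p G := by
    apply mem_charP_of_parab hG T (hTX.trans le_sup_left)
    exact pCoreOf_ne_bot_of_le_normalizer (hY.1.trans le_sup_left) (isPGroup_largestPReducedOf p X) hY1 hn
  have h2 := hX.2 _ h1 le_sup_left
  exact le_sup_right.trans h2.le

end Cfsg.Agent.Lib.helper17.BPM
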