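import Mathlib
import Cfsg.Agent.Lib.helper17.FrakM2
import Cfsg.Agent.Lib.helper17.WC2
import Cfsg.Agent.Lib.helper17.BPM1
import Cfsg.Agent.S2848

set_option autoImplicit false

namespace Cfsg.Agent.Lib.helper17.Asym

open Cfsg.Agent.Lib.helper17
open scoped commutatorElement

variable {G : Type*} [Group G]

/-- words in `N` and `g^{±1}` with exactly `k` letters `g^{±1}` -/
def W (N : Subgroup G) (g : G) : ℕ → Set G
  | 0 => (N : Set G)
  | k + 1 => {x | ∃ y ∈ W N g k, ∃ e ∈ ({g, g⁻¹} : Set G), ∃ n ∈ N, x = y * e * n}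

theorem W_zero (N : Subgroup G) (g : G) : W N g 0 = (N : Set G) := rfl

theorem mem_W_succ {N : Subgroup G} {g : G} {k : ℕ} {x : G} :
    x ∈ W N g (k + 1) ↔ ∃ y ∈ W N g k, ∃ e ∈ ({g, g⁻¹} : Set G), ∃ n ∈ N, x = y * e * n := Iff.rfl

theorem W_left {N : Subgroup G} {g : G} : ∀ k : ℕ, ∀ x ∈ W N g k, ∀ n ∈ N, n * x ∈ W N g k := by
  intro k
  induction k with
  | zero =>
    intro x hx n hn
    exact N.mul_mem hn hx
  | succ k ih =>
    intro x hx n hn
    obtain ⟨y, hy, e, he, m, hm, rfl⟩ := hx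
    exact ⟨n * y, ih y hy n hn, e, he, m, hm, by group⟩

theorem W_cons {N : Subgroup G} {g : G} : ∀ k : ℕ, ∀ z ∈ W N g k, ∀ n ∈ N,
    ∀ e ∈ ({g, g⁻¹} : Set G), n * e * z ∈ W N g (k + 1) := by
  intro k
  induction k with
  | zero =>
    intro z hz n hn e he
    exact ⟨n, hn, e, he, z, hz, rfl⟩
  | succ k ih =>
    intro z hz n hn e he
    obtain ⟨y, hy, e', he', m, hm, rfl⟩ := hz
    exact ⟨n * e * y, ih y hy n hn e he, e', he', m, hm, by group⟩

theorem W_head {N : Subgroup G} {g : G} : ∀ k : ℕ, ∀ x ∈ W N g (k + 1),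
    ∃ n ∈ N, ∃ e ∈ ({g, g⁻¹} : Set G), ∃ z ∈ W N g k, x = n * e * z := by
  intro k
  induction k with
  | zero =>
    intro x hx
    obtain ⟨y, hy, e, he, m, hm, rfl⟩ := hx
    exact ⟨y, hy, e, he, m, hm, rfl⟩
  | succ k ih =>
    intro x hx
    obtain ⟨y, hy, e, he, m, hm, rfl⟩ := hx
    obtain ⟨n, hn, e', he', z, hz, rfl⟩ := ih y hy
    exact ⟨n, hn, e', he', z * e * m, ⟨z, hz, e, he, m, hm, rfl⟩, by group⟩

theorem inv_mem_pair {g e : G} (he : e ∈ ({g, g⁻¹} : Set G)) : e⁻¹ ∈ ({g, g⁻¹} : Set G) := by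
  rcases he with rfl | rfl
  · right; rfl
  · left; simp

theorem W_inv {N : Subgroup G} {g : G} : ∀ k : ℕ, ∀ x ∈ W N g k, x⁻¹ ∈ W N g k := by
  intro k
  induction k with
  | zero =>
    intro x hx
    exact N.inv_mem hx
  | succ k ih =>
    intro x hx
    obtain ⟨y, hy, e, he, m, hm, rfl⟩ := hx
    have := W_cons k y⁻¹ (ih y hy) m⁻¹ (N.inv_mem hm) e⁻¹ (inv_mem_pair he)
    have h2 : (y * e * m)⁻¹ = m⁻¹ * e⁻¹ * y⁻¹ := by group
    rw [h2]
    exact this

/-- the union of all `W N g k` -/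
def U (N : Subgroup G) (g : G) : Set G := {x | ∃ k, x ∈ W N g k}

theorem one_mem_U (N : Subgroup G) (g : G) : (1 : G) ∈ U N g := ⟨0, N.one_mem⟩

theorem U_left {N : Subgroup G} {g : G} {x n : G} (hx : x ∈ U N g) (hn : n ∈ N) : n * x ∈ U N g := by
  obtain ⟨k, hk⟩ := hx
  exact ⟨k, W_left k x hk n hn⟩

theorem U_left_g {N : Subgroup G} {g : G} {x e : G} (hx : x ∈ U N g) (he : e ∈ ({g, g⁻¹} : Set G)) :
    e * x ∈ U N g := by
  obtain ⟨k, hk⟩ := hx
  refine ⟨k + 1, ?_⟩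
  have := W_cons k x hk 1 N.one_mem e he
  rwa [one_mul] at this

/-- the intersection of the conjugates of `Q` along `U` -/
def core (N Q : Subgroup G) (g : G) : Subgroup G := ⨅ x ∈ U N g, cj x Q

theorem mem_core {N Q : Subgroup G} {g y : G} : y ∈ core N Q g ↔ ∀ x ∈ U N g, y ∈ cj x Q := by
  unfold core
  simp only [Subgroup.mem_iInf]

theorem core_le (N Q : Subgroup G) (g : G) : core N Q g ≤ Q := by
  intro y hy
  have := mem_core.mp hy 1 (one_mem_U N g)
  rwa [cj_one] at this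

theorem mem_normalizer_core {N Q : Subgroup G} {g a : G} (h1 : ∀ x ∈ U N g, a * x ∈ U N g)
    (h2 : ∀ x ∈ U N g, a⁻¹ * x ∈ U N g) : a ∈ Subgroup.normalizer ((core N Q g : Subgroup G) : Set G) := by
  rw [Subgroup.mem_normalizer_iff]
  intro y
  rw [mem_core, mem_core]
  constructor
  · intro hy x hx
    have := hy (a⁻¹ * x) (h2 x hx)
    rw [mem_cj] at this ⊢
    have e : (a⁻¹ * x)⁻¹ * y * (a⁻¹ * x) = x⁻¹ * (a * y * a⁻¹) * x := by group
    rwa [e] at this
  · intro hy x hx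
    have := hy (a * x) (h1 x hx)
    rw [mem_cj] at this ⊢
    have e : (a * x)⁻¹ * (a * y * a⁻¹) * (a * x) = x⁻¹ * y * x := by group
    rwa [e] at this

theorem le_normalizer_core (N Q : Subgroup G) (g : G) :
    N ≤ Subgroup.normalizer ((core N Q g : Subgroup G) : Set G) := by
  intro n hn
  exact mem_normalizer_core (fun x hx => U_left hx hn) (fun x hx => U_left hx (N.inv_mem hn))

theorem g_mem_normalizer_core (N Q : Subgroup G) (g : G) :
    g ∈ Subgroup.normalizer ((core N Q g : Subgroup G) : Set G) :=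
  mem_normalizer_core (fun x hx => U_left_g hx (Or.inl rfl)) (fun x hx => U_left_g hx (Or.inr rfl))

/-- The path lemma: an asymmetric `Y` lies in every conjugate of `Q` along the words. -/
theorem path {p : ℕ} (N Q Y : Subgroup G) (g : G)
    (hNQ : N ≤ Subgroup.normalizer (Q : Set G)) (hNY : N ≤ Subgroup.normalizer (Y : Set G))
    (hA : ∀ e ∈ ({g, g⁻¹} : Set G), cj e Q ≤ N)
    (hYQ : Y ≤ Q) (hasym : ¬ Cfsg.IsSymmetricIn Y)
    (hsyl : ∀ P : Subgroup G, IsPGroup p P → P ≤ N → P ≤ Subgroup.centralizer (Y : Set G) → P ≤ Q)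
    (hYp : IsPGroup p Y) :
    ∀ k : ℕ, ∀ x ∈ W N g k, Y ≤ cj x Q := by
  intro k
  induction k with
  | zero =>
    intro x hx
    have : cj x Q = Q := cj_eq_self_iff.mpr (hNQ hx)
    rw [this]
    exact hYQ
  | succ k ih =>
    intro x hx
    have hx' := hx
    obtain ⟨y, hy, e, he, n, hn, rfl⟩ := hx
    -- (1) `Y ≤ cj x N`
    have hQe : Q ≤ cj e N := by
      have := hA e⁻¹ (inv_mem_pair he)
      rwa [cj_le_iff, inv_inv] at this
    have h1 : Y ≤ cj (y * e * n) N := by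
      rw [cj_mul, cj_eq_self_of_mem hn, cj_mul]
      exact (ih y hy).trans (cj_mono hQe)
    have h1' : Y ≤ Subgroup.normalizer ((cj (y * e * n) Y : Subgroup G) : Set G) := by
      rw [normalizer_cj]
      exact h1.trans (cj_mono hNY)
    -- (2) `cj x Y ≤ N`
    obtain ⟨n₀, hn₀, e', he', z, hz, hxz⟩ := W_head k _ hx'
    have hzY : cj z Y ≤ Q := by
      have := ih z⁻¹ (W_inv k z hz)
      rwa [cj_le_iff]
    have h2 : cj (y * e * n) Y ≤ N := by
      rw [hxz, cj_mul, cj_mul]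
      have h3 : cj e' (cj z Y) ≤ N := (cj_mono hzY).trans (hA e' he')
      have h4 := cj_mono (g := n₀) h3
      rwa [cj_eq_self_of_mem hn₀] at h4
    have h2' : cj (y * e * n) Y ≤ Subgroup.normalizer (Y : Set G) := h2.trans hNY
    -- (3)
    have h3 := commutator_eq_bot_of_not_isSymmetricIn hasym h2' h1'
    rw [Subgroup.commutator_eq_bot_iff_le_centralizer, centralizer_cj] at h3
    have h4 : cj (y * e * n)⁻¹ Y ≤ Subgroup.centralizer (Y : Set G) := by
      rw [cj_le_iff, inv_inv]; exact h3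
    have h5 : cj (y * e * n)⁻¹ Y ≤ N := by
      rw [cj_le_iff, inv_inv]; exact h1
    have h6 := hsyl _ (isPGroup_cj hYp) h5 h4
    rwa [cj_le_iff, inv_inv] at h6

theorem le_core {p : ℕ} (N Q Y : Subgroup G) (g : G)
    (hNQ : N ≤ Subgroup.normalizer (Q : Set G)) (hNY : N ≤ Subgroup.normalizer (Y : Set G))
    (hA : ∀ e ∈ ({g, g⁻¹} : Set G), cj e Q ≤ N)
    (hYQ : Y ≤ Q) (hasym : ¬ Cfsg.IsSymmetricIn Y)
    (hsyl : ∀ P : Subgroup G, IsPGroup p P → P ≤ N → P ≤ Subgroup.centralizer (Y : Set G) → P ≤ Q)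
    (hYp : IsPGroup p Y) : Y ≤ core N Q g := by
  intro y hy
  rw [mem_core]
  rintro x ⟨k, hk⟩
  exact path N Q Y g hNQ hNY hA hYQ hasym hsyl hYp k x hk hy

end Cfsg.Agent.Lib.helper17.Asym
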