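import Mathlib
import Cfsg.Agent.Lib.helper17.Asym1
import Cfsg.Agent.Lib.helper17.WC4

set_option autoImplicit false

namespace Cfsg.Agent.Lib.helper17.Asym2

open Cfsg.Agent.Lib.helper17
open Cfsg.Agent.Lib.helper17.Asym
open scoped commutatorElement

variable {G : Type*} [Group G]

/-- `N_G(O_p(M)) ≤ M†`. -/
theorem normalizer_pCoreOf_le_dagger [Finite G] {p : ℕ} [Fact p.Prime] (S : Sylow p G) {Q : Subgroup G}
    (hQp : IsPGroup p Q) (hQ1 : Q ≠ ⊥) (hL : Cfsg.IsLarge Q) {M : Subgroup G}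
    (hSM : (S : Subgroup G) ≤ M) (hM : Cfsg.IsInFrakM p M) :
    Subgroup.normalizer ((Cfsg.pCoreOf p M : Subgroup G) : Set G) ≤
      M ⊔ Subgroup.centralizer ((Cfsg.largestPReducedOf p M : Subgroup G) : Set G) :=
  IsInFrakM.normalizer_le_dagger S hQp hQ1 hL hSM hM (BPM.pCoreOf_ne_bot_of_mem hM.1)
    (pCoreOf_isPGroup p M) (le_normalizer_pCoreOf p M)

/-- `O_p(M)` contains every `p`-subgroup of `N_G(O_p(M)) ∩ C_G(Y_M)`. -/
theorem le_pCoreOf_of_le_centralizer [Finite G] {p : ℕ} [Fact p.Prime] (S : Sylow p G) {M : Subgroup G}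
    (hSM : (S : Subgroup G) ≤ M) (hM : Cfsg.IsInFrakM p M) {P : Subgroup G} (hP : IsPGroup p P)
    (hPN : P ≤ Subgroup.normalizer ((Cfsg.pCoreOf p M : Subgroup G) : Set G))
    (hPC : P ≤ Subgroup.centralizer ((Cfsg.largestPReducedOf p M : Subgroup G) : Set G)) :
    P ≤ Cfsg.pCoreOf p M := by
  have hY : PRedIn p M (Cfsg.largestPReducedOf p M) := largestPReducedOf_pRedIn p M
  have hNC := normalizer_le_normalizer_centralizer' (Cfsg.largestPReducedOf p M)
  have hSC : (S : Subgroup G) ≤ Subgroup.normalizer ((Subgroup.centralizer (((Cfsg.largestPReducedOf p M) : Subgroup G) : Set G) : Subgroup G) : Set G) :=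
    (hSM.trans hY.2.1).trans hNC
  have hQM := IsInFrakM.pCoreOf_eq S hSM hM
  have h1 : IsPGroup p (P ⊔ Cfsg.pCoreOf p M : Subgroup G) :=
    hP.to_sup_of_normal_right' (pCoreOf_isPGroup p M) hPN
  have h2 : P ⊔ Cfsg.pCoreOf p M ≤ Subgroup.centralizer (((Cfsg.largestPReducedOf p M) : Subgroup G) : Set G) :=
    sup_le hPC hY.pCoreOf_le_centralizer
  have h3 : (S : Subgroup G) ⊓ Subgroup.centralizer (((Cfsg.largestPReducedOf p M) : Subgroup G) : Set G) ≤
      P ⊔ Cfsg.pCoreOf p M := by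
    rw [← hQM]; exact le_sup_right
  have h4 := eq_sylow_inf_of_isPGroup S hSC h1 h2 h3
  rw [← hQM] at h4
  exact le_sup_left.trans h4.le

/-- If `O_p(M)` and a conjugate normalise each other and `Y_M` is asymmetric, the conjugating
element lies in `M†`. -/
theorem mem_dagger_of_mutual [Finite G] {p : ℕ} [Fact p.Prime] (S : Sylow p G) {Q : Subgroup G}
    (hQp : IsPGroup p Q) (hQ1 : Q ≠ ⊥) (hL : Cfsg.IsLarge Q) {M : Subgroup G}
    (hSM : (S : Subgroup G) ≤ M) (hM : Cfsg.IsInFrakM p M)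
    (hasym : ¬ Cfsg.IsSymmetricIn (Cfsg.largestPReducedOf p M)) (g : G)
    (h1 : cj g (Cfsg.pCoreOf p M) ≤ Subgroup.normalizer ((Cfsg.pCoreOf p M : Subgroup G) : Set G))
    (h2 : Cfsg.pCoreOf p M ≤ Subgroup.normalizer ((cj g (Cfsg.pCoreOf p M) : Subgroup G) : Set G)) :
    g ∈ M ⊔ Subgroup.centralizer ((Cfsg.largestPReducedOf p M : Subgroup G) : Set G) := by
  have hY : PRedIn p M (Cfsg.largestPReducedOf p M) := largestPReducedOf_pRedIn p M
  have hdag := normalizer_pCoreOf_le_dagger S hQp hQ1 hL hSM hM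
  have hMN : M ⊔ Subgroup.centralizer (((Cfsg.largestPReducedOf p M) : Subgroup G) : Set G) ≤
      Subgroup.normalizer (((Cfsg.largestPReducedOf p M) : Subgroup G) : Set G) :=
    sup_le hY.2.1 (Subgroup.centralizer_le_normalizer _)
  set N := Subgroup.normalizer ((Cfsg.pCoreOf p M : Subgroup G) : Set G) with hN
  have hA : ∀ e ∈ ({g, g⁻¹} : Set G), cj e (Cfsg.pCoreOf p M) ≤ N := by
    intro e he
    rcases he with rfl | rfl
    · exact h1
    · rw [cj_le_iff, inv_inv, hN, ← normalizer_cj]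
      exact h2
  have hYp : IsPGroup p (Cfsg.largestPReducedOf p M) := BPM.isPGroup_largestPReducedOf p M
  have hYle : Cfsg.largestPReducedOf p M ≤ core N (Cfsg.pCoreOf p M) g :=
    le_core (p := p) N (Cfsg.pCoreOf p M) (Cfsg.largestPReducedOf p M) g le_rfl (hdag.trans hMN) hA
      hY.le_pCoreOf hasym
      (fun P hP hPN hPC => le_pCoreOf_of_le_centralizer S hSM hM hP hPN hPC) hYp
  have hY1 : Cfsg.largestPReducedOf p M ≠ ⊥ :=
    BPM.largestPReducedOf_ne_bot S hSM (BPM.charPSub_of_mem hM.1) (BPM.sylow_ne_bot_of_mem S hSM hM.1)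
  have hc1 : core N (Cfsg.pCoreOf p M) g ≠ ⊥ := by
    intro hbot
    apply hY1
    rw [← le_bot_iff, ← hbot]
    exact hYle
  have hcp : IsPGroup p (core N (Cfsg.pCoreOf p M) g) :=
    (pCoreOf_isPGroup p M).to_le (core_le N _ g)
  have hMc : M ≤ Subgroup.normalizer ((core N (Cfsg.pCoreOf p M) g : Subgroup G) : Set G) :=
    (le_normalizer_pCoreOf p M).trans (le_normalizer_core N _ g)
  exact IsInFrakM.normalizer_le_dagger S hQp hQ1 hL hSM hM hc1 hcp hMc (g_mem_normalizer_core N _ g)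

/-- `O_p(M)` is weakly closed in `G` (strong form) when `Y_M` is asymmetric. -/
theorem wcStrong_pCoreOf [Finite G] {p : ℕ} [Fact p.Prime] (S : Sylow p G) {Q : Subgroup G}
    (hQp : IsPGroup p Q) (hQ1 : Q ≠ ⊥) (hQS : Q ≤ (S : Subgroup G)) (hL : Cfsg.IsLarge Q) {M : Subgroup G}
    (hSM : (S : Subgroup G) ≤ M) (hM : Cfsg.IsInFrakM p M)
    (hasym : ¬ Cfsg.IsSymmetricIn (Cfsg.largestPReducedOf p M)) :
    WCStrong p (Cfsg.pCoreOf p M) := by
  apply wcStrong_of_commutator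
  intro g hc
  have h1 : cj g (Cfsg.pCoreOf p M) ≤ Subgroup.normalizer ((Cfsg.pCoreOf p M : Subgroup G) : Set G) :=
    Subgroup.le_normalizer_iff_commutator_le_left.mpr (hc.trans inf_le_left)
  have h2 : Cfsg.pCoreOf p M ≤ Subgroup.normalizer ((cj g (Cfsg.pCoreOf p M) : Subgroup G) : Set G) :=
    Subgroup.le_normalizer_iff_commutator_le_right.mpr (hc.trans inf_le_right)
  have hg := mem_dagger_of_mutual S hQp hQ1 hL hSM hM hasym g h1 h2
  set D := M ⊔ Subgroup.centralizer ((Cfsg.largestPReducedOf p M : Subgroup G) : Set G) with hD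
  have hQD : Cfsg.pCoreOf p M ≤ D := (pCoreOf_le p M).trans le_sup_left
  have hw : WCStrong p ((Cfsg.pCoreOf p M).subgroupOf D) :=
    wcStrong_of_isWeaklyClosedSubgroup (Cfsg.Agent.S2848.result S Q hQp hQ1 hQS hL M hSM hM)
  have hR : IsPGroup p ((Cfsg.pCoreOf p M ⊔ cj g (Cfsg.pCoreOf p M) : Subgroup G).subgroupOf D) :=
    ((pCoreOf_isPGroup p M).to_sup_of_normal_right' (isPGroup_cj (pCoreOf_isPGroup p M)) h2).comap_subtype
  have hle1 : (Cfsg.pCoreOf p M).subgroupOf D ≤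
      (Cfsg.pCoreOf p M ⊔ cj g (Cfsg.pCoreOf p M) : Subgroup G).subgroupOf D := by
    intro x hx
    exact Subgroup.mem_subgroupOf.mpr (le_sup_left (a := Cfsg.pCoreOf p M) (Subgroup.mem_subgroupOf.mp hx))
  have hle2 : cj (⟨g, hg⟩ : ↥D) ((Cfsg.pCoreOf p M).subgroupOf D) ≤
      (Cfsg.pCoreOf p M ⊔ cj g (Cfsg.pCoreOf p M) : Subgroup G).subgroupOf D := by
    intro x hx
    rw [Subgroup.mem_subgroupOf]
    apply le_sup_right (a := Cfsg.pCoreOf p M)
    rw [← cj_subgroupOf_map hQD ⟨g, hg⟩]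
    exact Subgroup.mem_map_of_mem _ hx
  have h3 := hw _ hR hle1 ⟨g, hg⟩ hle2
  have h4 := congrArg (Subgroup.map D.subtype) h3
  rw [cj_subgroupOf_map hQD, Subgroup.subgroupOf_map_subtype, inf_of_le_left hQD] at h4
  exact h4

end Cfsg.Agent.Lib.helper17.Asym2
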