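import Mathlib
import Cfsg.Agent.Lib.helper17.SylSub
import Cfsg.Agent.Lib.helper17.Subn2
import Cfsg.Agent.Lib.helper17.CharP4
import Cfsg.Agent.Lib.helper17.PRed8

set_option autoImplicit false

namespace Cfsg.Agent.Lib.helper17.MinPar

open Cfsg.Agent.Lib.helper17
open scoped commutatorElement

variable {G : Type*} [Group G]

theorem normalClosure_subgroupOf_map_eq {N X : Subgroup G} (hXN : X ≤ N) :
    (Subgroup.normalClosure ((X.subgroupOf N : Subgroup ↥N) : Set ↥N)).map N.subtype = conjClosure N X := by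
  apply le_antisymm (normalClosure_subgroupOf_map_le hXN)
  apply iSup_le
  intro n x hx
  rw [mem_cj] at hx
  have hxN : x ∈ N := by
    have h1 := N.mul_mem (N.mul_mem n.2 (hXN hx)) (N.inv_mem n.2)
    have e : (n : G) * ((n : G)⁻¹ * x * (n : G)) * (n : G)⁻¹ = x := by group
    rwa [e] at h1
  refine ⟨⟨x, hxN⟩, ?_, rfl⟩
  have h2 : (n⁻¹ * ⟨x, hxN⟩ * n : ↥N) ∈ Subgroup.normalClosure ((X.subgroupOf N : Subgroup ↥N) : Set ↥N) := by
    apply Subgroup.subset_normalClosure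
    exact Subgroup.mem_subgroupOf.mpr hx
  have h3 := (Subgroup.normalClosure_normal (s := ((X.subgroupOf N : Subgroup ↥N) : Set ↥N))).conj_mem _ h2 n
  have e : n * (n⁻¹ * ⟨x, hxN⟩ * n) * n⁻¹ = (⟨x, hxN⟩ : ↥N) := by group
  rwa [e] at h3

theorem pCoreOf_le_of_normal {p : ℕ} {P H : Subgroup G} (hPH : P ≤ H)
    (hn : H ≤ Subgroup.normalizer (P : Set G)) : Cfsg.pCoreOf p P ≤ Cfsg.pCoreOf p H :=
  le_pCoreOf ((pCoreOf_le p P).trans hPH) (pCoreOf_isPGroup p P)
    (hn.trans (normalizer_le_normalizer_pCoreOf p P))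

theorem le_normalizer_opOf (p : ℕ) (H : Subgroup G) :
    H ≤ Subgroup.normalizer ((opOf p H : Subgroup G) : Set G) :=
  Subgroup.le_normalizer.trans (normalizer_le_normalizer_opOf p H)

/-- Subgroups between `O^p(H)` and `H` satisfy the normaliser condition. -/
theorem exists_mem_normalizer_of_opOf_le [Finite G] {p : ℕ} [Fact p.Prime] {P H : Subgroup G}
    (hRP : opOf p H ≤ P) (hPH : P < H) :
    ∃ x ∈ H, x ∈ Subgroup.normalizer (P : Set G) ∧ x ∉ P := by
  obtain ⟨T⟩ : Nonempty (Sylow p ↥H) := inferInstance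
  have h1 := opOf_sup_sylowSub T
  set T' := (T : Subgroup ↥H).map H.subtype with hT'
  have hT'p : IsPGroup p T' := T.isPGroup'.map _
  have hT'H : T' ≤ H := Subgroup.map_subtype_le _
  have hlt : P ⊓ T' < T' := by
    refine lt_of_le_of_ne inf_le_right ?_
    intro heq
    have hTP : T' ≤ P := by rw [← heq]; exact inf_le_left
    have : H ≤ P := by
      conv_lhs => rw [← h1]
      exact sup_le hRP hTP
    exact hPH.not_ge this
  obtain ⟨n, hnT, hnN, hnP⟩ := exists_mem_normalizer_not_mem hT'p hlt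
  have hnH : n ∈ H := hT'H hnT
  refine ⟨n, hnH, ?_, fun h => hnP ⟨h, hnT⟩⟩
  rw [← cj_eq_self_iff]
  apply cj_eq_of_cj_le'
  intro y hy
  rw [mem_cj] at hy
  have hyH : n⁻¹ * y * n ∈ opOf p H ⊔ T' := by rw [h1]; exact hPH.le hy
  obtain ⟨r, hr, t, ht, hrt⟩ := exists_mul_of_mem_sup_right (hT'H.trans (le_normalizer_opOf p H)) hyH
  have htP : t ∈ P := by
    have : t = r⁻¹ * (n⁻¹ * y * n) := by rw [hrt]; group
    rw [this]
    exact P.mul_mem (P.inv_mem (hRP hr)) hy
  have h2 : n * t * n⁻¹ ∈ P ⊓ T' := by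
    have := (Subgroup.mem_normalizer_iff.mp hnN t).mp ⟨htP, ht⟩
    exact this
  have h3 : n * r * n⁻¹ ∈ opOf p H :=
    (Subgroup.mem_normalizer_iff.mp (le_normalizer_opOf p H hnH) r).mp hr
  have e : y = (n * r * n⁻¹) * (n * t * n⁻¹) := by
    have : y = n * (n⁻¹ * y * n) * n⁻¹ := by group
    rw [this, hrt]; group
  rw [e]
  exact P.mul_mem (hRP h3) h2.1

/-- `O_p(P) ≤ O_p(H)` for `O^p(H) ≤ P ≤ H`. -/
theorem pCoreOf_le_of_opOf_le [Finite G] {p : ℕ} [Fact p.Prime] {H : Subgroup G} :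
    ∀ n : ℕ, ∀ P : Subgroup G, Nat.card H - Nat.card P = n → opOf p H ≤ P → P ≤ H →
      Cfsg.pCoreOf p P ≤ Cfsg.pCoreOf p H := by
  intro n
  induction n using Nat.strong_induction_on with
  | _ n ih =>
    intro P hcard hRP hPH
    by_cases heq : P = H
    · rw [heq]
    · have hlt : P < H := lt_of_le_of_ne hPH heq
      obtain ⟨x, hxH, hxN, hxP⟩ := exists_mem_normalizer_of_opOf_le hRP hlt
      set P' := H ⊓ Subgroup.normalizer (P : Set G) with hP'
      have hPP' : P ≤ P' := le_inf hPH Subgroup.le_normalizer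
      have hlt' : P < P' := lt_of_le_of_ne hPP' (fun h => hxP (h ▸ ⟨hxH, hxN⟩))
      have hc1 : Nat.card P < Nat.card P' := card_lt_card_of_lt hlt'
      have hc2 : Nat.card P' ≤ Nat.card H := Subgroup.card_le_of_le inf_le_left
      have h1 := ih (Nat.card H - Nat.card P') (by omega) P' rfl (hRP.trans hPP') inf_le_left
      exact (pCoreOf_le_of_normal hPP' inf_le_right).trans h1

theorem pCoreOf_le_of_opOf_le' [Finite G] {p : ℕ} [Fact p.Prime] {P H : Subgroup G}
    (hRP : opOf p H ≤ P) (hPH : P ≤ H) : Cfsg.pCoreOf p P ≤ Cfsg.pCoreOf p H :=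
  pCoreOf_le_of_opOf_le _ P rfl hRP hPH

/-- `H` is minimal among the subgroups containing `Q` in which `Y` does not lie in `O_p`. -/
structure IsMinOver (p : ℕ) (Q Y H : Subgroup G) : Prop where
  le : Q ≤ H
  not_le : ¬ Y ≤ Cfsg.pCoreOf p H
  min : ∀ P : Subgroup G, Q ≤ P → P < H → Y ≤ Cfsg.pCoreOf p P

theorem IsMinOver.opOf_sup [Finite G] {p : ℕ} [Fact p.Prime] {Q Y H : Subgroup G}
    (hm : IsMinOver p Q Y H) : opOf p H ⊔ Q = H := by
  apply le_antisymm (sup_le (opOf_le p H) hm.le)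
  by_contra hnot
  have hlt : opOf p H ⊔ Q < H := lt_of_le_of_ne (sup_le (opOf_le p H) hm.le) (fun h => hnot h.ge)
  exact hm.not_le ((hm.min _ le_sup_right hlt).trans (pCoreOf_le_of_opOf_le' le_sup_left hlt.le))

theorem IsMinOver.conjClosure_eq {p : ℕ} {Q Y H : Subgroup G}
    (hm : IsMinOver p Q Y H) : conjClosure H Q = H := by
  apply le_antisymm (conjClosure_le hm.le)
  by_contra hnot
  have hlt : conjClosure H Q < H := lt_of_le_of_ne (conjClosure_le hm.le) (fun h => hnot h.ge)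
  exact hm.not_le ((hm.min _ (le_conjClosure H Q) hlt).trans
    (pCoreOf_le_of_normal hlt.le (le_normalizer_conjClosure H Q)))

theorem IsMinOver.opOf_sup_Y [Finite G] {p : ℕ} [Fact p.Prime] {Q Y H : Subgroup G}
    (hm : IsMinOver p Q Y H) (hQp : IsPGroup p Q) (hYQ : Y ≤ Q)
    (hQY : Q ≤ Subgroup.normalizer (Y : Set G)) : opOf p H ⊔ Y = conjClosure H Y := by
  have hYH : Y ≤ H := hYQ.trans hm.le
  have hVH : conjClosure H Y ≤ H := conjClosure_le hYH
  have hHV := le_normalizer_conjClosure H Y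
  obtain ⟨T, hT⟩ := (hQp.comap_subtype (K := H) : IsPGroup p (Q.subgroupOf H)).exists_le_sylow
  set T' := (T : Subgroup ↥H).map H.subtype with hT'
  have hT'p : IsPGroup p T' := T.isPGroup'.map _
  have hT'H : T' ≤ H := Subgroup.map_subtype_le _
  have hQT : Q ≤ T' := by
    intro x hx
    exact ⟨⟨x, hm.le hx⟩, hT (Subgroup.mem_subgroupOf.mpr hx), rfl⟩
  have hPH : conjClosure H Y ⊔ T' ≤ H := sup_le hVH hT'H
  have hPeq : conjClosure H Y ⊔ T' = H := by
    by_contra hne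
    have hlt : conjClosure H Y ⊔ T' < H := lt_of_le_of_ne hPH hne
    have h1 := hm.min _ (hQT.trans le_sup_right) hlt
    apply hm.not_le
    have h2 : conjClosure H Y ⊓ Cfsg.pCoreOf p (conjClosure H Y ⊔ T') ≤ Cfsg.pCoreOf p (conjClosure H Y) := by
      apply le_pCoreOf inf_le_left ((pCoreOf_isPGroup p _).to_le inf_le_right)
      exact le_normalizer_inf' Subgroup.le_normalizer
        (le_sup_left.trans (le_normalizer_pCoreOf p _))
    exact (le_inf (le_conjClosure H Y) h1).trans (h2.trans (pCoreOf_le_of_normal hVH hHV))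
  have hRV : opOf p H ≤ conjClosure H Y :=
    opOf_le_of_le_sup hVH hHV hT'p hT'H hPeq.ge
  apply le_antisymm (sup_le hRV (le_conjClosure H Y))
  apply conjClosure_le_of le_sup_right
  conv_lhs => rw [← hm.opOf_sup]
  apply sup_le
  · exact le_sup_left.trans Subgroup.le_normalizer
  · exact le_normalizer_sup (hm.le.trans (le_normalizer_opOf p H)) hQY

theorem le_normalizer_commutator_left (A B : Subgroup G) :
    A ≤ Subgroup.normalizer ((⁅A, B⁆ : Subgroup G) : Set G) := by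
  apply le_normalizer_of_cj_le'
  intro r hr
  unfold cj
  rw [Subgroup.map_le_iff_le_comap, Subgroup.commutator_le]
  intro a ha b hb
  rw [Subgroup.mem_comap]
  simp only [MulEquiv.coe_toMonoidHom, MulAut.conj_apply]
  have e : r * ⁅a, b⁆ * r⁻¹ = ⁅r * a, b⁆ * ⁅r, b⁆⁻¹ := by
    simp only [commutatorElement_def]; group
  rw [e]
  exact Subgroup.mul_mem _ (Subgroup.commutator_mem_commutator (A.mul_mem hr ha) hb)
    (Subgroup.inv_mem _ (Subgroup.commutator_mem_commutator hr hb))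

theorem IsMinOver.commutator_eq [Finite G] {p : ℕ} [Fact p.Prime] {Q Y H : Subgroup G}
    (hm : IsMinOver p Q Y H) (hQp : IsPGroup p Q) (hYQ : Y ≤ Q)
    (hQY : Q ≤ Subgroup.normalizer (Y : Set G)) : ⁅opOf p H, Y⁆ = opOf p H := by
  have hYH : Y ≤ H := hYQ.trans hm.le
  have hHR := le_normalizer_opOf p H
  have hYp : IsPGroup p Y := hQp.to_le hYQ
  have h1 : ⁅opOf p H, Y⁆ ≤ opOf p H := by
    rw [Subgroup.commutator_le]
    intro r hr y hy
    have h2 : y * r⁻¹ * y⁻¹ ∈ opOf p H :=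
      (Subgroup.mem_normalizer_iff.mp (hHR (hYH hy)) r⁻¹).mp (Subgroup.inv_mem _ hr)
    have e : ⁅r, y⁆ = r * (y * r⁻¹ * y⁻¹) := by simp only [commutatorElement_def]; group
    rw [e]
    exact Subgroup.mul_mem _ hr h2
  apply le_antisymm h1
  have hHn : H ≤ Subgroup.normalizer ((⁅opOf p H, Y⁆ : Subgroup G) : Set G) := by
    conv_lhs => rw [← hm.opOf_sup]
    exact sup_le (le_normalizer_commutator_left _ _) (le_normalizer_commutator (hm.le.trans hHR) hQY)
  have hHK : H ≤ Subgroup.normalizer ((⁅opOf p H, Y⁆ ⊔ Y : Subgroup G) : Set G) := by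
    conv_lhs => rw [← hm.opOf_sup]
    exact sup_le (le_normalizer_commutator_sup _ _) (le_normalizer_sup (hm.le.trans hHn) hQY)
  have h3 : opOf p H ≤ ⁅opOf p H, Y⁆ ⊔ Y := by
    have h4 : conjClosure H Y ≤ ⁅opOf p H, Y⁆ ⊔ Y := conjClosure_le_of le_sup_right hHK
    rw [← hm.opOf_sup_Y hQp hYQ hQY] at h4
    exact le_sup_left.trans h4
  have h5 : opOf p (⁅opOf p H, Y⁆ ⊔ Y) ≤ ⁅opOf p H, Y⁆ :=
    opOf_le_of_le_sup le_sup_left (sup_le Subgroup.le_normalizer (hYH.trans hHn)) hYp le_sup_right le_rfl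
  calc opOf p H = opOf p (opOf p H) := (opOf_opOf p H).symm
    _ ≤ opOf p (⁅opOf p H, Y⁆ ⊔ Y) := opOf_mono h3
    _ ≤ ⁅opOf p H, Y⁆ := h5

/-- Sylow subgroups of a parabolic subgroup `K` of `H` are Sylow subgroups of `H`. -/
theorem exists_sylow_eq_of_isParabolic [Finite G] {p : ℕ} [Fact p.Prime] {H K : Subgroup G}
    (hKH : K ≤ H) (hpar : Cfsg.IsParabolic p (K.subgroupOf H)) (T : Sylow p ↥K) :
    ∃ P : Sylow p ↥H, (P : Subgroup ↥H).map H.subtype = (T : Subgroup ↥K).map K.subtype := by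
  obtain ⟨P₀, hP₀⟩ := hpar
  have hP₀K : (P₀ : Subgroup ↥H).map H.subtype ≤ K := by
    rintro _ ⟨x, hx, rfl⟩
    exact Subgroup.mem_subgroupOf.mp (hP₀ hx)
  obtain ⟨m, hm, hle⟩ := exists_conj_le_sylow_of_le K T _ (P₀.isPGroup'.map H.subtype) hP₀K
  refine ⟨(⟨m, hKH hm⟩ : ↥H) • P₀, ?_⟩
  have h1 : (((⟨m, hKH hm⟩ : ↥H) • P₀ : Sylow p ↥H) : Subgroup ↥H).map H.subtype =
      cj m ((P₀ : Subgroup ↥H).map H.subtype) := by
    rw [sylow_smul_coe_eq_cj, cj_map]
    rfl
  have hT'H : (T : Subgroup ↥K).map K.subtype ≤ H := (Subgroup.map_subtype_le _).trans hKH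
  have h2 : (((⟨m, hKH hm⟩ : ↥H) • P₀ : Sylow p ↥H) : Subgroup ↥H) ≤
      ((T : Subgroup ↥K).map K.subtype).subgroupOf H := by
    intro x hx
    rw [Subgroup.mem_subgroupOf]
    apply hle
    rw [← h1]
    exact Subgroup.mem_map_of_mem _ hx
  have h3 := ((⟨m, hKH hm⟩ : ↥H) • P₀ : Sylow p ↥H).3
    ((T.isPGroup'.map K.subtype).comap_subtype (K := H)) h2
  rw [← h3]
  change (((T : Subgroup ↥K).map K.subtype).subgroupOf H).map H.subtype = _
  rw [Subgroup.subgroupOf_map_subtype, inf_of_le_left hT'H]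

end Cfsg.Agent.Lib.helper17.MinPar
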