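import Mathlib
import Cfsg.Agent.Lib.helper17.Asym2
import Cfsg.Agent.Lib.helper17.MinPar
import Cfsg.Agent.Lib.helper17.Subn
import Cfsg.Agent.S1265

set_option autoImplicit false

namespace Cfsg.Agent.Lib.helper17.Asym3

open Cfsg.Agent.Lib.helper17
open scoped commutatorElement

/-- In a finite group `X` with `O_p(X) = 1`, a `p`-subgroup normalised by `F*(X)` is trivial. -/
theorem eq_bot_of_genFitting_le_normalizer {X : Type*} [Group X] [Finite X] {p : ℕ} [Fact p.Prime]
    (hO : Cfsg.pCore p X = ⊥) {P : Subgroup X} (hP : IsPGroup p P)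
    (hn : Cfsg.generalizedFittingSubgroup X ≤ Subgroup.normalizer (P : Set X)) : P = ⊥ := by
  have hFn : (Cfsg.generalizedFittingSubgroup X).Normal :=
    Cfsg.Agent.Lib.Helper12.generalizedFittingSubgroup_normal X
  set Fs := Cfsg.generalizedFittingSubgroup X with hFs
  have h1 : P ⊓ Fs = ⊥ := by
    rw [eq_bot_iff, ← hO]
    have h2 : P ⊓ Fs ≤ Cfsg.pCoreOf p Fs := by
      apply le_pCoreOf inf_le_right (hP.to_le inf_le_left)
      exact le_normalizer_inf' hn Subgroup.le_normalizer
    exact h2.trans (pCoreOf_le_pCore_of_subnormal hFn.isSubnormal)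
  have h3 : ⁅P, Fs⁆ = ⊥ := by
    rw [eq_bot_iff, ← h1]
    apply le_inf
    · exact Subgroup.le_normalizer_iff_commutator_le_left.mp hn
    · exact Subgroup.commutator_le_right P Fs
  rw [Subgroup.commutator_eq_bot_iff_le_centralizer] at h3
  have h4 : P ≤ Fs := h3.trans Cfsg.Agent.S1265.result
  rw [eq_bot_iff, ← h1]
  exact le_inf le_rfl h4

variable {G : Type*} [Group G]

/-- `O_p(K / C_K(V)) = 1` for `V` a `p`-reduced normal subgroup of `K`. -/
theorem pCore_quotient_eq_bot {p : ℕ} {K V : Subgroup G} (hV : PRedIn p K V)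
    [hn : ((Subgroup.centralizer (V : Set G)).subgroupOf K).Normal] :
    Cfsg.pCore p (↥K ⧸ (Subgroup.centralizer (V : Set G)).subgroupOf K) = ⊥ := by
  rw [eq_bot_iff]
  intro x hx
  obtain ⟨d, rfl⟩ := QuotientGroup.mk'_surjective _ x
  rw [Subgroup.mem_bot, QuotientGroup.mk'_apply, QuotientGroup.eq_one_iff, Subgroup.mem_subgroupOf]
  have hDn : ((Cfsg.pCore p (↥K ⧸ (Subgroup.centralizer (V : Set G)).subgroupOf K)).comap
      (QuotientGroup.mk' ((Subgroup.centralizer (V : Set G)).subgroupOf K))).Normal := by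
    have := pCore_normal p (↥K ⧸ (Subgroup.centralizer (V : Set G)).subgroupOf K)
    infer_instance
  set Dn := (Cfsg.pCore p (↥K ⧸ (Subgroup.centralizer (V : Set G)).subgroupOf K)).comap
      (QuotientGroup.mk' ((Subgroup.centralizer (V : Set G)).subgroupOf K)) with hDn'
  have h1 : Dn.map K.subtype ≤ Subgroup.centralizer (V : Set G) := by
    apply hV.2.2.2 _ (Subgroup.map_subtype_le _) ((normal_iff_le_normalizer_map Dn).mp hDn)
    rintro _ ⟨e, he, rfl⟩
    have he' : QuotientGroup.mk' ((Subgroup.centralizer (V : Set G)).subgroupOf K) e ∈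
        Cfsg.pCore p (↥K ⧸ (Subgroup.centralizer (V : Set G)).subgroupOf K) := he
    obtain ⟨k, hk⟩ := (pCore_isPGroup p _) ⟨_, he'⟩
    refine ⟨k, ?_⟩
    have h2 : (QuotientGroup.mk' ((Subgroup.centralizer (V : Set G)).subgroupOf K) e) ^ (p ^ k) = 1 := by
      have := congrArg Subtype.val hk
      simpa using this
    rw [← map_pow, QuotientGroup.mk'_apply, QuotientGroup.eq_one_iff, Subgroup.mem_subgroupOf] at h2
    simpa using h2
  exact h1 ⟨d, hx, rfl⟩

/-- The key lemma: a subgroup `P ≤ K` normalised by the preimage of `F*(K/C_K(V))` and acting as a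
`p`-group on the `p`-reduced `V` centralises `V`. -/
theorem le_centralizer_of_genFitting [Finite G] {p : ℕ} [Fact p.Prime] {K V : Subgroup G}
    (hV : PRedIn p K V) [hn : ((Subgroup.centralizer (V : Set G)).subgroupOf K).Normal]
    {F : Subgroup G}
    (hF : F = ((Cfsg.generalizedFittingSubgroup (↥K ⧸ (Subgroup.centralizer (V : Set G)).subgroupOf K)).comap
      (QuotientGroup.mk' ((Subgroup.centralizer (V : Set G)).subgroupOf K))).map K.subtype)
    {P : Subgroup G} (hPK : P ≤ K) (hFP : F ≤ Subgroup.normalizer (P : Set G))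
    (hp : PPowIn p P (Subgroup.centralizer (V : Set G))) :
    P ≤ Subgroup.centralizer (V : Set G) := by
  set Cn := (Subgroup.centralizer (V : Set G)).subgroupOf K with hCn
  set π := QuotientGroup.mk' Cn with hπ
  have hsurj : Function.Surjective π := QuotientGroup.mk'_surjective Cn
  have hO := pCore_quotient_eq_bot hV
  -- the image of `P`
  have hPp : IsPGroup p ((P.subgroupOf K).map π) := by
    rintro ⟨_, d, hd, rfl⟩
    obtain ⟨k, hk⟩ := hp (d : G) (Subgroup.mem_subgroupOf.mp hd)
    refine ⟨k, ?_⟩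
    apply Subtype.ext
    rw [Subgroup.coe_pow, Subgroup.coe_one]
    show (π d) ^ (p ^ k) = 1
    rw [← map_pow, hπ, QuotientGroup.mk'_apply, QuotientGroup.eq_one_iff, hCn, Subgroup.mem_subgroupOf]
    simpa using hk
  have hnorm : Cfsg.generalizedFittingSubgroup (↥K ⧸ Cn) ≤
      Subgroup.normalizer (((P.subgroupOf K).map π : Subgroup (↥K ⧸ Cn)) : Set (↥K ⧸ Cn)) := by
    intro fb hfb
    obtain ⟨f, rfl⟩ := hsurj fb
    have hfF : (f : G) ∈ F := by
      rw [hF]
      exact ⟨f, hfb, rfl⟩
    have hfN := hFP hfF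
    rw [← cj_eq_self_iff]
    have h1 : cj (π f) ((P.subgroupOf K).map π) = (cj f (P.subgroupOf K)).map π := (cj_map π f _).symm
    have h2 : cj f (P.subgroupOf K) = P.subgroupOf K := by
      apply Subgroup.map_injective (Subgroup.subtype_injective K)
      rw [cj_subgroupOf_map hPK, cj_eq_self_iff.mpr hfN, Subgroup.subgroupOf_map_subtype,
        inf_of_le_left hPK]
    rw [h1, h2]
  have hbot := eq_bot_of_genFitting_le_normalizer hO hPp hnorm
  intro x hx
  have h1 : π ⟨x, hPK hx⟩ ∈ (P.subgroupOf K).map π :=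
    Subgroup.mem_map_of_mem _ (Subgroup.mem_subgroupOf.mpr hx)
  rw [hbot, Subgroup.mem_bot, hπ, QuotientGroup.mk'_apply, QuotientGroup.eq_one_iff, hCn,
    Subgroup.mem_subgroupOf] at h1
  exact h1

theorem centralizer_le_preimage {K V : Subgroup G}
    [hn : ((Subgroup.centralizer (V : Set G)).subgroupOf K).Normal]
    (hCK : Subgroup.centralizer (V : Set G) ≤ K) :
    Subgroup.centralizer (V : Set G) ≤
      ((Cfsg.generalizedFittingSubgroup (↥K ⧸ (Subgroup.centralizer (V : Set G)).subgroupOf K)).comap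
        (QuotientGroup.mk' ((Subgroup.centralizer (V : Set G)).subgroupOf K))).map K.subtype := by
  intro x hx
  refine ⟨⟨x, hCK hx⟩, ?_, rfl⟩
  show QuotientGroup.mk' ((Subgroup.centralizer (V : Set G)).subgroupOf K) ⟨x, hCK hx⟩ ∈
    Cfsg.generalizedFittingSubgroup (↥K ⧸ (Subgroup.centralizer (V : Set G)).subgroupOf K)
  have : QuotientGroup.mk' ((Subgroup.centralizer (V : Set G)).subgroupOf K) ⟨x, hCK hx⟩ = 1 := by
    rw [QuotientGroup.mk'_apply, QuotientGroup.eq_one_iff, Subgroup.mem_subgroupOf]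
    exact hx
  rw [this]
  exact Subgroup.one_mem _

end Cfsg.Agent.Lib.helper17.Asym3
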