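import Mathlib
import Cfsg.Agent.Lib.Lead.BCS.Defs
import Cfsg.Agent.S0292
import Cfsg.Agent.S2614
import Cfsg.Agent.S0246
import Cfsg.Agent.Lib.helper7.C3QNPEXh7
import Cfsg.Agent.Lib.helper17.BCGOMEGA

set_option autoImplicit false

/-!
# Project BCG (helper17, offered to designer helper3): `2 * p` is an element order of `PΩ_{2d+1}(F)`, `d ≥ 3`, `F` finite of odd characteristic `p`.

`bcgomega2p_siegel`: the Siegel element of helper7 (`c3qnpex_T`) as an element of `omegaGL` of order `p` commuting with every isometry fixing `z` and `w`;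
`bcgomega2p_omegaGL`: an element of order `2 * p` in `omegaGL (quadFormOdd d F)`; `bcgomega2p`: `2 * p ∈ range orderOf` on `PΩ`.
-/

namespace Cfsg.Agent.Lib.helper17.BCGOMEGA

open Matrix Module Cfsg.Agent.Lib.Helper10.C3Q

theorem bcgomega2p_siegel {F : Type*} [Field F] [Fintype F] {ι : Type} [Fintype ι] [DecidableEq ι]
    {p : ℕ} [Fact p.Prime] [CharP F p] (hp2 : p ≠ 2) (Q : QuadraticForm F (ι → F))
    (hQ : (QuadraticMap.polarBilin Q).Nondegenerate) (hn : 5 ≤ Fintype.card ι) (z w : ι → F)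
    (hz0 : z ≠ 0) (hz : Q z = 0) (hzw : QuadraticMap.polar (⇑Q) z w = 0) (hw : Q w ≠ 0) :
    ∃ x : GL ι F, x ∈ Cfsg.Geo.omegaGL (⇑Q) ∧ x ^ p = 1 ∧ x ≠ 1 ∧
      ∀ g : GL ι F, g ∈ Cfsg.isometryGroup F (⇑Q) → (g : Matrix ι ι F) *ᵥ z = z →
        (g : Matrix ι ι F) *ᵥ w = w → g * x = x * g := by
  classical
  haveI : Nonempty ι := Fintype.card_pos_iff.mp (by omega)
  have h2 : (2 : F) ≠ 0 := c3qnpex_two_ne hp2
  have hp : p.Prime := Fact.out
  have hp3 : 3 ≤ p := by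
    have := hp.two_le
    omega
  have hQn : Q (-w) = Q w := QuadraticMap.map_neg Q w
  have hzw' : QuadraticMap.polar (⇑Q) z (-w) = 0 := by
    rw [QuadraticMap.polar_neg_right, hzw, neg_zero]
  have hT'T : c3qnpex_T Q z (-w) (Q w) * c3qnpex_T Q z w (Q w) = 1 := by
    apply LinearMap.ext
    intro v
    rw [Module.End.mul_apply, Module.End.one_apply]
    exact c3qnpex_inv Q z w hz hzw v
  have hTT' : c3qnpex_T Q z w (Q w) * c3qnpex_T Q z (-w) (Q w) = 1 := by
    apply LinearMap.ext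
    intro v
    rw [Module.End.mul_apply, Module.End.one_apply]
    have := c3qnpex_inv Q z (-w) hz hzw' v
    rw [neg_neg, hQn] at this
    exact this
  have hX1 : LinearMap.toMatrix' (c3qnpex_T Q z w (Q w)) * LinearMap.toMatrix' (c3qnpex_T Q z (-w) (Q w)) = 1 := by
    rw [← LinearMap.toMatrix'_mul, hTT', LinearMap.toMatrix'_one]
  have hX2 : LinearMap.toMatrix' (c3qnpex_T Q z (-w) (Q w)) * LinearMap.toMatrix' (c3qnpex_T Q z w (Q w)) = 1 := by
    rw [← LinearMap.toMatrix'_mul, hT'T, LinearMap.toMatrix'_one]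
  let x : GL ι F := ⟨LinearMap.toMatrix' (c3qnpex_T Q z w (Q w)),
    LinearMap.toMatrix' (c3qnpex_T Q z (-w) (Q w)), hX1, hX2⟩
  have hxval : (x : Matrix ι ι F) = LinearMap.toMatrix' (c3qnpex_T Q z w (Q w)) := rfl
  have hNp : c3qnpex_N Q z w (Q w) ^ p = 0 := by
    have : p = 3 + (p - 3) := by omega
    rw [this, pow_add, c3qnpex_N_cube Q z w hz hzw, zero_mul]
  have hxp : x ^ p = 1 := by
    apply Units.ext
    rw [Units.val_pow_eq_pow_val, Units.val_one, hxval, c3qnpex_T_eq, map_add, LinearMap.toMatrix'_one,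
      add_pow_char_of_commute _ (Commute.one_left _), one_pow, ← c3qnpex_toMatrix_pow, hNp, map_zero,
      add_zero]
  have hxiso : x ∈ Cfsg.isometryGroup F (⇑Q) := by
    intro u v
    show Q ((x : Matrix ι ι F) *ᵥ u) = Q u
    rw [hxval, LinearMap.toMatrix'_mulVec]
    exact c3qnpex_isom Q z w hz hzw u
  have hex : ∃ v0, QuadraticMap.polar (⇑Q) z v0 ≠ 0 := by
    by_contra hcon
    push_neg at hcon
    apply hz0
    apply hQ.1
    intro v
    rw [QuadraticMap.polarBilin_apply_apply]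
    exact hcon v
  refine ⟨x, ?_, hxp, ?_, ?_⟩
  · exact Cfsg.Agent.Lib.Helper13.OTS.q_omega_of_odd Q hQ hn x hxiso p (hp.odd_of_ne_two hp2) hxp
  · intro hx1
    obtain ⟨v0, hv0⟩ := hex
    have h1 : (x : Matrix ι ι F) *ᵥ v0 = v0 := by rw [hx1, Units.val_one, Matrix.one_mulVec]
    rw [hxval, LinearMap.toMatrix'_mulVec, c3qnpex_T_apply] at h1
    have h3 : QuadraticMap.polar (⇑Q) z v0 • w
        - (QuadraticMap.polar (⇑Q) w v0 + Q w * QuadraticMap.polar (⇑Q) z v0) • z = 0 := by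
      have : v0 + QuadraticMap.polar (⇑Q) z v0 • w
        - (QuadraticMap.polar (⇑Q) w v0 + Q w * QuadraticMap.polar (⇑Q) z v0) • z = v0 + 0 := by
        rw [add_zero]; exact h1
      rw [add_sub_assoc] at this
      exact add_left_cancel this
    have h4 := congrArg (fun t => QuadraticMap.polar (⇑Q) w t) h3
    simp only [QuadraticMap.polar_sub_right, QuadraticMap.polar_smul_right, c3qnpex_pwz Q z w hz hzw,
      c3qnpex_pww Q z w hz hzw, smul_eq_mul, mul_zero, sub_zero] at h4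
    have h5 : QuadraticMap.polar (⇑Q) w (0 : ι → F) = 0 := by
      unfold QuadraticMap.polar
      rw [add_zero, map_zero, sub_self, sub_zero]
    rw [h5] at h4
    rcases mul_eq_zero.mp h4 with h | h
    · exact hv0 h
    · exact (mul_ne_zero h2 hw) h
  · intro g hg hgz hgw
    have hgQ : ∀ v, Q ((g : Matrix ι ι F) *ᵥ v) = Q v := fun v => hg v v
    have hgB : ∀ a b, QuadraticMap.polar (⇑Q) ((g : Matrix ι ι F) *ᵥ a) ((g : Matrix ι ι F) *ᵥ b)
        = QuadraticMap.polar (⇑Q) a b := by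
      intro a b
      unfold QuadraticMap.polar
      rw [← Matrix.mulVec_add, hgQ, hgQ, hgQ]
    apply Units.ext
    rw [Units.val_mul, Units.val_mul]
    refine Matrix.ext_iff_mulVec.mpr (fun v => ?_)
    rw [← Matrix.mulVec_mulVec, ← Matrix.mulVec_mulVec, hxval, LinearMap.toMatrix'_mulVec,
      LinearMap.toMatrix'_mulVec, c3qnpex_T_apply, c3qnpex_T_apply]
    have e1 : QuadraticMap.polar (⇑Q) z ((g : Matrix ι ι F) *ᵥ v) = QuadraticMap.polar (⇑Q) z v := by
      nth_rewrite 1 [← hgz]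
      exact hgB z v
    have e2 : QuadraticMap.polar (⇑Q) w ((g : Matrix ι ι F) *ᵥ v) = QuadraticMap.polar (⇑Q) w v := by
      nth_rewrite 1 [← hgw]
      exact hgB w v
    rw [e1, e2, Matrix.mulVec_sub, Matrix.mulVec_add, Matrix.mulVec_smul, Matrix.mulVec_smul, hgz, hgw]

theorem bcgomega2p_omegaGL {F : Type*} [Field F] [Fintype F] {p : ℕ} [Fact p.Prime] [CharP F p]
    (hodd : Odd (Fintype.card F)) (d : ℕ) (hd : 3 ≤ d) :
    ∃ X : GL (Unit ⊕ (Fin d ⊕ Fin d)) F, X ∈ Cfsg.Geo.omegaGL (Cfsg.quadFormOdd d F) ∧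
      orderOf X = 2 * p := by
  classical
  have hp : p.Prime := Fact.out
  have h2 : (2 : F) ≠ 0 := by
    intro h
    have := (Cfsg.Agent.S0246.two_eq_zero_iff (F := F)).1 h
    exact (Nat.not_even_iff_odd.2 hodd) this
  have hp2 : p ≠ 2 := by
    rintro rfl
    apply h2
    have := CharP.cast_eq_zero F 2
    exact_mod_cast this
  have hq2 : Fintype.card F ^ 2 % 4 = 1 := by
    obtain ⟨t, ht⟩ := hodd
    rw [ht]
    have : (2 * t + 1) ^ 2 = 4 * (t * t + t) + 1 := by ring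
    rw [this]
    omega
  obtain ⟨g, hgΩ, hgD⟩ := (Cfsg.Agent.S2614.result (F := F) (q := Fintype.card F) rfl hodd (m := d) 2
    (by norm_num) (by omega)).mpr hq2
  set Q : QuadraticForm F (Unit ⊕ (Fin d ⊕ Fin d) → F) := Cfsg.Agent.Lib.Helper16.qfOdd d F with hQdef
  have hQcoe : ⇑Q = Cfsg.quadFormOdd d F := rfl
  set z : Unit ⊕ (Fin d ⊕ Fin d) → F := Pi.single (Sum.inr (Sum.inl ⟨2, by omega⟩)) 1 with hzdef
  set w : Unit ⊕ (Fin d ⊕ Fin d) → F := Pi.single (Sum.inl ()) 1 with hwdef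
  have hz0 : z ≠ 0 := by
    intro h
    have := congrFun h (Sum.inr (Sum.inl ⟨2, by omega⟩))
    simp [hzdef] at this
  have hz : Q z = 0 := by
    show Cfsg.quadFormOdd d F z = 0
    simp [Cfsg.quadFormOdd, hzdef, Pi.single_apply]
  have hzw : QuadraticMap.polar (⇑Q) z w = 0 := by
    rw [hQcoe, Cfsg.Agent.Lib.Helper16.polar_odd]
    simp [hzdef, hwdef, Pi.single_apply]
  have hw : Q w ≠ 0 := by
    have : Q w = 1 := by
      show Cfsg.quadFormOdd d F w = 1
      simp [Cfsg.quadFormOdd, hwdef, Pi.single_apply]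
    rw [this]
    exact one_ne_zero
  have hn : 5 ≤ Fintype.card (Unit ⊕ (Fin d ⊕ Fin d)) := by
    simp only [Fintype.card_sum, Fintype.card_fin, Fintype.card_unit]
    omega
  have hQnd : (QuadraticMap.polarBilin Q).Nondegenerate := Cfsg.Agent.S0292.nondeg_odd h2 d
  obtain ⟨x, hxΩ, hxp, hx1, hcomm⟩ := bcgomega2p_siegel (p := p) hp2 Q hQnd hn z w hz0 hz hzw hw
  set Zg : GL (Unit ⊕ (Fin d ⊕ Fin d)) F := (g : GL (Unit ⊕ (Fin d ⊕ Fin d)) F) with hZg
  have hZΩ : Zg ∈ Cfsg.Geo.omegaGL (Cfsg.quadFormOdd d F) := by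
    unfold Cfsg.Geo.omegaGL
    exact Subgroup.mem_map.mpr ⟨g, hgΩ, rfl⟩
  have hZiso : Zg ∈ Cfsg.isometryGroup F (⇑Q) := g.2
  have hZz : (Zg : Matrix _ _ F) *ᵥ z = z := by
    rw [hZg, hgD, hzdef, Matrix.diagonal_mulVec_single]
    simp
  have hZw : (Zg : Matrix _ _ F) *ᵥ w = w := by
    rw [hZg, hgD, hwdef, Matrix.diagonal_mulVec_single]
    simp
  have hZsq : Zg ^ 2 = 1 := by
    apply Units.ext
    rw [Units.val_pow_eq_pow_val, Units.val_one, hZg, hgD, pow_two, Matrix.diagonal_mul_diagonal,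
      ← Matrix.diagonal_one]
    congr 1
    funext k
    split_ifs <;> ring
  have hZne : Zg ≠ 1 := by
    intro h
    have h0 : (Zg : Matrix (Unit ⊕ (Fin d ⊕ Fin d)) (Unit ⊕ (Fin d ⊕ Fin d)) F) = 1 := by
      rw [h, Units.val_one]
    have hZmat : (Zg : Matrix (Unit ⊕ (Fin d ⊕ Fin d)) (Unit ⊕ (Fin d ⊕ Fin d)) F) = _ := hgD
    rw [hZmat] at h0
    have h1 := congrFun (congrFun h0 (Sum.inr (Sum.inl (⟨0, by omega⟩ : Fin d))))
      (Sum.inr (Sum.inl (⟨0, by omega⟩ : Fin d)))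
    rw [Matrix.diagonal_apply_eq, Matrix.one_apply_eq] at h1
    simp at h1
    apply h2
    linear_combination -h1
  have hZord : orderOf Zg = 2 := orderOf_eq_prime hZsq hZne
  have hxord : orderOf x = p := orderOf_eq_prime hxp hx1
  have hcm : Commute Zg x := hcomm Zg hZiso hZz hZw
  refine ⟨Zg * x, mul_mem hZΩ ?_, ?_⟩
  · exact hxΩ
  · rw [hcm.orderOf_mul_eq_mul_orderOf_of_coprime, hZord, hxord]
    rw [hZord, hxord]
    exact (Nat.coprime_primes Nat.prime_two hp).2 (Ne.symm hp2)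

/-- `2 * p` is an element order of `PΩ_{2d+1}(F)` -/
theorem bcgomega2p {F : Type*} [Field F] [Fintype F] {p : ℕ} [Fact p.Prime] [CharP F p]
    (hodd : Odd (Fintype.card F)) (d : ℕ) (hd : 3 ≤ d) :
    2 * p ∈ Set.range (orderOf : Cfsg.POmega F (Cfsg.quadFormOdd d F) → ℕ) := by
  have h2 : (2 : F) ≠ 0 := by
    intro h
    have := (Cfsg.Agent.S0246.two_eq_zero_iff (F := F)).1 h
    exact (Nat.not_even_iff_odd.2 hodd) this
  obtain ⟨X, hX, hord⟩ := bcgomega2p_omegaGL (p := p) hodd d hd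
  rw [← hord]
  exact bcgomega_descend h2 d hd X hX

end Cfsg.Agent.Lib.helper17.BCGOMEGA
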