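import Mathlib
import Cfsg.Prelude.Def_Characters
import Cfsg.Agent.Lib.Helper11.GaloisConj

/-! Project BD, wave 4, piece GAL3 (helper17): field automorphisms and the values of irreducible characters. -/

set_option autoImplicit false

namespace Cfsg.Agent.Lib.helper7.BD

universe u

/-- GAL3 : the action on the values of an irreducible character -/
theorem irr_ringAut_apply {G : Type u} [Group G] [Finite G] (τ : ℂ ≃+* ℂ) (m : ℕ)
    (hτ : ∀ z : ℂ, z ^ Nat.card G = 1 → τ z = z ^ m) (χ : Cfsg.IrrCharacter G) (g : G) :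
    τ ((χ : G → ℂ) g) = (χ : G → ℂ) (g ^ m) := by
  obtain ⟨n, ρ, _, hρ⟩ := χ.2
  exact Cfsg.Agent.Lib.Helper11.ringAut_character_apply τ m hτ ⟨n, ρ, hρ⟩ g

end Cfsg.Agent.Lib.helper7.BD
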