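import Mathlib

/-! Project BD, wave 4, piece GP (helper17): the `p'`-part of a number divisible by `p` exactly once. -/

set_option autoImplicit false

namespace Cfsg.Agent.Lib.helper7.BD

/-- GP : the `p'`-part of a number divisible by `p` exactly once -/
theorem pprime_part_spec {p n : ℕ} (hp : p.Prime) (hdiv : p ∣ n) (hsq : ¬ p ^ 2 ∣ n) :
    n = p * (n / p ^ n.factorization p) ∧ Nat.Coprime p (n / p ^ n.factorization p) := by
  have hn0 : n ≠ 0 := by
    rintro rfl
    exact hsq (dvd_zero _)
  have hf : n.factorization p = 1 := by
    have h1 : 1 ≤ n.factorization p :=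
      (hp.dvd_iff_one_le_factorization hn0).mp hdiv
    have h2 : ¬ 2 ≤ n.factorization p := by
      intro h
      exact hsq ((hp.pow_dvd_iff_le_factorization hn0).mpr h)
    omega
  constructor
  · have := Nat.ordProj_mul_ordCompl_eq_self n p
    rw [hf, pow_one] at this ⊢
    exact this.symm
  · have := Nat.coprime_ordCompl hp hn0
    exact this

end Cfsg.Agent.Lib.helper7.BD
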