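import Mathlib
import Cfsg.Agent.Lib.Helper27.OmegaAut

set_option autoImplicit false

/-! Group-theoretic lemmas for the Benson-Grodal-Henke theorem (small exponent abelian subgroups
control fusion): class two power formula, Alperin's lemma on maximal invariant abelian subgroups of
small exponent, automorphisms of order prime to `p`. -/

namespace Cfsg.Agent.Lib.helper17.BGH1

variable {G : Type*} [Group G]

theorem pow_mul_comm_class2 (x y z : G) (hz : y * x = x * y * z) (hzy : z * y = y * z) (n : ℕ) :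
    y ^ n * x = x * y ^ n * z ^ n := by
  induction n with
  | zero => simp
  | succ n ih =>
    have hzyn : z ^ n * y = y * z ^ n := by
      have : Commute z y := hzy
      exact (this.pow_left n).eq
    calc y ^ (n + 1) * x = y ^ n * (y * x) := by rw [pow_succ, mul_assoc]
      _ = y ^ n * (x * y * z) := by rw [hz]
      _ = (y ^ n * x) * y * z := by simp only [mul_assoc]
      _ = x * y ^ n * z ^ n * y * z := by rw [ih]
      _ = x * y ^ n * (z ^ n * y) * z := by simp only [mul_assoc]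
      _ = x * y ^ n * (y * z ^ n) * z := by rw [hzyn]
      _ = x * y ^ (n + 1) * z ^ (n + 1) := by
        rw [pow_succ, pow_succ]; simp only [mul_assoc]

theorem pow_mul_class2 (x y z : G) (hz : y * x = x * y * z) (hzx : z * x = x * z)
    (hzy : z * y = y * z) (n : ℕ) : (x * y) ^ n = x ^ n * y ^ n * z ^ (n.choose 2) := by
  induction n with
  | zero => simp
  | succ n ih =>
    have h1 := pow_mul_comm_class2 x y z hz hzy n
    have cx : Commute z x := hzx
    have cy : Commute z y := hzy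
    have e1 : z ^ (n.choose 2) * x = x * z ^ (n.choose 2) := (cx.pow_left _).eq
    have e2 : z ^ n * y = y * z ^ n := (cy.pow_left _).eq
    have e3 : z ^ (n.choose 2) * y = y * z ^ (n.choose 2) := (cy.pow_left _).eq
    have hch : (n + 1).choose 2 = n.choose 2 + n := by
      rw [Nat.choose_succ_succ' n 1, Nat.choose_one_right, add_comm]
    calc (x * y) ^ (n + 1) = (x * y) ^ n * (x * y) := pow_succ _ _
      _ = x ^ n * y ^ n * z ^ (n.choose 2) * (x * y) := by rw [ih]
      _ = x ^ n * y ^ n * (z ^ (n.choose 2) * x) * y := by simp only [mul_assoc]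
      _ = x ^ n * y ^ n * (x * z ^ (n.choose 2)) * y := by rw [e1]
      _ = x ^ n * (y ^ n * x) * z ^ (n.choose 2) * y := by simp only [mul_assoc]
      _ = x ^ n * (x * y ^ n * z ^ n) * z ^ (n.choose 2) * y := by rw [h1]
      _ = x ^ n * x * y ^ n * z ^ n * (z ^ (n.choose 2) * y) := by simp only [mul_assoc]
      _ = x ^ n * x * y ^ n * z ^ n * (y * z ^ (n.choose 2)) := by rw [e3]
      _ = x ^ n * x * y ^ n * (z ^ n * y) * z ^ (n.choose 2) := by simp only [mul_assoc]
      _ = x ^ n * x * y ^ n * (y * z ^ n) * z ^ (n.choose 2) := by rw [e2]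
      _ = x ^ (n + 1) * y ^ (n + 1) * z ^ ((n + 1).choose 2) := by
        have e4 : z ^ n * z ^ (n.choose 2) = z ^ (n.choose 2 + n) := by
          rw [← pow_add, add_comm]
        rw [hch, pow_succ x, pow_succ y]
        simp only [mul_assoc]
        rw [e4]

/-- the exponent bound: `p` for odd `p`, `4` for `p = 2` -/
def IsExp (p m : ℕ) : Prop := (p ≠ 2 ∧ m = p) ∨ (p = 2 ∧ m = 4)

theorem isExp_pos {p m : ℕ} [Fact p.Prime] (hm : IsExp p m) : 0 < m := by
  rcases hm with ⟨-, rfl⟩ | ⟨-, rfl⟩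
  · exact Nat.Prime.pos Fact.out
  · norm_num

/-- the basic computation: if `x`, `x y` have exponent `m`, `z = [y,x]` is central of exponent `m`,
then `y` has exponent `m`, provided (for `p = 2`) squares of such `y` commute with `x`. -/
theorem pow_eq_one_of_class2 {p m : ℕ} [Fact p.Prime] (hm : IsExp p m) (x y z : G)
    (hz : y * x = x * y * z) (hzx : z * x = x * z) (hzy : z * y = y * z)
    (hx : x ^ m = 1) (hxy : (x * y) ^ m = 1) (hzm : z ^ m = 1)
    (h2 : p = 2 → (y ^ 2) ^ 4 = 1 → y ^ 2 * x = x * y ^ 2) : y ^ m = 1 := by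
  have key := pow_mul_class2 x y z hz hzx hzy m
  rw [hxy, hx, one_mul] at key
  rcases hm with ⟨hp2, rfl⟩ | ⟨hp2, rfl⟩
  · have hp : m.Prime := Fact.out
    have hlt : 2 < m := lt_of_le_of_ne hp.two_le (Ne.symm hp2)
    have hdvd : m ∣ m.choose 2 := hp.dvd_choose_self (by norm_num) hlt
    obtain ⟨k, hk⟩ := hdvd
    rw [hk, pow_mul, hzm, one_pow, mul_one] at key
    exact key.symm
  · have h6 : z ^ (Nat.choose 4 2) = z ^ 2 := by
      have : Nat.choose 4 2 = 4 + 2 := by decide
      rw [this, pow_add, hzm, one_mul]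
    rw [h6] at key
    -- key : 1 = y ^ 4 * z ^ 2
    have hy8 : (y ^ 2) ^ 4 = 1 := by
      have e1 : y ^ 4 = (z ^ 2)⁻¹ := eq_inv_of_mul_eq_one_left key.symm
      have : (y ^ 2) ^ 4 = (y ^ 4) ^ 2 := by rw [← pow_mul, ← pow_mul]
      rw [this, e1, inv_pow, ← pow_mul]
      norm_num
      exact hzm
    have hc := h2 hp2 hy8
    have h3 := pow_mul_comm_class2 x y z hz hzy 2
    rw [hc] at h3
    have hz2 : z ^ 2 = 1 := by
      have := mul_left_cancel (a := x * y ^ 2) (b := 1) (c := z ^ 2) (by rw [mul_one]; exact h3)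
      exact this.symm
    rw [hz2, mul_one] at key
    exact key.symm

/-- the family of subgroups considered -/
structure IsSmallInv (m : ℕ) (N Q A : Subgroup G) : Prop where
  le : A ≤ Q
  inv : ∀ g ∈ N, ∀ a ∈ A, g * a * g⁻¹ ∈ A
  comm : ∀ a ∈ A, ∀ b ∈ A, a * b = b * a
  exp : ∀ a ∈ A, a ^ m = 1

theorem adjoin_mem {m : ℕ} {N Q A : Subgroup G} (hA : IsSmallInv m N Q A)
    (hmax : ∀ A' : Subgroup G, IsSmallInv m N Q A' → A ≤ A' → A' ≤ A)
    {x : G} (hxQ : x ∈ Q) (hxc : ∀ a ∈ A, x * a = a * x) (hxm : x ^ m = 1)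
    (hxN : ∀ g ∈ N, x⁻¹ * (g * x * g⁻¹) ∈ A) : x ∈ A := by
  set k : Set G := (A : Set G) ∪ {x} with hk
  have hcomm : ∀ u ∈ k, ∀ v ∈ k, u * v = v * u := by
    rintro u (hu | hu) v (hv | hv)
    · exact hA.comm u hu v hv
    · rw [Set.mem_singleton_iff] at hv; subst hv; exact (hxc u hu).symm
    · rw [Set.mem_singleton_iff] at hu; subst hu; exact hxc v hv
    · rw [Set.mem_singleton_iff] at hu hv; subst hu; subst hv; rfl
  have hcomm' : ∀ u ∈ Subgroup.closure k, ∀ v ∈ Subgroup.closure k, u * v = v * u := by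
    intro u hu v hv
    have := (Subgroup.isMulCommutative_closure hcomm).is_comm.comm ⟨u, hu⟩ ⟨v, hv⟩
    exact congrArg Subtype.val this
  have hexp : ∀ u ∈ Subgroup.closure k, u ^ m = 1 := by
    intro u hu
    induction hu using Subgroup.closure_induction with
    | mem u hu =>
      rcases hu with hu | hu
      · exact hA.exp u hu
      · rw [Set.mem_singleton_iff] at hu; subst hu; exact hxm
    | one => exact one_pow m
    | mul u v hu hv ihu ihv =>
      have hc : Commute u v := hcomm' u hu v hv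
      rw [hc.mul_pow, ihu, ihv, one_mul]
    | inv u hu ihu => rw [inv_pow, ihu, inv_one]
  have hinv : ∀ g ∈ N, ∀ u ∈ Subgroup.closure k, g * u * g⁻¹ ∈ Subgroup.closure k := by
    intro g hg u hu
    induction hu using Subgroup.closure_induction with
    | mem u hu =>
      rcases hu with hu | hu
      · exact Subgroup.subset_closure (Or.inl (hA.inv g hg u hu))
      · rw [Set.mem_singleton_iff] at hu; subst hu
        have e : g * u * g⁻¹ = u * (u⁻¹ * (g * u * g⁻¹)) := by group
        rw [e]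
        exact Subgroup.mul_mem _ (Subgroup.subset_closure (Or.inr rfl))
          (Subgroup.subset_closure (Or.inl (hxN g hg)))
    | one => simp
    | mul u v hu hv ihu ihv =>
      have e : g * (u * v) * g⁻¹ = (g * u * g⁻¹) * (g * v * g⁻¹) := by group
      rw [e]; exact Subgroup.mul_mem _ ihu ihv
    | inv u hu ihu =>
      have e : g * u⁻¹ * g⁻¹ = (g * u * g⁻¹)⁻¹ := by group
      rw [e]; exact Subgroup.inv_mem _ ihu
  have hle : Subgroup.closure k ≤ Q := by
    rw [Subgroup.closure_le]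
    rintro u (hu | hu)
    · exact hA.le hu
    · rw [Set.mem_singleton_iff] at hu; subst hu; exact hxQ
  have hA' : IsSmallInv m N Q (Subgroup.closure k) := ⟨hle, hinv, hcomm', hexp⟩
  have h1 : A ≤ Subgroup.closure k := fun a ha => Subgroup.subset_closure (Or.inl ha)
  exact hmax _ hA' h1 (Subgroup.subset_closure (Or.inr rfl))

theorem conj_mem_lcs {N : Subgroup G} {n : ℕ} {s y : G} (hs : s ∈ N)
    (hy : y ∈ N.lowerCentralSeries n) : s * y * s⁻¹ ∈ N.lowerCentralSeries n := by
  have h := Subgroup.self_le_normalizer_lowerCentralSeries N n hs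
  rw [Subgroup.mem_normalizer_iff] at h
  exact (h y).mp hy

open scoped commutatorElement in
theorem comm_mem_lcs_succ {N : Subgroup G} {n : ℕ} {s y : G} (hs : s ∈ N)
    (hy : y ∈ N.lowerCentralSeries n) : s * y * s⁻¹ * y⁻¹ ∈ N.lowerCentralSeries (n + 1) := by
  have h1 : ⁅y, s⁆ ∈ N.lowerCentralSeries (n + 1) := by
    show ⁅y, s⁆ ∈ ⁅N.lowerCentralSeries n, N⁆
    exact Subgroup.commutator_mem_commutator hy hs
  have h2 := (N.lowerCentralSeries (n + 1)).inv_mem h1
  convert h2 using 1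
  simp only [commutatorElement_def]
  group

theorem lcs_le {N : Subgroup G} (n : ℕ) : N.lowerCentralSeries n ≤ N := by
  have := Subgroup.lowerCentralSeries_antitone (S := N) (Nat.zero_le n)
  simpa using this

/-- Alperin's lemma, relative version. -/
theorem alperin_max {p m : ℕ} [Fact p.Prime] (hm : IsExp p m) {N Q A : Subgroup G} [Finite N]
    (hN : IsPGroup p N) (hQN : Q ≤ N) (hNQ : ∀ g ∈ N, ∀ x ∈ Q, g * x * g⁻¹ ∈ Q)
    (hA : IsSmallInv m N Q A)
    (hmax : ∀ A' : Subgroup G, IsSmallInv m N Q A' → A ≤ A' → A' ≤ A) :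
    ∀ x ∈ Q, (∀ a ∈ A, x * a = a * x) → x ^ m = 1 → x ∈ A := by
  have hnil : Group.IsNilpotent ↥N := hN.isNilpotent
  obtain ⟨c, hc⟩ := (Subgroup.isNilpotent_iff_lowerCentralSeries N).mp hnil
  -- conjugates stay in `X`
  have hconjc : ∀ g ∈ N, ∀ x : G, (∀ a ∈ A, x * a = a * x) →
      ∀ a ∈ A, (g * x * g⁻¹) * a = a * (g * x * g⁻¹) := by
    intro g hg x hx a ha
    have ha' : g⁻¹ * a * g⁻¹⁻¹ ∈ A := hA.inv g⁻¹ (N.inv_mem hg) a ha
    have h1 := hx _ ha'
    have e1 : (g * x * g⁻¹) * a = g * (x * (g⁻¹ * a * g⁻¹⁻¹)) * g⁻¹ := by group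
    have e2 : a * (g * x * g⁻¹) = g * ((g⁻¹ * a * g⁻¹⁻¹) * x) * g⁻¹ := by group
    rw [e1, e2, h1]
  have main : ∀ d n : ℕ, c ≤ n + d →
      (∀ x ∈ N.lowerCentralSeries n, x ∈ Q → (∀ a ∈ A, x * a = a * x) → x ^ m = 1 → x ∈ A) ∧
      (∀ x ∈ Q, (∀ a ∈ A, x * a = a * x) → x ^ m = 1 → ∀ g ∈ N,
        x⁻¹ * (g * x * g⁻¹) ∈ N.lowerCentralSeries n → x⁻¹ * (g * x * g⁻¹) ∈ A) := by
    intro d
    induction d with
    | zero =>
      intro n hn
      have hbot : N.lowerCentralSeries n = ⊥ := by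
        have := Subgroup.lowerCentralSeries_antitone (S := N) (show c ≤ n by omega)
        rw [hc] at this
        exact le_bot_iff.mp this
      rw [hbot]
      refine ⟨fun x hx _ _ _ => ?_, fun x _ _ _ g _ hy => ?_⟩
      · rw [Subgroup.mem_bot] at hx; rw [hx]; exact A.one_mem
      · rw [Subgroup.mem_bot] at hy; rw [hy]; exact A.one_mem
    | succ d ih =>
      intro n hn
      obtain ⟨-, hT⟩ := ih (n + 1) (by omega)
      have hClaim : ∀ x ∈ N.lowerCentralSeries n, x ∈ Q → (∀ a ∈ A, x * a = a * x) →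
          x ^ m = 1 → x ∈ A := by
        intro x hxL hxQ hxc hxm
        refine adjoin_mem hA hmax hxQ hxc hxm (fun g hg => ?_)
        refine hT x hxQ hxc hxm g hg ?_
        have h1 := comm_mem_lcs_succ hg hxL
        have h2 := conj_mem_lcs (N.inv_mem (hQN hxQ)) h1
        convert h2 using 1
        group
      refine ⟨hClaim, ?_⟩
      intro x hxQ hxc hxm g hg hyL
      set y := x⁻¹ * (g * x * g⁻¹) with hy
      have hgx : g * x * g⁻¹ = x * y := by rw [hy]; group
      have hyQ : y ∈ Q := Q.mul_mem (Q.inv_mem hxQ) (hNQ g hg x hxQ)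
      have hyN : y ∈ N := hQN hyQ
      have hyc : ∀ a ∈ A, y * a = a * y := by
        intro a ha
        have h1 := hconjc g hg x hxc a ha
        have h2 := hxc a ha
        calc y * a = x⁻¹ * ((g * x * g⁻¹) * a) := by rw [hy]; group
          _ = x⁻¹ * (a * (g * x * g⁻¹)) := by rw [h1]
          _ = (x⁻¹ * a) * (g * x * g⁻¹) := by group
          _ = (a * x⁻¹) * (g * x * g⁻¹) := by
            congr 1
            have : x⁻¹ * a = x⁻¹ * (a * x) * x⁻¹ := by group
            rw [this, ← h2]; group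
          _ = a * y := by rw [hy]; group
      set z := y⁻¹ * x⁻¹ * y * x with hz
      have hzinv : z⁻¹ = x⁻¹ * (y⁻¹ * x * y⁻¹⁻¹) := by rw [hz]; group
      have hzL : z⁻¹ ∈ N.lowerCentralSeries (n + 1) := by
        have h1 : x⁻¹ * y * x⁻¹⁻¹ * y⁻¹ ∈ N.lowerCentralSeries (n + 1) :=
          comm_mem_lcs_succ (N.inv_mem (hQN hxQ)) hyL
        have h2 := conj_mem_lcs (N.inv_mem hyN) h1
        have h3 := (N.lowerCentralSeries (n + 1)).inv_mem h2
        convert h3 using 1
        rw [hz]; group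
      have hzA' : z⁻¹ ∈ A := by
        rw [hzinv]
        refine hT x hxQ hxc hxm y⁻¹ (N.inv_mem hyN) ?_
        rw [← hzinv]; exact hzL
      have hzA : z ∈ A := by
        have := A.inv_mem hzA'
        rwa [inv_inv] at this
      have hyx : y * x = x * y * z := by rw [hz]; group
      have hzx : z * x = x * z := (hxc z hzA).symm
      have hzy : z * y = y * z := (hyc z hzA).symm
      have hxym : (x * y) ^ m = 1 := by
        rw [← hgx, conj_pow, hxm]; group
      have hym : y ^ m = 1 := by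
        refine pow_eq_one_of_class2 hm x y z hyx hzx hzy hxm hxym (hA.exp z hzA) ?_
        intro hp2 hy8
        have hm4 : m = 4 := by
          rcases hm with ⟨h, -⟩ | ⟨-, h⟩
          · exact absurd hp2 h
          · exact h
        have ht : y ^ 2 ∈ A := by
          refine hClaim (y ^ 2) (Subgroup.pow_mem _ hyL 2) (Q.pow_mem hyQ 2) ?_ (by rw [hm4]; exact hy8)
          intro a ha
          have hcy : Commute y a := hyc a ha
          exact (hcy.pow_left 2).eq
        exact (hxc _ ht).symm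
      exact hClaim y hyL hyQ hyc hym
  intro x hxQ hxc hxm
  have h0 := (main c 0 (by omega)).1 x
  rw [Subgroup.lowerCentralSeries_zero] at h0
  exact h0 (hQN hxQ) hxQ hxc hxm

theorem exists_max_smallInv (m : ℕ) (N Q : Subgroup G) [Finite Q] :
    ∃ A, IsSmallInv m N Q A ∧ ∀ A' : Subgroup G, IsSmallInv m N Q A' → A ≤ A' → A' ≤ A := by
  classical
  have hbot : IsSmallInv m N Q ⊥ := by
    refine ⟨bot_le, ?_, ?_, ?_⟩
    · intro g _ a ha
      rw [Subgroup.mem_bot] at ha ⊢
      rw [ha]; group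
    · intro a ha b hb
      rw [Subgroup.mem_bot] at ha hb
      rw [ha, hb]
    · intro a ha
      rw [Subgroup.mem_bot] at ha
      rw [ha, one_pow]
  let P : ℕ → Prop := fun k => ∃ A, IsSmallInv m N Q A ∧ Nat.card A = k
  have hbound : ∀ A, IsSmallInv m N Q A → Nat.card A ≤ Nat.card Q := fun A hA =>
    Subgroup.card_le_of_le hA.le
  have hP : P (Nat.card (⊥ : Subgroup G)) := ⟨⊥, hbot, rfl⟩
  have hspec : P (Nat.findGreatest P (Nat.card Q)) :=
    Nat.findGreatest_spec (hbound ⊥ hbot) hP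
  obtain ⟨A, hA, hAcard⟩ := hspec
  refine ⟨A, hA, fun A' hA' hle => ?_⟩
  have h1 : Nat.card A' ≤ Nat.findGreatest P (Nat.card Q) :=
    Nat.le_findGreatest (hbound A' hA') ⟨A', hA', rfl⟩
  have : Finite A' := Finite.of_injective (Subgroup.inclusion hA'.le) (Subgroup.inclusion_injective _)
  have heq : A = A' := Subgroup.eq_of_le_of_card_ge hle (by omega)
  rw [heq]

theorem pow_apply_fix {R : Type*} [Group R] (δ : MulAut R) {u : R} (h : δ u = u) (k : ℕ) :
    (δ ^ k) u = u := by
  induction k with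
  | zero => simp
  | succ k ih => rw [pow_succ, MulAut.mul_apply, h, ih]

theorem fix_of_quot {R : Type*} [Group R] [Finite R] {p : ℕ} [Fact p.Prime] (hR : IsPGroup p R)
    (δ : MulAut R) (hcop : (orderOf δ).Coprime p) (x : R)
    (hu : δ (x⁻¹ * δ x) = x⁻¹ * δ x) : δ x = x := by
  set u := x⁻¹ * δ x with hudef
  have hδx : δ x = x * u := by rw [hudef]; group
  have hpow : ∀ k : ℕ, (δ ^ k) x = x * u ^ k := by
    intro k
    induction k with
    | zero => simp
    | succ k ih =>
      rw [pow_succ, MulAut.mul_apply, hδx, map_mul, ih, pow_apply_fix δ hu, pow_succ, mul_assoc]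
  have h1 := hpow (orderOf δ)
  rw [pow_orderOf_eq_one, MulAut.one_apply] at h1
  have h2 : u ^ orderOf δ = 1 := by
    have := mul_left_cancel (a := x) (b := 1) (c := u ^ orderOf δ) (by rw [mul_one]; exact h1)
    exact this.symm
  obtain ⟨k, hk⟩ := hR u
  have h3 : orderOf u ∣ orderOf δ := orderOf_dvd_of_pow_eq_one h2
  have h4 : orderOf u ∣ p ^ k := orderOf_dvd_of_pow_eq_one hk
  have hcop' : Nat.Coprime (orderOf δ) (p ^ k) := Nat.Coprime.pow_right k hcop
  have h5 : orderOf u ∣ 1 := by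
    have := Nat.dvd_gcd h3 h4
    rwa [hcop'] at this
  have h6 : u = 1 := orderOf_eq_one_iff.mp (Nat.dvd_one.mp h5)
  rw [hδx, h6, mul_one]

theorem aut_trivial {R : Type*} [Group R] [Finite R] {p m : ℕ} [Fact p.Prime] (hm : IsExp p m)
    (hR : IsPGroup p R) (δ : MulAut R) (hcop : (orderOf δ).Coprime p) (R₀ A : Subgroup R)
    (hA : A ≤ R₀) (hinv : ∀ x ∈ R₀, δ x ∈ R₀) (hinv' : ∀ x ∈ R₀, δ⁻¹ x ∈ R₀)
    (hquot : ∀ x, x⁻¹ * δ x ∈ R₀) (hfix : ∀ a ∈ A, δ a = a)
    (hP1 : ∀ x ∈ R₀, (∀ a ∈ A, x * a = a * x) → x ^ m = 1 → x ∈ A) : δ = 1 := by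
  have hfix' : ∀ a ∈ A, δ⁻¹ a = a := by
    intro a ha
    have := hfix a ha
    calc δ⁻¹ a = δ⁻¹ (δ a) := by rw [this]
      _ = a := by simp
  -- step (i)
  let T : Subgroup R := R₀ ⊓ Subgroup.centralizer (A : Set R)
  have hT : ∀ x, x ∈ T ↔ x ∈ R₀ ∧ ∀ a ∈ A, x * a = a * x := by
    intro x
    constructor
    · rintro ⟨h1, h2⟩
      exact ⟨h1, fun a ha => (h2 a ha).symm⟩
    · rintro ⟨h1, h2⟩
      exact ⟨h1, fun a ha => (h2 a ha).symm⟩
  have hTfix : ∀ x ∈ T, δ x = x := by
    refine Cfsg.Agent.Lib.Helper27.aut_fix_of_fix_small δ hcop T (hR.to_subgroup T) ?_ ?_ ?_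
    · intro x hx
      obtain ⟨h1, h2⟩ := (hT x).mp hx
      refine (hT _).mpr ⟨hinv x h1, fun a ha => ?_⟩
      have := congrArg δ (h2 a ha)
      rwa [map_mul, map_mul, hfix a ha] at this
    · intro x hx
      obtain ⟨h1, h2⟩ := (hT x).mp hx
      refine (hT _).mpr ⟨hinv' x h1, fun a ha => ?_⟩
      have := congrArg (fun w => (δ⁻¹ : MulAut R) w) (h2 a ha)
      simp only [map_mul] at this
      rwa [hfix' a ha] at this
    · intro a ha hsmall
      obtain ⟨h1, h2⟩ := (hT a).mp ha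
      refine hfix a (hP1 a h1 h2 ?_)
      rcases hm with ⟨hp2, rfl⟩ | ⟨hp2, rfl⟩
      · rcases hsmall with h | ⟨h, -⟩
        · exact h
        · exact absurd h hp2
      · rcases hsmall with h | ⟨-, h⟩
        · rw [hp2] at h
          have : a ^ 4 = (a ^ 2) ^ 2 := by rw [← pow_mul]
          rw [this, h, one_pow]
        · exact h
  -- step (ii)
  have hnil : Group.IsNilpotent ↥R₀ := (hR.to_subgroup R₀).isNilpotent
  obtain ⟨c, hc⟩ := (Subgroup.isNilpotent_iff_lowerCentralSeries R₀).mp hnil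
  have lcs_le : ∀ n, R₀.lowerCentralSeries n ≤ R₀ := by
    intro n
    have := Subgroup.lowerCentralSeries_antitone (S := R₀) (Nat.zero_le n)
    simpa using this
  have hR₀ : ∀ d n : ℕ, c ≤ n + d → ∀ x ∈ R₀.lowerCentralSeries n, δ x = x := by
    intro d
    induction d with
    | zero =>
      intro n hn x hx
      have hbot : R₀.lowerCentralSeries n = ⊥ := by
        have := Subgroup.lowerCentralSeries_antitone (S := R₀) (show c ≤ n by omega)
        rw [hc] at this
        exact le_bot_iff.mp this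
      rw [hbot, Subgroup.mem_bot] at hx
      rw [hx, map_one]
    | succ d ih =>
      intro n hn x hx
      have hxR : x ∈ R₀ := lcs_le n hx
      apply fix_of_quot hR δ hcop x
      apply hTfix
      refine (hT _).mpr ⟨R₀.mul_mem (R₀.inv_mem hxR) (hinv x hxR), fun b hb => ?_⟩
      have hw : b * x * b⁻¹ * x⁻¹ ∈ R₀.lowerCentralSeries (n + 1) := comm_mem_lcs_succ (hA hb) hx
      have h1 := ih (n + 1) (by omega) _ hw
      rw [map_mul, map_mul, map_mul, map_inv, map_inv, hfix b hb] at h1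
      -- h1 : b * δ x * b⁻¹ * (δ x)⁻¹ = b * x * b⁻¹ * x⁻¹
      have h2 : δ x * b⁻¹ * (δ x)⁻¹ = x * b⁻¹ * x⁻¹ := by
        have := congrArg (fun w => b⁻¹ * w) h1
        simpa [mul_assoc] using this
      have h3 : (x⁻¹ * δ x) * b⁻¹ = b⁻¹ * (x⁻¹ * δ x) := by
        calc (x⁻¹ * δ x) * b⁻¹ = x⁻¹ * (δ x * b⁻¹ * (δ x)⁻¹) * δ x := by group
          _ = x⁻¹ * (x * b⁻¹ * x⁻¹) * δ x := by rw [h2]
          _ = b⁻¹ * (x⁻¹ * δ x) := by group
      calc (x⁻¹ * δ x) * b = b * (b⁻¹ * (x⁻¹ * δ x)) * b := by group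
        _ = b * ((x⁻¹ * δ x) * b⁻¹) * b := by rw [h3]
        _ = b * (x⁻¹ * δ x) := by group
  have hR₀' : ∀ x ∈ R₀, δ x = x := by
    intro x hx
    have := hR₀ c 0 (by omega) x
    rw [Subgroup.lowerCentralSeries_zero] at this
    exact this hx
  ext x
  rw [MulAut.one_apply]
  exact fix_of_quot hR δ hcop x (hR₀' _ (hquot x))

end Cfsg.Agent.Lib.helper17.BGH1
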