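import Mathlib
import Cfsg.Agent.Lib.helper17.BGH1
import Cfsg.Agent.Lib.Helper26.FusionSat3
import Cfsg.Agent.Lib.Helper26.AlperinInd

set_option autoImplicit false

namespace Cfsg.Agent.Lib.helper17.BGH2

open Cfsg Cfsg.FusionSystem Cfsg.Agent.Lib.Helper26 Cfsg.Agent.Lib.helper17.BGH1

variable {Ω : Type*} [Group Ω] {S : Subgroup Ω}

/-- the standing hypotheses -/
structure Ctx (p m : ℕ) (E F : FusionSystem S) (H : Subgroup Ω) : Prop where
  hm : IsExp p m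
  hS : IsPGroup p S
  satE : E.IsSaturated p
  satF : F.IsSaturated p
  le : ∀ P : Subgroup Ω, E.Hom P ⊆ F.Hom P
  hHS : H ≤ S
  hSH : ∀ s ∈ S, ∀ h ∈ H, s * h * s⁻¹ ∈ H
  closed : ∀ (P : Subgroup Ω) (φ : P →* Ω), φ ∈ F.Hom P → ∀ x : P, (x : Ω) ∈ H → φ x ∈ H
  hyp : ∀ (P : Subgroup Ω), P ≤ S → ∀ α ∈ F.autGroup P, (orderOf α).Coprime p →
    ∀ x : P, (x : Ω)⁻¹ * ((α x : P) : Ω) ∈ H
  small : ∀ A : Subgroup Ω, A ≤ H → (∀ a ∈ A, ∀ b ∈ A, a * b = b * a) → (∀ a ∈ A, a ^ m = 1) →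
    F.Hom A ⊆ E.Hom A

/-- the data of a good abelian subgroup `A` of `P` -/
structure Good (m : ℕ) (H P A : Subgroup Ω) : Prop where
  leP : A ≤ P
  leH : A ≤ H
  comm : ∀ a ∈ A, ∀ b ∈ A, a * b = b * a
  exp : ∀ a ∈ A, a ^ m = 1
  self : ∀ x ∈ P, x ∈ H → (∀ a ∈ A, x * a = a * x) → x ^ m = 1 → x ∈ A

/-- the pointwise fixer of `A` in `Aut(P)` -/
def fixer (P A : Subgroup Ω) : Subgroup (MulAut P) where
  carrier := {κ | ∀ x : P, (x : Ω) ∈ A → κ x = x}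
  one_mem' := fun x _ => rfl
  mul_mem' := by
    intro a b ha hb x hx
    rw [MulAut.mul_apply, hb x hx, ha x hx]
  inv_mem' := by
    intro a ha x hx
    have := ha x hx
    calc a⁻¹ x = a⁻¹ (a x) := by rw [this]
      _ = x := by simp

theorem mem_fixer {P A : Subgroup Ω} {κ : MulAut P} :
    κ ∈ fixer P A ↔ ∀ x : P, (x : Ω) ∈ A → κ x = x := Iff.rfl

theorem isPGroup_fixer [Finite S] {p m : ℕ} [Fact p.Prime] {E F : FusionSystem S} {H : Subgroup Ω}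
    (ctx : Ctx p m E F H) {P A : Subgroup Ω} (hPS : P ≤ S) (hA : Good m H P A) :
    IsPGroup p ↥(F.autGroup P ⊓ fixer P A) := by
  have hfinP : Finite P := finite_of_le hPS
  have hPp : IsPGroup p P := ctx.hS.to_le hPS
  have hp : p.Prime := Fact.out
  rintro ⟨κ, hκK, hκfix⟩
  have hn : orderOf κ ≠ 0 := (orderOf_pos κ).ne'
  obtain ⟨k, r, hr, hnr⟩ := Nat.exists_eq_pow_mul_and_not_dvd hn p hp.ne_one
  refine ⟨k, ?_⟩
  apply Subtype.ext
  show κ ^ p ^ k = 1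
  set δ := κ ^ p ^ k with hδ
  have hδr : δ ^ r = 1 := by
    rw [hδ, ← pow_mul, ← hnr, pow_orderOf_eq_one]
  have hcop : (orderOf δ).Coprime p := by
    have h1 : orderOf δ ∣ r := orderOf_dvd_of_pow_eq_one hδr
    have h2 : Nat.Coprime r p := ((Nat.Prime.coprime_iff_not_dvd hp).mpr hr).symm
    exact Nat.Coprime.coprime_dvd_left h1 h2
  have hδK : δ ∈ F.autGroup P := Subgroup.pow_mem _ hκK _
  have hδfix : δ ∈ fixer P A := Subgroup.pow_mem _ hκfix _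
  have hδ'K : δ⁻¹ ∈ F.autGroup P := Subgroup.inv_mem _ hδK
  refine aut_trivial ctx.hm hPp δ hcop (H.subgroupOf P) (A.subgroupOf P) ?_ ?_ ?_ ?_ ?_ ?_
  · intro x hx
    exact Subgroup.mem_subgroupOf.mpr (hA.leH (Subgroup.mem_subgroupOf.mp hx))
  · intro x hx
    exact Subgroup.mem_subgroupOf.mpr
      (ctx.closed P _ ((mem_autGroup_iff F hPS).mp hδK) x (Subgroup.mem_subgroupOf.mp hx))
  · intro x hx
    exact Subgroup.mem_subgroupOf.mpr
      (ctx.closed P _ ((mem_autGroup_iff F hPS).mp hδ'K) x (Subgroup.mem_subgroupOf.mp hx))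
  · intro x
    rw [Subgroup.mem_subgroupOf]
    have := ctx.hyp P hPS δ hδK hcop x
    simpa using this
  · intro a ha
    exact hδfix a (Subgroup.mem_subgroupOf.mp ha)
  · intro x hx hxc hxm
    rw [Subgroup.mem_subgroupOf] at hx ⊢
    refine hA.self x x.2 hx ?_ ?_
    · intro a ha
      have := hxc ⟨a, hA.leP ha⟩ (Subgroup.mem_subgroupOf.mpr ha)
      exact congrArg Subtype.val this
    · have := congrArg Subtype.val hxm
      simpa using this

/-- automorphisms of a fully automized `P` centralizing a good, `N_S(P)`-invariant `A` are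
induced by `S` -/
theorem cent_le_autS [Finite S] {p m : ℕ} [Fact p.Prime] {E F : FusionSystem S} {H : Subgroup Ω}
    (ctx : Ctx p m E F H) {P A : Subgroup Ω} (hPa : F.IsFullyAutomized p P) (hA : Good m H P A)
    (hinv : ∀ g ∈ normalizerIn S P, ∀ a ∈ A, g * a * g⁻¹ ∈ A)
    {κ : MulAut P} (hκ : κ ∈ F.autGroup P) (hfix : ∀ x : P, (x : Ω) ∈ A → κ x = x) :
    κ ∈ autInducedBy S P := by
  have hPS : P ≤ S := hPa.1
  have hfinP : Finite P := finite_of_le hPS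
  have hsyl := isSylowIn18_of_fullyAutomized F hPa
  set C : Subgroup (MulAut P) := F.autGroup P ⊓ fixer P A with hC
  have hCp : IsPGroup p C := isPGroup_fixer ctx hPS hA
  have hTp : IsPGroup p (autInducedBy S P) := isPGroup_autInducedBy ctx.hS P
  have hnorm : autInducedBy S P ≤ Subgroup.normalizer (C : Set (MulAut P)) := by
    intro τ hτ
    have hτK : τ ∈ F.autGroup P := autInducedBy_le_autGroup F hPS hτ
    have key : ∀ σ : MulAut P, σ ∈ autInducedBy S P → ∀ c ∈ C, σ * c * σ⁻¹ ∈ C := by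
      intro σ hσ c hc
      have hσK : σ ∈ F.autGroup P := autInducedBy_le_autGroup F hPS hσ
      refine ⟨Subgroup.mul_mem _ (Subgroup.mul_mem _ hσK hc.1) (Subgroup.inv_mem _ hσK), ?_⟩
      intro x hx
      obtain ⟨g, hgS, hgN, rfl⟩ := mem_autInducedBy_iff'.mp hσ
      have hg' : g⁻¹ ∈ normalizerIn S P := ⟨S.inv_mem hgS, Subgroup.inv_mem _ hgN⟩
      have h1 : (((conjAut P g hgN)⁻¹ x : P) : Ω) ∈ A := by
        have e : (((conjAut P g hgN)⁻¹ x : P) : Ω) = g⁻¹ * (x : Ω) * g⁻¹⁻¹ := by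
          have h2 : conjAut P g hgN ((conjAut P g hgN)⁻¹ x) = x := by simp
          have h3 := congrArg (fun z : P => (z : Ω)) h2
          simp only [conjAut_apply] at h3
          rw [← h3]; group
        rw [e]
        exact hinv _ hg' _ hx
      rw [MulAut.mul_apply, MulAut.mul_apply, hc.2 _ h1]
      simp
    rw [Subgroup.mem_normalizer_iff]
    intro c
    constructor
    · intro hc
      exact key τ hτ c hc
    · intro hc
      have := key τ⁻¹ (Subgroup.inv_mem _ hτ) _ hc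
      have e : τ⁻¹ * (τ * c * τ⁻¹) * τ⁻¹⁻¹ = c := by group
      rwa [e] at this
  have hsup : IsPGroup p ↥(autInducedBy S P ⊔ C) := IsPGroup.to_sup_of_normal_right' hTp hCp hnorm
  have hle : autInducedBy S P ⊔ C ≤ F.autGroup P :=
    sup_le (autInducedBy_le_autGroup F hPS) inf_le_left
  have heq := hsyl.eq_of_le hle hsup le_sup_left
  have : κ ∈ autInducedBy S P ⊔ C := (le_sup_right : C ≤ _) ⟨hκ, hfix⟩
  rwa [heq] at this


theorem mem_sup_of_normalizes {G : Type*} [Group G] {H K : Subgroup G}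
    (h : ∀ q ∈ H, ∀ c ∈ K, q * c * q⁻¹ ∈ K) {x : G} (hx : x ∈ H ⊔ K) :
    ∃ c ∈ K, ∃ q ∈ H, x = c * q := by
  rw [Subgroup.sup_eq_closure] at hx
  induction hx using Subgroup.closure_induction with
  | mem x hx =>
    rcases hx with hx | hx
    · exact ⟨1, K.one_mem, x, hx, (one_mul x).symm⟩
    · exact ⟨x, hx, 1, H.one_mem, (mul_one x).symm⟩
  | one => exact ⟨1, K.one_mem, 1, H.one_mem, (mul_one 1).symm⟩
  | mul x y _ _ ihx ihy =>
    obtain ⟨c, hc, q, hq, rfl⟩ := ihx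
    obtain ⟨c', hc', q', hq', rfl⟩ := ihy
    refine ⟨c * (q * c' * q⁻¹), K.mul_mem hc (h q hq c' hc'), q * q', H.mul_mem hq hq', ?_⟩
    group
  | inv x _ ihx =>
    obtain ⟨c, hc, q, hq, rfl⟩ := ihx
    refine ⟨q⁻¹ * c⁻¹ * q⁻¹⁻¹, h q⁻¹ (H.inv_mem hq) c⁻¹ (K.inv_mem hc), q⁻¹, H.inv_mem hq, ?_⟩
    group

/-- extension step: an element of `C_S(A)` normalizing the image of `θ` but not in it forces
`θ` to lie in `E`. -/
theorem theta_mem_of_exists [Finite S] {p m : ℕ} [Fact p.Prime] {E F : FusionSystem S}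
    {H : Subgroup Ω} (ctx : Ctx p m E F H) {Q A : Subgroup Ω} (hQn : F.IsFullyNormalized Q)
    (ih : ∀ R : Subgroup Ω, R ≤ S → Nat.card Q < Nat.card R → F.Hom R ⊆ E.Hom R)
    (hA : Good m H Q A) (hinv : ∀ g ∈ normalizerIn S Q, ∀ a ∈ A, g * a * g⁻¹ ∈ A)
    {θ : Q →* Ω} (hθ : θ ∈ F.Hom Q) (hθA : ∀ x : Q, (x : Ω) ∈ A → θ x = x)
    {g : Ω} (hgS : g ∈ S) (hgN : g ∈ Subgroup.normalizer (θ.range : Set Ω))
    (hgC : ∀ a ∈ A, g * a = a * g) (hgQ : g ∉ θ.range) : θ ∈ E.Hom Q := by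
  have hQS : Q ≤ S := hQn.1
  have hfinQ : Finite Q := finite_of_le hQS
  obtain ⟨-, hQa, hQr⟩ := saturated_fullyNormalized ctx.hS F ctx.satF hQn
  obtain ⟨e, he, hex⟩ := exists_iso_of_hom F hθ rfl
  have hQ2S : θ.range ≤ S := range_le F hθ
  set φ₀ : θ.range →* Ω := Q.subtype.comp e.symm.toMonoidHom with hφ₀def
  have hφ₀ : φ₀ ∈ F.Hom θ.range := he.symm
  have hφ₀r : φ₀.range = Q := range_subtype_comp_equiv _
  obtain ⟨χ, hχ, hχφ₀⟩ := hQr.2 θ.range φ₀ hφ₀ hφ₀r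
  -- the automorphism `κ`
  have hc : IsIso F (conjAut θ.range g hgN) :=
    (isIso_iff_mem_autGroup F hQ2S _).mpr
      (autInducedBy_le_autGroup F hQ2S (conjAut_mem_autInducedBy hgS hgN))
  set κ : MulAut Q := e.trans ((conjAut θ.range g hgN).trans e.symm) with hκdef
  have hκ : κ ∈ F.autGroup Q :=
    (isIso_iff_mem_autGroup F hQS κ).mp (he.trans (hc.trans he.symm))
  have hκfix : ∀ x : Q, (x : Ω) ∈ A → κ x = x := by
    intro x hx
    have h1 : conjAut θ.range g hgN (e x) = e x := by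
      apply Subtype.ext
      rw [conjAut_apply, hex x, hθA x hx]
      have := hgC _ hx
      rw [this]; group
    show e.symm (conjAut θ.range g hgN (e x)) = x
    rw [h1]; simp
  have hκT := cent_le_autS ctx hQa hA hinv hκ hκfix
  obtain ⟨h, hhS, hh⟩ := mem_autInducedBy_iff.mp hκT
  have hgX : g ∈ extender S θ.range φ₀ := by
    refine mem_extender_iff.mpr ⟨hgS, hgN, h, hhS, fun x => ?_⟩
    have h2 := hh (e.symm x)
    have h3 : κ (e.symm x) = e.symm ⟨g * x * g⁻¹, conj_mem_of_mem_normalizer hgN x⟩ := by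
      show e.symm (conjAut θ.range g hgN (e (e.symm x))) = _
      rw [MulEquiv.apply_symm_apply]
      rfl
    rw [h3] at h2
    exact h2
  have hlt : θ.range < extender S θ.range φ₀ := by
    refine lt_of_le_of_ne (le_extender F hφ₀) ?_
    intro heq
    apply hgQ
    rw [heq]; exact hgX
  have hXS : extender S θ.range φ₀ ≤ S := (extender_le_normalizerIn S _ _).trans inf_le_left
  have hfinX : Finite ↥(extender S θ.range φ₀) := finite_of_le hXS
  have hcard : Nat.card Q < Nat.card ↥(extender S θ.range φ₀) := by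
    have := card_lt_card_of_lt hlt
    rwa [← Nat.card_congr e.toEquiv] at this
  have hχE : χ ∈ E.Hom _ := ih _ hXS hcard hχ
  have hφ₀E : φ₀ ∈ E.Hom θ.range := by
    refine mem_of_forall_eq E (restrict_mem E hχE (le_extender F hφ₀)) (fun x => ?_)
    exact (hχφ₀ x x.2 _).symm
  have heE : IsIso E e.symm := hφ₀E
  have := heE.symm
  refine mem_of_forall_eq E this (fun x => ?_)
  simp only [MulEquiv.symm_symm]
  exact (hex x).symm


theorem mem_centralizerIn_iff {S A : Subgroup Ω} {g : Ω} :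
    g ∈ centralizerIn S A ↔ g ∈ S ∧ ∀ a ∈ A, g * a = a * g := by
  constructor
  · rintro ⟨h1, h2⟩
    exact ⟨h1, fun a ha => (h2 a ha).symm⟩
  · rintro ⟨h1, h2⟩
    exact ⟨h1, fun a ha => (h2 a ha).symm⟩

/-- conjugating an element centralizing `A` by an element normalizing `A` -/
theorem conj_comm_of_normalizes {A : Subgroup Ω} {q c : Ω}
    (hq : ∀ a ∈ A, q⁻¹ * a * q⁻¹⁻¹ ∈ A) (hc : ∀ a ∈ A, c * a = a * c) :
    ∀ a ∈ A, (q * c * q⁻¹) * a = a * (q * c * q⁻¹) := by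
  intro a ha
  have h1 := hc _ (hq a ha)
  calc q * c * q⁻¹ * a = q * (c * (q⁻¹ * a * q⁻¹⁻¹)) * q⁻¹ := by group
    _ = q * ((q⁻¹ * a * q⁻¹⁻¹) * c) * q⁻¹ := by rw [h1]
    _ = a * (q * c * q⁻¹) := by group

/-- case (b): no element of `C_S(A)` outside the image of `θ` normalizes it; then `θ` is
conjugation by an element of `S`. -/
theorem theta_mem_of_forall [Finite S] {p m : ℕ} [Fact p.Prime] {E F : FusionSystem S}
    {H : Subgroup Ω} (ctx : Ctx p m E F H) {Q A : Subgroup Ω} (hQn : F.IsFullyNormalized Q)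
    (hA : Good m H Q A) (hinv : ∀ g ∈ normalizerIn S Q, ∀ a ∈ A, g * a * g⁻¹ ∈ A)
    (hAn : F.IsFullyNormalized A)
    {θ : Q →* Ω} (hθ : θ ∈ F.Hom Q) (hθA : ∀ x : Q, (x : Ω) ∈ A → θ x = x)
    (hb : ∀ g ∈ S, g ∈ Subgroup.normalizer (θ.range : Set Ω) → (∀ a ∈ A, g * a = a * g) →
      g ∈ θ.range) : θ ∈ E.Hom Q := by
  have hQS : Q ≤ S := hQn.1
  have hAS : A ≤ S := hA.leP.trans hQS
  have hfinQ : Finite Q := finite_of_le hQS
  have hp : p.Prime := Fact.out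
  obtain ⟨-, hQa, hQr⟩ := saturated_fullyNormalized ctx.hS F ctx.satF hQn
  have hQ2S : θ.range ≤ S := range_le F hθ
  have hθinj : Function.Injective θ := F.injective_of_mem hθ
  -- `Q` normalizes `A`
  have hQA : ∀ q ∈ Q, ∀ a ∈ A, q * a * q⁻¹ ∈ A := fun q hq a ha =>
    hinv q (le_normalizerIn_self hQS hq) a ha
  -- the image of `θ` normalizes `A`
  have hQ2A : ∀ q ∈ θ.range, ∀ a ∈ A, q * a * q⁻¹ ∈ A := by
    rintro _ ⟨q, rfl⟩ a ha
    have h1 : (q : Ω) * a * (q : Ω)⁻¹ ∈ A := hQA q q.2 a ha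
    have h2 := hθA ⟨(q : Ω) * a * (q : Ω)⁻¹, hA.leP h1⟩ h1
    have h3 : (⟨(q : Ω) * a * (q : Ω)⁻¹, hA.leP h1⟩ : Q) = q * ⟨a, hA.leP ha⟩ * q⁻¹ :=
      Subtype.ext rfl
    rw [h3, map_mul, map_mul, map_inv, hθA ⟨a, hA.leP ha⟩ ha] at h2
    rw [h2]; exact h1
  set D : Subgroup Ω := centralizerIn S A with hD
  have hDS : D ≤ S := inf_le_left
  have hfinD : Finite D := finite_of_le hDS
  have hAD : A ≤ D := fun a ha => mem_centralizerIn_iff.mpr ⟨hAS ha, fun b hb' => hA.comm a ha b hb'⟩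
  -- (b1)
  have hDQ2 : D ≤ θ.range := by
    by_contra hcon
    have hMS : θ.range ⊔ D ≤ S := sup_le hQ2S hDS
    have hfinM : Finite ↥(θ.range ⊔ D) := finite_of_le hMS
    have hne : θ.range ≠ θ.range ⊔ D := by
      intro heq
      apply hcon
      rw [heq]; exact le_sup_right
    obtain ⟨x, hxM, hxQ2, hxN⟩ := exists_normalizing_of_lt (ctx.hS.to_le hMS) le_sup_left hne
    have hnormD : ∀ q ∈ θ.range, ∀ c ∈ D, q * c * q⁻¹ ∈ D := by
      intro q hq c hc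
      obtain ⟨hcS, hcc⟩ := mem_centralizerIn_iff.mp hc
      refine mem_centralizerIn_iff.mpr ⟨S.mul_mem (S.mul_mem (hQ2S hq) hcS) (S.inv_mem (hQ2S hq)), ?_⟩
      exact conj_comm_of_normalizes (fun a ha => hQ2A q⁻¹ (Subgroup.inv_mem _ hq) a ha) hcc
    obtain ⟨c, hc, q, hq, rfl⟩ := mem_sup_of_normalizes hnormD hxM
    obtain ⟨hcS, hcc⟩ := mem_centralizerIn_iff.mp hc
    have hcN : c ∈ Subgroup.normalizer (θ.range : Set Ω) := by
      have := Subgroup.mul_mem _ hxN (Subgroup.inv_mem _ (Subgroup.le_normalizer hq))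
      rwa [mul_inv_cancel_right] at this
    have := hb c hcS hcN hcc
    exact hxQ2 (Subgroup.mul_mem _ this hq)
  obtain ⟨e, he, hex⟩ := exists_iso_of_hom F hθ rfl
  -- `e.symm` maps `D` into `D`
  have hsymmA : ∀ a (ha : a ∈ A), ((e.symm ⟨a, hDQ2 (hAD ha)⟩ : Q) : Ω) = a := by
    intro a ha
    have h1 : e ⟨a, hA.leP ha⟩ = ⟨a, hDQ2 (hAD ha)⟩ := by
      apply Subtype.ext
      rw [hex, hθA _ ha]
    rw [← h1, MulEquiv.symm_apply_apply]
  have hsymmD : ∀ d (hd : d ∈ D), ((e.symm ⟨d, hDQ2 hd⟩ : Q) : Ω) ∈ D := by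
    intro d hd
    obtain ⟨hdS, hdc⟩ := mem_centralizerIn_iff.mp hd
    refine mem_centralizerIn_iff.mpr ⟨hQS (e.symm _).2, fun a ha => ?_⟩
    have h1 : (⟨d, hDQ2 hd⟩ : θ.range) * ⟨a, hDQ2 (hAD ha)⟩ = ⟨a, hDQ2 (hAD ha)⟩ * ⟨d, hDQ2 hd⟩ :=
      Subtype.ext (hdc a ha)
    have h2 := congrArg (fun z => ((e.symm z : Q) : Ω)) h1
    simp only [map_mul, Subgroup.coe_mul] at h2
    rwa [hsymmA a ha] at h2
  let f : D → D := fun d => ⟨e.symm ⟨d, hDQ2 d.2⟩, hsymmD d d.2⟩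
  have hfinj : Function.Injective f := by
    intro a b hab
    have h1 : ((e.symm ⟨a, hDQ2 a.2⟩ : Q) : Ω) = ((e.symm ⟨b, hDQ2 b.2⟩ : Q) : Ω) :=
      congrArg (fun z : D => (z : Ω)) hab
    have h2 := e.symm.injective (Subtype.ext h1)
    exact Subtype.ext (congrArg (fun z : θ.range => (z : Ω)) h2)
  have hfsurj : Function.Surjective f := Finite.injective_iff_surjective.mp hfinj
  -- (b2)
  have hDQ : D ≤ Q := by
    intro d hd
    obtain ⟨d', hd'⟩ := hfsurj ⟨d, hd⟩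
    have h1 : ((e.symm ⟨d', hDQ2 d'.2⟩ : Q) : Ω) = d := congrArg (fun z : D => (z : Ω)) hd'
    rw [← h1]
    exact (e.symm _).2
  have hθD : ∀ d (hd : d ∈ D), θ ⟨d, hDQ hd⟩ ∈ D := by
    intro d hd
    obtain ⟨d', hd'⟩ := hfsurj ⟨d, hd⟩
    have h1 : ((e.symm ⟨d', hDQ2 d'.2⟩ : Q) : Ω) = d := congrArg (fun z : D => (z : Ω)) hd'
    have h2 : e.symm ⟨d', hDQ2 d'.2⟩ = ⟨d, hDQ hd⟩ := Subtype.ext h1
    rw [← h2, ← hex, MulEquiv.apply_symm_apply]
    exact d'.2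
  -- (b3) `D` is fully normalized
  have hgoodD : Good m H D A :=
    ⟨hAD, hA.leH, hA.comm, hA.exp, fun x hx hxH hxc hxm => hA.self x (hDQ hx) hxH hxc hxm⟩
  have hNAD : normalizerIn S A ≤ normalizerIn S D := by
    rintro g ⟨hgS, hgN⟩
    refine ⟨hgS, ?_⟩
    have key : ∀ k ∈ S, k ∈ Subgroup.normalizer (A : Set Ω) → ∀ d ∈ D, k * d * k⁻¹ ∈ D := by
      intro k hkS hkN d hd
      obtain ⟨hdS, hdc⟩ := mem_centralizerIn_iff.mp hd
      refine mem_centralizerIn_iff.mpr ⟨S.mul_mem (S.mul_mem hkS hdS) (S.inv_mem hkS), ?_⟩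
      refine conj_comm_of_normalizes (fun a ha => ?_) hdc
      exact conj_mem_of_mem_normalizer (Subgroup.inv_mem _ hkN) ⟨a, ha⟩
    refine mem_normalizer_of_forall (key g hgS hgN) (fun d hd => ?_)
    have := key g⁻¹ (S.inv_mem hgS) (Subgroup.inv_mem _ hgN) d hd
    rwa [inv_inv] at this
  have hDn : F.IsFullyNormalized D := by
    refine ⟨hDS, fun D₁ hconj => ?_⟩
    obtain ⟨β, hβ, hβr⟩ := hconj
    have hβinj : Function.Injective β := F.injective_of_mem hβ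
    obtain ⟨βi, hβi, -, hβi1, -⟩ := exists_inv F hβ hβr
    set A₁ : Subgroup Ω := (A.subgroupOf D).map β with hA₁
    have hconjA : F.IsConj A A₁ := by
      refine ⟨β.comp (Subgroup.inclusion hAD), restrict_mem F hβ hAD, ?_⟩
      ext y
      constructor
      · rintro ⟨a, rfl⟩
        exact ⟨Subgroup.inclusion hAD a, Subgroup.mem_subgroupOf.mpr a.2, rfl⟩
      · rintro ⟨d, hd, rfl⟩
        exact ⟨⟨d, Subgroup.mem_subgroupOf.mp hd⟩, rfl⟩
    have h1 : normalizerIn S D₁ ≤ normalizerIn S A₁ := by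
      have key : ∀ g ∈ S, g ∈ Subgroup.normalizer (D₁ : Set Ω) → ∀ y ∈ A₁, g * y * g⁻¹ ∈ A₁ := by
        rintro g hgS hgN _ ⟨a, ha, rfl⟩
        rw [SetLike.mem_coe, Subgroup.mem_subgroupOf] at ha
        have hβa : β a ∈ D₁ := hβr.le ⟨a, rfl⟩
        have h2 : g * β a * g⁻¹ ∈ D₁ := conj_mem_of_mem_normalizer hgN ⟨β a, hβa⟩
        obtain ⟨d, hd⟩ := hβr.ge h2
        have hdH : (d : Ω) ∈ H := by
          have h3 : β d ∈ H := by
            rw [hd]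
            exact ctx.hSH g hgS _ (ctx.closed D β hβ a (hA.leH ha))
          have h4 := ctx.closed D₁ βi hβi ⟨β d, hβr.le ⟨d, rfl⟩⟩ h3
          rwa [hβi1 d] at h4
        have hdm : (d : Ω) ^ m = 1 := by
          have h3 : β (d ^ m) = 1 := by
            rw [map_pow, hd, conj_pow, ← map_pow]
            have : a ^ m = 1 := Subtype.ext (by simpa using hA.exp _ ha)
            rw [this, map_one]; group
          have h4 : d ^ m = 1 := hβinj (by rw [h3, map_one])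
          have := congrArg (fun z : D => (z : Ω)) h4
          simpa using this
        have hdA : (d : Ω) ∈ A :=
          hgoodD.self d d.2 hdH (mem_centralizerIn_iff.mp d.2).2 hdm
        rw [← hd]
        exact ⟨d, Subgroup.mem_subgroupOf.mpr hdA, rfl⟩
      rintro g ⟨hgS, hgN⟩
      refine ⟨hgS, mem_normalizer_of_forall (key g hgS hgN) (fun y hy => ?_)⟩
      have := key g⁻¹ (S.inv_mem hgS) (Subgroup.inv_mem _ hgN) y hy
      rwa [inv_inv] at this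
    have hfin1 : Finite ↥(normalizerIn S A₁) := finite_of_le inf_le_left
    have hfin2 : Finite ↥(normalizerIn S D) := finite_of_le inf_le_left
    calc Nat.card ↥(normalizerIn S D₁) ≤ Nat.card ↥(normalizerIn S A₁) := Subgroup.card_le_of_le h1
      _ ≤ Nat.card ↥(normalizerIn S A) := hAn.2 A₁ hconjA
      _ ≤ Nat.card ↥(normalizerIn S D) := Subgroup.card_le_of_le hNAD
  obtain ⟨-, hDa, -⟩ := saturated_fullyNormalized ctx.hS F ctx.satF hDn
  -- (b4)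
  have hinvD : ∀ g ∈ normalizerIn S D, ∀ a ∈ A, g * a * g⁻¹ ∈ A := by
    rintro g ⟨hgS, hgN⟩ a ha
    have h1 : g * a * g⁻¹ ∈ D := conj_mem_of_mem_normalizer hgN ⟨a, hAD ha⟩
    refine hgoodD.self _ h1 (ctx.hSH g hgS a (hA.leH ha)) (mem_centralizerIn_iff.mp h1).2 ?_
    rw [conj_pow, hA.exp a ha]; group
  set θD : D →* Ω := θ.comp (Subgroup.inclusion hDQ) with hθDdef
  have hθDmem : θD ∈ F.Hom D := restrict_mem F hθ hDQ
  have hθDr : θD.range = D := by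
    have hle : θD.range ≤ D := by
      rintro _ ⟨d, rfl⟩
      exact hθD d d.2
    apply Subgroup.eq_of_le_of_card_ge hle
    exact (Nat.card_congr (MonoidHom.ofInjective (F.injective_of_mem hθDmem)).toEquiv).le
  have hκD := autOfHom_mem F hθDmem hθDr
  have hκDfix : ∀ x : D, (x : Ω) ∈ A → autOfHom F hθDmem hθDr x = x := by
    intro x hx
    apply Subtype.ext
    rw [autOfHom_apply]
    exact hθA ⟨x, hDQ x.2⟩ hx
  obtain ⟨s, hsS, hs⟩ := mem_autInducedBy_iff.mp (cent_le_autS ctx hDa hgoodD hinvD hκD hκDfix)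
  have hsθ : ∀ d (hd : d ∈ D), θ ⟨d, hDQ hd⟩ = s * d * s⁻¹ := by
    intro d hd
    have := hs ⟨d, hd⟩
    rw [autOfHom_apply] at this
    exact this
  have hsc : ∀ a ∈ A, s * a = a * s := by
    intro a ha
    have h1 := hsθ a (hAD ha)
    rw [hθA ⟨a, hDQ (hAD ha)⟩ ha] at h1
    calc s * a = (s * a * s⁻¹) * s := by group
      _ = a * s := by rw [← h1]
  have hsc' : ∀ a ∈ A, s⁻¹ * a * s⁻¹⁻¹ = a := by
    intro a ha
    have := hsc a ha
    calc s⁻¹ * a * s⁻¹⁻¹ = s⁻¹ * (a * s) := by group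
      _ = s⁻¹ * (s * a) := by rw [this]
      _ = a := by group
  -- (b6)
  have hθq : ∀ (q : Q) (a : Ω), a ∈ A → θ q * a * (θ q)⁻¹ = (q : Ω) * a * (q : Ω)⁻¹ := by
    intro q a ha
    have h1 : (q : Ω) * a * (q : Ω)⁻¹ ∈ A := hQA q q.2 a ha
    have h2 := hθA ⟨(q : Ω) * a * (q : Ω)⁻¹, hA.leP h1⟩ h1
    have h3 : (⟨(q : Ω) * a * (q : Ω)⁻¹, hA.leP h1⟩ : Q) = q * ⟨a, hA.leP ha⟩ * q⁻¹ :=
      Subtype.ext rfl
    rw [h3, map_mul, map_mul, map_inv, hθA ⟨a, hA.leP ha⟩ ha] at h2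
    exact h2
  have htQ : ∀ q : Q, s⁻¹ * θ q * s⁻¹⁻¹ ∈ Q := by
    intro q
    have hmem : (q : Ω)⁻¹ * (s⁻¹ * θ q * s⁻¹⁻¹) ∈ D := by
      refine mem_centralizerIn_iff.mpr ⟨?_, fun a ha => ?_⟩
      · exact S.mul_mem (S.inv_mem (hQS q.2))
          (S.mul_mem (S.mul_mem (S.inv_mem hsS) (apply_mem F hθ q)) (S.inv_mem (S.inv_mem hsS)))
      · have h1 := hθq q a ha
        have h2 : (q : Ω) * a * (q : Ω)⁻¹ ∈ A := hQA q q.2 a ha
        have h3 := hsc' _ h2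
        have h4 := hsc' a ha
        have h5 : s⁻¹ * θ q * s⁻¹⁻¹ * a = (q : Ω) * a * (q : Ω)⁻¹ * (s⁻¹ * θ q * s⁻¹⁻¹) := by
          calc s⁻¹ * θ q * s⁻¹⁻¹ * a = s⁻¹ * θ q * (s⁻¹⁻¹ * a * s⁻¹⁻¹⁻¹) * s⁻¹⁻¹ := by group
            _ = s⁻¹ * θ q * a * s⁻¹⁻¹ := by
              have : s⁻¹⁻¹ * a * s⁻¹⁻¹⁻¹ = a := by
                have := hsc a ha
                calc s⁻¹⁻¹ * a * s⁻¹⁻¹⁻¹ = (s * a) * s⁻¹ := by group
                  _ = a * s * s⁻¹ := by rw [this]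
                  _ = a := by group
              rw [this]
            _ = s⁻¹ * (θ q * a * (θ q)⁻¹) * s⁻¹⁻¹ * (s⁻¹ * θ q * s⁻¹⁻¹) := by group
            _ = (s⁻¹ * ((q : Ω) * a * (q : Ω)⁻¹) * s⁻¹⁻¹) * (s⁻¹ * θ q * s⁻¹⁻¹) := by rw [h1]
            _ = (q : Ω) * a * (q : Ω)⁻¹ * (s⁻¹ * θ q * s⁻¹⁻¹) := by rw [h3]
        calc (q : Ω)⁻¹ * (s⁻¹ * θ q * s⁻¹⁻¹) * a = (q : Ω)⁻¹ * (s⁻¹ * θ q * s⁻¹⁻¹ * a) := by group
          _ = (q : Ω)⁻¹ * ((q : Ω) * a * (q : Ω)⁻¹ * (s⁻¹ * θ q * s⁻¹⁻¹)) := by rw [h5]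
          _ = a * ((q : Ω)⁻¹ * (s⁻¹ * θ q * s⁻¹⁻¹)) := by group
    have := Q.mul_mem q.2 (hDQ hmem)
    rwa [mul_inv_cancel_left] at this
  have hmaps : ∀ x : Q, θ x ∈ θ.range := fun x => ⟨x, rfl⟩
  have hθ' := F.comp_mem hθ (F.conj_mem hQ2S (S.inv_mem hsS)) hmaps
  set θ' : Q →* Ω := (conjHom θ.range s⁻¹).comp (θ.codRestrict θ.range hmaps) with hθ'def
  have hθ'app : ∀ q : Q, θ' q = s⁻¹ * θ q * s⁻¹⁻¹ := fun q => rfl
  have hθ'r : θ'.range = Q := by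
    have hle : θ'.range ≤ Q := by
      rintro _ ⟨q, rfl⟩
      rw [hθ'app]; exact htQ q
    apply Subgroup.eq_of_le_of_card_ge hle
    exact (Nat.card_congr (MonoidHom.ofInjective (F.injective_of_mem hθ')).toEquiv).le
  have hκ' := autOfHom_mem F hθ' hθ'r
  have hκ'fix : ∀ x : Q, (x : Ω) ∈ A → autOfHom F hθ' hθ'r x = x := by
    intro x hx
    apply Subtype.ext
    rw [autOfHom_apply, hθ'app, hθA x hx]
    exact hsc' _ hx
  obtain ⟨h, hhS, hh⟩ := mem_autInducedBy_iff.mp (cent_le_autS ctx hQa hA hinv hκ' hκ'fix)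
  refine mem_of_forall_eq E (E.conj_mem hQS (S.mul_mem hsS hhS)) (fun q => ?_)
  have h1 := hh q
  rw [autOfHom_apply, hθ'app] at h1
  rw [conjHom_apply]
  calc θ q = s * (s⁻¹ * θ q * s⁻¹⁻¹) * s⁻¹ := by group
    _ = s * (h * (q : Ω) * h⁻¹) * s⁻¹ := by rw [h1]
    _ = s * h * (q : Ω) * (s * h)⁻¹ := by group


/-- reduction: an `F`-automorphism `φ` of `Q` differs from a map `θ` fixing `A` by a map of `E` -/
theorem exists_theta [Finite S] {p m : ℕ} [Fact p.Prime] {E F : FusionSystem S}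
    {H : Subgroup Ω} (ctx : Ctx p m E F H) {Q A : Subgroup Ω} (hQS : Q ≤ S)
    (hA : Good m H Q A) (hQA : ∀ q ∈ Q, ∀ a ∈ A, q * a * q⁻¹ ∈ A) (hAr : E.IsReceptive A)
    {φ : MulAut Q} (hφ : φ ∈ F.autGroup Q) :
    ∃ θ ∈ F.Hom Q, (∀ x : Q, (x : Ω) ∈ A → θ x = x) ∧ (θ ∈ E.Hom Q → φ ∈ E.autGroup Q) := by
  set φh : Q →* Ω := Q.subtype.comp φ.toMonoidHom with hφhdef
  have hφh : φh ∈ F.Hom Q := (mem_autGroup_iff F hQS).mp hφ
  set ψ : A →* Ω := φh.comp (Subgroup.inclusion hA.leP) with hψdef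
  have hψ : ψ ∈ F.Hom A := restrict_mem F hφh hA.leP
  have hψE : ψ ∈ E.Hom A := ctx.small A hA.leH hA.comm hA.exp hψ
  have hψapp : ∀ a : A, ψ a = ((φ ⟨a, hA.leP a.2⟩ : Q) : Ω) := fun a => rfl
  obtain ⟨ψi, hψi, hψir, hψi1, -⟩ := exists_inv E hψE (rfl : ψ.range = ψ.range)
  obtain ⟨ρ, hρ, hρψ⟩ := hAr.2 ψ.range ψi hψi hψir
  -- conjugation by `g ∈ Q` on `ψ.range`
  have hconj : ∀ (g : Q) (a : A), ∃ a' : A, (a' : Ω) = ((φ⁻¹ g : Q) : Ω) * a * ((φ⁻¹ g : Q) : Ω)⁻¹ ∧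
      (g : Ω) * ψ a * (g : Ω)⁻¹ = ψ a' := by
    intro g a
    have h1 : ((φ⁻¹ g : Q) : Ω) * a * ((φ⁻¹ g : Q) : Ω)⁻¹ ∈ A := hQA _ (φ⁻¹ g).2 a a.2
    refine ⟨⟨_, h1⟩, rfl, ?_⟩
    rw [hψapp, hψapp]
    have h2 : (⟨((φ⁻¹ g : Q) : Ω) * a * ((φ⁻¹ g : Q) : Ω)⁻¹, hA.leP h1⟩ : Q) =
        φ⁻¹ g * ⟨a, hA.leP a.2⟩ * (φ⁻¹ g)⁻¹ := Subtype.ext rfl
    rw [h2, map_mul, map_mul, map_inv]
    simp
  have hmr : ∀ a : A, ψ a ∈ ψ.range := fun a => MonoidHom.mem_range.mpr ⟨a, rfl⟩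
  have hψi2 : ∀ (y : Ω) (hy : y ∈ ψ.range) (a : A), y = ψ a → ψi ⟨y, hy⟩ = a := by
    intro y hy a h
    subst h
    exact hψi1 a hy
  have hnorm : ∀ g : Q, (g : Ω) ∈ Subgroup.normalizer (ψ.range : Set Ω) := by
    have key : ∀ g : Q, ∀ y ∈ ψ.range, (g : Ω) * y * (g : Ω)⁻¹ ∈ ψ.range := by
      intro g y hy
      obtain ⟨a, rfl⟩ := MonoidHom.mem_range.mp hy
      obtain ⟨a', -, h⟩ := hconj g a
      rw [h]; exact hmr a'
    intro g
    refine mem_normalizer_of_forall (key g) (fun y hy => ?_)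
    have := key g⁻¹ y hy
    simpa using this
  have hQext : Q ≤ extender S ψ.range ψi := by
    intro g hg
    refine mem_extender_iff.mpr ⟨hQS hg, hnorm ⟨g, hg⟩, ((φ⁻¹ ⟨g, hg⟩ : Q) : Ω),
      hQS (φ⁻¹ ⟨g, hg⟩).2, ?_⟩
    intro x
    obtain ⟨a, ha⟩ := MonoidHom.mem_range.mp x.2
    obtain ⟨a', ha', h⟩ := hconj ⟨g, hg⟩ a
    have h1 : ψi x = a := hψi2 x x.2 a ha.symm
    have h2 : ψi ⟨g * x * g⁻¹, conj_mem_of_mem_normalizer (hnorm ⟨g, hg⟩) x⟩ = a' :=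
      hψi2 _ _ a' (by rw [← ha]; exact h)
    rw [h1, h2, ha']
  set ρQ : Q →* Ω := ρ.comp (Subgroup.inclusion hQext) with hρQdef
  have hρQ : ρQ ∈ E.Hom Q := restrict_mem E hρ hQext
  have hmaps : ∀ x : Q, φh x ∈ Q := fun x => (φ x).2
  have hθ := F.comp_mem hφh (ctx.le _ hρQ) hmaps
  set θ : Q →* Ω := ρQ.comp (φh.codRestrict Q hmaps) with hθdef
  have hθapp : ∀ x : Q, θ x = ρQ (φ x) := fun x => rfl
  refine ⟨θ, hθ, ?_, ?_⟩
  · intro x hx
    rw [hθapp]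
    have hP : ((φ x : Q) : Ω) ∈ ψ.range := hmr ⟨x, hx⟩
    have h1 := hρψ _ hP (hQext (φ x).2)
    have h2 : ρQ (φ x) = ρ ⟨((φ x : Q) : Ω), hQext (φ x).2⟩ := rfl
    rw [h2, h1]
    exact hψi2 _ hP ⟨x, hx⟩ rfl
  · intro hθE
    obtain ⟨σ, hσ, -, hσ1, -⟩ := exists_inv E hρQ (rfl : ρQ.range = ρQ.range)
    have hmaps2 : ∀ x : Q, θ x ∈ ρQ.range := fun x => MonoidHom.mem_range.mpr ⟨φ x, rfl⟩
    have h1 := E.comp_mem hθE hσ hmaps2
    rw [mem_autGroup_iff E hQS]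
    refine mem_of_forall_eq E h1 (fun x => ?_)
    show ((φ x : Q) : Ω) = σ ⟨θ x, hmaps2 x⟩
    exact (hσ1 (φ x) (hmaps2 x)).symm

/-- the main step -/
theorem main_step [Finite S] {p m : ℕ} [Fact p.Prime] {E F : FusionSystem S}
    {H : Subgroup Ω} (ctx : Ctx p m E F H) {Q A : Subgroup Ω} (hQn : F.IsFullyNormalized Q)
    (ih : ∀ R : Subgroup Ω, R ≤ S → Nat.card Q < Nat.card R → F.Hom R ⊆ E.Hom R)
    (hA : Good m H Q A) (hinv : ∀ g ∈ normalizerIn S Q, ∀ a ∈ A, g * a * g⁻¹ ∈ A)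
    (hAn : F.IsFullyNormalized A) : F.autGroup Q ≤ E.autGroup Q := by
  classical
  have hQS : Q ≤ S := hQn.1
  have hQA : ∀ q ∈ Q, ∀ a ∈ A, q * a * q⁻¹ ∈ A := fun q hq a ha =>
    hinv q (le_normalizerIn_self hQS hq) a ha
  have hAnE : E.IsFullyNormalized A := by
    refine ⟨hAn.1, fun B hB => hAn.2 B ?_⟩
    obtain ⟨φ, hφ, hr⟩ := hB
    exact ⟨φ, ctx.le _ hφ, hr⟩
  obtain ⟨-, -, hAr⟩ := saturated_fullyNormalized ctx.hS E ctx.satE hAnE
  intro φ hφ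
  obtain ⟨θ, hθ, hθA, hfin⟩ := exists_theta ctx hQS hA hQA hAr hφ
  apply hfin
  by_cases hex : ∃ g ∈ S, g ∈ Subgroup.normalizer (θ.range : Set Ω) ∧ (∀ a ∈ A, g * a = a * g) ∧
      g ∉ θ.range
  · obtain ⟨g, hgS, hgN, hgC, hgQ⟩ := hex
    exact theta_mem_of_exists ctx hQn ih hA hinv hθ hθA hgS hgN hgC hgQ
  · push Not at hex
    exact theta_mem_of_forall ctx hQn hA hinv hAn hθ hθA hex


/-- selection of `A` (Alperin's lemma) -/
theorem exists_good [Finite S] {p m : ℕ} [Fact p.Prime] {E F : FusionSystem S}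
    {H : Subgroup Ω} (ctx : Ctx p m E F H) {Q : Subgroup Ω} (hQS : Q ≤ S) :
    ∃ A, Good m H Q A ∧ ∀ g ∈ normalizerIn S Q, ∀ a ∈ A, g * a * g⁻¹ ∈ A := by
  have hNS : normalizerIn S Q ≤ S := inf_le_left
  have hfinN : Finite ↥(normalizerIn S Q) := finite_of_le hNS
  have hQ₀S : Q ⊓ H ≤ S := inf_le_left.trans hQS
  have hfinQ₀ : Finite ↥(Q ⊓ H) := finite_of_le hQ₀S
  obtain ⟨A, hAsm, hAmax⟩ := exists_max_smallInv m (normalizerIn S Q) (Q ⊓ H)
  have hQ₀N : Q ⊓ H ≤ normalizerIn S Q := inf_le_left.trans (le_normalizerIn_self hQS)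
  have hNQ₀ : ∀ g ∈ normalizerIn S Q, ∀ x ∈ Q ⊓ H, g * x * g⁻¹ ∈ Q ⊓ H := by
    rintro g ⟨hgS, hgN⟩ x ⟨hxQ, hxH⟩
    exact ⟨conj_mem_of_mem_normalizer hgN ⟨x, hxQ⟩, ctx.hSH g hgS x hxH⟩
  have hself := alperin_max ctx.hm (ctx.hS.to_le hNS) hQ₀N hNQ₀ hAsm hAmax
  refine ⟨A, ⟨hAsm.le.trans inf_le_left, hAsm.le.trans inf_le_right, hAsm.comm, hAsm.exp, ?_⟩,
    hAsm.inv⟩
  intro x hxQ hxH hxc hxm
  exact hself x ⟨hxQ, hxH⟩ hxc hxm

theorem congr_congr_symm {Q Q₁ : Subgroup Ω} (e : Q ≃* Q₁) (φ : MulAut Q) :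
    MulAut.congr e.symm (MulAut.congr e φ) = φ := by
  ext x
  simp [MulAut.congr]

/-- `Aut_F(Q) ≤ Aut_E(Q)` for fully normalized `Q`, given all maps on bigger subgroups -/
theorem aut_le [Finite S] {p m : ℕ} [Fact p.Prime] {E F : FusionSystem S}
    {H : Subgroup Ω} (ctx : Ctx p m E F H) {Q : Subgroup Ω} (hQn : F.IsFullyNormalized Q)
    (ih : ∀ R : Subgroup Ω, R ≤ S → Nat.card Q < Nat.card R → F.Hom R ⊆ E.Hom R) :
    F.autGroup Q ≤ E.autGroup Q := by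
  have hQS : Q ≤ S := hQn.1
  have hfinQ : Finite Q := finite_of_le hQS
  obtain ⟨A, hA, hinv⟩ := exists_good ctx hQS
  have hAS : A ≤ S := hA.leP.trans hQS
  have hNle : normalizerIn S Q ≤ normalizerIn S A := by
    intro g hg
    refine ⟨hg.1, mem_normalizer_of_forall (hinv g hg) (fun a ha => ?_)⟩
    have hg' : g⁻¹ ∈ normalizerIn S Q := Subgroup.inv_mem _ hg
    have := hinv g⁻¹ hg' a ha
    rwa [inv_inv] at this
  by_cases hne : Q = S
  · -- `A` is normal in `S`, hence fully normalized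
    have hAn : F.IsFullyNormalized A := by
      refine ⟨hAS, fun B _ => ?_⟩
      have h1 : normalizerIn S B ≤ normalizerIn S A := by
        intro g hg
        apply hNle
        rw [hne]
        exact ⟨hg.1, Subgroup.le_normalizer hg.1⟩
      have hfin : Finite ↥(normalizerIn S A) := finite_of_le inf_le_left
      exact Subgroup.card_le_of_le h1
    exact main_step ctx hQn ih hA hinv hAn
  · obtain ⟨B, hAB, hBn⟩ := exists_fullyNormalized_conj F hAS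
    obtain ⟨-, hBa, hBr⟩ := saturated_fullyNormalized ctx.hS F ctx.satF hBn
    obtain ⟨N₁⟩ := nonempty_normalizerHom ctx.hS F hBa hBr hAB
    have hfinNA : Finite ↥(normalizerIn S A) := finite_of_le inf_le_left
    have hfinNQ : Finite ↥(normalizerIn S Q) := finite_of_le inf_le_left
    have hQNA : Q ≤ normalizerIn S A := (le_normalizerIn_self hQS).trans hNle
    have hcard : Nat.card Q < Nat.card ↥(normalizerIn S A) :=
      lt_of_lt_of_le (card_lt_card_of_lt (lt_normalizerIn ctx.hS hQS hne)) (Subgroup.card_le_of_le hNle)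
    have hN₁E : N₁.φ ∈ E.Hom (normalizerIn S A) := ih _ inf_le_left hcard N₁.mem
    have hφinj : Function.Injective N₁.φ := N₁.injective
    set γ : Q →* Ω := N₁.φ.comp (Subgroup.inclusion hQNA) with hγdef
    have hγF : γ ∈ F.Hom Q := restrict_mem F N₁.mem hQNA
    have hγE : γ ∈ E.Hom Q := restrict_mem E hN₁E hQNA
    have hγapp : ∀ q : Q, γ q = N₁.φ ⟨q, hQNA q.2⟩ := fun q => rfl
    obtain ⟨e, he, hex⟩ := exists_iso_of_hom F hγF rfl
    have heE : IsIso E e := mem_of_forall_eq E hγE (fun x => hex x)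
    have hQ₁S : γ.range ≤ S := range_le F hγF
    have hfinNQ₁ : Finite ↥(normalizerIn S γ.range) := finite_of_le inf_le_left
    -- the map `N_S(Q) → N_S(Q₁)`
    have hmapN : ∀ n (hn : n ∈ normalizerIn S Q), N₁.φ ⟨n, hNle hn⟩ ∈ normalizerIn S γ.range := by
      have key : ∀ n (hn : n ∈ normalizerIn S Q), ∀ y ∈ γ.range,
          N₁.φ ⟨n, hNle hn⟩ * y * (N₁.φ ⟨n, hNle hn⟩)⁻¹ ∈ γ.range := by
        intro n hn y hy
        obtain ⟨q, rfl⟩ := MonoidHom.mem_range.mp hy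
        have hq' : n * (q : Ω) * n⁻¹ ∈ Q := conj_mem_of_mem_normalizer hn.2 q
        refine MonoidHom.mem_range.mpr ⟨⟨n * q * n⁻¹, hq'⟩, ?_⟩
        rw [hγapp, hγapp, ← map_inv, ← map_mul, ← map_mul]
        rfl
      intro n hn
      refine ⟨apply_mem F N₁.mem _, mem_normalizer_of_forall (key n hn) (fun y hy => ?_)⟩
      have hn' : n⁻¹ ∈ normalizerIn S Q := Subgroup.inv_mem _ hn
      have := key n⁻¹ hn' y hy
      have e1 : N₁.φ ⟨n⁻¹, hNle hn'⟩ = (N₁.φ ⟨n, hNle hn⟩)⁻¹ := by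
        rw [← map_inv]; rfl
      rw [e1, inv_inv] at this
      exact this
    let f : ↥(normalizerIn S Q) → ↥(normalizerIn S γ.range) := fun n =>
      ⟨N₁.φ ⟨n, hNle n.2⟩, hmapN n n.2⟩
    have hfinj : Function.Injective f := by
      intro a b hab
      have h1 : N₁.φ ⟨a, hNle a.2⟩ = N₁.φ ⟨b, hNle b.2⟩ := congrArg Subtype.val hab
      have h2 := hφinj h1
      exact Subtype.ext (congrArg (fun z : ↥(normalizerIn S A) => (z : Ω)) h2)
    have hconjQ : F.IsConj Q γ.range := ⟨γ, hγF, rfl⟩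
    have hcardle : Nat.card ↥(normalizerIn S γ.range) ≤ Nat.card ↥(normalizerIn S Q) :=
      hQn.2 _ hconjQ
    have hfbij : Function.Bijective f := by
      rw [Nat.bijective_iff_injective_and_card]
      exact ⟨hfinj, le_antisymm (Nat.card_le_card_of_injective f hfinj) hcardle⟩
    have hQ₁n : F.IsFullyNormalized γ.range := by
      refine ⟨hQ₁S, fun Q' hQ' => ?_⟩
      have h1 := hQn.2 Q' (isConj_trans F hconjQ hQ')
      exact h1.trans (Nat.card_le_card_of_injective f hfinj)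
    -- `B` as image of `A`
    have hBimg : ∀ b, b ∈ B ↔ ∃ (a : Ω) (ha : a ∈ A), N₁.φ ⟨a, le_normalizerIn_self hAS ha⟩ = b := by
      intro b
      constructor
      · intro hb
        obtain ⟨x, hx⟩ := N₁.exists_preimage hAS hb
        exact ⟨x, x.2, hx⟩
      · rintro ⟨a, ha, rfl⟩
        exact N₁.apply_mem_of_mem hAS ⟨a, ha⟩
    obtain ⟨φi, hφi, -, hφi1, -⟩ := exists_inv F N₁.mem (rfl : N₁.φ.range = N₁.φ.range)
    have hgood₁ : Good m H γ.range B := by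
      refine ⟨?_, ?_, ?_, ?_, ?_⟩
      · intro b hb
        obtain ⟨a, ha, rfl⟩ := (hBimg b).mp hb
        exact MonoidHom.mem_range.mpr ⟨⟨a, hA.leP ha⟩, rfl⟩
      · intro b hb
        obtain ⟨a, ha, rfl⟩ := (hBimg b).mp hb
        exact ctx.closed _ _ N₁.mem _ (hA.leH ha)
      · intro b hb b' hb'
        obtain ⟨a, ha, rfl⟩ := (hBimg b).mp hb
        obtain ⟨a', ha', rfl⟩ := (hBimg b').mp hb'
        rw [← map_mul, ← map_mul]
        congr 1
        exact Subtype.ext (hA.comm a ha a' ha')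
      · intro b hb
        obtain ⟨a, ha, rfl⟩ := (hBimg b).mp hb
        rw [← map_pow]
        have : (⟨a, le_normalizerIn_self hAS ha⟩ : ↥(normalizerIn S A)) ^ m = 1 :=
          Subtype.ext (by simpa using hA.exp a ha)
        rw [this, map_one]
      · intro x hx hxH hxc hxm
        obtain ⟨q, rfl⟩ := MonoidHom.mem_range.mp hx
        rw [hγapp] at hxH hxc hxm ⊢
        have hqH : (q : Ω) ∈ H := by
          have h4 := ctx.closed _ φi hφi ⟨N₁.φ ⟨q, hQNA q.2⟩, MonoidHom.mem_range.mpr ⟨_, rfl⟩⟩ hxH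
          rwa [hφi1 ⟨q, hQNA q.2⟩] at h4
        have hqc : ∀ a ∈ A, (q : Ω) * a = a * (q : Ω) := by
          intro a ha
          have h1 := hxc _ ((hBimg _).mpr ⟨a, ha, rfl⟩)
          rw [← map_mul, ← map_mul] at h1
          exact congrArg (fun z : ↥(normalizerIn S A) => (z : Ω)) (hφinj h1)
        have hqm : (q : Ω) ^ m = 1 := by
          rw [← map_pow] at hxm
          have h1 := hφinj (hxm.trans (map_one N₁.φ).symm)
          have := congrArg (fun z : ↥(normalizerIn S A) => (z : Ω)) h1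
          simpa using this
        have hqA : (q : Ω) ∈ A := hA.self q q.2 hqH hqc hqm
        exact (hBimg _).mpr ⟨q, hqA, rfl⟩
    have hinv₁ : ∀ g ∈ normalizerIn S γ.range, ∀ b ∈ B, g * b * g⁻¹ ∈ B := by
      intro g hg b hb
      obtain ⟨n, hn⟩ := hfbij.2 ⟨g, hg⟩
      have hgn : N₁.φ ⟨n, hNle n.2⟩ = g := congrArg Subtype.val hn
      have h1 := N₁.maps ⟨n, hNle n.2⟩
      rw [hgn] at h1
      exact conj_mem_of_mem_normalizer h1.2 ⟨b, hb⟩
    have ih₁ : ∀ R : Subgroup Ω, R ≤ S → Nat.card ↥γ.range < Nat.card R → F.Hom R ⊆ E.Hom R := by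
      intro R hRS hR
      apply ih R hRS
      rwa [Nat.card_congr e.toEquiv]
    have hmain := main_step ctx hQ₁n ih₁ hgood₁ hinv₁ hBn
    intro φ hφ
    have h1 := hmain (congr_mem_autGroup he hφ)
    have h2 := congr_mem_autGroup heE.symm h1
    rwa [congr_congr_symm] at h2

/-- the Benson–Grodal–Henke theorem in abstract form -/
theorem le_of_ctx [Finite S] {p m : ℕ} [Fact p.Prime] {E F : FusionSystem S}
    {H : Subgroup Ω} (ctx : Ctx p m E F H) : ∀ P : Subgroup Ω, F.Hom P ⊆ E.Hom P := by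
  refine alperin_induction p ctx.hS F ctx.satF E ?_ ?_
  · refine aut_le ctx (top_fullyNormalized F) (fun R hRS hR => ?_)
    have := card_le_card_of_le_of_finite hRS
    omega
  · intro P hPn _ ih
    exact aut_le ctx hPn ih

end Cfsg.Agent.Lib.helper17.BGH2
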