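import Mathlib
import Cfsg.Agent.Lib.helper17.BGH1
import Cfsg.Agent.Lib.helper17.FusSmall
import Cfsg.Agent.Lib.Helper26.FusionHyp2
import Cfsg.Agent.Lib.Helper26.AlperinInd

set_option autoImplicit false

namespace Cfsg.Agent.Lib.helper17.BGH3

open Cfsg Cfsg.FusionSystem Cfsg.Agent.Lib.Helper26 Cfsg.Agent.Lib.helper17.BGH1
  Cfsg.Agent.Lib.helper17.FusSmall

open scoped commutatorElement

/-! ### group-theoretic part -/

/-- a nontrivial finite `p`-group has a proper subgroup containing all `p`-th powers and all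
commutators -/
theorem exists_proper_pow_comm {P : Type*} [Group P] [Finite P] [Nontrivial P] {p : ℕ}
    [Fact p.Prime] (hP : IsPGroup p P) :
    ∃ M : Subgroup P, M ≠ ⊤ ∧ (∀ x : P, x ^ p ∈ M) ∧ (∀ x y : P, x * y * x⁻¹ * y⁻¹ ∈ M) := by
  classical
  have hnil : Group.IsNilpotent P := hP.isNilpotent
  have hlt : commutator P < ⊤ := Group.IsSolvable.commutator_lt_top_of_nontrivial P
  have hnt : Nontrivial (Abelianization P) := QuotientGroup.nontrivial_iff.mpr hlt.ne
  have hfin : Finite (Abelianization P) := by unfold Abelianization; infer_instance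
  have hAp : IsPGroup p (Abelianization P) := hP.to_quotient (commutator P)
  let f : Abelianization P →* Abelianization P := powMonoidHom p
  -- `f` is not injective
  have hninj : ¬ Function.Injective f := by
    intro hinj
    have hcard : p ∣ Nat.card (Abelianization P) := by
      obtain ⟨n, hn⟩ := IsPGroup.iff_card.mp hAp
      have hn0 : n ≠ 0 := by
        rintro rfl
        rw [pow_zero] at hn
        have := (Nat.card_eq_one_iff_unique.mp hn).1
        exact not_subsingleton (Abelianization P) this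
      rw [hn]
      exact dvd_pow_self p hn0
    obtain ⟨g, hg⟩ := exists_prime_orderOf_dvd_card' p hcard
    have h1 : f g = f 1 := by
      show g ^ p = 1 ^ p
      rw [one_pow, ← hg, pow_orderOf_eq_one]
    have := hinj h1
    rw [this, orderOf_one] at hg
    exact (Fact.out : p.Prime).one_lt.ne hg
  have hnsurj : ¬ Function.Surjective f := fun h => hninj (Finite.injective_iff_surjective.mpr h)
  refine ⟨f.range.comap Abelianization.of, ?_, ?_, ?_⟩
  · intro htop
    apply hnsurj
    intro y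
    obtain ⟨x, rfl⟩ := QuotientGroup.mk_surjective y
    have : x ∈ f.range.comap Abelianization.of := by rw [htop]; trivial
    exact this
  · intro x
    show Abelianization.of (x ^ p) ∈ f.range
    exact ⟨Abelianization.of x, by rw [map_pow]; rfl⟩
  · intro x y
    show Abelianization.of (x * y * x⁻¹ * y⁻¹) ∈ f.range
    have : Abelianization.of (x * y * x⁻¹ * y⁻¹) = 1 := by
      simp only [map_mul, map_inv]
      rw [mul_comm (Abelianization.of x) (Abelianization.of y)]
      simp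
    rw [this]
    exact f.range.one_mem

theorem eq_top_of_quot {R : Type*} [Group R] [Finite R] {p : ℕ} [Fact p.Prime]
    (hR : IsPGroup p R) (K : Subgroup (MulAut R)) (a : MulAut R) (hcop : (orderOf a).Coprime p)
    (ha1 : a ≠ 1)
    (hfix : ∀ M : Subgroup R, (∀ κ ∈ K, ∀ z ∈ M, κ z ∈ M) → M ≠ ⊤ → ∀ z ∈ M, a z = z)
    (M : Subgroup R) (hinv : ∀ κ ∈ K, ∀ z ∈ M, κ z ∈ M) (hquot : ∀ x : R, x⁻¹ * a x ∈ M) :
    M = ⊤ := by
  by_contra hne
  apply ha1
  ext x
  exact fix_of_quot hR a hcop x (hfix M hinv hne _ (hquot x))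

/-- a `p'`-automorphism acting trivially on all proper subgroups invariant under a group `K` of
automorphisms (containing it) can only exist if the group has small exponent -/
theorem exp_of_minimal {R : Type*} [Group R] [Finite R] {p m : ℕ} [Fact p.Prime] (hm : IsExp p m)
    (hR : IsPGroup p R) (K : Subgroup (MulAut R)) (a : MulAut R) (hcop : (orderOf a).Coprime p)
    (ha1 : a ≠ 1)
    (hfix : ∀ M : Subgroup R, (∀ κ ∈ K, ∀ z ∈ M, κ z ∈ M) → M ≠ ⊤ → ∀ z ∈ M, a z = z) :
    ∀ x : R, x ^ m = 1 := by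
  classical
  have hnt : Nontrivial R := by
    by_contra h
    rw [not_nontrivial_iff_subsingleton] at h
    apply ha1
    ext x
    exact Subsingleton.elim _ _
  obtain ⟨M₀, hM₀, hpow, hcomm⟩ := exists_proper_pow_comm hR
  set G : Set R := {y | ∃ x : R, y = x ^ p} ∪ {y | ∃ x z : R, y = x * z * x⁻¹ * z⁻¹} with hG
  set Φ : Subgroup R := Subgroup.closure G with hΦ
  have hΦM : Φ ≤ M₀ := by
    rw [hΦ, Subgroup.closure_le]
    rintro y (⟨x, rfl⟩ | ⟨x, z, rfl⟩)
    · exact hpow x
    · exact hcomm x z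
  have hΦne : Φ ≠ ⊤ := by
    intro h
    apply hM₀
    rw [eq_top_iff, ← h]
    exact hΦM
  have hΦinv : ∀ κ : MulAut R, ∀ z ∈ Φ, κ z ∈ Φ := by
    intro κ z hz
    have : Φ ≤ Φ.comap κ.toMonoidHom := by
      rw [hΦ, Subgroup.closure_le]
      rintro y (⟨x, rfl⟩ | ⟨x, z, rfl⟩)
      · change κ (x ^ p) ∈ Subgroup.closure G
        rw [map_pow]
        exact Subgroup.subset_closure (Or.inl ⟨κ x, rfl⟩)
      · change κ (x * z * x⁻¹ * z⁻¹) ∈ Subgroup.closure G
        rw [map_mul, map_mul, map_mul, map_inv, map_inv]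
        exact Subgroup.subset_closure (Or.inr ⟨κ x, κ z, rfl⟩)
    exact this hz
  have hΦfix : ∀ z ∈ Φ, a z = z := hfix Φ (fun κ _ => hΦinv κ) hΦne
  -- centrality
  have hconjΦ : ∀ x : R, ∀ f ∈ Φ, x * f * x⁻¹ ∈ Φ := by
    intro x f hf
    have : x * f * x⁻¹ = (x * f * x⁻¹ * f⁻¹) * f := by group
    rw [this]
    exact Φ.mul_mem (Subgroup.subset_closure (Or.inr ⟨x, f, rfl⟩)) hf
  have hC : Subgroup.centralizer (Φ : Set R) = ⊤ := by
    apply eq_top_of_quot hR K a hcop ha1 hfix
    · intro κ hκ z hz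
      rw [Subgroup.mem_centralizer_iff] at hz ⊢
      intro f hf
      have h1 := hz (κ⁻¹ f) (hΦinv κ⁻¹ f hf)
      have h2 := congrArg κ h1
      rw [map_mul, map_mul] at h2
      simpa using h2
    · intro x
      rw [Subgroup.mem_centralizer_iff]
      intro f hf
      have h1 := hΦfix _ (hconjΦ x f hf)
      rw [map_mul, map_mul, map_inv, hΦfix f hf] at h1
      have h2 : x⁻¹ * a x * f = x⁻¹ * (a x * f * (a x)⁻¹) * a x := by group
      rw [h2, h1]
      group
  have hcent : ∀ f ∈ Φ, ∀ x : R, f * x = x * f := by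
    intro f hf x
    have hx : x ∈ Subgroup.centralizer (Φ : Set R) := by rw [hC]; trivial
    exact Subgroup.mem_centralizer_iff.mp hx f hf
  -- small elements form a subgroup
  have hmul : ∀ x y : R, x ^ m = 1 → y ^ m = 1 → (x * y) ^ m = 1 := by
    intro x y hx hy
    set z := y⁻¹ * x⁻¹ * y * x with hzdef
    have hzΦ : z ∈ Φ := Subgroup.subset_closure (Or.inr ⟨y⁻¹, x⁻¹, by rw [hzdef]; simp⟩)
    have hz : y * x = x * y * z := by rw [hzdef]; group
    have hzx : z * x = x * z := hcent z hzΦ x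
    have hzy : z * y = y * z := hcent z hzΦ y
    have hzp : z ^ p = 1 := by
      have h1 := pow_mul_comm_class2 x y z hz hzy p
      have h2 : y ^ p * x = x * y ^ p := hcent _ (Subgroup.subset_closure (Or.inl ⟨y, rfl⟩)) x
      rw [h2] at h1
      have := mul_left_cancel (a := x * y ^ p) (b := 1) (c := z ^ p) (by rw [mul_one]; exact h1)
      exact this.symm
    rw [pow_mul_class2 x y z hz hzx hzy m, hx, hy, one_mul, one_mul]
    rcases hm with ⟨hp2, rfl⟩ | ⟨hp2, rfl⟩
    · have hp : m.Prime := Fact.out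
      have hlt : 2 < m := lt_of_le_of_ne hp.two_le (Ne.symm hp2)
      obtain ⟨k, hk⟩ := hp.dvd_choose_self (by norm_num) hlt
      rw [hk, pow_mul, hzp, one_pow]
    · have h6 : Nat.choose 4 2 = 2 * 3 := by decide
      have hz2 : z ^ 2 = 1 := by rw [← hp2]; exact hzp
      rw [h6, pow_mul, hz2, one_pow]
  let Sm : Subgroup R :=
    { carrier := {x | x ^ m = 1}
      mul_mem' := fun {x y} hx hy => hmul x y hx hy
      one_mem' := one_pow m
      inv_mem' := fun {x} hx => by
        show (x⁻¹) ^ m = 1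
        rw [inv_pow, show x ^ m = 1 from hx, inv_one] }
  have hSm : Sm = ⊤ := by
    by_contra hne
    have hfixS := hfix Sm (fun κ _ z hz => by
      show (κ z) ^ m = 1
      rw [← map_pow, show z ^ m = 1 from hz, map_one]) hne
    apply ha1
    have h := Cfsg.Agent.Lib.Helper27.aut_fix_of_fix_small a hcop ⊤ (hR.to_subgroup ⊤)
      (fun _ _ => trivial) (fun _ _ => trivial) ?_
    · ext x
      exact h x trivial
    · intro x _ hsmall
      apply hfixS
      show x ^ m = 1
      rcases hm with ⟨hp2, rfl⟩ | ⟨hp2, rfl⟩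
      · rcases hsmall with h | ⟨h, -⟩
        · exact h
        · exact absurd h hp2
      · rcases hsmall with h | ⟨-, h⟩
        · rw [hp2] at h
          have : x ^ 4 = (x ^ 2) ^ 2 := by rw [← pow_mul]
          rw [this, h, one_pow]
        · exact h
  intro x
  have : x ∈ Sm := by rw [hSm]; trivial
  exact this


/-! ### fusion systems -/

variable {Ω : Type*} [Group Ω] {S : Subgroup Ω}

/-- the hyperfocal subgroup is strongly closed -/
theorem hyp_closed [Finite S] {p : ℕ} [Fact p.Prime] (hS : IsPGroup p S) (F : FusionSystem S)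
    (hF : F.IsSaturated p) (P : Subgroup Ω) (φ : P →* Ω) (hφ : φ ∈ F.Hom P) (x : P)
    (hx : (x : Ω) ∈ F.hyperfocalSubgroup p) : φ x ∈ F.hyperfocalSubgroup p := by
  have hnorm := le_normalizer_hyperfocal F p
  obtain ⟨-, hcos⟩ := le_cosetSystem hS F hF (F.hyperfocalSubgroup p) hnorm le_rfl P hφ
  obtain ⟨s, hs, hsn⟩ := hcos x
  have h1 := conj_mem_of_le_normalizer hnorm hs hx
  have := Subgroup.mul_mem _ h1 hsn
  rwa [mul_inv_cancel_left] at this

/-- a map of `F` defined on a subgroup containing `S` preserves the lower central series of `S` -/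
theorem top_hom_lcs (F : FusionSystem S) {T : Subgroup Ω} (hST : S ≤ T) {χ : T →* Ω}
    (hχ : χ ∈ F.Hom T) : ∀ (i : ℕ) (y : Ω) (hy : y ∈ T), y ∈ S.lowerCentralSeries i →
      χ ⟨y, hy⟩ ∈ S.lowerCentralSeries i := by
  intro i
  induction i with
  | zero =>
    intro y hy _
    exact apply_mem F hχ _
  | succ i ih =>
    intro y hy hyL
    have hle : S.lowerCentralSeries (i + 1) ≤ T := (lcs_le (i + 1)).trans hST
    rw [Subgroup.lowerCentralSeries_succ, Subgroup.commutator_def] at hyL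
    revert hy
    induction hyL using Subgroup.closure_induction with
    | mem y hy' =>
      intro hy
      obtain ⟨a, ha, b, hb, rfl⟩ := hy'
      have haT : a ∈ T := hST (lcs_le i ha)
      have hbT : b ∈ T := hST hb
      have e : χ ⟨⁅a, b⁆, hy⟩ = ⁅χ ⟨a, haT⟩, χ ⟨b, hbT⟩⁆ := by
        have : (⟨⁅a, b⁆, hy⟩ : T) = ⁅(⟨a, haT⟩ : T), ⟨b, hbT⟩⁆ := Subtype.ext rfl
        rw [this, map_commutatorElement]
      rw [e, Subgroup.lowerCentralSeries_succ]
      exact Subgroup.commutator_mem_commutator (ih a haT ha) (apply_mem F hχ _)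
    | one =>
      intro hy
      have : (⟨1, hy⟩ : T) = 1 := rfl
      rw [this, map_one]
      exact Subgroup.one_mem _
    | mul y z hy' hz' ihy ihz =>
      intro hyz
      have hyT : y ∈ T := hle (by rw [Subgroup.lowerCentralSeries_succ, Subgroup.commutator_def]; exact hy')
      have hzT : z ∈ T := hle (by rw [Subgroup.lowerCentralSeries_succ, Subgroup.commutator_def]; exact hz')
      have : (⟨y * z, hyz⟩ : T) = ⟨y, hyT⟩ * ⟨z, hzT⟩ := rfl
      rw [this, map_mul]
      exact Subgroup.mul_mem _ (ihy hyT) (ihz hzT)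
    | inv y hy' ihy =>
      intro hyi
      have hyT : y ∈ T := hle (by rw [Subgroup.lowerCentralSeries_succ, Subgroup.commutator_def]; exact hy')
      have : (⟨y⁻¹, hyi⟩ : T) = (⟨y, hyT⟩ : T)⁻¹ := rfl
      rw [this, map_inv]
      exact Subgroup.inv_mem _ (ihy hyT)

/-- hypothesis of the theorem -/
def CycHyp (F : FusionSystem S) (p : ℕ) : Prop :=
  ∀ A B : Subgroup Ω, A ≤ F.hyperfocalSubgroup p → B ≤ F.hyperfocalSubgroup p → IsCyclic ↥A →
    (Nat.card ↥A = p ∨ Nat.card ↥A = 4) → IsCyclic ↥B → (Nat.card ↥B = p ∨ Nat.card ↥B = 4) →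
    F.homSet A B ⊆ F.normalizerHom S A

/-- small elements of the hyperfocal subgroup stay in the same term of the lower central series -/
theorem small_lcs {p : ℕ} [Fact p.Prime] (F : FusionSystem S) (hcyc : CycHyp F p)
    {P : Subgroup Ω} (hPS : P ≤ S) {φ : MulAut P} (hφ : φ ∈ F.autGroup P) (x : P)
    (hxH : (x : Ω) ∈ F.hyperfocalSubgroup p)
    (hφxH : ((φ x : P) : Ω) ∈ F.hyperfocalSubgroup p)
    (hx : x ^ p = 1 ∨ (p = 2 ∧ x ^ 4 = 1)) (i : ℕ)
    (hxL : (x : Ω) ∈ S.lowerCentralSeries i) : ((φ x : P) : Ω) ∈ S.lowerCentralSeries i := by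
  by_cases hx1 : x = 1
  · rw [hx1, map_one]
    exact Subgroup.one_mem _
  have hxo : orderOf (x : Ω) = p ∨ orderOf (x : Ω) = 4 := by
    rw [Subgroup.orderOf_coe]
    rcases hx with hx | ⟨hp2, hx⟩
    · left
      exact orderOf_eq_prime hx hx1
    · have hd : orderOf x ∣ 2 ^ 2 := orderOf_dvd_of_pow_eq_one (by norm_num; exact hx)
      obtain ⟨j, hj, hjo⟩ := (Nat.dvd_prime_pow Nat.prime_two).mp hd
      interval_cases j
      · exfalso
        exact hx1 (orderOf_eq_one_iff.mp (by simpa using hjo))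
      · left
        rw [hjo, hp2]
        norm_num
      · right
        rw [hjo]
        norm_num
  have hyo : orderOf (((φ x : P)) : Ω) = orderOf (x : Ω) := by
    rw [Subgroup.orderOf_coe, Subgroup.orderOf_coe]
    exact MulEquiv.orderOf_eq φ x
  have hAP : Subgroup.zpowers (x : Ω) ≤ P := Subgroup.zpowers_le.mpr x.2
  have hψ : (P.subtype.comp φ.toMonoidHom).comp (Subgroup.inclusion hAP) ∈
      F.Hom (Subgroup.zpowers (x : Ω)) :=
    restrict_mem F ((mem_autGroup_iff F hPS).mp hφ) hAP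
  have hψB : ∀ z : Subgroup.zpowers (x : Ω),
      ((P.subtype.comp φ.toMonoidHom).comp (Subgroup.inclusion hAP)) z ∈
        Subgroup.zpowers (((φ x : P)) : Ω) := by
    rintro ⟨z, m, rfl⟩
    refine ⟨m, ?_⟩
    show ((φ x : P) : Ω) ^ m = ((φ ⟨(x : Ω) ^ m, _⟩ : P) : Ω)
    have e : (⟨(x : Ω) ^ m, hAP ⟨m, rfl⟩⟩ : P) = x ^ m := Subtype.ext (by simp)
    rw [e, map_zpow]
    simp
  have hin := hcyc (Subgroup.zpowers (x : Ω)) (Subgroup.zpowers (((φ x : P)) : Ω))
    (Subgroup.zpowers_le.mpr hxH) (Subgroup.zpowers_le.mpr hφxH)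
    inferInstance (by rw [Nat.card_zpowers]; exact hxo) inferInstance
    (by rw [Nat.card_zpowers, hyo]; exact hxo) ⟨hψ, hψB⟩
  obtain ⟨-, -, -, χ, hχ, hχext, -⟩ := hin
  have h1 := hχext ⟨(x : Ω), Subgroup.mem_zpowers _⟩
  have h2 : ((φ x : P) : Ω) =
      χ (Subgroup.inclusion le_sup_left ⟨(x : Ω), Subgroup.mem_zpowers _⟩) := by
    rw [h1]; rfl
  rw [h2]
  exact top_hom_lcs F le_sup_right hχ i _ _ hxL


/-- `O^{p'}(Aut_F(R))`: the subgroup of `Aut_F(R)` generated by its `p`-elements -/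
def Opp (F : FusionSystem S) (p : ℕ) (R : Subgroup Ω) : Subgroup ↥(F.autGroup R) :=
  Subgroup.closure {β | ∃ k : ℕ, β ^ (p ^ k) = 1}

/-- `Aut_F(R)` is `p`-closed -/
def PC (F : FusionSystem S) (p : ℕ) (R : Subgroup Ω) : Prop := IsPGroup p ↥(Opp F p R)

theorem map_opp_le (F : FusionSystem S) (p : ℕ) {R R' : Subgroup Ω}
    (f : ↥(F.autGroup R) →* ↥(F.autGroup R')) : (Opp F p R).map f ≤ Opp F p R' := by
  rw [Subgroup.map_le_iff_le_comap]
  unfold Opp
  rw [Subgroup.closure_le]
  rintro β ⟨k, hk⟩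
  refine Subgroup.subset_closure ⟨k, ?_⟩
  rw [← map_pow, hk, map_one]

/-- transport of `p`-closedness along an isomorphism of `F` -/
theorem pc_of_iso (F : FusionSystem S) (p : ℕ) {R R' : Subgroup Ω} (e : R ≃* R') (he : IsIso F e)
    (h : PC F p R') : PC F p R := by
  let f : ↥(F.autGroup R) →* ↥(F.autGroup R') :=
    ((MulAut.congr e).toMonoidHom.comp (F.autGroup R).subtype).codRestrict (F.autGroup R')
      (fun β => congr_mem_autGroup he β.2)
  have hfinj : Function.Injective f := by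
    intro a b hab
    have h1 : MulAut.congr e (a : MulAut R) = MulAut.congr e (b : MulAut R) :=
      congrArg Subtype.val hab
    exact Subtype.ext ((MulAut.congr e).injective h1)
  rintro ⟨β, hβ⟩
  have h1 : f β ∈ Opp F p R' := map_opp_le F p f ⟨β, hβ, rfl⟩
  obtain ⟨k, hk⟩ := h ⟨f β, h1⟩
  refine ⟨k, ?_⟩
  apply Subtype.ext
  apply hfinj
  have h2 : (f β) ^ (p ^ k) = 1 := congrArg Subtype.val hk
  rw [Subgroup.coe_pow, map_pow]
  exact h2.trans (map_one f).symm

/-- restriction to an invariant subgroup as a homomorphism -/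
noncomputable def resHom (F : FusionSystem S) {P R : Subgroup Ω} [Finite R] (hPS : P ≤ S)
    (hRP : R ≤ P)
    (hinv : ∀ κ ∈ F.autGroup P, ∀ z (hz : z ∈ R), ((κ ⟨z, hRP hz⟩ : P) : Ω) ∈ R) :
    ↥(F.autGroup P) →* ↥(F.autGroup R) where
  toFun κ := ⟨restrictAut κ.1 R hRP (hinv κ.1 κ.2),
    restrictAut_mem_autGroup F hPS κ.2 R hRP (hinv κ.1 κ.2)⟩
  map_one' := by
    apply Subtype.ext
    ext z
    rfl
  map_mul' a b := by
    apply Subtype.ext
    ext z
    rfl

theorem resHom_apply (F : FusionSystem S) {P R : Subgroup Ω} [Finite R] (hPS : P ≤ S)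
    (hRP : R ≤ P)
    (hinv : ∀ κ ∈ F.autGroup P, ∀ z (hz : z ∈ R), ((κ ⟨z, hRP hz⟩ : P) : Ω) ∈ R)
    (κ : ↥(F.autGroup P)) (z : R) :
    ((((resHom F hPS hRP hinv κ : ↥(F.autGroup R)) : MulAut R) z : R) : Ω) =
      (((κ : MulAut P) ⟨z, hRP z.2⟩ : P) : Ω) := rfl

end Cfsg.Agent.Lib.helper17.BGH3
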