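import Mathlib
import Cfsg.Agent.Lib.helper17.BGH3
import Cfsg.Agent.Lib.Helper26.FusionFully
import Cfsg.Agent.Lib.Helper26.FusionSat2

set_option autoImplicit false

namespace Cfsg.Agent.Lib.helper17.BGH4

open Cfsg Cfsg.FusionSystem Cfsg.Agent.Lib.Helper26 Cfsg.Agent.Lib.helper17.BGH1
  Cfsg.Agent.Lib.helper17.FusSmall Cfsg.Agent.Lib.helper17.BGH3

variable {Ω : Type*} [Group Ω] {S : Subgroup Ω}

/-- data of a minimal counterexample to `p`-closedness of the automizers -/
structure Ctr (F : FusionSystem S) (p : ℕ) (P : Subgroup Ω) (q : ℕ) (a : MulAut P) : Prop where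
  le : P ≤ S
  mem : a ∈ F.autGroup P
  opp : ∀ h : a ∈ F.autGroup P, (⟨a, h⟩ : F.autGroup P) ∈ Opp F p P
  prime : q.Prime
  ne : q ≠ p
  ord : orderOf a = q
  ih : ∀ R : Subgroup Ω, R ≤ P → R ≠ P → PC F p R

variable [Finite S] {p : ℕ} [Fact p.Prime] {F : FusionSystem S} {P : Subgroup Ω} {q : ℕ}
  {a : MulAut P}

theorem Ctr.coprime (hc : Ctr F p P q a) : (orderOf a).Coprime p := by
  rw [hc.ord]
  exact (Nat.coprime_primes hc.prime (Fact.out : p.Prime)).mpr hc.ne

theorem Ctr.ne_one (hc : Ctr F p P q a) : a ≠ 1 := by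
  intro h1
  have := hc.ord
  rw [h1, orderOf_one] at this
  exact hc.prime.one_lt.ne this

theorem Ctr.pow_eq_one (hc : Ctr F p P q a) : a ^ q = 1 := by
  rw [← hc.ord]
  exact pow_orderOf_eq_one a

theorem Ctr.fix_sub (hc : Ctr F p P q a) (M : Subgroup ↥P)
    (hinv : ∀ κ ∈ F.autGroup P, ∀ z ∈ M, κ z ∈ M) (hne : M ≠ ⊤) : ∀ z ∈ M, a z = z := by
  classical
  have : Finite P := finite_of_le hc.le
  set R : Subgroup Ω := M.map P.subtype with hR
  have hRP : R ≤ P := by
    rintro _ ⟨z, -, rfl⟩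
    exact z.2
  have : Finite R := finite_of_le (hRP.trans hc.le)
  have hinv' : ∀ κ ∈ F.autGroup P, ∀ z (hz : z ∈ R), ((κ ⟨z, hRP hz⟩ : P) : Ω) ∈ R := by
    rintro κ hκ _ ⟨z, hz, rfl⟩
    exact ⟨κ z, hinv κ hκ z hz, rfl⟩
  have hRne : R ≠ P := by
    intro h
    apply hne
    rw [eq_top_iff]
    intro x _
    have hx : (x : Ω) ∈ R := by rw [h]; exact x.2
    obtain ⟨z, hz, hzx⟩ := hx
    have : z = x := Subtype.ext hzx
    rwa [← this]
  have hpc := hc.ih R hRP hRne
  have h1 : resHom F hc.le hRP hinv' ⟨a, hc.mem⟩ ∈ Opp F p R :=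
    map_opp_le F p _ ⟨_, hc.opp hc.mem, rfl⟩
  have h2 : (⟨resHom F hc.le hRP hinv' ⟨a, hc.mem⟩, h1⟩ : Opp F p R) ^ q = 1 := by
    apply Subtype.ext
    rw [Subgroup.coe_pow]
    show (resHom F hc.le hRP hinv' ⟨a, hc.mem⟩) ^ q = 1
    rw [← map_pow]
    have : (⟨a, hc.mem⟩ : F.autGroup P) ^ q = 1 := by
      apply Subtype.ext
      rw [Subgroup.coe_pow]
      exact hc.pow_eq_one
    rw [this, map_one]
  have h3 := eq_one_of_pow_prime hc.prime hc.ne hpc h2
  have h4 : resHom F hc.le hRP hinv' ⟨a, hc.mem⟩ = 1 := congrArg Subtype.val h3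
  intro z hz
  have h5 := resHom_apply F hc.le hRP hinv' ⟨a, hc.mem⟩ ⟨z, ⟨z, hz, rfl⟩⟩
  rw [h4] at h5
  apply Subtype.ext
  exact h5.symm

theorem Ctr.le_hyp (hS : IsPGroup p S) (hF : F.IsSaturated p) (hc : Ctr F p P q a) :
    ∀ x : P, (x : Ω) ∈ F.hyperfocalSubgroup p := by
  have hPp : IsPGroup p P := hS.to_le hc.le
  have : Finite P := finite_of_le hc.le
  have h := eq_top_of_quot hPp (F.autGroup P) a hc.coprime hc.ne_one hc.fix_sub
    ((F.hyperfocalSubgroup p).subgroupOf P) ?_ ?_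
  · intro x
    have : x ∈ (F.hyperfocalSubgroup p).subgroupOf P := by rw [h]; trivial
    exact this
  · intro κ hκ z hz
    rw [Subgroup.mem_subgroupOf] at hz ⊢
    exact hyp_closed hS F hF P _ ((mem_autGroup_iff F hc.le).mp hκ) z hz
  · intro x
    rw [Subgroup.mem_subgroupOf]
    have hres : (⟨a, hc.mem⟩ : F.autGroup P) ∈ pResidual p (F.autGroup P) := by
      apply Subgroup.subset_closure
      show Nat.Coprime (orderOf (⟨a, hc.mem⟩ : F.autGroup P)) p
      rw [Subgroup.orderOf_mk]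
      exact hc.coprime
    have := gen_mem_hyperfocal F p hc.le ⟨a, hc.mem⟩ hres x
    simpa using this

theorem Ctr.small (hS : IsPGroup p S) (hc : Ctr F p P q a) :
    ∀ x : P, x ^ p = 1 ∨ (p = 2 ∧ x ^ 4 = 1) := by
  have hPp : IsPGroup p P := hS.to_le hc.le
  have : Finite P := finite_of_le hc.le
  by_cases hp2 : p = 2
  · have hm : IsExp p 4 := Or.inr ⟨hp2, rfl⟩
    intro x
    exact Or.inr ⟨hp2, exp_of_minimal hm hPp (F.autGroup P) a hc.coprime hc.ne_one hc.fix_sub x⟩
  · have hm : IsExp p p := Or.inl ⟨hp2, rfl⟩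
    intro x
    exact Or.inl (exp_of_minimal hm hPp (F.autGroup P) a hc.coprime hc.ne_one hc.fix_sub x)

theorem Ctr.false (hS : IsPGroup p S) (hF : F.IsSaturated p) (hcyc : CycHyp F p)
    (hc : Ctr F p P q a) (hfa : F.IsFullyAutomized p P) : False := by
  classical
  have hPS := hc.le
  have hPp : IsPGroup p P := hS.to_le hc.le
  have : Finite P := finite_of_le hc.le
  have hle := hc.le_hyp hS hF
  have hsm := hc.small hS
  have hlcs : ∀ κ ∈ F.autGroup P, ∀ (x : P) (i : ℕ), (x : Ω) ∈ S.lowerCentralSeries i →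
      ((κ x : P) : Ω) ∈ S.lowerCentralSeries i :=
    fun κ hκ x i hx => small_lcs F hcyc hPS hκ x (hle x) (hle (κ x)) (hsm x) i hx
  let Stab : Subgroup ↥(F.autGroup P) :=
    { carrier := {κ | ∀ (i : ℕ) (x : P), (x : Ω) ∈ S.lowerCentralSeries i →
        ((x⁻¹ * (κ : MulAut P) x : P) : Ω) ∈ S.lowerCentralSeries (i + 1)}
      mul_mem' := by
        intro κ l hκ hl i x hx
        have e : x⁻¹ * ((κ * l : F.autGroup P) : MulAut P) x =
            (x⁻¹ * (l : MulAut P) x) *
              (((l : MulAut P) x)⁻¹ * (κ : MulAut P) ((l : MulAut P) x)) := by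
          rw [Subgroup.coe_mul, MulAut.mul_apply]
          group
        rw [e, Subgroup.coe_mul]
        exact Subgroup.mul_mem _ (hl i x hx) (hκ i _ (hlcs l.1 l.2 x i hx))
      one_mem' := by
        intro i x hx
        have e : x⁻¹ * ((1 : F.autGroup P) : MulAut P) x = 1 := by simp
        rw [e]
        exact Subgroup.one_mem _
      inv_mem' := by
        intro κ hκ i x hx
        have hy := hlcs (κ⁻¹ : F.autGroup P).1 (κ⁻¹ : F.autGroup P).2 x i hx
        have h1 := hκ i _ hy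
        have e : x⁻¹ * ((κ⁻¹ : F.autGroup P) : MulAut P) x =
            ((((κ⁻¹ : F.autGroup P) : MulAut P) x)⁻¹ *
              (κ : MulAut P) (((κ⁻¹ : F.autGroup P) : MulAut P) x))⁻¹ := by
          rw [Subgroup.coe_inv, MulAut.apply_inv_self]
          group
        rw [e, Subgroup.coe_inv]
        exact Subgroup.inv_mem _ h1 }
  have hStab : ∀ κ : F.autGroup P, κ ∈ Stab ↔ ∀ (i : ℕ) (x : P),
      (x : Ω) ∈ S.lowerCentralSeries i →
        ((x⁻¹ * (κ : MulAut P) x : P) : Ω) ∈ S.lowerCentralSeries (i + 1) := fun κ => Iff.rfl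
  have hnorm : ∀ μ κ : F.autGroup P, κ ∈ Stab → μ * κ * μ⁻¹ ∈ Stab := by
    intro μ κ hκ
    rw [hStab] at hκ ⊢
    intro i x hx
    have hyL := hlcs (μ⁻¹ : F.autGroup P).1 (μ⁻¹ : F.autGroup P).2 x i hx
    have h1 := hκ i _ hyL
    have h2 := hlcs μ.1 μ.2 _ (i + 1) h1
    have e : x⁻¹ * ((μ * κ * μ⁻¹ : F.autGroup P) : MulAut P) x =
        (μ : MulAut P) (((((μ⁻¹ : F.autGroup P) : MulAut P) x))⁻¹ *
          (κ : MulAut P) ((((μ⁻¹ : F.autGroup P) : MulAut P) x))) := by
      rw [map_mul, map_inv, Subgroup.coe_mul, Subgroup.coe_mul, Subgroup.coe_inv,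
        MulAut.mul_apply, MulAut.mul_apply, MulAut.apply_inv_self]
    rw [e]
    exact h2
  have hT : ∀ τ : F.autGroup P, (τ : MulAut P) ∈ autInducedBy S P → τ ∈ Stab := by
    intro τ hτ
    rw [hStab]
    intro i x hx
    obtain ⟨g, hg, hgτ⟩ := mem_autInducedBy_iff.mp hτ
    have h1 := comm_mem_lcs_succ hg hx
    have h2 := conj_mem_lcs (Subgroup.inv_mem _ (hPS x.2)) h1
    rw [Subgroup.coe_mul, Subgroup.coe_inv, hgτ x]
    convert h2 using 1
    group
  obtain ⟨-, Rs, hRs⟩ := hfa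
  have hpel : ∀ β : F.autGroup P, (∃ k : ℕ, β ^ (p ^ k) = 1) → β ∈ Stab := by
    rintro β ⟨k, hk⟩
    have hz : IsPGroup p (Subgroup.zpowers β) := by
      rintro ⟨γ, n, rfl⟩
      refine ⟨k, Subtype.ext ?_⟩
      show (β ^ n) ^ (p ^ k) = 1
      rw [← zpow_natCast, ← zpow_mul, mul_comm, zpow_mul, zpow_natCast, hk, one_zpow]
    obtain ⟨Q, hQ⟩ := hz.exists_le_sylow
    obtain ⟨h, hh⟩ := MulAction.exists_smul_eq ↥(F.autGroup P) Rs Q
    have hβQ : β ∈ (Q : Subgroup ↥(F.autGroup P)) := hQ (Subgroup.mem_zpowers β)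
    rw [← hh, Sylow.coe_subgroup_smul, Subgroup.mem_pointwise_smul_iff_inv_smul_mem] at hβQ
    have h3 : h⁻¹ * β * h ∈ (Rs : Subgroup ↥(F.autGroup P)) := by
      simpa [MulAut.smul_def, mul_assoc] using hβQ
    rw [hRs, Subgroup.mem_subgroupOf] at h3
    have h4 := hnorm h _ (hT _ h3)
    have e : h * (h⁻¹ * β * h) * h⁻¹ = β := by group
    rwa [e] at h4
  have hOpp : Opp F p P ≤ Stab := by
    unfold Opp
    rw [Subgroup.closure_le]
    intro β hβ
    exact hpel β hβ
  have haS : (⟨a, hc.mem⟩ : F.autGroup P) ∈ Stab := hOpp (hc.opp hc.mem)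
  rw [hStab] at haS
  have hnil : Group.IsNilpotent ↥S := hS.isNilpotent
  obtain ⟨c, hcb⟩ := (Subgroup.isNilpotent_iff_lowerCentralSeries S).mp hnil
  have hdown : ∀ d n : ℕ, c ≤ n + d → ∀ x : P, (x : Ω) ∈ S.lowerCentralSeries n → a x = x := by
    intro d
    induction d with
    | zero =>
      intro n hn x hx
      have hbot : S.lowerCentralSeries n = ⊥ := by
        have := Subgroup.lowerCentralSeries_antitone (S := S) (show c ≤ n by omega)
        rw [hcb] at this
        exact le_bot_iff.mp this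
      rw [hbot, Subgroup.mem_bot] at hx
      have hx1 : x = 1 := Subtype.ext hx
      rw [hx1, map_one]
    | succ d ih =>
      intro n hn x hx
      apply fix_of_quot hPp a hc.coprime x
      exact ih (n + 1) (by omega) _ (haS n x hx)
  apply hc.ne_one
  ext x
  have hx0 : (x : Ω) ∈ S.lowerCentralSeries 0 := by
    have := hPS x.2
    simpa using this
  rw [hdown c 0 (by omega) x hx0]
  rfl

/-- under the hypothesis on small cyclic subgroups of the hyperfocal subgroup, all automizers are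
`p`-closed -/
theorem pc_all (hS : IsPGroup p S) (F : FusionSystem S) (hF : F.IsSaturated p)
    (hcyc : CycHyp F p) : ∀ P : Subgroup Ω, P ≤ S → PC F p P := by
  intro P
  induction' hn : Nat.card P using Nat.strong_induction_on with n ih generalizing P
  intro hPS
  obtain ⟨Q, hPQ, hQfn⟩ := exists_fullyNormalized_conj F hPS
  obtain ⟨e, he⟩ := exists_iso_of_isConj F hPQ
  apply pc_of_iso F p e he
  have hQS : Q ≤ S := hQfn.1
  have hcard : Nat.card Q = Nat.card P := (Nat.card_congr e.toEquiv).symm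
  have hfa := (saturated_fullyNormalized hS F hF hQfn).2.1
  by_contra hnp
  have : Finite Q := finite_of_le hQS
  obtain ⟨q, β, hq, hqp, hβ⟩ := exists_prime_order' (A := ↥(Opp F p Q)) hnp
  obtain ⟨⟨a, ha⟩, hβO⟩ := β
  have hao : orderOf a = q := by
    rw [← hβ, Subgroup.orderOf_mk, Subgroup.orderOf_mk]
  have hc : Ctr F p Q q a :=
    { le := hQS
      mem := ha
      opp := fun _ => hβO
      prime := hq
      ne := hqp
      ord := hao
      ih := by
        intro R hRQ hne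
        have hlt : Nat.card R < Nat.card Q := card_lt_of_lt (lt_of_le_of_ne hRQ hne)
        exact ih _ (by omega) R rfl (hRQ.trans hQS) }
  exact hc.false hS hF hcyc hfa

theorem exists_normal_sylow (hS : IsPGroup p S) (F : FusionSystem S) (hF : F.IsSaturated p)
    (hcyc : CycHyp F p) (P : Subgroup Ω) (hPS : P ≤ S) :
    ∃ R : Sylow p ↥(F.autGroup P), (R : Subgroup ↥(F.autGroup P)).Normal := by
  have hpc := pc_all hS F hF hcyc P hPS
  have : Finite P := finite_of_le hPS
  obtain ⟨R⟩ : Nonempty (Sylow p ↥(F.autGroup P)) := inferInstance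
  have hle : (R : Subgroup ↥(F.autGroup P)) ≤ Opp F p P := by
    intro β hβ
    obtain ⟨k, hk⟩ := R.isPGroup' ⟨β, hβ⟩
    refine Subgroup.subset_closure ⟨k, ?_⟩
    exact congrArg Subtype.val hk
  have heq : Opp F p P = R := R.is_maximal' hpc hle
  refine ⟨R, ?_⟩
  rw [← heq]
  constructor
  intro n hn g
  have := map_opp_le F p (R := P) (R' := P) (MulAut.conj g).toMonoidHom ⟨n, hn, rfl⟩
  simpa using this

end Cfsg.Agent.Lib.helper17.BGH4
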