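import Mathlib
import Cfsg.Agent.Lib.helper17.BPM1
import Cfsg.Agent.Lib.helper17.Coatom2
import Cfsg.Agent.Lib.helper17.Amalgam3

set_option autoImplicit false

namespace Cfsg.Agent.Lib.helper17.BPM

open Cfsg.Agent.Lib.helper17 PMF1 PMF4

/-- A subgroup of index prime to `p` contains a conjugate of every Sylow `p`-subgroup. -/
theorem exists_cj_le_of_not_dvd_index {X : Type*} [Group X] [Finite X] {p : ℕ} [Fact p.Prime]
    (T : Sylow p X) {K : Subgroup X} (hK : ¬ p ∣ K.index) : ∃ g : X, cj g (T : Subgroup X) ≤ K := by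
  obtain ⟨P⟩ : Nonempty (Sylow p ↥K) := inferInstance
  have hS : SylIn p ((P : Subgroup ↥K).map K.subtype) K := by
    refine ⟨Subgroup.map_subtype_le _, P.isPGroup'.map _, ?_⟩
    have e : ((P : Subgroup ↥K).map K.subtype).subgroupOf K = (P : Subgroup ↥K) :=
      Subgroup.comap_map_eq_self_of_injective K.subtype_injective _
    unfold Subgroup.relIndex
    rw [e]
    exact P.not_dvd_index
  have hS' : SylIn p ((P : Subgroup ↥K).map K.subtype) ⊤ := by
    refine ⟨le_top, hS.pg, ?_⟩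
    rw [← Subgroup.relIndex_mul_relIndex _ K ⊤ hS.le le_top, Subgroup.relIndex_top_right]
    intro hd
    rcases (Nat.Prime.dvd_mul (Fact.out : p.Prime)).mp hd with h | h
    · exact hS.idx h
    · exact hK h
  obtain ⟨d, -, hd⟩ := (SylIn.of_sylow T).exists_conj hS'
  exact ⟨d, hd ▸ hS.le⟩

/-- The Frattini criterion behind the basic property. -/
theorem map_le_frattini_of_min {X : Type*} [Group X] [Finite X] {p : ℕ} [Fact p.Prime] (T : Sylow p X)
    (D : Subgroup X) [hDn : D.Normal] (hTD : (T : Subgroup X) ⊓ D ≤ Cfsg.pCore p X)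
    (hmin : ∀ K : Subgroup X, (T : Subgroup X) ≤ K → K ⊔ D = ⊤ → K = ⊤) :
    D.map (QuotientGroup.mk' (Cfsg.pCore p X)) ≤ frattini (X ⧸ Cfsg.pCore p X) := by
  unfold frattini Order.radical
  apply le_iInf₂
  intro Kb hKb
  by_contra hnot
  have hsurj := QuotientGroup.mk'_surjective (Cfsg.pCore p X)
  have hK : IsCoatom (Kb.comap (QuotientGroup.mk' (Cfsg.pCore p X))) :=
    isCoatom_comap_of_surjective hsurj hKb
  set K := Kb.comap (QuotientGroup.mk' (Cfsg.pCore p X)) with hKdef
  have hOK : Cfsg.pCore p X ≤ K := by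
    have := Subgroup.ker_le_comap (QuotientGroup.mk' (Cfsg.pCore p X)) Kb
    rwa [QuotientGroup.ker_mk'] at this
  have hDK : ¬ D ≤ K := by
    intro h
    apply hnot
    rw [Subgroup.map_le_iff_le_comap]
    exact h
  have hsup : K ⊔ D = ⊤ := by
    by_contra hne
    have hlt : K < K ⊔ D := by
      apply lt_of_le_of_ne le_sup_left
      intro heq
      apply hDK
      rw [heq]
      exact le_sup_right
    exact hne (hK.2 _ hlt)
  -- the index of `K` is prime to `p`
  have hidx : ¬ p ∣ K.index := by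
    have h1 : K.index = K.relIndex D := by
      rw [relIndex_eq_relIndex_sup_of_normal K D, hsup, Subgroup.relIndex_top_right]
    have h2 : ((T : Subgroup X) ⊓ D).relIndex (K ⊓ D) * (K ⊓ D).relIndex D =
        ((T : Subgroup X) ⊓ D).relIndex D :=
      Subgroup.relIndex_mul_relIndex _ _ _ (le_inf (hTD.trans hOK) inf_le_right) inf_le_right
    rw [Subgroup.inf_relIndex_right, Subgroup.inf_relIndex_right] at h2
    rw [h1]
    intro hd
    apply not_dvd_relIndex_of_normal T D
    rw [← h2]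
    exact Dvd.dvd.mul_left hd _
  obtain ⟨g, hg⟩ := exists_cj_le_of_not_dvd_index T hidx
  have hT1 : (T : Subgroup X) ≤ cj g⁻¹ K := by
    rw [← cj_le_iff]
    exact hg
  have hsup1 : cj g⁻¹ K ⊔ D = ⊤ := by
    have hDc : cj g⁻¹ D = D := cj_eq_self_iff.mpr (by
      rw [Subgroup.normalizer_eq_top_iff.mpr hDn]; exact Subgroup.mem_top _)
    rw [← hDc, ← cjSup, hsup]
    exact cj_top _
  have h3 := hmin _ hT1 hsup1
  apply hK.1
  have h4 : cj g (cj g⁻¹ K) = K := by rw [← cj_mul, mul_inv_cancel, cj_one]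
  rw [← h4, h3]
  exact cj_top _

variable {G : Type*} [Group G]

/-- Inside a maximal member `Mt ≥ T` of `𝓛_G` there is a subgroup `M ≥ T` having all the parts of the basic property
except (possibly) the uniqueness of `Mt`. -/
theorem exists_prebasic [Finite G] {p : ℕ} [Fact p.Prime]
    (hG : Cfsg.IsOfParabolicCharacteristic p G) (T : Sylow p G) {Mt : Subgroup G}
    (hTMt : (T : Subgroup G) ≤ Mt) (hMt : Mt ∈ Cfsg.maxCharPSubgroups p G) :
    ∃ M : Subgroup G, (T : Subgroup G) ≤ M ∧ M ≤ Mt ∧ M ∈ Cfsg.charPSubgroups p G ∧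
      Cfsg.largestPReducedOf p M = Cfsg.largestPReducedOf p Mt ∧
      M ⊔ Subgroup.centralizer ((Cfsg.largestPReducedOf p M : Subgroup G) : Set G) = Mt ∧
      Cfsg.IsPClosed p ↥(M ⊓ Subgroup.centralizer ((Cfsg.largestPReducedOf p M : Subgroup G) : Set G)) ∧
      ((M ⊓ Subgroup.centralizer ((Cfsg.largestPReducedOf p M : Subgroup G) : Set G)).subgroupOf M).map
          (QuotientGroup.mk' (Cfsg.pCore p ↥M)) ≤ frattini (↥M ⧸ Cfsg.pCore p ↥M) := by
  set Y := Cfsg.largestPReducedOf p Mt with hYdef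
  set C := Subgroup.centralizer ((Y : Subgroup G) : Set G) with hCdef
  have hCMt : C ≤ Mt := centralizer_le_of_max hG T hTMt hMt
  have hMtc : CharPSub p Mt := charPSub_of_mem hMt.1
  have hYr : PRedIn p Mt Y := largestPReducedOf_pRedIn p Mt
  obtain ⟨M, hMMt, ⟨hTM, -, hsup⟩, hmin⟩ :=
    Finite.exists_le_minimal (p := fun K : Subgroup G => (T : Subgroup G) ≤ K ∧ K ≤ Mt ∧ K ⊔ C = Mt)
      (a := Mt) ⟨hTMt, le_rfl, sup_eq_left.mpr hCMt⟩
  have hmin' : ∀ K : Subgroup G, (T : Subgroup G) ≤ K → K ≤ M → K ⊔ C = Mt → K = M := by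
    intro K h1 h2 h3
    exact le_antisymm h2 (hmin ⟨h1, h2.trans hMMt, h3⟩ h2)
  -- (E1)
  have hOO : Cfsg.pCoreOf p Mt ≤ Cfsg.pCoreOf p M :=
    le_pCoreOf ((pCoreOf_le_sylow T hTMt).trans hTM) (pCoreOf_isPGroup p Mt)
      (hMMt.trans (le_normalizer_pCoreOf p Mt))
  have hO1 : Cfsg.pCoreOf p M ≠ ⊥ := by
    intro hbot
    apply pCoreOf_ne_bot_of_mem hMt.1
    rw [← le_bot_iff, ← hbot]
    exact hOO
  have hMc : M ∈ Cfsg.charPSubgroups p G := mem_charP_of_parab hG T hTM hO1
  -- (E2)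
  have hY : Cfsg.largestPReducedOf p M = Y := by
    apply le_antisymm (largestPReducedOf_mono T hTM hMMt hMtc)
    apply largestPReducedOf_le_of_sup_eq T hTM hTMt
    rw [hsup]
    exact (sup_eq_left.mpr hCMt).symm
  have hMNC : M ≤ Subgroup.normalizer (C : Set G) :=
    (hMMt.trans hYr.2.1).trans (normalizer_le_normalizer_centralizer' Y)
  have hMD : M ≤ Subgroup.normalizer ((M ⊓ C : Subgroup G) : Set G) :=
    le_normalizer_inf' Subgroup.le_normalizer hMNC
  -- (E5)
  have hTN : (T : Subgroup G) ≤ Subgroup.normalizer (((T : Subgroup G) ⊓ C : Subgroup G) : Set G) :=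
    le_normalizer_inf' Subgroup.le_normalizer (hTM.trans hMNC)
  have hMT₀ : M ≤ Subgroup.normalizer (((T : Subgroup G) ⊓ C : Subgroup G) : Set G) := by
    have hK : M ⊓ Subgroup.normalizer (((T : Subgroup G) ⊓ C : Subgroup G) : Set G) = M := by
      apply hmin' _ (le_inf hTM hTN) inf_le_left
      apply le_antisymm (sup_le (inf_le_left.trans hMMt) hCMt)
      rw [← hsup]
      apply sup_le _ le_sup_right
      intro m hm
      obtain ⟨a, ha, c, hc, rfl⟩ := frattini_ambient T hTM hMNC hm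
      exact Subgroup.mul_mem _ (Subgroup.mem_sup_left ha) (Subgroup.mem_sup_right hc.2)
    rw [← hK]
    exact inf_le_right
  have hS : SylIn p ((T : Subgroup G) ⊓ C) (M ⊓ C) := by
    have h1 : SylIn p (T : Subgroup G) M := (SylIn.of_sylow T).mono hTM le_top
    have h2 := h1.inf_of_normal (F := M ⊓ C) inf_le_left hMD
    rwa [← inf_assoc, inf_eq_left.mpr hTM] at h2
  have hcl : Cfsg.IsPClosed p ↥(M ⊓ C) := PMF5.sylIn_isPClosed hS (inf_le_left.trans hMT₀)
  -- (E6)
  have hfr : ((M ⊓ C).subgroupOf M).map (QuotientGroup.mk' (Cfsg.pCore p ↥M)) ≤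
      frattini (↥M ⧸ Cfsg.pCore p ↥M) := by
    have hDn : ((M ⊓ C).subgroupOf M).Normal := Subgroup.normal_subgroupOf_of_le_normalizer hMD
    apply map_le_frattini_of_min (T.subtype hTM) ((M ⊓ C).subgroupOf M)
    · -- `T ∩ D ≤ O_p(M)`
      have hn : ((((T : Subgroup G) ⊓ C : Subgroup G)).subgroupOf M).Normal :=
        Subgroup.normal_subgroupOf_of_le_normalizer hMT₀
      have hp : IsPGroup p ((((T : Subgroup G) ⊓ C : Subgroup G)).subgroupOf M) :=
        (T.isPGroup'.to_le inf_le_left).comap_subtype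
      refine le_trans ?_ (le_pCore hn hp)
      intro x hx
      rw [Subgroup.mem_inf, Sylow.coe_subtype, Subgroup.mem_subgroupOf, Subgroup.mem_subgroupOf] at hx
      rw [Subgroup.mem_subgroupOf]
      exact ⟨hx.1, hx.2.2⟩
    · intro K' hTK' hK'D
      have h1 : (T : Subgroup G) ≤ K'.map M.subtype := by
        intro t ht
        refine ⟨⟨t, hTM ht⟩, hTK' ?_, rfl⟩
        rw [Sylow.coe_subtype, Subgroup.mem_subgroupOf]
        exact ht
      have h2 : K'.map M.subtype ≤ M := Subgroup.map_subtype_le _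
      have h3 : K'.map M.subtype ⊔ (M ⊓ C) = M := by
        have := congrArg (Subgroup.map M.subtype) hK'D
        rw [Subgroup.map_sup, Subgroup.subgroupOf_map_subtype, ← MonoidHom.range_eq_map,
          Subgroup.range_subtype, inf_eq_left.mpr (inf_le_left : M ⊓ C ≤ M)] at this
        exact this
      have h4 : K'.map M.subtype ⊔ C = Mt := by
        apply le_antisymm (sup_le (h2.trans hMMt) hCMt)
        rw [← hsup]
        apply sup_le _ le_sup_right
        exact h3.ge.trans (sup_le_sup_left inf_le_right _)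
      have h5 := hmin' _ h1 h2 h4
      apply Subgroup.map_injective M.subtype_injective
      rw [h5, ← MonoidHom.range_eq_map, Subgroup.range_subtype]
  refine ⟨M, hTM, hMMt, hMc, hY, ?_⟩
  rw [hY]
  exact ⟨hsup, hcl, hfr⟩

end Cfsg.Agent.Lib.helper17.BPM
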