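import Mathlib
import Cfsg.Agent.Lib.helper17.BPM2

set_option autoImplicit false

namespace Cfsg.Agent.Lib.helper17.BPM

open Cfsg.Agent.Lib.helper17 PMF1 PMF4

variable {G : Type*} [Group G]

/-- `L ≪ N`: some `Ls ∈ 𝓛_G(T)` inside `N` has `Y_L = Y_{Ls}` and `L C(Y_L) = Ls C(Y_L)`. -/
def Ll (p : ℕ) (T : Sylow p G) (L N : Subgroup G) : Prop :=
  ∃ Ls : Subgroup G, (T : Subgroup G) ≤ Ls ∧ Ls ≤ N ∧ Ls ∈ Cfsg.charPSubgroups p G ∧
    Cfsg.largestPReducedOf p L = Cfsg.largestPReducedOf p Ls ∧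
    L ⊔ Subgroup.centralizer ((Cfsg.largestPReducedOf p L : Subgroup G) : Set G) =
      Ls ⊔ Subgroup.centralizer ((Cfsg.largestPReducedOf p L : Subgroup G) : Set G)

theorem Ll.of_le {p : ℕ} {T : Sylow p G} {L N : Subgroup G} (hTL : (T : Subgroup G) ≤ L)
    (hL : L ∈ Cfsg.charPSubgroups p G) (hLN : L ≤ N) : Ll p T L N :=
  ⟨L, hTL, hLN, hL, rfl, rfl⟩

theorem Ll.trans [Finite G] {p : ℕ} [Fact p.Prime] (hG : Cfsg.IsOfParabolicCharacteristic p G)
    {T : Sylow p G} {L N M : Subgroup G} (hTL : (T : Subgroup G) ≤ L)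
    (hL : L ∈ Cfsg.charPSubgroups p G) (hN : N ∈ Cfsg.charPSubgroups p G)
    (h1 : Ll p T L N) (h2 : Ll p T N M) : Ll p T L M := by
  obtain ⟨L₁, hTL₁, hL₁N, hL₁c, hYL, hfacL⟩ := h1
  obtain ⟨N₁, hTN₁, hN₁M, hN₁c, hYN, hfacN⟩ := h2
  set YL := Cfsg.largestPReducedOf p L with hYLdef
  set YN := Cfsg.largestPReducedOf p N with hYNdef
  have hYLN : YL ≤ YN := by
    rw [hYL]
    exact largestPReducedOf_mono T hTL₁ hL₁N (charPSub_of_mem hN)
  have hCNL : Subgroup.centralizer ((YN : Subgroup G) : Set G) ≤ Subgroup.centralizer ((YL : Subgroup G) : Set G) :=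
    Subgroup.centralizer_le (SetLike.coe_subset_coe.mpr hYLN)
  have hLr : PRedIn p L YL := largestPReducedOf_pRedIn p L
  have hLdN : L ⊔ Subgroup.centralizer ((YL : Subgroup G) : Set G) ≤ Subgroup.normalizer ((YL : Subgroup G) : Set G) :=
    sup_le hLr.2.1 (Subgroup.centralizer_le_normalizer _)
  have hNC := normalizer_le_normalizer_centralizer' YL
  have hTM' : (T : Subgroup G) ≤ N₁ ⊓ (L ⊔ Subgroup.centralizer ((YL : Subgroup G) : Set G)) :=
    le_inf hTN₁ (hTL.trans le_sup_left)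
  have hN₁n : N₁ ≤ Subgroup.normalizer ((Subgroup.centralizer ((YN : Subgroup G) : Set G) : Subgroup G) : Set G) := by
    have h := (largestPReducedOf_pRedIn p N₁).2.1
    rw [← hYN] at h
    exact h.trans (normalizer_le_normalizer_centralizer' YN)
  have hL₁le : L₁ ≤ (N₁ ⊓ (L ⊔ Subgroup.centralizer ((YL : Subgroup G) : Set G))) ⊔
      Subgroup.centralizer ((YL : Subgroup G) : Set G) := by
    intro x hx
    have hx1 : x ∈ N₁ ⊔ Subgroup.centralizer ((YN : Subgroup G) : Set G) := by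
      rw [← hfacN]
      exact Subgroup.mem_sup_left (hL₁N hx)
    obtain ⟨n, hn, c, hc, rfl⟩ := exists_mul_of_mem_sup_left hN₁n hx1
    have hxLd : n * c ∈ L ⊔ Subgroup.centralizer ((YL : Subgroup G) : Set G) := by
      rw [hfacL]
      exact Subgroup.mem_sup_left hx
    have hcLd : c ∈ L ⊔ Subgroup.centralizer ((YL : Subgroup G) : Set G) :=
      Subgroup.mem_sup_right (hCNL hc)
    have hnLd : n ∈ L ⊔ Subgroup.centralizer ((YL : Subgroup G) : Set G) := by
      have := Subgroup.mul_mem _ hxLd (Subgroup.inv_mem _ hcLd)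
      simpa using this
    exact Subgroup.mul_mem _ (Subgroup.mem_sup_left ⟨hn, hnLd⟩) (Subgroup.mem_sup_right (hCNL hc))
  have hfac' : (N₁ ⊓ (L ⊔ Subgroup.centralizer ((YL : Subgroup G) : Set G))) ⊔
      Subgroup.centralizer ((YL : Subgroup G) : Set G) =
      L ⊔ Subgroup.centralizer ((YL : Subgroup G) : Set G) := by
    apply le_antisymm (sup_le inf_le_right le_sup_right)
    exact hfacL.le.trans (sup_le hL₁le le_sup_right)
  have hYL1 : YL ≠ ⊥ :=
    largestPReducedOf_ne_bot T hTL (charPSub_of_mem hL) (sylow_ne_bot_of_mem T hTL hL)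
  have hYLT : YL ≤ (T : Subgroup G) := largestPReducedOf_le_sylow T hTL
  have hYLp : IsPGroup p YL := isPGroup_largestPReducedOf p L
  have hM'c : (N₁ ⊓ (L ⊔ Subgroup.centralizer ((YL : Subgroup G) : Set G))) ∈ Cfsg.charPSubgroups p G :=
    mem_charP_of_parab hG T hTM'
      (pCoreOf_ne_bot_of_le_normalizer (hYLT.trans hTM') hYLp hYL1 (inf_le_right.trans hLdN))
  have hTn : (T : Subgroup G) ≤ Subgroup.normalizer
      (((T : Subgroup G) ⊓ Subgroup.centralizer ((YL : Subgroup G) : Set G) : Subgroup G) : Set G) :=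
    le_normalizer_inf' Subgroup.le_normalizer ((hTL.trans hLr.2.1).trans hNC)
  have key := Cfsg.Agent.S2824.result T L (N₁ ⊓ (L ⊔ Subgroup.centralizer ((YL : Subgroup G) : Set G)))
    hTL hTM' ((charPSub_iff p L).mpr (charPSub_of_mem hL)) ((charPSub_iff p _).mpr (charPSub_of_mem hM'c))
    ((T : Subgroup G) ⊓ Subgroup.centralizer ((YL : Subgroup G) : Set G)) rfl hfac'
    ((N₁ ⊓ (L ⊔ Subgroup.centralizer ((YL : Subgroup G) : Set G))) ⊓ Subgroup.normalizer
      (((T : Subgroup G) ⊓ Subgroup.centralizer ((YL : Subgroup G) : Set G) : Subgroup G) : Set G)) rfl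
  have hTLs : (T : Subgroup G) ≤ (N₁ ⊓ (L ⊔ Subgroup.centralizer ((YL : Subgroup G) : Set G))) ⊓
      Subgroup.normalizer
      (((T : Subgroup G) ⊓ Subgroup.centralizer ((YL : Subgroup G) : Set G) : Subgroup G) : Set G) :=
    le_inf hTM' hTn
  refine ⟨_, hTLs, inf_le_left.trans (inf_le_left.trans hN₁M), ?_, key.1.symm, key.2⟩
  exact mem_charP_of_parab hG T hTLs
    (pCoreOf_ne_bot_of_le_normalizer (hYLT.trans hTLs) hYLp hYL1
      (inf_le_left.trans (inf_le_right.trans hLdN)))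

theorem main_aux [Finite G] {p : ℕ} [Fact p.Prime] (hG : Cfsg.IsOfParabolicCharacteristic p G)
    (T : Sylow p G) : ∀ n : ℕ, ∀ L : Subgroup G, (T : Subgroup G) ≤ L → L ∈ Cfsg.charPSubgroups p G →
      Nat.card G - Nat.card (Cfsg.largestPReducedOf p L) = n →
      ∃ M : Subgroup G, (T : Subgroup G) ≤ M ∧ Cfsg.IsInFrakM p M ∧ Ll p T L M := by
  intro n
  induction n using Nat.strong_induction_on with
  | _ n ih =>
    intro L hTL hL hn
    obtain ⟨Mt, hMt, hLMt⟩ := exists_max_ge hL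
    have hTMt := hTL.trans hLMt
    obtain ⟨M₁, hTM₁, hM₁Mt, hM₁c, hY, hsup, hcl, hfr⟩ := exists_prebasic hG T hTMt hMt
    have ha : Ll p T L Mt := Ll.of_le hTL hL hLMt
    have hb : Ll p T Mt M₁ := by
      refine ⟨M₁, hTM₁, le_rfl, hM₁c, hY.symm, ?_⟩
      rw [← hY, hsup]
      exact sup_eq_left.mpr (le_sup_right.trans hsup.le)
    have hab : Ll p T L M₁ := Ll.trans hG hTL hL hMt.1 ha hb
    by_cases huniq : ∀ X ∈ Cfsg.maxCharPSubgroups p G, M₁ ≤ X → X = Mt
    · refine ⟨M₁, hTM₁, ⟨hM₁c, ?_, ?_, ?_, hcl, hfr⟩, hab⟩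
      · rw [hsup]; exact hMt
      · rw [hsup]; exact huniq
      · rw [hsup]; exact hY
    · push Not at huniq
      obtain ⟨X, hX, hM₁X, hXne⟩ := huniq
      have hTX := hTM₁.trans hM₁X
      have hle : Cfsg.largestPReducedOf p M₁ ≤ Cfsg.largestPReducedOf p X :=
        largestPReducedOf_mono T hTM₁ hM₁X (charPSub_of_mem hX.1)
      have hne : Cfsg.largestPReducedOf p M₁ ≠ Cfsg.largestPReducedOf p X := by
        intro heq
        apply hXne
        apply hMt.2 X hX.1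
        rw [← hsup, heq]
        exact sup_le hM₁X (centralizer_le_of_max hG T hTX hX)
      have hlt : Nat.card (Cfsg.largestPReducedOf p M₁) < Nat.card (Cfsg.largestPReducedOf p X) := by
        by_contra hge
        exact hne (Subgroup.eq_of_le_of_card_ge hle (not_lt.mp hge))
      have hLle : Cfsg.largestPReducedOf p L ≤ Cfsg.largestPReducedOf p M₁ := by
        rw [hY]
        exact largestPReducedOf_mono T hTL hLMt (charPSub_of_mem hMt.1)
      have h1 := Subgroup.card_le_of_le hLle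
      have h2 : Nat.card (Cfsg.largestPReducedOf p X) ≤ Nat.card G := Subgroup.card_le_card_group _
      have hm : Nat.card G - Nat.card (Cfsg.largestPReducedOf p X) < n := by omega
      obtain ⟨M, hTM, hMb, hXM⟩ := ih _ hm X hTX hX.1 rfl
      have hc : Ll p T M₁ X := Ll.of_le hTM₁ hM₁c hM₁X
      exact ⟨M, hTM, hMb, Ll.trans hG hTL hL hX.1 (Ll.trans hG hTL hL hM₁c hab hc) hXM⟩

/-- The existence of a member of `𝔐_G(T)` "above" a given `L ∈ 𝓛_G(T)`. -/
theorem main [Finite G] {p : ℕ} [Fact p.Prime] (hG : Cfsg.IsOfParabolicCharacteristic p G)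
    (T : Sylow p G) (L : Subgroup G) (hTL : (T : Subgroup G) ≤ L) (hL : L ∈ Cfsg.charPSubgroups p G) :
    ∃ M Ls : Subgroup G, (T : Subgroup G) ≤ M ∧ Cfsg.IsInFrakM p M ∧ (T : Subgroup G) ≤ Ls ∧ Ls ≤ M ∧
      Ls ∈ Cfsg.charPSubgroups p G ∧
      Cfsg.largestPReducedOf p L = Cfsg.largestPReducedOf p Ls ∧
      Cfsg.largestPReducedOf p L ≤ Cfsg.largestPReducedOf p M ∧
      L ⊔ Subgroup.centralizer ((Cfsg.largestPReducedOf p L : Subgroup G) : Set G) =
        Ls ⊔ Subgroup.centralizer ((Cfsg.largestPReducedOf p L : Subgroup G) : Set G) := by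
  obtain ⟨M, hTM, hMb, Ls, hTLs, hLsM, hLsc, hY, hfac⟩ := main_aux hG T _ L hTL hL rfl
  refine ⟨M, Ls, hTM, hMb, hTLs, hLsM, hLsc, hY, ?_, hfac⟩
  rw [hY]
  exact largestPReducedOf_mono T hTLs hLsM (charPSub_of_mem hMb.1)

end Cfsg.Agent.Lib.helper17.BPM
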