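import Mathlib
import Cfsg.Agent.Lib.helper3.BSZ.Defs

set_option autoImplicit false

/-!
# Project BSZ (designer helper3), rows W03 `card_sup_mul_card_inf`, W04 `card_sc` (verbatim).
-/

namespace Cfsg.Agent.Lib.helper3.BSZ

open Cfsg Cfsg.Agent.Lib.helper3

/-- W03 [S-M]: product formula; e.g. `AddSubgroup`/`Subgroup` versions of `Subgroup.card_mul_card_eq_card_sup_mul_card_inf`-type lemmas (search `card_sup`, `relIndex_sup_right`, `inf_relIndex_right`,
`Subgroup.card_mul_index`), or via `Submodule (ZMod 2)`-free counting `W × W' → W ⊔ W'`, `(w,w') ↦ w + w'` with fibres `≃ W ⊓ W'`. -/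
theorem card_sup_mul_card_inf {A : Type*} [AddCommGroup A] [Finite A] (W W' : AddSubgroup A) :
    Nat.card ↥(W ⊔ W') * Nat.card ↥(W ⊓ W') = Nat.card W * Nat.card W' := by
  have h1 : Nat.card W' * W'.relIndex (W ⊔ W') = Nat.card ↥(W ⊔ W') := by
    have := AddSubgroup.relIndex_mul_relIndex (⊥ : AddSubgroup A) W' (W ⊔ W') bot_le le_sup_right
    rwa [AddSubgroup.relIndex_bot_left, AddSubgroup.relIndex_bot_left] at this
  have h2 : W'.relIndex (W ⊔ W') = W'.relIndex W := AddSubgroup.relIndex_sup_right W W'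
  have h3 : Nat.card ↥(W ⊓ W') * (W ⊓ W').relIndex W = Nat.card W := by
    have := AddSubgroup.relIndex_mul_relIndex (⊥ : AddSubgroup A) (W ⊓ W') W bot_le inf_le_left
    rwa [AddSubgroup.relIndex_bot_left, AddSubgroup.relIndex_bot_left] at this
  have h4 : (W ⊓ W').relIndex W = W'.relIndex W := AddSubgroup.inf_relIndex_left W W'
  rw [← h1, ← h3, h2, h4]
  ring

/-- W04 [S]: `w ↦ l * w` is injective. -/
theorem card_sc {F : Type*} [Field F] [Fintype F] (W : AddSubgroup F) {l : F} (hl : l ≠ 0) :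
    Nat.card (sc l W) = Nat.card W := by
  apply AddSubgroup.card_map_of_injective
  intro a b hab
  exact mul_left_cancel₀ hl hab

end Cfsg.Agent.Lib.helper3.BSZ
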