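import Mathlib

set_option autoImplicit false

namespace Cfsg.Agent.Lib.helper17.BisetFix

open MulAction

universe u v

variable {A : Type u} [Group A]

/-- `a` fixes the coset `cΔ` iff `c⁻¹ a c ∈ Δ`. -/
theorem smul_mk_eq_iff (Δ : Subgroup A) (a c : A) :
    a • (c : A ⧸ Δ) = (c : A ⧸ Δ) ↔ c⁻¹ * a * c ∈ Δ := by
  rw [MulAction.Quotient.smul_mk, smul_eq_mul, eq_comm, QuotientGroup.eq, mul_assoc]

/-- The number of elements `c` with `L^c ≤ Δ` is `|Δ|` times the number of fixed cosets. -/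
theorem card_conj_le (Δ L : Subgroup A) :
    Nat.card {c : A // ∀ a ∈ L, c⁻¹ * a * c ∈ Δ} =
      Nat.card Δ * Nat.card {q : A ⧸ Δ // ∀ a ∈ L, a • q = q} := by
  have e := QuotientGroup.preimageMkEquivSubgroupProdSet Δ {q : A ⧸ Δ | ∀ a ∈ L, a • q = q}
  rw [← Nat.card_prod]
  refine Nat.card_congr (Equiv.trans ?_ e)
  refine Equiv.subtypeEquivRight ?_
  intro c
  simp only [Set.mem_preimage, Set.mem_ofPred_eq]
  constructor
  · intro h a ha
    exact (smul_mk_eq_iff Δ a c).mpr (h a ha)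
  · intro h a ha
    exact (smul_mk_eq_iff Δ a c).mp (h a ha)

/-- Fixed points on a disjoint union of coset spaces. -/
theorem card_fix_sigma {I : Type v} [Fintype I] [Finite A] (D : I → Subgroup A) (L : Subgroup A) :
    Nat.card {x : (Σ i : I, A ⧸ D i) // ∀ a ∈ L, a • x = x} =
      ∑ i : I, Nat.card {q : A ⧸ D i // ∀ a ∈ L, a • q = q} := by
  rw [← Nat.card_sigma]
  apply Nat.card_congr
  exact
    { toFun := fun x => ⟨x.1.1, ⟨x.1.2, fun a ha => by
        have h := x.2 a ha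
        rw [show x.1 = ⟨x.1.1, x.1.2⟩ from rfl, Sigma.smul_mk] at h
        exact eq_of_heq (Sigma.mk.inj h).2⟩⟩
      invFun := fun y => ⟨⟨y.1, y.2.1⟩, fun a ha => by
        rw [Sigma.smul_mk, y.2.2 a ha]⟩
      left_inv := fun x => rfl
      right_inv := fun y => rfl }

end Cfsg.Agent.Lib.helper17.BisetFix
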