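import Mathlib
import Cfsg.Agent.Lib.helper17.PAct
import Cfsg.Agent.Lib.helper17.PClosed

set_option autoImplicit false

namespace Cfsg.Agent.Lib.helper17

open scoped commutatorElement

universe u

/-- **Burnside.** An automorphism of a finite `p`-group `A` of order prime to `p` that acts trivially on `A / A'` is trivial. -/
theorem mulAut_eq_one_of_coprime_aux {p : ℕ} [hp : Fact p.Prime] (n : ℕ) (hn : n.Coprime p) :
    ∀ (m : ℕ) (A : Type u) [Group A] [Finite A], Nat.card A = m → IsPGroup p A →
      ∀ φ : MulAut A, φ ^ n = 1 → (∀ a : A, φ a * a⁻¹ ∈ commutator A) → φ = 1 := by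
  intro m
  induction m using Nat.strong_induction_on with
  | _ m ih =>
    intro A _ _ hcard hA φ hφ h
    by_cases hcomm : commutator A = ⊥
    · ext a
      have := h a
      rw [hcomm, Subgroup.mem_bot, mul_inv_eq_one] at this
      rw [this]; rfl
    · -- the characteristic subgroup `N = A' ∩ Z(A)`
      have hnil : Group.IsNilpotent A := hA.isNilpotent
      have hNne : commutator A ⊓ Subgroup.center A ≠ ⊥ :=
        nilpotent_normal_inf_center_ne_bot (commutator A) hcomm
      have hNchar : (commutator A ⊓ Subgroup.center A).Characteristic := inferInstance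
      have hNn : (commutator A ⊓ Subgroup.center A).Normal := inferInstance
      have hmap : (commutator A ⊓ Subgroup.center A).map (φ : A ≃* A).toMonoidHom =
          commutator A ⊓ Subgroup.center A :=
        (Subgroup.characteristic_iff_map_eq.mp hNchar) φ
      -- the induced automorphism
      let ψ : MulAut (A ⧸ (commutator A ⊓ Subgroup.center A)) :=
        QuotientGroup.congr (commutator A ⊓ Subgroup.center A) (commutator A ⊓ Subgroup.center A) φ hmap
      have hψmk : ∀ a : A, ψ (QuotientGroup.mk a) = QuotientGroup.mk (φ a) := fun a =>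
        QuotientGroup.congr_mk _ _ φ hmap a
      have hψpow : ∀ k : ℕ, ∀ a : A, (ψ ^ k) (QuotientGroup.mk a) = QuotientGroup.mk ((φ ^ k) a) := by
        intro k
        induction k with
        | zero => intro a; simp
        | succ k ihk =>
          intro a
          rw [pow_succ', pow_succ', MulAut.mul_apply, MulAut.mul_apply, ihk, hψmk]
      have hψn : ψ ^ n = 1 := by
        ext x
        obtain ⟨a, rfl⟩ := QuotientGroup.mk_surjective x
        rw [hψpow, hφ]; rfl
      have hψc : ∀ x : A ⧸ (commutator A ⊓ Subgroup.center A), ψ x * x⁻¹ ∈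
          commutator (A ⧸ (commutator A ⊓ Subgroup.center A)) := by
        intro x
        obtain ⟨a, rfl⟩ := QuotientGroup.mk_surjective x
        rw [hψmk]
        have h1 : (QuotientGroup.mk' (commutator A ⊓ Subgroup.center A)) (φ a * a⁻¹) ∈
            (commutator A).map (QuotientGroup.mk' (commutator A ⊓ Subgroup.center A)) :=
          ⟨_, h a, rfl⟩
        have h2 : (commutator A).map (QuotientGroup.mk' (commutator A ⊓ Subgroup.center A)) ≤
            commutator (A ⧸ (commutator A ⊓ Subgroup.center A)) := by
          rw [map_commutator_eq]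
          exact Subgroup.commutator_mono le_top le_top
        have h3 := h2 h1
        simpa using h3
      have hcardlt : Nat.card (A ⧸ (commutator A ⊓ Subgroup.center A)) < m := by
        have h1 := Subgroup.card_eq_card_quotient_mul_card_subgroup (commutator A ⊓ Subgroup.center A)
        have h2 : 1 < Nat.card ↥(commutator A ⊓ Subgroup.center A) :=
          (Subgroup.one_lt_card_iff_ne_bot _).mpr hNne
        have h3 : 0 < Nat.card (A ⧸ (commutator A ⊓ Subgroup.center A)) := Nat.card_pos
        rw [← hcard, h1]
        nlinarith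
      have hψ1 : ψ = 1 := ih _ hcardlt (A ⧸ (commutator A ⊓ Subgroup.center A)) rfl
        (hA.to_quotient _) ψ hψn hψc
      -- so `φ a = a z` with `z ∈ N`
      have hz : ∀ a : A, a⁻¹ * φ a ∈ commutator A ⊓ Subgroup.center A := by
        intro a
        have h1 : ψ (QuotientGroup.mk a) = QuotientGroup.mk a := by rw [hψ1]; rfl
        rw [hψmk] at h1
        exact (QuotientGroup.eq.mp h1.symm)
      -- `φ` fixes commutators
      have hfixc : ∀ a b : A, φ ⁅a, b⁆ = ⁅a, b⁆ := by
        intro a b
        have ha := (Subgroup.mem_inf.mp (hz a)).2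
        have hb := (Subgroup.mem_inf.mp (hz b)).2
        rw [Subgroup.mem_center_iff] at ha hb
        have e1 : φ a = a * (a⁻¹ * φ a) := by group
        have e2 : φ b = b * (b⁻¹ * φ b) := by group
        rw [map_commutatorElement, e1, e2]
        generalize a⁻¹ * φ a = z at ha
        generalize b⁻¹ * φ b = w at hb
        have hz1 : ∀ g, g * z = z * g := ha
        have hw1 : ∀ g, g * w = w * g := hb
        have hz2 : ∀ g, g * z⁻¹ = z⁻¹ * g := by
          intro g
          have := hz1 g⁻¹
          have e := congrArg (fun t => t⁻¹) this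
          simpa using e.symm
        have hw2 : ∀ g, g * w⁻¹ = w⁻¹ * g := by
          intro g
          have := hw1 g⁻¹
          have e := congrArg (fun t => t⁻¹) this
          simpa using e.symm
        simp only [commutatorElement_def, mul_inv_rev]
        calc a * z * (b * w) * (z⁻¹ * a⁻¹) * (w⁻¹ * b⁻¹)
            = a * (z * (b * w) * z⁻¹) * a⁻¹ * w⁻¹ * b⁻¹ := by group
          _ = a * (b * w) * a⁻¹ * w⁻¹ * b⁻¹ := by
              rw [← hz1 (b * w)]; group
          _ = a * b * (w * (a⁻¹ * w⁻¹)) * b⁻¹ := by group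
          _ = a * b * (a⁻¹) * b⁻¹ := by
              rw [hw2 a⁻¹]; group
      have hfix : ∀ c ∈ commutator A, φ c = c := by
        intro c hc
        have hle : commutator A ≤ (MonoidHom.eqLocus (φ : A ≃* A).toMonoidHom (MonoidHom.id A)) := by
          rw [commutator_eq_closure, Subgroup.closure_le]
          rintro _ ⟨a, b, rfl⟩
          exact hfixc a b
        exact hle hc
      ext a
      have hza := hz a
      have hφz : φ (a⁻¹ * φ a) = a⁻¹ * φ a := hfix _ hza.1
      have hpow : ∀ k : ℕ, (φ ^ k) a = a * (a⁻¹ * φ a) ^ k := by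
        intro k
        induction k with
        | zero => simp
        | succ k ihk =>
          rw [pow_succ', MulAut.mul_apply, ihk, map_mul, map_pow, hφz, pow_succ', ← mul_assoc]
          congr 1
          group
      have h1 := hpow n
      rw [hφ] at h1
      have h2 : (a⁻¹ * φ a) ^ n = 1 := by
        have : a = a * (a⁻¹ * φ a) ^ n := h1
        have := congrArg (fun t => a⁻¹ * t) this
        simpa using this.symm
      have h3 : a⁻¹ * φ a = 1 := by
        obtain ⟨k, hk⟩ := hA (a⁻¹ * φ a)
        have h4 : orderOf (a⁻¹ * φ a) ∣ Nat.gcd n (p ^ k) :=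
          Nat.dvd_gcd (orderOf_dvd_of_pow_eq_one h2) (orderOf_dvd_of_pow_eq_one hk)
        rw [Nat.Coprime.pow_right k hn, Nat.dvd_one, orderOf_eq_one_iff] at h4
        exact h4
      have : φ a = a := by
        have := congrArg (fun t => a * t) h3
        simpa using this
      rw [this]; rfl

theorem mulAut_eq_one_of_coprime {A : Type u} [Group A] [Finite A] {p : ℕ} [Fact p.Prime]
    (hA : IsPGroup p A) (φ : MulAut A) {n : ℕ} (hn : n.Coprime p) (hφ : φ ^ n = 1)
    (h : ∀ a : A, φ a * a⁻¹ ∈ commutator A) : φ = 1 :=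
  mulAut_eq_one_of_coprime_aux n hn _ A rfl hA φ hφ h

end Cfsg.Agent.Lib.helper17

namespace Cfsg.Agent.Lib.helper17

open scoped commutatorElement

variable {G : Type*} [Group G]

/-- Conjugation by an element of `N_G(P)`, as an automorphism of `P`. -/
def conjAutOfMem {P : Subgroup G} {n : G} (hn : n ∈ Subgroup.normalizer (P : Set G)) : MulAut ↥P where
  toFun x := ⟨n * x * n⁻¹, (Subgroup.mem_normalizer_iff.mp hn x).mp x.2⟩
  invFun x := ⟨n⁻¹ * x * n, by
    have := (Subgroup.mem_normalizer_iff.mp hn (n⁻¹ * x * n)).mpr (by simp [mul_assoc])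
    exact this⟩
  left_inv x := Subtype.ext (by simp [mul_assoc])
  right_inv x := Subtype.ext (by simp [mul_assoc])
  map_mul' x y := Subtype.ext (by simp [mul_assoc])

theorem conjAutOfMem_coe {P : Subgroup G} {n : G} (hn : n ∈ Subgroup.normalizer (P : Set G)) (x : ↥P) :
    ((conjAutOfMem hn x : ↥P) : G) = n * x * n⁻¹ := rfl

theorem conjAutOfMem_pow_coe {P : Subgroup G} {n : G} (hn : n ∈ Subgroup.normalizer (P : Set G)) (k : ℕ)
    (x : ↥P) : (((conjAutOfMem hn) ^ k) x : G) = n ^ k * x * (n ^ k)⁻¹ := by
  induction k generalizing x with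
  | zero => simp
  | succ k ih =>
    rw [pow_succ', MulAut.mul_apply, conjAutOfMem_coe, ih, pow_succ']
    group

/-- A `p'`-element normalizing the finite `p`-group `A` and centralizing `A / A'` centralizes `A`. -/
theorem centralizes_of_commutator_le_derived [Finite G] {p : ℕ} [Fact p.Prime] {A : Subgroup G}
    (hA : IsPGroup p A) {x : G} (hx : x ∈ Subgroup.normalizer (A : Set G))
    (hc : (orderOf x).Coprime p) (h : ∀ a ∈ A, ⁅x, a⁆ ∈ ⁅A, A⁆) : ∀ a ∈ A, x * a = a * x := by
  have h1 : (conjAutOfMem hx) ^ (orderOf x) = 1 := by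
    ext a
    rw [conjAutOfMem_pow_coe, pow_orderOf_eq_one]
    simp
  have h2 : ∀ a : ↥A, conjAutOfMem hx a * a⁻¹ ∈ commutator ↥A := by
    intro a
    have h3 := h a a.2
    rw [← Subgroup.map_subtype_commutator] at h3
    obtain ⟨c, hc', hca⟩ := h3
    have : c = conjAutOfMem hx a * a⁻¹ := by
      apply Subtype.ext
      rw [Subgroup.coe_mul, conjAutOfMem_coe, Subgroup.coe_inv, ← commutatorElement_def]
      exact hca
    rw [← this]; exact hc'
  have h3 := mulAut_eq_one_of_coprime hA (conjAutOfMem hx) hc h1 h2
  intro a ha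
  have h4 : conjAutOfMem hx ⟨a, ha⟩ = ⟨a, ha⟩ := by rw [h3]; rfl
  have h5 := congrArg Subtype.val h4
  rw [conjAutOfMem_coe] at h5
  have : x * a * x⁻¹ = a := h5
  calc x * a = (x * a * x⁻¹) * x := by group
    _ = a * x := by rw [this]

end Cfsg.Agent.Lib.helper17
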