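import Mathlib

set_option autoImplicit false

namespace Cfsg.Agent.Lib.helper17.CB1

open MulAction

theorem burnside_split {N : Type*} [Group N] [Fintype N] (L : Subgroup N) [DecidablePred (· ∈ L)]
    (C : Type*) [Fintype C] [MulAction N C] [∀ n : N, Fintype (fixedBy C n)]
    [Fintype (Quotient (orbitRel N C))]
    (hC : ∀ n ∈ L, ∀ c : C, n • c = c) :
    Nat.card L * Nat.card C + ∑ n ∈ Finset.univ.filter (fun n : N => n ∉ L),
        Nat.card (fixedBy C n) =
      Fintype.card (Quotient (orbitRel N C)) * Nat.card N := by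
  classical
  have hb := MulAction.sum_card_fixedBy_eq_card_orbits_mul_card_group N C
  rw [← Nat.card_eq_fintype_card (α := N)] at hb
  rw [← hb, ← Finset.sum_filter_add_sum_filter_not Finset.univ (fun n : N => n ∈ L)]
  congr 1
  · have h1 : ∀ n ∈ Finset.univ.filter (fun n : N => n ∈ L), Fintype.card (fixedBy C n) =
        Nat.card C := by
      intro n hn
      have hn' : n ∈ L := (Finset.mem_filter.mp hn).2
      rw [← Nat.card_eq_fintype_card]
      apply Nat.card_congr
      exact (Equiv.subtypeUnivEquiv (fun c => hC n hn' c))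
    rw [Finset.sum_congr rfl h1, Finset.sum_const, smul_eq_mul]
    congr 1
    rw [Nat.card_eq_fintype_card, Fintype.card_subtype]
  · apply Finset.sum_congr rfl
    intro n _
    rw [Nat.card_eq_fintype_card]

/-- Burnside congruence: two finite `N`-sets on which `L` acts trivially and having equal
fixed-point counts for the elements outside `L`. -/
theorem burnside_congr {N : Type*} [Group N] [Finite N] (L : Subgroup N) {A B : Type*}
    [Finite A] [Finite B] [MulAction N A] [MulAction N B]
    (hA : ∀ n ∈ L, ∀ a : A, n • a = a) (hB : ∀ n ∈ L, ∀ b : B, n • b = b)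
    (h : ∀ n : N, n ∉ L → Nat.card (fixedBy A n) = Nat.card (fixedBy B n)) :
    ∃ oA oB : ℕ,
      Nat.card L * Nat.card A + Nat.card N * oB = Nat.card L * Nat.card B + Nat.card N * oA := by
  classical
  have : Fintype N := Fintype.ofFinite N
  have : Fintype A := Fintype.ofFinite A
  have : Fintype B := Fintype.ofFinite B
  refine ⟨Fintype.card (Quotient (orbitRel N A)), Fintype.card (Quotient (orbitRel N B)), ?_⟩
  have kA := burnside_split L A hA
  have kB := burnside_split L B hB
  have hR : ∑ n ∈ Finset.univ.filter (fun n : N => n ∉ L), Nat.card (fixedBy A n) =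
      ∑ n ∈ Finset.univ.filter (fun n : N => n ∉ L), Nat.card (fixedBy B n) := by
    apply Finset.sum_congr rfl
    intro n hn
    exact h n (Finset.mem_filter.mp hn).2
  rw [hR] at kA
  rw [mul_comm (Nat.card N), mul_comm (Nat.card N)]
  omega

/-- Consequence: the congruence modulo the index. -/
theorem burnside_congr_dvd {N : Type*} [Group N] [Finite N] (L : Subgroup N) {A B : Type*}
    [Finite A] [Finite B] [MulAction N A] [MulAction N B]
    (hA : ∀ n ∈ L, ∀ a : A, n • a = a) (hB : ∀ n ∈ L, ∀ b : B, n • b = b)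
    (h : ∀ n : N, n ∉ L → Nat.card (fixedBy A n) = Nat.card (fixedBy B n))
    (w : ℕ) (hw : Nat.card N = Nat.card L * w) :
    (w : ℤ) ∣ (Nat.card A : ℤ) - (Nat.card B : ℤ) := by
  obtain ⟨oA, oB, ho⟩ := burnside_congr L hA hB h
  rw [hw] at ho
  have hL : 0 < Nat.card L := Nat.card_pos
  have h2 : Nat.card L * (Nat.card A + w * oB) = Nat.card L * (Nat.card B + w * oA) := by
    rw [mul_add, mul_add, ← mul_assoc, ← mul_assoc]
    exact ho
  have h3 := Nat.eq_of_mul_eq_mul_left hL h2
  refine ⟨(oA : ℤ) - (oB : ℤ), ?_⟩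
  have h4 : (Nat.card A : ℤ) + w * oB = Nat.card B + w * oA := by exact_mod_cast h3
  linear_combination h4

section FixAct

variable {G : Type*} [Group G] {X : Type*} [MulAction G X]

/-- the fixed points of a subgroup -/
abbrev Fix (X : Type*) [MulAction G X] (L : Subgroup G) : Type _ := {x : X // ∀ l ∈ L, l • x = x}

theorem smul_fix_of_mem_normalizer {L : Subgroup G} {g : G} (hg : g ∈ Subgroup.normalizer (L : Set G))
    {x : X} (hx : ∀ l ∈ L, l • x = x) : ∀ l ∈ L, l • g • x = g • x := by
  intro l hl
  have h1 : g⁻¹ * l * g ∈ L := by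
    have := (Subgroup.mem_normalizer_iff.mp (Subgroup.inv_mem _ hg) l).mp hl
    simpa using this
  have h2 := hx _ h1
  rw [← mul_smul]
  have : l * g = g * (g⁻¹ * l * g) := by group
  rw [this, mul_smul, h2]

/-- `N` acts on the fixed points of `L` through a homomorphism into the normalizer of `L`. -/
@[instance_reducible]
def fixAct {N : Type*} [Group N] (f : N →* G) (L : Subgroup G)
    (hf : ∀ n, f n ∈ Subgroup.normalizer (L : Set G)) : MulAction N (Fix X L) where
  smul n x := ⟨f n • x.1, smul_fix_of_mem_normalizer (hf n) x.2⟩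
  one_smul x := by
    apply Subtype.ext
    show f 1 • x.1 = x.1
    rw [map_one, one_smul]
  mul_smul a b x := by
    apply Subtype.ext
    show f (a * b) • x.1 = f a • f b • x.1
    rw [map_mul, mul_smul]

theorem fix_sup_zpowers_iff (L : Subgroup G) (g : G) (x : X) :
    (∀ a ∈ L ⊔ Subgroup.zpowers g, a • x = x) ↔ (∀ l ∈ L, l • x = x) ∧ g • x = x := by
  have h1 : (∀ a ∈ L ⊔ Subgroup.zpowers g, a • x = x) ↔ L ⊔ Subgroup.zpowers g ≤ stabilizer G x :=
    Iff.rfl
  rw [h1, sup_le_iff, Subgroup.zpowers_le]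
  rfl

/-- fixed points of `n` on `Fix X L` under `fixAct` -/
theorem card_fixedBy_fixAct {N : Type*} [Group N] (f : N →* G) (L : Subgroup G)
    (hf : ∀ n, f n ∈ Subgroup.normalizer (L : Set G)) (n : N) :
    Nat.card (@fixedBy N (Fix X L) _ (fixAct f L hf) n) =
      Nat.card (Fix X (L ⊔ Subgroup.zpowers (f n))) := by
  apply Nat.card_congr
  letI := fixAct (X := X) f L hf
  refine
    { toFun := fun y => ⟨y.1.1, (fix_sup_zpowers_iff L (f n) y.1.1).mpr
        ⟨y.1.2, congrArg Subtype.val y.2⟩⟩
      invFun := fun z => ⟨⟨z.1, ((fix_sup_zpowers_iff L (f n) z.1).mp z.2).1⟩,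
        Subtype.ext ((fix_sup_zpowers_iff L (f n) z.1).mp z.2).2⟩
      left_inv := fun y => rfl
      right_inv := fun z => rfl }

end FixAct

end Cfsg.Agent.Lib.helper17.CB1
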