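import Cfsg.Agent.Lib.helper17.CB9

set_option autoImplicit false

namespace Cfsg.Agent.Lib.helper17.CB10

open Cfsg Cfsg.FusionSystem MulAction
open Cfsg.Agent.Lib.Helper26
open Cfsg.Agent.Lib.helper17.ParkGraph (graphOf IsFGraph mem_graphOf isFGraph_conj isFGraph_of_le
  isFGraph_diag mem_diag)
open Cfsg.Agent.Lib.helper17.ParkBiset (FG conjD card_conjD)
open Cfsg.Agent.Lib.helper17.BisetFix
open Cfsg.Agent.Lib.helper17.CB1 Cfsg.Agent.Lib.helper17.CB2 Cfsg.Agent.Lib.helper17.CB3
open Cfsg.Agent.Lib.helper17.CB4 Cfsg.Agent.Lib.helper17.CB5 Cfsg.Agent.Lib.helper17.CB6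
open Cfsg.Agent.Lib.helper17.CB7 Cfsg.Agent.Lib.helper17.CB8 Cfsg.Agent.Lib.helper17.CB9

universe u

variable {Ω : Type u} [Group Ω] {S : Subgroup Ω} (F : FusionSystem S)

section TopCount

variable [Finite S] [Fintype (CC F)] [Fintype (FG F)]

theorem graphOf_injective {f f' : S →* Ω} (hf : ∀ s, f s ∈ S)
    (h : graphOf S S f = graphOf S S f') : f = f' := by
  ext s
  have h1 : ((s, ⟨f s, hf s⟩) : S × S) ∈ graphOf S S f := mem_graphOf.mpr ⟨s.2, rfl⟩
  rw [h] at h1
  obtain ⟨_, h2⟩ := mem_graphOf.mp h1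
  exact h2.symm

/-- the top-level `F`-graphs are in bijection with `Aut_F(S)` -/
theorem card_top_eq :
    Nat.card {L : FG F // Nat.card L.1 = Nat.card S} = Nat.card (F.autGroup S) := by
  symm
  have hmem : ∀ α : F.autGroup S, S.subtype.comp (α.1 : MulAut S).toMonoidHom ∈ F.Hom S :=
    fun α => (mem_autGroup_iff F le_rfl).mp α.2
  let f : F.autGroup S → {L : FG F // Nat.card L.1 = Nat.card S} := fun α =>
    ⟨⟨graphOf S S (S.subtype.comp (α.1 : MulAut S).toMonoidHom), ⟨S, _, hmem α, rfl⟩⟩,
      card_graphOf F (hmem α)⟩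
  apply Nat.card_congr
  refine Equiv.ofBijective f ⟨?_, ?_⟩
  · intro α β hab
    have h1 : graphOf S S (S.subtype.comp (α.1 : MulAut S).toMonoidHom) =
        graphOf S S (S.subtype.comp (β.1 : MulAut S).toMonoidHom) :=
      congrArg (fun L : {L : FG F // Nat.card L.1 = Nat.card S} => L.1.1) hab
    have h2 := graphOf_injective (fun s => ((α.1 : MulAut S) s).2) h1
    apply Subtype.ext
    ext s
    exact congrArg (fun g : S →* Ω => g s) h2
  · rintro ⟨L, hL⟩
    obtain ⟨P, φ, hφ, hLeq⟩ := L.2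
    have hP : P = S := by
      have := src_eq_of_top F L (le_of_eq hL.symm)
      rw [hLeq, src_graphOf F hφ] at this
      exact this
    subst hP
    have hr : φ.range = P := by
      apply Subgroup.eq_of_le_of_card_ge (range_le F hφ)
      exact le_of_eq (Nat.card_congr (MonoidHom.ofInjective (F.injective_of_mem hφ)).toEquiv)
    refine ⟨⟨autOfHom F hφ hr, autOfHom_mem F hφ hr⟩, ?_⟩
    apply Subtype.ext
    apply Subtype.ext
    show graphOf P P (P.subtype.comp (autOfHom F hφ hr).toMonoidHom) = L.1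
    rw [hLeq]
    congr 1

end TopCount

section DoubleCount

variable [Finite S] [Fintype (CC F)] [Fintype (FG F)]

/-- for a top-level class, the fixed cosets over all top-level graphs add up to `|S|` -/
theorem sum_mm_top (q : CC F) (hq : Nat.card q.out.1 = Nat.card S) :
    ∑ L ∈ (Finset.univ.filter (fun L : FG F => Nat.card L.1 = Nat.card S)), mm q.out.1 L.1 =
      Nat.card S := by
  classical
  have : Fintype (S × S) := Fintype.ofFinite _
  have hS0 : 0 < Nat.card S := Nat.card_pos
  apply Nat.eq_of_mul_eq_mul_left hS0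
  rw [Finset.mul_sum]
  have h1 : ∀ L ∈ (Finset.univ.filter (fun L : FG F => Nat.card L.1 = Nat.card S)),
      Nat.card S * mm q.out.1 L.1 =
        ∑ c : S × S, if (∀ a ∈ L.1, c⁻¹ * a * c ∈ q.out.1) then 1 else 0 := by
    intro L _
    rw [← hq, card_mul_mm, Nat.card_eq_fintype_card, Fintype.card_subtype, Finset.card_filter]
  rw [Finset.sum_congr rfl h1, Finset.sum_comm]
  have h2 : ∀ c : S × S, (∑ L ∈ (Finset.univ.filter (fun L : FG F => Nat.card L.1 = Nat.card S)),
      if (∀ a ∈ L.1, c⁻¹ * a * c ∈ q.out.1) then 1 else 0) = 1 := by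
    intro c
    rw [Finset.sum_eq_single (conjD F c q.out)]
    · rw [if_pos]
      intro a ha
      exact (mem_conjD F c _ a).mp ha
    · intro L hL hne
      rw [if_neg]
      intro hcon
      apply hne
      have hLc : Nat.card L.1 = Nat.card S := (Finset.mem_filter.mp hL).2
      apply Subtype.ext
      apply Subgroup.eq_of_le_of_card_ge
      · intro x hx
        rw [mem_conjD]
        exact hcon x hx
      · rw [card_conjD, hq, hLc]
    · intro hnot
      exfalso
      apply hnot
      rw [Finset.mem_filter]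
      exact ⟨Finset.mem_univ _, by rw [card_conjD, hq]⟩
  rw [Finset.sum_congr rfl (fun c _ => h2 c), Finset.sum_const, Finset.card_univ, smul_eq_mul,
    mul_one, ← Nat.card_eq_fintype_card, Nat.card_prod]

/-- double counting the top-level marks -/
theorem sum_aa_top (μ : CC F → ℕ) :
    ∑ L ∈ (Finset.univ.filter (fun L : FG F => Nat.card L.1 = Nat.card S)), aa F μ L.1 =
      (∑ q ∈ (Finset.univ.filter (fun q : CC F => Nat.card q.out.1 = Nat.card S)), μ q) *
        Nat.card S := by
  classical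
  unfold aa
  rw [Finset.sum_comm, Finset.sum_mul, Finset.sum_filter]
  apply Finset.sum_congr rfl
  intro q _
  rw [← Finset.mul_sum]
  split_ifs with hq
  · rw [sum_mm_top F q hq]
  · rw [Finset.sum_eq_zero, mul_zero]
    intro L hL
    have hLc : Nat.card L.1 = Nat.card S := (Finset.mem_filter.mp hL).2
    apply mm_eq_zero_of_card_lt
    rw [hLc]
    exact lt_of_le_of_ne (card_le_card_S F q.out) hq

end DoubleCount

section Coprime

variable [Finite S] [Fintype (CC F)] [Fintype (FG F)] {p : ℕ} [Fact p.Prime]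

theorem top_count (μ : CC F → ℕ) (hst : StableAt F μ 0)
    (hd : aa F μ (diag F).1 = wt (diag F).1) :
    (∑ q ∈ (Finset.univ.filter (fun q : CC F => Nat.card q.out.1 = Nat.card S)), μ q) *
      Nat.card (autInducedBy S S) = Nat.card (F.autGroup S) := by
  classical
  have h1 := sum_aa_top F μ
  have h2 : ∀ L ∈ (Finset.univ.filter (fun L : FG F => Nat.card L.1 = Nat.card S)),
      aa F μ L.1 = Nat.card (Subgroup.center S) := by
    intro L hL
    have hLc : Nat.card L.1 = Nat.card S := (Finset.mem_filter.mp hL).2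
    have hc : F.IsConj (src L.1) (src (diag F).1) := by
      rw [src_eq_of_top F L (le_of_eq hLc.symm), src_diag]
      exact isConj_refl F le_rfl
    rw [hst L (diag F) hc (Nat.zero_le _), hd, wt_diag]
  rw [Finset.sum_congr rfl h2, Finset.sum_const, smul_eq_mul] at h1
  have h3 : (Finset.univ.filter (fun L : FG F => Nat.card L.1 = Nat.card S)).card =
      Nat.card (F.autGroup S) := by
    rw [← card_top_eq F, Nat.card_eq_fintype_card (α := {L : FG F // Nat.card L.1 = Nat.card S}),
      Fintype.card_subtype]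
  rw [h3] at h1
  have h4 := card_autInducedBy_top (S := S)
  have hZ : 0 < Nat.card (Subgroup.center S) := Nat.card_pos
  apply Nat.eq_of_mul_eq_mul_right hZ
  rw [mul_assoc, h4, ← h1]

theorem not_dvd_top (hS : IsPGroup p S) (hF : F.IsSaturated p) (μ : CC F → ℕ)
    (hst : StableAt F μ 0) (hd : aa F μ (diag F).1 = wt (diag F).1) :
    ¬ p ∣ ∑ q ∈ (Finset.univ.filter (fun q : CC F => Nat.card q.out.1 = Nat.card S)), μ q := by
  obtain ⟨-, h₁, -⟩ := saturated_fullyNormalized hS F hF (fullyNormalized_top F)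
  have hsyl : IsSylowIn p (F.autGroup S) (autInducedBy S S) := h₁.2
  have hfin : Finite (F.autGroup S) := inferInstance
  have hc := hsyl.card_eq (autInducedBy_le_autGroup F le_rfl)
  have ht := top_count F μ hst hd
  obtain ⟨v, hv⟩ : ∃ v, v = (Nat.card (F.autGroup S)).factorization p := ⟨_, rfl⟩
  rw [← hv] at hc
  rw [hc] at ht
  intro hdvd
  have hg : Nat.card (F.autGroup S) ≠ 0 := Nat.card_pos.ne'
  have h5 : p ^ (v + 1) ∣ Nat.card (F.autGroup S) := by
    have h6 : p * p ^ v ∣ (∑ q ∈ (Finset.univ.filter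
        (fun q : CC F => Nat.card q.out.1 = Nat.card S)), μ q) * p ^ v :=
      Nat.mul_dvd_mul hdvd (dvd_refl _)
    rw [ht] at h6
    rw [pow_succ, mul_comm]
    exact h6
  rw [hv] at h5
  exact Nat.pow_succ_factorization_not_dvd hg (Fact.out : p.Prime) h5

theorem card_quot_out (hS : IsPGroup p S) (q : CC F) :
    ∃ r : ℕ, Nat.card ((S × S) ⧸ q.out.1) =
      Nat.card S * (if Nat.card q.out.1 = Nat.card S then 1 else p * r) := by
  have h1 : Nat.card ((S × S) ⧸ q.out.1) * Nat.card q.out.1 = Nat.card S * Nat.card S := by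
    rw [← Nat.card_prod (α := S) (β := S)]
    exact (Subgroup.card_eq_card_quotient_mul_card_subgroup q.out.1).symm
  split_ifs with hq
  · refine ⟨0, ?_⟩
    rw [hq] at h1
    rw [mul_one]
    exact Nat.eq_of_mul_eq_mul_right Nat.card_pos h1
  · obtain ⟨n, hn⟩ := hS.exists_card_eq
    obtain ⟨a, ha⟩ := ((isPGroup_prod hS).to_subgroup q.out.1).exists_card_eq
    have hlt : Nat.card q.out.1 < Nat.card S := lt_of_le_of_ne (card_le_card_S F q.out) hq
    rw [hn, ha] at hlt
    have hp : 1 < p := (Fact.out : p.Prime).one_lt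
    have han : a < n := (Nat.pow_lt_pow_iff_right hp).mp hlt
    refine ⟨p ^ (n - a - 1), ?_⟩
    rw [hn, ha] at h1
    rw [hn]
    have hp0 : 0 < p ^ a := Nat.pos_of_ne_zero (pow_ne_zero _ (by omega))
    apply Nat.eq_of_mul_eq_mul_right hp0
    have h7 : p * (p ^ (n - a - 1) * p ^ a) = p ^ n := by
      rw [← pow_add, ← pow_succ']
      congr 1
      omega
    rw [h1, mul_assoc, mul_assoc, h7]

theorem card_Y (hS : IsPGroup p S) (μ : CC F → ℕ) :
    ∃ R : ℕ, Nat.card (Y F μ) = Nat.card S *
      ((∑ q ∈ (Finset.univ.filter (fun q : CC F => Nat.card q.out.1 = Nat.card S)), μ q) +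
        p * R) := by
  classical
  choose r hr using card_quot_out F hS
  refine ⟨∑ q ∈ (Finset.univ.filter (fun q : CC F => ¬ Nat.card q.out.1 = Nat.card S)),
    μ q * r q, ?_⟩
  have h1 : Nat.card (Y F μ) = ∑ q : CC F, μ q * Nat.card ((S × S) ⧸ q.out.1) := by
    rw [Nat.card_sigma, Fintype.sum_sigma]
    apply Finset.sum_congr rfl
    intro q _
    show ∑ _y : Fin (μ q), Nat.card ((S × S) ⧸ q.out.1) = _
    rw [Finset.sum_const, Finset.card_univ, Fintype.card_fin, smul_eq_mul]
  rw [h1, mul_add, Finset.mul_sum, Finset.mul_sum, Finset.mul_sum, Finset.sum_filter,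
    Finset.sum_filter, ← Finset.sum_add_distrib]
  apply Finset.sum_congr rfl
  intro q _
  rw [hr q]
  split_ifs with hq
  · simp
    exact mul_comm _ _
  · simp
    ring

end Coprime

end Cfsg.Agent.Lib.helper17.CB10
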