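import Cfsg.Agent.Lib.helper17.ParkGraph
import Cfsg.Agent.Lib.Helper26.FusionBasic

set_option autoImplicit false

namespace Cfsg.Agent.Lib.helper17.CB2

open Cfsg Cfsg.FusionSystem
open Cfsg.Agent.Lib.Helper26
open Cfsg.Agent.Lib.helper17.ParkGraph (graphOf IsFGraph mem_graphOf)

universe u

variable {Ω : Type u} [Group Ω] {S : Subgroup Ω}

/-- The source (first projection) of a subgroup of `S × S`, as a subgroup of `Ω`. -/
def src (L : Subgroup (S × S)) : Subgroup Ω := (L.map (MonoidHom.fst S S)).map S.subtype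

theorem mem_src {L : Subgroup (S × S)} {x : Ω} : x ∈ src L ↔ ∃ z ∈ L, (z.1 : Ω) = x := by
  unfold src
  constructor
  · rintro ⟨s, ⟨z, hz, rfl⟩, rfl⟩
    exact ⟨z, hz, rfl⟩
  · rintro ⟨z, hz, rfl⟩
    exact ⟨z.1, ⟨z, hz, rfl⟩, rfl⟩

theorem src_le (L : Subgroup (S × S)) : src L ≤ S := by
  intro x hx
  obtain ⟨z, -, rfl⟩ := mem_src.mp hx
  exact z.1.2

theorem src_graphOf (F : FusionSystem S) {P : Subgroup Ω} {φ : P →* Ω} (hφ : φ ∈ F.Hom P) :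
    src (graphOf S P φ) = P := by
  ext x
  rw [mem_src]
  constructor
  · rintro ⟨z, hz, rfl⟩
    exact (mem_graphOf.mp hz).1
  · intro hx
    refine ⟨(⟨x, source_le F hφ hx⟩, ⟨φ ⟨x, hx⟩, apply_mem F hφ _⟩), ?_, rfl⟩
    exact mem_graphOf.mpr ⟨hx, rfl⟩

section Pair

variable (F : FusionSystem S) {N₁ N₂ : Subgroup Ω} {α : N₁ →* Ω} {β : N₂ →* Ω}
  (hα : α ∈ F.Hom N₁) (hβ : β ∈ F.Hom N₂) (D : Subgroup (S × S))
  (hD₁ : ∀ z ∈ D, (z.1 : Ω) ∈ N₁) (hD₂ : ∀ z ∈ D, (z.2 : Ω) ∈ N₂)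

/-- The map `(a, b) ↦ (α a, β b)` on a subgroup `D` of `S × S`. -/
def pairHom : ↥D →* S × S where
  toFun z := (⟨α ⟨z.1.1, hD₁ z.1 z.2⟩, apply_mem F hα _⟩, ⟨β ⟨z.1.2, hD₂ z.1 z.2⟩, apply_mem F hβ _⟩)
  map_one' := by
    apply Prod.ext
    · apply Subtype.ext
      show α ⟨((1 : ↥D).1.1 : Ω), _⟩ = 1
      have : (⟨(((1 : ↥D) : S × S).1 : Ω), hD₁ _ (1 : ↥D).2⟩ : N₁) = 1 := Subtype.ext rfl
      rw [this, map_one]
    · apply Subtype.ext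
      show β ⟨((1 : ↥D).1.2 : Ω), _⟩ = 1
      have : (⟨(((1 : ↥D) : S × S).2 : Ω), hD₂ _ (1 : ↥D).2⟩ : N₂) = 1 := Subtype.ext rfl
      rw [this, map_one]
  map_mul' x y := by
    apply Prod.ext
    · apply Subtype.ext
      show α ⟨((x * y).1.1 : Ω), _⟩ = α ⟨(x.1.1 : Ω), _⟩ * α ⟨(y.1.1 : Ω), _⟩
      rw [← map_mul]
      rfl
    · apply Subtype.ext
      show β ⟨((x * y).1.2 : Ω), _⟩ = β ⟨(x.1.2 : Ω), _⟩ * β ⟨(y.1.2 : Ω), _⟩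
      rw [← map_mul]
      rfl

theorem pairHom_fst (z : ↥D) :
    (((pairHom F hα hβ D hD₁ hD₂ z).1 : S) : Ω) = α ⟨z.1.1, hD₁ z.1 z.2⟩ := rfl

theorem pairHom_snd (z : ↥D) :
    (((pairHom F hα hβ D hD₁ hD₂ z).2 : S) : Ω) = β ⟨z.1.2, hD₂ z.1 z.2⟩ := rfl

theorem pairHom_injective : Function.Injective (pairHom F hα hβ D hD₁ hD₂) := by
  intro x y h
  have h1 := congrArg (fun w : S × S => (w.1 : Ω)) h
  have h2 := congrArg (fun w : S × S => (w.2 : Ω)) h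
  simp only [pairHom_fst, pairHom_snd] at h1 h2
  have e1 := congrArg Subtype.val (F.injective_of_mem hα h1)
  have e2 := congrArg Subtype.val (F.injective_of_mem hβ h2)
  apply Subtype.ext
  apply Prod.ext
  · exact Subtype.ext e1
  · exact Subtype.ext e2

/-- (G2a) images of `F`-graphs under a pair of maps of the system are `F`-graphs. -/
theorem isFGraph_map_pairHom (K : Subgroup ↥D) (h : IsFGraph F (K.map D.subtype)) :
    IsFGraph F (K.map (pairHom F hα hβ D hD₁ hD₂)) := by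
  obtain ⟨R, θ, hθ, hK⟩ := h
  have hRS : R ≤ S := source_le F hθ
  have hmemK : ∀ z : ↥D, z ∈ K ↔ ∃ h : (z.1.1 : Ω) ∈ R, θ ⟨z.1.1, h⟩ = (z.1.2 : Ω) := by
    intro z
    have h1 : z ∈ K ↔ z.1 ∈ K.map D.subtype := by
      constructor
      · intro hz
        exact ⟨z, hz, rfl⟩
      · rintro ⟨z', hz', he⟩
        have : z' = z := Subtype.ext he
        rw [← this]
        exact hz'
    rw [h1, hK]
    rfl
  -- every point of the graph comes from `K`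
  have hlift : ∀ a : R, ∃ z ∈ K, (z.1.1 : Ω) = a ∧ (z.1.2 : Ω) = θ a := by
    intro a
    have h1 : ((⟨a, hRS a.2⟩, ⟨θ a, apply_mem F hθ a⟩) : S × S) ∈ K.map D.subtype := by
      rw [hK]
      exact mem_graphOf.mpr ⟨a.2, rfl⟩
    obtain ⟨z, hz, he⟩ := h1
    refine ⟨z, hz, ?_, ?_⟩
    · exact congrArg (fun w : S × S => (w.1 : Ω)) he
    · exact congrArg (fun w : S × S => (w.2 : Ω)) he
  have hRN : R ≤ N₁ := by
    intro a ha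
    obtain ⟨z, -, h1, -⟩ := hlift ⟨a, ha⟩
    have := hD₁ z.1 z.2
    rw [h1] at this
    exact this
  have hαR := restrict_mem F hα hRN
  obtain ⟨γ, hγ, hγr, hγ1, -⟩ := exists_inv F hαR rfl
  have hγR : ∀ y, γ y ∈ R := fun y => hγr.le ⟨y, rfl⟩
  have hθγ := F.comp_mem hγ hθ hγR
  have hθγN : ∀ y, (θ.comp (γ.codRestrict R hγR)) y ∈ N₂ := by
    intro y
    obtain ⟨z, -, h1, h2⟩ := hlift ⟨γ y, hγR y⟩
    have := hD₂ z.1 z.2
    rw [h2] at this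
    exact this
  have hθ' := F.comp_mem hθγ hβ hθγN
  refine ⟨_, _, hθ', ?_⟩
  ext w
  rw [mem_graphOf]
  constructor
  · rintro ⟨z, hz, rfl⟩
    obtain ⟨ha, hb⟩ := (hmemK z).mp hz
    have hmem : ((pairHom F hα hβ D hD₁ hD₂ z).1 : Ω) ∈
        (α.comp (Subgroup.inclusion hRN)).range := ⟨⟨z.1.1, ha⟩, rfl⟩
    refine ⟨hmem, ?_⟩
    have h1 := hγ1 ⟨z.1.1, ha⟩ hmem
    show β ⟨θ ⟨γ ⟨_, hmem⟩, _⟩, _⟩ = _
    have h2 : (⟨γ ⟨((pairHom F hα hβ D hD₁ hD₂ z).1 : Ω), hmem⟩, hγR _⟩ : R) = ⟨z.1.1, ha⟩ :=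
      Subtype.ext h1
    rw [pairHom_snd]
    congr 1
    apply Subtype.ext
    show θ ⟨γ ⟨_, hmem⟩, _⟩ = (z.1.2 : Ω)
    rw [← hb]
    congr 1
  · rintro ⟨hw1, hw2⟩
    obtain ⟨a, ha⟩ := hw1
    obtain ⟨z, hz, h1, h2⟩ := hlift a
    refine ⟨z, hz, ?_⟩
    apply Prod.ext
    · apply Subtype.ext
      rw [pairHom_fst, ← ha]
      show α ⟨z.1.1, _⟩ = α ⟨a, _⟩
      congr 1
      exact Subtype.ext h1
    · apply Subtype.ext
      rw [pairHom_snd, ← hw2]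
      show β ⟨z.1.2, _⟩ = β ⟨θ ⟨γ ⟨_, _⟩, _⟩, _⟩
      congr 1
      apply Subtype.ext
      show (z.1.2 : Ω) = θ ⟨γ ⟨_, _⟩, _⟩
      rw [h2]
      congr 1
      apply Subtype.ext
      show (a : Ω) = γ ⟨_, _⟩
      have h3 := hγ1 a ⟨a, rfl⟩
      rw [← h3]
      congr 1
      exact Subtype.ext ha

/-- (G2c) the sources of `K` and of its image are conjugate in the system. -/
theorem isConj_src_map_pairHom (K : Subgroup ↥D) :
    F.IsConj (src (K.map D.subtype)) (src (K.map (pairHom F hα hβ D hD₁ hD₂))) := by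
  have hRN : src (K.map D.subtype) ≤ N₁ := by
    intro a ha
    obtain ⟨w, ⟨z, -, rfl⟩, rfl⟩ := mem_src.mp ha
    exact hD₁ z.1 z.2
  refine ⟨_, restrict_mem F hα hRN, ?_⟩
  ext y
  rw [mem_src]
  constructor
  · rintro ⟨a, rfl⟩
    obtain ⟨w, ⟨z, hz, rfl⟩, hw⟩ := mem_src.mp a.2
    refine ⟨_, ⟨z, hz, rfl⟩, ?_⟩
    rw [pairHom_fst]
    show α ⟨z.1.1, _⟩ = α ⟨a, _⟩
    congr 1
    exact Subtype.ext hw
  · rintro ⟨w, ⟨z, hz, rfl⟩, rfl⟩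
    have ha : (z.1.1 : Ω) ∈ src (K.map D.subtype) := mem_src.mpr ⟨z.1, ⟨z, hz, rfl⟩, rfl⟩
    exact ⟨⟨z.1.1, ha⟩, rfl⟩

/-- (G2b) preimages of `F`-graphs under a pair of maps of the system are `F`-graphs. -/
theorem isFGraph_of_map_pairHom (K : Subgroup ↥D)
    (h : IsFGraph F (K.map (pairHom F hα hβ D hD₁ hD₂))) : IsFGraph F (K.map D.subtype) := by
  obtain ⟨R', θ', hθ', hK⟩ := h
  have hmemK : ∀ z ∈ K, ∃ h : α ⟨z.1.1, hD₁ z.1 z.2⟩ ∈ R',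
      θ' ⟨α ⟨z.1.1, hD₁ z.1 z.2⟩, h⟩ = β ⟨z.1.2, hD₂ z.1 z.2⟩ := by
    intro z hz
    have h1 : pairHom F hα hβ D hD₁ hD₂ z ∈ K.map (pairHom F hα hβ D hD₁ hD₂) := ⟨z, hz, rfl⟩
    rw [hK] at h1
    exact mem_graphOf.mp h1
  have hRN : src (K.map D.subtype) ≤ N₁ := by
    intro a ha
    obtain ⟨w, ⟨z, -, rfl⟩, rfl⟩ := mem_src.mp ha
    exact hD₁ z.1 z.2
  have hlift : ∀ a : src (K.map D.subtype), ∃ z ∈ K, (z.1.1 : Ω) = a := by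
    intro a
    obtain ⟨w, ⟨z, hz, rfl⟩, hw⟩ := mem_src.mp a.2
    exact ⟨z, hz, hw⟩
  have hαR := restrict_mem F hα hRN
  have hαR' : ∀ a, (α.comp (Subgroup.inclusion hRN)) a ∈ R' := by
    intro a
    obtain ⟨z, hz, hza⟩ := hlift a
    obtain ⟨h1, -⟩ := hmemK z hz
    have : (α.comp (Subgroup.inclusion hRN)) a = α ⟨z.1.1, hD₁ z.1 z.2⟩ := by
      show α ⟨a, _⟩ = α ⟨z.1.1, _⟩
      congr 1
      exact Subtype.ext hza.symm
    rw [this]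
    exact h1
  have hθα := F.comp_mem hαR hθ' hαR'
  have hθαr : ∀ a, (θ'.comp ((α.comp (Subgroup.inclusion hRN)).codRestrict R' hαR')) a ∈
      β.range := by
    intro a
    obtain ⟨z, hz, hza⟩ := hlift a
    obtain ⟨h1, h2⟩ := hmemK z hz
    refine ⟨⟨z.1.2, hD₂ z.1 z.2⟩, ?_⟩
    rw [← h2]
    show θ' ⟨α ⟨z.1.1, _⟩, _⟩ = θ' ⟨α ⟨a, _⟩, _⟩
    congr 1
    apply Subtype.ext
    show α ⟨z.1.1, _⟩ = α ⟨a, _⟩
    congr 1
    exact Subtype.ext hza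
  obtain ⟨δ, hδ, -, hδ1, -⟩ := exists_inv F hβ rfl
  have hθ := F.comp_mem hθα hδ hθαr
  refine ⟨_, _, hθ, ?_⟩
  have hfwd : ∀ z ∈ K, ∃ h : (z.1.1 : Ω) ∈ src (K.map D.subtype),
      (δ.comp ((θ'.comp ((α.comp (Subgroup.inclusion hRN)).codRestrict R' hαR')).codRestrict
        β.range hθαr)) ⟨z.1.1, h⟩ = (z.1.2 : Ω) := by
    intro z hz
    have ha : (z.1.1 : Ω) ∈ src (K.map D.subtype) := mem_src.mpr ⟨z.1, ⟨z, hz, rfl⟩, rfl⟩
    refine ⟨ha, ?_⟩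
    obtain ⟨h1, h2⟩ := hmemK z hz
    have h3 := hδ1 ⟨z.1.2, hD₂ z.1 z.2⟩ ⟨_, rfl⟩
    rw [← h3]
    show δ ⟨θ' ⟨α ⟨z.1.1, _⟩, _⟩, _⟩ = δ ⟨β ⟨z.1.2, _⟩, _⟩
    congr 1
    exact Subtype.ext h2
  ext w
  rw [mem_graphOf]
  constructor
  · rintro ⟨z, hz, rfl⟩
    exact hfwd z hz
  · rintro ⟨hw1, hw2⟩
    obtain ⟨z, hz, hza⟩ := hlift ⟨w.1, hw1⟩
    obtain ⟨h1, h2⟩ := hfwd z hz
    refine ⟨z, hz, ?_⟩
    apply Prod.ext
    · exact Subtype.ext hza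
    · apply Subtype.ext
      show (z.1.2 : Ω) = w.2
      rw [← h2, ← hw2]
      congr 1
      exact Subtype.ext hza

end Pair

end Cfsg.Agent.Lib.helper17.CB2
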