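import Cfsg.Agent.Lib.helper17.CB1
import Cfsg.Agent.Lib.helper17.CB2
import Cfsg.Agent.Lib.Helper26.FusionSat

set_option autoImplicit false

namespace Cfsg.Agent.Lib.helper17.CB3

open Cfsg Cfsg.FusionSystem MulAction
open Cfsg.Agent.Lib.Helper26
open Cfsg.Agent.Lib.helper17.ParkGraph (graphOf IsFGraph mem_graphOf)
open Cfsg.Agent.Lib.helper17.CB1 Cfsg.Agent.Lib.helper17.CB2

universe u

variable {Ω : Type u} [Group Ω] {S : Subgroup Ω}

section Norm

variable (F : FusionSystem S) {P : Subgroup Ω} {φ : P →* Ω} (hφ : φ ∈ F.Hom P)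
include hφ

/-- conjugating a point of the graph by an element of `S × S` -/
theorem conj_graph_mem {z : S × S} (hz : z ∈ Subgroup.normalizer ((graphOf S P φ : Subgroup (S × S)) : Set (S × S)))
    (u : P) : ∃ h : (z.1 : Ω) * u * (z.1 : Ω)⁻¹ ∈ P,
      φ ⟨(z.1 : Ω) * u * (z.1 : Ω)⁻¹, h⟩ = (z.2 : Ω) * φ u * (z.2 : Ω)⁻¹ := by
  have hPS : P ≤ S := source_le F hφ
  have h1 : ((⟨u, hPS u.2⟩, ⟨φ u, apply_mem F hφ u⟩) : S × S) ∈ graphOf S P φ :=
    mem_graphOf.mpr ⟨u.2, rfl⟩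
  have h2 := (Subgroup.mem_normalizer_iff.mp hz _).mp h1
  exact mem_graphOf.mp h2

theorem fst_mem_normalizer {z : S × S}
    (hz : z ∈ Subgroup.normalizer ((graphOf S P φ : Subgroup (S × S)) : Set (S × S))) :
    (z.1 : Ω) ∈ Subgroup.normalizer (P : Set Ω) := by
  apply mem_normalizer_of_forall
  · intro y hy
    exact (conj_graph_mem F hφ hz ⟨y, hy⟩).1
  · intro y hy
    have := (conj_graph_mem F hφ (Subgroup.inv_mem _ hz) ⟨y, hy⟩).1
    simpa using this

theorem snd_mem_normalizer {z : S × S}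
    (hz : z ∈ Subgroup.normalizer ((graphOf S P φ : Subgroup (S × S)) : Set (S × S))) :
    (z.2 : Ω) ∈ Subgroup.normalizer (φ.range : Set Ω) := by
  apply mem_normalizer_of_forall
  · rintro _ ⟨u, rfl⟩
    obtain ⟨h, he⟩ := conj_graph_mem F hφ hz u
    exact ⟨_, he⟩
  · rintro _ ⟨u, rfl⟩
    obtain ⟨h, he⟩ := conj_graph_mem F hφ (Subgroup.inv_mem _ hz) u
    refine ⟨⟨_, h⟩, ?_⟩
    rw [he]
    simp

end Norm

section Key

variable [Finite S] {p : ℕ} [Fact p.Prime]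

/-- The pair of maps `(α, β)` carrying the normalizer of the graph of `φ` into the normalizer of
the diagonal of a fully normalized conjugate `P₀` of the source. -/
theorem exists_normalizer_pair (hS : IsPGroup p S) (F : FusionSystem S)
    {P P₀ : Subgroup Ω} {φ : P →* Ω} (hφ : φ ∈ F.Hom P)
    (h₁ : F.IsFullyAutomized p P₀) (h₂ : F.IsReceptive P₀) (hconj : F.IsConj P P₀) :
    ∃ (N₂ : Subgroup Ω) (α : ↥(normalizerIn S P) →* Ω) (β : ↥N₂ →* Ω),
      α ∈ F.Hom (normalizerIn S P) ∧ β ∈ F.Hom N₂ ∧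
      (∀ z ∈ Subgroup.normalizer ((graphOf S P φ : Subgroup (S × S)) : Set (S × S)),
        (z.1 : Ω) ∈ normalizerIn S P) ∧
      (∀ z ∈ Subgroup.normalizer ((graphOf S P φ : Subgroup (S × S)) : Set (S × S)),
        (z.2 : Ω) ∈ N₂) ∧
      (∀ u : P, ∃ (h1 : (u : Ω) ∈ normalizerIn S P) (h2 : φ u ∈ N₂),
        α ⟨u, h1⟩ ∈ P₀ ∧ β ⟨φ u, h2⟩ = α ⟨u, h1⟩) ∧
      (∀ y ∈ P₀, ∃ (u : P) (h1 : (u : Ω) ∈ normalizerIn S P), α ⟨u, h1⟩ = y) := by
  have hPS : P ≤ S := source_le F hφ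
  have hPN : P ≤ normalizerIn S P := fun x hx => ⟨hPS hx, Subgroup.le_normalizer hx⟩
  obtain ⟨α, hα, hαN, hαP⟩ := exists_normalizer_hom hS F h₁ h₂ hconj
  have hαP0 : ∀ u : P, α ⟨u, hPN u.2⟩ ∈ P₀ := by
    intro u
    rw [← hαP]
    exact ⟨⟨u, hPN u.2⟩, Subgroup.mem_subgroupOf.mpr u.2, rfl⟩
  have hαsurj : ∀ y ∈ P₀, ∃ u : P, α ⟨u, hPN u.2⟩ = y := by
    intro y hy
    rw [← hαP] at hy
    obtain ⟨x, hx, rfl⟩ := hy
    exact ⟨⟨x, Subgroup.mem_subgroupOf.mp hx⟩, rfl⟩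
  -- the inverse of `φ`
  obtain ⟨φi, hφi, hφir, hφi1, -⟩ := exists_inv F hφ rfl
  have hφiP : ∀ y, φi y ∈ P := fun y => hφir.le ⟨y, rfl⟩
  have hαP' := restrict_mem F hα hPN
  have hψ := F.comp_mem hφi hαP' hφiP
  -- `ψ (φ u) = α u`
  have hψφ : ∀ u : P, ((α.comp (Subgroup.inclusion hPN)).comp (φi.codRestrict P hφiP))
      ⟨φ u, ⟨u, rfl⟩⟩ = α ⟨u, hPN u.2⟩ := by
    intro u
    show α ⟨φi ⟨φ u, _⟩, _⟩ = α ⟨u, _⟩
    congr 1
    exact Subtype.ext (hφi1 u ⟨u, rfl⟩)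
  have hψr : ((α.comp (Subgroup.inclusion hPN)).comp (φi.codRestrict P hφiP)).range = P₀ := by
    ext y
    constructor
    · rintro ⟨⟨_, u, rfl⟩, rfl⟩
      rw [hψφ u]
      exact hαP0 u
    · intro hy
      obtain ⟨u, rfl⟩ := hαsurj y hy
      exact ⟨⟨φ u, ⟨u, rfl⟩⟩, hψφ u⟩
  obtain ⟨β, hβ, hag⟩ := h₂.2 _ _ hψ hψr
  have hQle := le_extender F hψ
  refine ⟨_, α, β, hα, hβ, ?_, ?_, ?_, ?_⟩
  · intro z hz
    exact ⟨z.1.2, fst_mem_normalizer F hφ hz⟩
  · intro z hz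
    have hzN : (z.1 : Ω) ∈ normalizerIn S P := ⟨z.1.2, fst_mem_normalizer F hφ hz⟩
    refine mem_extender_iff.mpr ⟨z.2.2, snd_mem_normalizer F hφ hz, α ⟨z.1, hzN⟩,
      apply_mem F hα _, ?_⟩
    rintro ⟨_, u, rfl⟩
    obtain ⟨h, he⟩ := conj_graph_mem F hφ hz u
    have e1 : (⟨(z.2 : Ω) * φ u * (z.2 : Ω)⁻¹, conj_mem_of_mem_normalizer
        (snd_mem_normalizer F hφ hz) ⟨φ u, ⟨u, rfl⟩⟩⟩ : φ.range) =
        ⟨φ ⟨(z.1 : Ω) * u * (z.1 : Ω)⁻¹, h⟩, ⟨_, rfl⟩⟩ := Subtype.ext he.symm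
    rw [e1, hψφ ⟨_, h⟩, hψφ u]
    have e2 : (⟨(z.1 : Ω) * u * (z.1 : Ω)⁻¹, hPN h⟩ : ↥(normalizerIn S P)) =
        ⟨z.1, hzN⟩ * ⟨u, hPN u.2⟩ * ⟨z.1, hzN⟩⁻¹ := Subtype.ext rfl
    rw [e2, map_mul, map_mul, map_inv]
  · intro u
    refine ⟨hPN u.2, hQle ⟨u, rfl⟩, hαP0 u, ?_⟩
    rw [hag (φ u) ⟨u, rfl⟩ (hQle ⟨u, rfl⟩)]
    exact hψφ u
  · intro y hy
    obtain ⟨u, hu⟩ := hαsurj y hy
    exact ⟨u, hPN u.2, hu⟩

end Key

section KeyCongr

variable [Finite S] {p : ℕ} [Fact p.Prime]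

/-- the weight `|N(L) : L|` of a subgroup of `S × S` -/
noncomputable def wt (L : Subgroup (S × S)) : ℕ :=
  Nat.card (Subgroup.normalizer (L : Set (S × S))) / Nat.card L

theorem card_normalizer_eq (L : Subgroup (S × S)) :
    Nat.card (Subgroup.normalizer (L : Set (S × S))) = Nat.card L * wt L := by
  unfold wt
  rw [Nat.mul_div_cancel']
  exact Subgroup.card_dvd_of_le Subgroup.le_normalizer

theorem key_congr (hS : IsPGroup p S) (F : FusionSystem S)
    {P P₀ : Subgroup Ω} {φ : P →* Ω} (hφ : φ ∈ F.Hom P)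
    (h₁ : F.IsFullyAutomized p P₀) (h₂ : F.IsReceptive P₀) (hconj : F.IsConj P P₀)
    {X : Type*} [Finite X] [MulAction (S × S) X]
    (hXg : ∀ (M : Subgroup (S × S)) (x : X), (∀ a ∈ M, a • x = x) → IsFGraph F M)
    (hst : ∀ M M' : Subgroup (S × S), IsFGraph F M → IsFGraph F M' →
      F.IsConj (src M) (src M') → Nat.card (graphOf S P φ) < Nat.card M →
      Nat.card (Fix X M) = Nat.card (Fix X M')) :
    ((wt (graphOf S P φ) : ℕ) : ℤ) ∣ (Nat.card (Fix X (graphOf S P φ)) : ℤ) -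
        (Nat.card (Fix X (graphOf S P₀ P₀.subtype)) : ℤ) ∧
      Nat.card (Subgroup.normalizer ((graphOf S P φ : Subgroup (S × S)) : Set (S × S))) ≤
        Nat.card (Subgroup.normalizer ((graphOf S P₀ P₀.subtype : Subgroup (S × S)) :
          Set (S × S))) := by
  obtain ⟨N₂, α, β, hα, hβ, hD₁, hD₂, hPP, hsurj⟩ :=
    exists_normalizer_pair hS F hφ h₁ h₂ hconj
  obtain ⟨L, hL⟩ : ∃ L : Subgroup (S × S), L = graphOf S P φ := ⟨_, rfl⟩
  obtain ⟨L₀, hL₀⟩ : ∃ L₀ : Subgroup (S × S), L₀ = graphOf S P₀ P₀.subtype := ⟨_, rfl⟩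
  rw [← hL, ← hL₀]
  rw [← hL] at hD₁ hD₂ hst
  obtain ⟨Φ, hΦ⟩ : ∃ Φ : ↥(Subgroup.normalizer (L : Set (S × S))) →* S × S,
      Φ = pairHom F hα hβ _ hD₁ hD₂ := ⟨_, rfl⟩
  have hP₀S : P₀ ≤ S := h₂.1
  have hPS : P ≤ S := source_le F hφ
  -- the image of `L`
  have hΦL : (L.subgroupOf (Subgroup.normalizer (L : Set (S × S)))).map Φ = L₀ := by
    ext w
    rw [hL₀, mem_graphOf]
    constructor
    · rintro ⟨z, hz, rfl⟩
      have hz' : (z : S × S) ∈ graphOf S P φ := (le_of_eq hL) (Subgroup.mem_subgroupOf.mp hz)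
      obtain ⟨hu, he⟩ := mem_graphOf.mp hz'
      obtain ⟨h1, h2, h3, h4⟩ := hPP ⟨z.1.1, hu⟩
      have e1 : ((Φ z).1 : Ω) = α ⟨z.1.1, h1⟩ := by rw [hΦ]; rfl
      have e2 : ((Φ z).2 : Ω) = β ⟨φ ⟨z.1.1, hu⟩, h2⟩ := by
        rw [hΦ, pairHom_snd]
        congr 1
        exact Subtype.ext he.symm
      refine ⟨by rw [e1]; exact h3, ?_⟩
      show ((Φ z).1 : Ω) = (Φ z).2
      rw [e1, e2, h4]
    · rintro ⟨hw1, hw2⟩
      obtain ⟨u, h1, hu⟩ := hsurj _ hw1
      have hzL : ((⟨u, hPS u.2⟩, ⟨φ u, apply_mem F hφ u⟩) : S × S) ∈ L := by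
        rw [hL]
        exact mem_graphOf.mpr ⟨u.2, rfl⟩
      refine ⟨⟨_, Subgroup.le_normalizer hzL⟩, Subgroup.mem_subgroupOf.mpr hzL, ?_⟩
      obtain ⟨h1', h2, h3, h4⟩ := hPP u
      apply Prod.ext
      · apply Subtype.ext
        rw [hΦ, pairHom_fst]
        exact hu
      · apply Subtype.ext
        rw [hΦ, pairHom_snd]
        show β ⟨φ u, _⟩ = (w.2 : Ω)
        rw [h4, ← hw2]
        exact hu
  have hΦinj : Function.Injective Φ := by
    rw [hΦ]
    exact pairHom_injective F hα hβ _ hD₁ hD₂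
  have hnormal : (L.subgroupOf (Subgroup.normalizer (L : Set (S × S)))).Normal :=
    Subgroup.normal_in_normalizer
  have hΦN : ∀ n, Φ n ∈ Subgroup.normalizer (L₀ : Set (S × S)) := by
    intro n
    have h1 := Subgroup.le_normalizer_map Φ
      (H := L.subgroupOf (Subgroup.normalizer (L : Set (S × S))))
    have e := Subgroup.normalizer_eq_top (L.subgroupOf (Subgroup.normalizer (L : Set (S × S))))
    have h3 := h1 (Subgroup.mem_map_of_mem Φ (show n ∈ _ by rw [e]; exact Subgroup.mem_top n))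
    rw [hΦL] at h3
    exact h3
  constructor
  · letI actA : MulAction ↥(Subgroup.normalizer (L : Set (S × S))) (Fix X L) :=
      fixAct (Subgroup.normalizer (L : Set (S × S))).subtype L (fun n => n.2)
    letI actB : MulAction ↥(Subgroup.normalizer (L : Set (S × S))) (Fix X L₀) :=
      fixAct Φ L₀ hΦN
    have hfin : Finite ↥(Subgroup.normalizer (L : Set (S × S))) := inferInstance
    refine burnside_congr_dvd (L.subgroupOf (Subgroup.normalizer (L : Set (S × S))))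
      (A := Fix X L) (B := Fix X L₀) ?_ ?_ ?_ (wt L) ?_
    · intro n hn a
      apply Subtype.ext
      exact a.2 _ (Subgroup.mem_subgroupOf.mp hn)
    · intro n hn b
      apply Subtype.ext
      have : Φ n ∈ L₀ := by
        rw [← hΦL]
        exact ⟨n, hn, rfl⟩
      exact b.2 _ this
    · intro n hn
      rw [card_fixedBy_fixAct _ _ (fun n => n.2), card_fixedBy_fixAct]
      obtain ⟨K, hK⟩ : ∃ K : Subgroup ↥(Subgroup.normalizer (L : Set (S × S))),
          K = L.subgroupOf (Subgroup.normalizer (L : Set (S × S))) ⊔ Subgroup.zpowers n :=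
        ⟨_, rfl⟩
      have hK1 : K.map (Subgroup.normalizer (L : Set (S × S))).subtype =
          L ⊔ Subgroup.zpowers ((Subgroup.normalizer (L : Set (S × S))).subtype n) := by
        rw [hK, Subgroup.map_sup, MonoidHom.map_zpowers, Subgroup.map_subgroupOf_eq_of_le
          Subgroup.le_normalizer]
      have hK2 : K.map Φ = L₀ ⊔ Subgroup.zpowers (Φ n) := by
        rw [hK, Subgroup.map_sup, MonoidHom.map_zpowers, hΦL]
      rw [← hK1, ← hK2]
      have hlt : Nat.card L < Nat.card (K.map (Subgroup.normalizer (L : Set (S × S))).subtype) := by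
        have hle : L ≤ K.map (Subgroup.normalizer (L : Set (S × S))).subtype := by
          rw [hK1]
          exact le_sup_left
        have hne : L ≠ K.map (Subgroup.normalizer (L : Set (S × S))).subtype := by
          intro he
          apply hn
          have h5 : (n : S × S) ∈ K.map (Subgroup.normalizer (L : Set (S × S))).subtype := by
            rw [hK1]
            exact (le_sup_right : Subgroup.zpowers _ ≤ _) (Subgroup.mem_zpowers _)
          exact Subgroup.mem_subgroupOf.mpr ((le_of_eq he.symm) h5)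
        have hfinM : Finite (K.map (Subgroup.normalizer (L : Set (S × S))).subtype) := inferInstance
        by_contra hcon
        push Not at hcon
        exact hne (Subgroup.eq_of_le_of_card_ge hle hcon)
      by_cases hG : IsFGraph F (K.map (Subgroup.normalizer (L : Set (S × S))).subtype)
      · have hG2 : IsFGraph F (K.map Φ) := by
          rw [hΦ]
          exact isFGraph_map_pairHom F hα hβ _ hD₁ hD₂ K hG
        have hc : F.IsConj (src (K.map (Subgroup.normalizer (L : Set (S × S))).subtype))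
            (src (K.map Φ)) := by
          rw [hΦ]
          exact isConj_src_map_pairHom F hα hβ _ hD₁ hD₂ K
        exact hst _ _ hG hG2 hc hlt
      · have hG2 : ¬ IsFGraph F (K.map Φ) := by
          intro h'
          apply hG
          rw [hΦ] at h'
          exact isFGraph_of_map_pairHom F hα hβ _ hD₁ hD₂ K h'
        have e1 : IsEmpty (Fix X (K.map (Subgroup.normalizer (L : Set (S × S))).subtype)) :=
          ⟨fun x => hG (hXg _ x.1 x.2)⟩
        have e2 : IsEmpty (Fix X (K.map Φ)) := ⟨fun x => hG2 (hXg _ x.1 x.2)⟩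
        rw [Nat.card_of_isEmpty, Nat.card_of_isEmpty]
    · rw [card_normalizer_eq L]
      congr 1
      exact (Nat.card_congr (Subgroup.subgroupOfEquivOfLe Subgroup.le_normalizer).toEquiv).symm
  · exact Nat.card_le_card_of_injective (fun n => (⟨Φ n, hΦN n⟩ : ↥(Subgroup.normalizer
      (L₀ : Set (S × S))))) (fun a b hab => hΦinj (congrArg Subtype.val hab))

end KeyCongr

end Cfsg.Agent.Lib.helper17.CB3
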