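import Mathlib

set_option autoImplicit false

namespace Cfsg.Agent.Lib.helper17.Marks

open MulAction

universe u v

section Basic

variable {H : Type v} [Group H]

/-- An equivariant bijection between orbits of points with equal stabilizers. -/
theorem orbit_equiv_of_stab_eq {X Y : Type*} [MulAction H X] [MulAction H Y] (x : X) (y : Y)
    (hxy : stabilizer H x = stabilizer H y) :
    ∃ e : orbit H x ≃ orbit H y, ∀ (h : H) (z : orbit H x), e (h • z) = h • e z := by
  let e : orbit H x ≃ orbit H y :=
    (orbitEquivQuotientStabilizer H x).trans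
      ((Subgroup.quotientEquivOfEq hxy).trans (orbitEquivQuotientStabilizer H y).symm)
  refine ⟨e, ?_⟩
  intro h z
  obtain ⟨q, rfl⟩ := (orbitEquivQuotientStabilizer H x).symm.surjective z
  induction q using QuotientGroup.induction_on with
  | H g =>
    have h1 : h • (orbitEquivQuotientStabilizer H x).symm (g : H ⧸ stabilizer H x) =
        (orbitEquivQuotientStabilizer H x).symm ((h * g : H) : H ⧸ stabilizer H x) := by
      apply Subtype.ext
      rw [orbit.coe_smul, orbitEquivQuotientStabilizer_symm_apply,
        orbitEquivQuotientStabilizer_symm_apply, mul_smul]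
    rw [h1]
    apply Subtype.ext
    simp only [e, Equiv.trans_apply, Equiv.apply_symm_apply, Subgroup.quotientEquivOfEq_mk]
    rw [orbit.coe_smul, orbitEquivQuotientStabilizer_symm_apply,
      orbitEquivQuotientStabilizer_symm_apply, mul_smul]

/-- Equivariant bijections preserve marks. -/
theorem card_fix_congr {X Y : Type*} [MulAction H X] [MulAction H Y] (e : X ≃ Y)
    (he : ∀ (h : H) (x : X), e (h • x) = h • e x) (L : Subgroup H) :
    Nat.card {x : X // ∀ k ∈ L, k • x = x} = Nat.card {y : Y // ∀ k ∈ L, k • y = y} := by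
  apply Nat.card_congr
  refine e.subtypeEquiv ?_
  intro x
  constructor
  · intro hx k hk
    rw [← he, hx k hk]
  · intro hx k hk
    apply e.injective
    rw [he, hx k hk]

/-- The complement of an orbit as a sub-action. -/
def complOrbit {X : Type*} [MulAction H X] (x : X) : SubMulAction H X where
  carrier := (orbit H x)ᶜ
  smul_mem' := by
    intro h z hz hmem
    apply hz
    have h1 : z = h⁻¹ • (h • z) := by simp
    rw [h1]
    obtain ⟨g, hg⟩ := hmem
    refine ⟨h⁻¹ * g, ?_⟩
    show (h⁻¹ * g) • x = h⁻¹ • h • z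
    have hg' : g • x = h • z := hg
    rw [mul_smul, hg']

theorem mem_complOrbit {X : Type*} [MulAction H X] (x z : X) :
    z ∈ complOrbit (H := H) x ↔ z ∉ orbit H x := Iff.rfl

theorem card_split {X : Type*} [Finite X] (p q : X → Prop) :
    Nat.card {z : X // p z} =
      Nat.card {z : {z : X // q z} // p z.1} + Nat.card {z : {z : X // ¬ q z} // p z.1} := by
  classical
  have e1 : {z : {z : X // q z} // p z.1} ≃ {z : {z : X // p z} // q z.1} :=
    (Equiv.subtypeSubtypeEquivSubtypeInter q (fun z => p z)).trans
      ((Equiv.subtypeEquivRight (fun z => and_comm)).trans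
        (Equiv.subtypeSubtypeEquivSubtypeInter p (fun z => q z)).symm)
  have e2 : {z : {z : X // ¬ q z} // p z.1} ≃ {z : {z : X // p z} // ¬ q z.1} :=
    (Equiv.subtypeSubtypeEquivSubtypeInter (fun z => ¬ q z) (fun z => p z)).trans
      ((Equiv.subtypeEquivRight (fun z => and_comm)).trans
        (Equiv.subtypeSubtypeEquivSubtypeInter p (fun z => ¬ q z)).symm)
  rw [Nat.card_congr e1, Nat.card_congr e2, ← Nat.card_sum]
  exact Nat.card_congr (Equiv.sumCompl (fun z : {z : X // p z} => q z.1)).symm

end Basic

section Main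

variable {H : Type v} [Group H] [Finite H]

theorem fix_sub_iff {X : Type*} [MulAction H X] (p : SubMulAction H X) (L : Subgroup H) (z : p) :
    (∀ k ∈ L, k • z = z) ↔ ∀ k ∈ L, k • (z : X) = z := by
  constructor
  · intro h k hk
    have := congrArg Subtype.val (h k hk)
    simpa using this
  · intro h k hk
    apply Subtype.ext
    simpa using h k hk

theorem fix_orbit_iff {X : Type*} [MulAction H X] (x : X) (L : Subgroup H) (z : orbit H x) :
    (∀ k ∈ L, k • z = z) ↔ ∀ k ∈ L, k • (z : X) = z := by
  constructor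
  · intro h k hk
    have := congrArg Subtype.val (h k hk)
    simpa using this
  · intro h k hk
    apply Subtype.ext
    simpa using h k hk

/-- marks of X = marks of the orbit + marks of the complement -/
theorem card_fix_split {X : Type*} [MulAction H X] [Finite X] (x : X) (L : Subgroup H) :
    Nat.card {z : X // ∀ k ∈ L, k • z = z} =
      Nat.card {z : orbit H x // ∀ k ∈ L, k • z = z} +
        Nat.card {z : complOrbit (H := H) x // ∀ k ∈ L, k • z = z} := by
  rw [card_split (fun z : X => ∀ k ∈ L, k • z = z) (fun z => z ∈ orbit H x)]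
  congr 1
  · apply Nat.card_congr
    exact Equiv.subtypeEquivRight (fun z => (fix_orbit_iff x L z).symm)
  · apply Nat.card_congr
    exact Equiv.subtypeEquivRight (fun z => (fix_sub_iff (complOrbit (H := H) x) L z).symm)

/-- **Burnside's marks lemma**: two finite `H`-sets with the same numbers of fixed points for
every subgroup are equivariantly isomorphic. -/
theorem exists_equiv_of_marks :
    ∀ (n : ℕ) (X Y : Type u) [MulAction H X] [MulAction H Y] [Finite X] [Finite Y],
      Nat.card X = n →
      (∀ K : Subgroup H, Nat.card {x : X // ∀ k ∈ K, k • x = x} =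
        Nat.card {y : Y // ∀ k ∈ K, k • y = y}) →
      ∃ e : X ≃ Y, ∀ (h : H) (x : X), e (h • x) = h • e x := by
  intro n
  induction n using Nat.strong_induction_on with
  | _ n ih =>
  intro X Y _ _ _ _ hn hmarks
  classical
  by_cases hX : IsEmpty X
  · -- Y is empty too
    have h0 := hmarks ⊥
    have hXc : Nat.card {x : X // ∀ k ∈ (⊥ : Subgroup H), k • x = x} = 0 := by
      haveI : IsEmpty {x : X // ∀ k ∈ (⊥ : Subgroup H), k • x = x} := inferInstance
      exact Nat.card_of_isEmpty
    rw [hXc] at h0
    have hY : IsEmpty Y := by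
      by_contra hne
      rw [not_isEmpty_iff] at hne
      obtain ⟨y⟩ := hne
      have : Nonempty {y : Y // ∀ k ∈ (⊥ : Subgroup H), k • y = y} :=
        ⟨⟨y, fun k hk => by rw [Subgroup.mem_bot.mp hk, one_smul]⟩⟩
      have hpos := Nat.card_pos (α := {y : Y // ∀ k ∈ (⊥ : Subgroup H), k • y = y})
      omega
    exact ⟨Equiv.equivOfIsEmpty X Y, fun h x => (hX.false x).elim⟩
  · rw [not_isEmpty_iff] at hX
    obtain ⟨x₁⟩ := hX
    -- subgroups with a fixed point
    let 𝒦 := {K : Subgroup H // ∃ x : X, ∀ k ∈ K, k • x = x}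
    haveI : Nonempty 𝒦 := ⟨⟨⊥, x₁, fun k hk => by rw [Subgroup.mem_bot.mp hk, one_smul]⟩⟩
    obtain ⟨⟨K, x, hxK⟩, hKmax⟩ := Finite.exists_max (fun K : 𝒦 => Nat.card (K.1 : Subgroup H))
    -- stabilizer of x is K
    have hKx : K ≤ stabilizer H x := fun k hk => hxK k hk
    have hstabx : K = stabilizer H x := by
      apply Subgroup.eq_of_le_of_card_ge hKx
      exact hKmax ⟨stabilizer H x, x, fun k hk => hk⟩
    -- a point of Y fixed by K
    have hposX : 0 < Nat.card {x : X // ∀ k ∈ K, k • x = x} := by
      haveI : Nonempty {x : X // ∀ k ∈ K, k • x = x} := ⟨⟨x, hxK⟩⟩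
      exact Nat.card_pos
    rw [hmarks K] at hposX
    obtain ⟨⟨y, hyK⟩⟩ := (Nat.card_pos_iff.mp hposX).1
    have hKy : K ≤ stabilizer H y := fun k hk => hyK k hk
    have hstaby : K = stabilizer H y := by
      apply Subgroup.eq_of_le_of_card_ge hKy
      -- stabilizer of y has a fixed point in X
      have hposY : 0 < Nat.card {y' : Y // ∀ k ∈ stabilizer H y, k • y' = y'} := by
        haveI : Nonempty {y' : Y // ∀ k ∈ stabilizer H y, k • y' = y'} := ⟨⟨y, fun k hk => hk⟩⟩
        exact Nat.card_pos
      rw [← hmarks (stabilizer H y)] at hposY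
      obtain ⟨⟨x', hx'⟩⟩ := (Nat.card_pos_iff.mp hposY).1
      exact hKmax ⟨stabilizer H y, x', hx'⟩
    have hxy : stabilizer H x = stabilizer H y := hstabx.symm.trans hstaby
    obtain ⟨eO, heO⟩ := orbit_equiv_of_stab_eq x y hxy
    -- marks of complements agree
    have hmarks' : ∀ L : Subgroup H,
        Nat.card {z : complOrbit (H := H) x // ∀ k ∈ L, k • z = z} =
          Nat.card {z : complOrbit (H := H) y // ∀ k ∈ L, k • z = z} := by
      intro L
      have h1 := card_fix_split x L
      have h2 := card_fix_split y L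
      have h3 := card_fix_congr eO heO L
      have h4 := hmarks L
      omega
    -- cardinality of the complement is smaller
    have hlt : Nat.card (complOrbit (H := H) x) < n := by
      have h1 : Nat.card X = Nat.card (orbit H x) + Nat.card (complOrbit (H := H) x) := by
        rw [← Nat.card_sum]
        exact Nat.card_congr (Equiv.sumCompl (fun z : X => z ∈ orbit H x)).symm
      have h2 : 0 < Nat.card (orbit H x) := by
        haveI : Nonempty (orbit H x) := ⟨⟨x, mem_orbit_self x⟩⟩
        exact Nat.card_pos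
      omega
    obtain ⟨e', he'⟩ := ih _ hlt (complOrbit (H := H) x) (complOrbit (H := H) y) rfl hmarks'
    -- glue
    let f : X → Y := fun z =>
      if hz : z ∈ orbit H x then ((eO ⟨z, hz⟩ : orbit H y) : Y)
      else ((e' ⟨z, hz⟩ : complOrbit (H := H) y) : Y)
    have hf_in : ∀ z (hz : z ∈ orbit H x), f z = ((eO ⟨z, hz⟩ : orbit H y) : Y) := by
      intro z hz; simp only [f, dif_pos hz]
    have hf_out : ∀ z (hz : z ∉ orbit H x), f z = ((e' ⟨z, hz⟩ : complOrbit (H := H) y) : Y) := by
      intro z hz; simp only [f, dif_neg hz]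
    have hf_mem : ∀ z, z ∈ orbit H x → f z ∈ orbit H y := by
      intro z hz; rw [hf_in z hz]; exact (eO ⟨z, hz⟩).2
    have hf_nmem : ∀ z, z ∉ orbit H x → f z ∉ orbit H y := by
      intro z hz; rw [hf_out z hz]; exact (e' ⟨z, hz⟩).2
    have hsm_in : ∀ (h : H) z, z ∈ orbit H x → h • z ∈ orbit H x := by
      intro h z hz
      obtain ⟨g, hg⟩ := hz
      exact ⟨h * g, by show (h * g) • x = h • z; rw [mul_smul]; exact congrArg (h • ·) hg⟩
    have hsm_out : ∀ (h : H) z, z ∉ orbit H x → h • z ∉ orbit H x := by
      intro h z hz hmem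
      apply hz
      have := hsm_in h⁻¹ _ hmem
      simpa using this
    have hinj : Function.Injective f := by
      intro z₁ z₂ h12
      by_cases h1 : z₁ ∈ orbit H x
      · by_cases h2 : z₂ ∈ orbit H x
        · rw [hf_in z₁ h1, hf_in z₂ h2] at h12
          have := eO.injective (Subtype.ext h12)
          exact congrArg Subtype.val this
        · exact absurd (h12 ▸ hf_mem z₁ h1) (hf_nmem z₂ h2)
      · by_cases h2 : z₂ ∈ orbit H x
        · exact absurd (h12 ▸ hf_mem z₂ h2 : f z₁ ∈ orbit H y) (hf_nmem z₁ h1)
        · rw [hf_out z₁ h1, hf_out z₂ h2] at h12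
          have := e'.injective (Subtype.ext h12)
          exact congrArg Subtype.val this
    have hsurj : Function.Surjective f := by
      intro w
      by_cases hw : w ∈ orbit H y
      · refine ⟨(eO.symm ⟨w, hw⟩ : orbit H x), ?_⟩
        rw [hf_in _ (eO.symm ⟨w, hw⟩).2]
        simp
      · refine ⟨(e'.symm ⟨w, hw⟩ : complOrbit (H := H) x), ?_⟩
        rw [hf_out _ (e'.symm ⟨w, hw⟩).2]
        simp
    refine ⟨Equiv.ofBijective f ⟨hinj, hsurj⟩, ?_⟩
    intro h z
    show f (h • z) = h • f z
    by_cases hz : z ∈ orbit H x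
    · rw [hf_in _ (hsm_in h z hz), hf_in z hz]
      have := heO h ⟨z, hz⟩
      have h2 : (⟨h • z, hsm_in h z hz⟩ : orbit H x) = h • (⟨z, hz⟩ : orbit H x) := by
        apply Subtype.ext; simp
      rw [h2, this]
      simp
    · rw [hf_out _ (hsm_out h z hz), hf_out z hz]
      have := he' h ⟨z, hz⟩
      have h2 : (⟨h • z, hsm_out h z hz⟩ : complOrbit (H := H) x) =
          h • (⟨z, hz⟩ : complOrbit (H := H) x) := by
        apply Subtype.ext; simp
      rw [h2, this]
      simp

end Main

end Cfsg.Agent.Lib.helper17.Marks
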