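import Mathlib
import Cfsg.Prelude.Def_FusionSystem

set_option autoImplicit false

namespace Cfsg.Agent.Lib.helper17.ParkGraph

open Cfsg

universe u

variable {Ω : Type u} [Group Ω] {S : Subgroup Ω}

/-! ### Basic closure lemmas for fusion systems -/

theorem subtype_mem (F : FusionSystem S) {P : Subgroup Ω} (hP : P ≤ S) : P.subtype ∈ F.Hom P := by
  have h := F.conj_mem (P := P) (g := 1) hP (one_mem S)
  have h2 : conjHom P (1 : Ω) = P.subtype := by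
    ext x
    simp [conjHom]
  rwa [h2] at h

theorem restrict_mem (F : FusionSystem S) {P R : Subgroup Ω} {φ : P →* Ω} (hφ : φ ∈ F.Hom P)
    (hRP : R ≤ P) : φ.comp (Subgroup.inclusion hRP) ∈ F.Hom R := by
  have hR : R ≤ S := hRP.trans (F.le_of_mem hφ).1
  have h1 := subtype_mem F hR
  have h2 := F.comp_mem h1 hφ (fun x => hRP x.2)
  have h3 : φ.comp (R.subtype.codRestrict P (fun x => hRP x.2)) = φ.comp (Subgroup.inclusion hRP) := by
    ext x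
    rfl
  rwa [h3] at h2

/-! ### Graphs -/

/-- The graph of `φ : P →* Ω`, as a subgroup of `S × S`. -/
def graphOf (S : Subgroup Ω) (P : Subgroup Ω) (φ : P →* Ω) : Subgroup (S × S) where
  carrier := {z | ∃ h : (z.1 : Ω) ∈ P, φ ⟨z.1, h⟩ = (z.2 : Ω)}
  mul_mem' := by
    rintro a b ⟨ha, ha'⟩ ⟨hb, hb'⟩
    refine ⟨by simpa using P.mul_mem ha hb, ?_⟩
    have : (⟨((a * b).1 : Ω), by simpa using P.mul_mem ha hb⟩ : P) = ⟨a.1, ha⟩ * ⟨b.1, hb⟩ := by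
      apply Subtype.ext; simp
    rw [this, map_mul, ha', hb']
    simp
  one_mem' := by
    refine ⟨by simp, ?_⟩
    have : (⟨(((1 : S × S)).1 : Ω), by simp⟩ : P) = 1 := by
      apply Subtype.ext; simp
    rw [this, map_one]
    simp
  inv_mem' := by
    rintro a ⟨ha, ha'⟩
    refine ⟨by simpa using P.inv_mem ha, ?_⟩
    have : (⟨((a⁻¹).1 : Ω), by simpa using P.inv_mem ha⟩ : P) = (⟨a.1, ha⟩ : P)⁻¹ := by
      apply Subtype.ext; simp
    rw [this, map_inv, ha']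
    simp

theorem mem_graphOf {P : Subgroup Ω} {φ : P →* Ω} {z : S × S} :
    z ∈ graphOf S P φ ↔ ∃ h : (z.1 : Ω) ∈ P, φ ⟨z.1, h⟩ = (z.2 : Ω) := Iff.rfl

/-- A subgroup of `S × S` is an `F`-graph when it is the graph of a map of the system. -/
def IsFGraph (F : FusionSystem S) (Δ : Subgroup (S × S)) : Prop :=
  ∃ (P : Subgroup Ω) (φ : P →* Ω), φ ∈ F.Hom P ∧ Δ = graphOf S P φ

/-- The diagonal is an `F`-graph. -/
theorem isFGraph_diag (F : FusionSystem S) : IsFGraph F (graphOf S S S.subtype) :=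
  ⟨S, S.subtype, subtype_mem F le_rfl, rfl⟩

theorem mem_diag {z : S × S} : z ∈ graphOf S S S.subtype ↔ z.1 = z.2 := by
  rw [mem_graphOf]
  constructor
  · rintro ⟨h, h2⟩
    exact Subtype.ext h2
  · intro h
    exact ⟨z.1.2, by rw [← h]; rfl⟩

/-- Subgroups of `F`-graphs are `F`-graphs. -/
theorem isFGraph_of_le (F : FusionSystem S) {Δ Δ' : Subgroup (S × S)} (hΔ : IsFGraph F Δ)
    (hle : Δ' ≤ Δ) : IsFGraph F Δ' := by
  obtain ⟨P, φ, hφ, rfl⟩ := hΔ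
  let R : Subgroup Ω := (Δ'.map (MonoidHom.fst S S)).map S.subtype
  have hR : ∀ x : Ω, x ∈ R ↔ ∃ z ∈ Δ', (z.1 : Ω) = x := by
    intro x
    constructor
    · rintro ⟨s, ⟨z, hz, rfl⟩, rfl⟩
      exact ⟨z, hz, rfl⟩
    · rintro ⟨z, hz, rfl⟩
      exact ⟨z.1, ⟨z, hz, rfl⟩, rfl⟩
  have hRP : R ≤ P := by
    intro x hx
    obtain ⟨z, hz, rfl⟩ := (hR x).mp hx
    exact (mem_graphOf.mp (hle hz)).1
  refine ⟨R, φ.comp (Subgroup.inclusion hRP), restrict_mem F hφ hRP, ?_⟩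
  ext z
  rw [mem_graphOf]
  constructor
  · intro hz
    obtain ⟨h1, h2⟩ := mem_graphOf.mp (hle hz)
    exact ⟨(hR _).mpr ⟨z, hz, rfl⟩, h2⟩
  · rintro ⟨h1, h2⟩
    obtain ⟨z', hz', hzz⟩ := (hR _).mp h1
    obtain ⟨h3, h4⟩ := mem_graphOf.mp (hle hz')
    have h5 : (z'.2 : Ω) = z.2 := by
      rw [← h4, ← h2]
      simp only [MonoidHom.comp_apply]
      congr 1
      apply Subtype.ext
      exact hzz
    have : z' = z := by
      apply Prod.ext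
      · exact Subtype.ext hzz
      · exact Subtype.ext h5
    rw [← this]; exact hz'

/-- Conjugates of `F`-graphs are `F`-graphs. -/
theorem isFGraph_conj (F : FusionSystem S) {Δ : Subgroup (S × S)} (hΔ : IsFGraph F Δ)
    (c : S × S) : IsFGraph F (Δ.map (MulAut.conj c).toMonoidHom) := by
  obtain ⟨P, φ, hφ, rfl⟩ := hΔ
  obtain ⟨a, b⟩ := c
  have hPS : P ≤ S := (F.le_of_mem hφ).1
  let P' : Subgroup Ω := P.map (MulAut.conj (a : Ω)).toMonoidHom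
  have hP' : ∀ x : Ω, x ∈ P' ↔ (a : Ω)⁻¹ * x * a ∈ P := by
    intro x
    rw [Subgroup.mem_map_equiv]
    simp [MulAut.conj_symm_apply]
  have hP'S : P' ≤ S := by
    intro x hx
    have h1 := hPS ((hP' x).mp hx)
    have h2 : x = (a : Ω) * ((a : Ω)⁻¹ * x * a) * (a : Ω)⁻¹ := by group
    rw [h2]
    exact S.mul_mem (S.mul_mem a.2 h1) (S.inv_mem a.2)
  have hψ₁ : conjHom P' ((a : Ω)⁻¹) ∈ F.Hom P' := F.conj_mem hP'S (S.inv_mem a.2)
  have hval₁ : ∀ x : P', conjHom P' ((a : Ω)⁻¹) x ∈ P := by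
    intro x
    have := (hP' x).mp x.2
    simpa [conjHom] using this
  have hφ₁ := F.comp_mem hψ₁ hφ hval₁
  have hval₂ := (F.le_of_mem hφ₁).2
  have hθ := F.comp_mem hφ₁ (F.conj_mem (P := S) (g := (b : Ω)) le_rfl b.2) hval₂
  refine ⟨P', _, hθ, ?_⟩
  ext z
  rw [Subgroup.mem_map_equiv, mem_graphOf, mem_graphOf]
  have hz1 : (((MulAut.conj ((a, b) : S × S)).symm z).1 : Ω) = (a : Ω)⁻¹ * z.1 * a := by
    simp [MulAut.conj_symm_apply]
  have hz2 : (((MulAut.conj ((a, b) : S × S)).symm z).2 : Ω) = (b : Ω)⁻¹ * z.2 * b := by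
    simp [MulAut.conj_symm_apply]
  constructor
  · rintro ⟨h1, h2⟩
    have h1' : (z.1 : Ω) ∈ P' := by rw [hP', ← hz1]; exact h1
    refine ⟨h1', ?_⟩
    simp only [MonoidHom.comp_apply, conjHom, MonoidHom.codRestrict_apply, Subgroup.coe_subtype,
      MulEquiv.coe_toMonoidHom, MulAut.conj_apply]
    have h3 : φ ⟨(a : Ω)⁻¹ * z.1 * (a : Ω)⁻¹⁻¹, hval₁ ⟨z.1, h1'⟩⟩ = (b : Ω)⁻¹ * z.2 * b := by
      rw [← hz2, ← h2]
      congr 1
      apply Subtype.ext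
      simp [hz1]
    rw [h3]
    group
  · rintro ⟨h1, h2⟩
    have h1' : (((MulAut.conj ((a, b) : S × S)).symm z).1 : Ω) ∈ P := by
      rw [hz1]; exact (hP' _).mp h1
    refine ⟨h1', ?_⟩
    simp only [MonoidHom.comp_apply, conjHom, MonoidHom.codRestrict_apply, Subgroup.coe_subtype,
      MulEquiv.coe_toMonoidHom, MulAut.conj_apply] at h2
    rw [hz2, ← h2]
    have h3 : (⟨(((MulAut.conj ((a, b) : S × S)).symm z).1 : Ω), h1'⟩ : P) =
        ⟨(a : Ω)⁻¹ * z.1 * (a : Ω)⁻¹⁻¹, hval₁ ⟨z.1, h1⟩⟩ := by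
      apply Subtype.ext
      simp [hz1]
    rw [h3]
    group

/-- (G4) If `(φ u, u)` lies in an `F`-graph for every `u ∈ P`, then `φ` is a map of the system. -/
theorem mem_of_swap_mem_graph (F : FusionSystem S) {Δ : Subgroup (S × S)} (hΔ : IsFGraph F Δ)
    {P : Subgroup Ω} (hP : P ≤ S) (φ : P →* Ω) (hφS : ∀ x : P, φ x ∈ S)
    (h : ∀ u : P, ((⟨φ u, hφS u⟩, ⟨u, hP u.2⟩) : S × S) ∈ Δ) : φ ∈ F.Hom P := by
  obtain ⟨Q, θ, hθ, rfl⟩ := hΔ
  obtain ⟨ψ, hψ, hψθ⟩ := F.inv_mem hθ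
  -- P ≤ θ.range
  have hPr : P ≤ θ.range := by
    intro u hu
    obtain ⟨h1, h2⟩ := mem_graphOf.mp (h ⟨u, hu⟩)
    exact ⟨⟨φ ⟨u, hu⟩, h1⟩, h2⟩
  have h1 := restrict_mem F hψ hPr
  have h2 : ψ.comp (Subgroup.inclusion hPr) = φ := by
    ext u
    obtain ⟨h3, h4⟩ := mem_graphOf.mp (h u)
    simp only [MonoidHom.comp_apply]
    have h5 : Subgroup.inclusion hPr u = ⟨θ ⟨φ u, h3⟩, ⟨⟨φ u, h3⟩, rfl⟩⟩ := by
      apply Subtype.ext
      simp only [Subgroup.coe_inclusion]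
      exact h4.symm
    rw [h5, hψθ]
  rwa [h2] at h1

/-- The embedding `P × S → S × S` induced by the inclusion of `P`. -/
def alpha1 {P : Subgroup Ω} (hP : P ≤ S) : P × S →* S × S :=
  MonoidHom.prodMap (Subgroup.inclusion hP) (MonoidHom.id S)

/-- The embedding `P × S → S × S` induced by `φ : P → S`. -/
def alpha2 {P : Subgroup Ω} (φ : P →* Ω) (hφS : ∀ x : P, φ x ∈ S) : P × S →* S × S :=
  MonoidHom.prodMap (φ.codRestrict S hφS) (MonoidHom.id S)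

theorem alpha1_apply {P : Subgroup Ω} (hP : P ≤ S) (w : P × S) :
    alpha1 hP w = (⟨w.1, hP w.1.2⟩, w.2) := rfl

theorem alpha2_apply {P : Subgroup Ω} (φ : P →* Ω) (hφS : ∀ x : P, φ x ∈ S) (w : P × S) :
    alpha2 φ hφS w = (⟨φ w.1, hφS w.1⟩, w.2) := rfl

theorem alpha1_injective {P : Subgroup Ω} (hP : P ≤ S) : Function.Injective (alpha1 hP) := by
  intro w w' h
  rw [alpha1_apply, alpha1_apply, Prod.mk.injEq] at h
  apply Prod.ext
  · apply Subtype.ext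
    exact congrArg (fun x : S => (x : Ω)) h.1
  · exact h.2

theorem alpha2_injective {P : Subgroup Ω} (φ : P →* Ω) (hφS : ∀ x : P, φ x ∈ S)
    (hinj : Function.Injective φ) : Function.Injective (alpha2 φ hφS) := by
  intro w w' h
  rw [alpha2_apply, alpha2_apply, Prod.mk.injEq] at h
  apply Prod.ext
  · apply hinj
    exact congrArg (fun x : S => (x : Ω)) h.1
  · exact h.2

theorem alpha1_mem_graphOf {P : Subgroup Ω} (hP : P ≤ S) (w : P × S) (R : Subgroup Ω)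
    (θ : R →* Ω) :
    alpha1 hP w ∈ graphOf S R θ ↔ ∃ h : (w.1 : Ω) ∈ R, θ ⟨w.1, h⟩ = (w.2 : Ω) := Iff.rfl

theorem alpha2_mem_graphOf {P : Subgroup Ω} (φ : P →* Ω) (hφS : ∀ x : P, φ x ∈ S) (w : P × S)
    (R : Subgroup Ω) (θ : R →* Ω) :
    alpha2 φ hφS w ∈ graphOf S R θ ↔ ∃ h : φ w.1 ∈ R, θ ⟨φ w.1, h⟩ = (w.2 : Ω) := Iff.rfl

/-- (G5a) -/
theorem isFGraph_map_alpha2 (F : FusionSystem S) {P : Subgroup Ω} (hP : P ≤ S) (φ : P →* Ω)
    (hφ : φ ∈ F.Hom P) (hφS : ∀ x : P, φ x ∈ S) (K : Subgroup (P × S))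
    (h : IsFGraph F (K.map (alpha1 hP))) : IsFGraph F (K.map (alpha2 φ hφS)) := by
  obtain ⟨R, θ, hθ, hK⟩ := h
  have hRS : R ≤ S := (F.le_of_mem hθ).1
  have hθS := (F.le_of_mem hθ).2
  -- R ≤ P
  have hRP : R ≤ P := by
    intro u hu
    have h1 : ((⟨u, hRS hu⟩, ⟨θ ⟨u, hu⟩, hθS ⟨u, hu⟩⟩) : S × S) ∈ graphOf S R θ :=
      mem_graphOf.mpr ⟨hu, rfl⟩
    rw [← hK] at h1
    obtain ⟨w, hw, hw2⟩ := h1
    rw [alpha1_apply, Prod.mk.injEq] at hw2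
    have := congrArg (fun x : S => (x : Ω)) hw2.1
    simp only at this
    rw [← this]; exact w.1.2
  have hφR := restrict_mem F hφ hRP
  obtain ⟨ψ, hψ, hψφ⟩ := F.inv_mem hφR
  have hψR : ∀ x : (φ.comp (Subgroup.inclusion hRP)).range, ψ x ∈ R := by
    rintro ⟨x, ⟨r, rfl⟩⟩
    rw [hψφ]; exact r.2
  have hθ' := F.comp_mem hψ hθ hψR
  refine ⟨_, _, hθ', ?_⟩
  ext z
  constructor
  · rintro ⟨w, hw, rfl⟩
    have h1 : alpha1 hP w ∈ graphOf S R θ := by rw [← hK]; exact ⟨w, hw, rfl⟩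
    obtain ⟨h2, h3⟩ := (alpha1_mem_graphOf hP w R θ).mp h1
    rw [alpha2_mem_graphOf]
    have hrange : φ w.1 ∈ (φ.comp (Subgroup.inclusion hRP)).range := ⟨⟨w.1, h2⟩, rfl⟩
    refine ⟨hrange, ?_⟩
    simp only [MonoidHom.comp_apply, MonoidHom.codRestrict_apply]
    have h4 : (⟨φ w.1, hrange⟩ : (φ.comp (Subgroup.inclusion hRP)).range) =
        ⟨(φ.comp (Subgroup.inclusion hRP)) ⟨w.1, h2⟩, ⟨⟨w.1, h2⟩, rfl⟩⟩ := by
      apply Subtype.ext
      rfl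
    rw [h4]
    have h5 : (⟨ψ ⟨(φ.comp (Subgroup.inclusion hRP)) ⟨w.1, h2⟩, ⟨⟨w.1, h2⟩, rfl⟩⟩,
        hψR ⟨(φ.comp (Subgroup.inclusion hRP)) ⟨w.1, h2⟩, ⟨⟨w.1, h2⟩, rfl⟩⟩⟩ : R) = ⟨w.1, h2⟩ := by
      apply Subtype.ext
      exact hψφ ⟨w.1, h2⟩
    rw [h5, h3]
  · intro hz
    obtain ⟨⟨r, hr⟩, h2⟩ := mem_graphOf.mp hz
    -- z.1 = φ r, θ r = z.2
    simp only [MonoidHom.comp_apply, MonoidHom.codRestrict_apply] at h2
    have h4 : (⟨(z.1 : Ω), ⟨r, hr⟩⟩ : (φ.comp (Subgroup.inclusion hRP)).range) =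
        ⟨(φ.comp (Subgroup.inclusion hRP)) r, ⟨r, rfl⟩⟩ := by
      apply Subtype.ext
      exact hr.symm
    have h5 : (⟨ψ ⟨(φ.comp (Subgroup.inclusion hRP)) r, ⟨r, rfl⟩⟩,
        hψR ⟨(φ.comp (Subgroup.inclusion hRP)) r, ⟨r, rfl⟩⟩⟩ : R) = r := by
      apply Subtype.ext
      exact hψφ r
    rw [h4, h5] at h2
    have h1 : ((⟨r, hRS r.2⟩, z.2) : S × S) ∈ graphOf S R θ := mem_graphOf.mpr ⟨r.2, h2⟩
    rw [← hK] at h1
    obtain ⟨w, hw, hw2⟩ := h1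
    refine ⟨w, hw, ?_⟩
    rw [alpha1_apply, Prod.mk.injEq] at hw2
    rw [alpha2_apply]
    apply Prod.ext
    · apply Subtype.ext
      simp only
      have h6 : (w.1 : Ω) = r := congrArg (fun x : S => (x : Ω)) hw2.1
      rw [← hr]
      simp only [MonoidHom.comp_apply]
      congr 1
      apply Subtype.ext
      exact h6
    · exact hw2.2

/-- (G5b) -/
theorem isFGraph_map_alpha1 (F : FusionSystem S) {P : Subgroup Ω} (hP : P ≤ S) (φ : P →* Ω)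
    (hφ : φ ∈ F.Hom P) (hφS : ∀ x : P, φ x ∈ S) (K : Subgroup (P × S))
    (h : IsFGraph F (K.map (alpha2 φ hφS))) : IsFGraph F (K.map (alpha1 hP)) := by
  obtain ⟨R', θ', hθ', hK⟩ := h
  let R₀ : Subgroup Ω := (K.map (MonoidHom.fst P S)).map P.subtype
  have hR₀ : ∀ x : Ω, x ∈ R₀ ↔ ∃ w ∈ K, (w.1 : Ω) = x := by
    intro x
    constructor
    · rintro ⟨s, ⟨w, hw, rfl⟩, rfl⟩
      exact ⟨w, hw, rfl⟩
    · rintro ⟨w, hw, rfl⟩
      exact ⟨w.1, ⟨w, hw, rfl⟩, rfl⟩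
  have hR₀P : R₀ ≤ P := by
    intro x hx
    obtain ⟨w, hw, rfl⟩ := (hR₀ x).mp hx
    exact w.1.2
  have hφ₀ := restrict_mem F hφ hR₀P
  have hval : ∀ x : R₀, (φ.comp (Subgroup.inclusion hR₀P)) x ∈ R' := by
    intro x
    obtain ⟨w, hw, hwx⟩ := (hR₀ x).mp x.2
    have h1 : alpha2 φ hφS w ∈ graphOf S R' θ' := by rw [← hK]; exact ⟨w, hw, rfl⟩
    obtain ⟨h2, h3⟩ := (alpha2_mem_graphOf φ hφS w R' θ').mp h1
    have : (φ.comp (Subgroup.inclusion hR₀P)) x = φ w.1 := by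
      simp only [MonoidHom.comp_apply]
      congr 1
      apply Subtype.ext
      exact hwx.symm
    rw [this]; exact h2
  have hθ'' := F.comp_mem hφ₀ hθ' hval
  refine ⟨_, _, hθ'', ?_⟩
  ext z
  constructor
  · rintro ⟨w, hw, rfl⟩
    rw [alpha1_mem_graphOf]
    have hw0 : (w.1 : Ω) ∈ R₀ := (hR₀ _).mpr ⟨w, hw, rfl⟩
    refine ⟨hw0, ?_⟩
    have h1 : alpha2 φ hφS w ∈ graphOf S R' θ' := by rw [← hK]; exact ⟨w, hw, rfl⟩
    obtain ⟨h2, h3⟩ := (alpha2_mem_graphOf φ hφS w R' θ').mp h1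
    simp only [MonoidHom.comp_apply, MonoidHom.codRestrict_apply]
    rw [← h3]
    congr 1
  · intro hz
    obtain ⟨h1, h2⟩ := mem_graphOf.mp hz
    obtain ⟨w, hw, hwz⟩ := (hR₀ _).mp h1
    refine ⟨w, hw, ?_⟩
    have h3 : alpha2 φ hφS w ∈ graphOf S R' θ' := by rw [← hK]; exact ⟨w, hw, rfl⟩
    obtain ⟨h4, h5⟩ := (alpha2_mem_graphOf φ hφS w R' θ').mp h3
    rw [alpha1_apply]
    apply Prod.ext
    · apply Subtype.ext
      exact hwz
    · apply Subtype.ext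
      simp only
      rw [← h5, ← h2]
      simp only [MonoidHom.comp_apply, MonoidHom.codRestrict_apply]
      congr 1
      apply Subtype.ext
      simp only [Subgroup.coe_inclusion]
      congr 1
      apply Subtype.ext
      exact hwz

end Cfsg.Agent.Lib.helper17.ParkGraph
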