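import Mathlib

set_option autoImplicit false

namespace Cfsg.Agent.Lib.helper17.PosetSum

open Finset

/-- Triangular solve: on a finite type with a reflexive relation `le` that strictly increases a
rank function off the diagonal, there is a positive weight `ν` whose up-sums depend only on the rank. -/
theorem exists_weight {D : Type*} [Fintype D] [DecidableEq D] (le : D → D → Prop)
    [DecidableRel le] (r : D → ℕ) (hrefl : ∀ a, le a a)
    (hr : ∀ a b, le a b → a ≠ b → r a < r b) :
    ∃ (ν : D → ℕ) (h : ℕ → ℕ), (∀ a, 1 ≤ ν a) ∧
      ∀ a, ∑ b ∈ univ.filter (fun b => le a b), ν b = h (r a) := by
  -- downward induction on the rank threshold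
  have key : ∀ m k : ℕ, (∀ a, r a < m + k) →
      ∃ (ν : D → ℕ) (h : ℕ → ℕ), (∀ a, 1 ≤ ν a) ∧
        ∀ a, k ≤ r a → ∑ b ∈ univ.filter (fun b => le a b), ν b = h (r a) := by
    intro m
    induction m with
    | zero =>
      intro k hk
      refine ⟨fun _ => 1, fun _ => 0, fun _ => le_refl _, ?_⟩
      intro a ha
      have := hk a
      omega
    | succ m ih =>
      intro k hk
      obtain ⟨ν, h, hν, hsum⟩ := ih (k + 1) (by intro a; have := hk a; omega)
      let c := 1 + ∑ b, ν b
      let s : D → ℕ := fun a => ∑ b ∈ univ.filter (fun b => le a b ∧ b ≠ a), ν b
      have hs : ∀ a, s a < c := by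
        intro a
        have : s a ≤ ∑ b, ν b := by
          apply Finset.sum_le_sum_of_subset
          exact Finset.filter_subset _ _
        omega
      refine ⟨fun a => if r a = k then c - s a else ν a, Function.update h k c, ?_, ?_⟩
      · intro a
        by_cases hak : r a = k
        · simp only [hak, if_true]
          have := hs a
          omega
        · simp only [hak, if_false]
          exact hν a
      · intro a hka
        -- split the sum into b = a and b ≠ a
        have hsplit : univ.filter (fun b => le a b) =
            insert a (univ.filter (fun b => le a b ∧ b ≠ a)) := by
          ext b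
          simp only [mem_filter, mem_univ, true_and, mem_insert]
          constructor
          · intro hb
            by_cases hba : b = a
            · left; exact hba
            · right; exact ⟨hb, hba⟩
          · rintro (rfl | ⟨hb, _⟩)
            · exact hrefl _
            · exact hb
        have hnot : a ∉ univ.filter (fun b => le a b ∧ b ≠ a) := by
          simp
        rw [hsplit, Finset.sum_insert hnot]
        -- on the strict part the new weights are the old ones
        have hstrict : ∑ b ∈ univ.filter (fun b => le a b ∧ b ≠ a),
            (if r b = k then c - s b else ν b) = s a := by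
          apply Finset.sum_congr rfl
          intro b hb
          simp only [mem_filter, mem_univ, true_and] at hb
          have := hr a b hb.1 (fun h => hb.2 h.symm)
          have hbk : r b ≠ k := by omega
          simp only [hbk, if_false]
        rw [hstrict]
        by_cases hak : r a = k
        · simp only [hak, if_true, Function.update_self]
          have := hs a
          omega
        · simp only [hak, if_false]
          have hka' : k + 1 ≤ r a := by omega
          have h1 := hsum a hka'
          rw [hsplit, Finset.sum_insert hnot] at h1
          rw [Function.update_of_ne hak]
          exact h1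
  obtain ⟨ν, h, hν, hsum⟩ := key ((univ.sup r) + 1) 0 (by
    intro a
    have : r a ≤ univ.sup r := Finset.le_sup (f := r) (mem_univ a)
    omega)
  exact ⟨ν, h, hν, fun a => hsum a (Nat.zero_le _)⟩

end Cfsg.Agent.Lib.helper17.PosetSum
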