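import Mathlib
import Cfsg.Prelude.Def_FusionSystem
import Cfsg.Agent.Lib.helper17.Marks
import Cfsg.Agent.Lib.helper17.PosetSum
import Cfsg.Agent.Lib.helper17.ParkGraph
import Cfsg.Agent.Lib.helper17.BisetFix

set_option autoImplicit false

namespace Cfsg.Agent.Lib.helper17.ParkBiset

open Cfsg MulAction Finset
open Cfsg.Agent.Lib.helper17.ParkGraph Cfsg.Agent.Lib.helper17.BisetFix

universe u

variable {Ω : Type u} [Group Ω] {S : Subgroup Ω}

/-- The type of `F`-graphs. -/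
abbrev FG (F : FusionSystem S) : Type u := {Δ : Subgroup (S × S) // IsFGraph F Δ}

/-- Conjugation on `F`-graphs. -/
def conjD (F : FusionSystem S) (c : S × S) (Δ : FG F) : FG F :=
  ⟨Δ.1.map (MulAut.conj c).toMonoidHom, isFGraph_conj F Δ.2 c⟩

theorem card_conjD (F : FusionSystem S) (c : S × S) (Δ : FG F) :
    Nat.card (conjD F c Δ).1 = Nat.card Δ.1 :=
  Subgroup.card_map_of_injective (MulAut.conj c).injective

theorem conjD_inv_le_iff (F : FusionSystem S) (c : S × S) (L Δ' : FG F) :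
    (conjD F c⁻¹ L).1 ≤ Δ'.1 ↔ ∀ a ∈ L.1, c⁻¹ * a * c ∈ Δ'.1 := by
  unfold conjD
  simp only
  rw [Subgroup.map_le_iff_le_comap]
  constructor
  · intro h a ha
    have := h ha
    simpa [Subgroup.mem_comap] using this
  · intro h a ha
    have := h a ha
    simpa [Subgroup.mem_comap] using this

/-- Index type of the biset. -/
abbrev Idx (F : FusionSystem S) (ν : FG F → ℕ) : Type u := Σ Δ' : FG F, Fin (ν Δ') × Δ'.1

/-- The point stabilizer attached to an index. -/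
abbrev Dsub (F : FusionSystem S) (ν : FG F → ℕ) : Idx F ν → Subgroup (S × S) := fun i => i.1.1

/-- Park's biset. -/
abbrev X (F : FusionSystem S) (ν : FG F → ℕ) : Type u := Σ i : Idx F ν, (S × S) ⧸ Dsub F ν i

section Count

variable [Finite S] (F : FusionSystem S) (ν : FG F → ℕ) (h : ℕ → ℕ)

theorem card_fix_X [Fintype (FG F)] [DecidableRel (fun Δ Δ' : FG F => Δ.1 ≤ Δ'.1)]
    (hsum : ∀ Δ : FG F, ∑ Δ' ∈ univ.filter (fun Δ' : FG F => Δ.1 ≤ Δ'.1), ν Δ' = h (Nat.card Δ.1))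
    (L : Subgroup (S × S)) (hL : IsFGraph F L) :
    Nat.card {x : X F ν // ∀ a ∈ L, a • x = x} = Nat.card (S × S) * h (Nat.card L) := by
  classical
  haveI : Fintype (S × S) := Fintype.ofFinite _
  haveI : ∀ Δ' : FG F, Fintype Δ'.1 := fun Δ' => Fintype.ofFinite _
  rw [card_fix_sigma (Dsub F ν) L]
  let g : FG F → ℕ := fun Δ' => Nat.card {q : (S × S) ⧸ Δ'.1 // ∀ a ∈ L, a • q = q}
  have h1 : ∑ i : Idx F ν, Nat.card {q : (S × S) ⧸ Dsub F ν i // ∀ a ∈ L, a • q = q} =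
      ∑ Δ' : FG F, ν Δ' * (Nat.card Δ'.1 * g Δ') := by
    rw [Fintype.sum_sigma]
    apply Finset.sum_congr rfl
    intro Δ' _
    show ∑ _y : Fin (ν Δ') × Δ'.1, g Δ' = _
    rw [Finset.sum_const, Finset.card_univ, Fintype.card_prod, Fintype.card_fin, smul_eq_mul,
      Nat.card_eq_fintype_card, mul_assoc]
  rw [h1]
  have h2 : ∀ Δ' : FG F, Nat.card Δ'.1 * g Δ' =
      ∑ c : S × S, if (conjD F c⁻¹ ⟨L, hL⟩).1 ≤ Δ'.1 then 1 else 0 := by
    intro Δ'
    rw [← card_conj_le Δ'.1 L, Nat.card_eq_fintype_card, Fintype.card_subtype,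
      Finset.card_filter]
    apply Finset.sum_congr rfl
    intro c _
    have := conjD_inv_le_iff F c ⟨L, hL⟩ Δ'
    simp only [this]
  have h3 : ∑ Δ' : FG F, ν Δ' * (Nat.card Δ'.1 * g Δ') =
      ∑ c : S × S, ∑ Δ' : FG F, if (conjD F c⁻¹ ⟨L, hL⟩).1 ≤ Δ'.1 then ν Δ' else 0 := by
    rw [Finset.sum_comm]
    apply Finset.sum_congr rfl
    intro Δ' _
    rw [h2 Δ', Finset.mul_sum]
    apply Finset.sum_congr rfl
    intro c _
    split_ifs <;> simp
  rw [h3]
  have h4 : ∀ c : S × S, (∑ Δ' : FG F, if (conjD F c⁻¹ ⟨L, hL⟩).1 ≤ Δ'.1 then ν Δ' else 0) =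
      h (Nat.card L) := by
    intro c
    rw [← Finset.sum_filter]
    have := hsum (conjD F c⁻¹ ⟨L, hL⟩)
    rw [card_conjD] at this
    convert this using 2
  rw [Finset.sum_congr rfl (fun c _ => h4 c), Finset.sum_const, Finset.card_univ, smul_eq_mul,
    Nat.card_eq_fintype_card (α := S × S)]

theorem fix_X_isFGraph (L : Subgroup (S × S)) (x : X F ν) (hx : ∀ a ∈ L, a • x = x) :
    IsFGraph F L := by
  obtain ⟨i, q⟩ := x
  induction q using QuotientGroup.induction_on with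
  | H c =>
    have hD : IsFGraph F (Dsub F ν i) := i.1.2
    apply isFGraph_of_le F (isFGraph_conj F hD c)
    intro a ha
    have h1 := hx a ha
    rw [Sigma.smul_mk] at h1
    have h2 : a • (c : (S × S) ⧸ Dsub F ν i) = c := eq_of_heq (Sigma.mk.inj h1).2
    rw [smul_mk_eq_iff] at h2
    rw [Subgroup.mem_map_equiv]
    simpa [MulAut.conj_symm_apply] using h2

end Count

section Realize

variable [Finite S] (F : FusionSystem S) (ν : FG F → ℕ)

/-- The permutation representation of `S × S` on the biset. -/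
noncomputable def rho : (S × S) →* Equiv.Perm (X F ν) := MulAction.toPermHom (S × S) (X F ν)

theorem rho_apply (a : S × S) (x : X F ν) : rho F ν a x = a • x := rfl

/-- The group of permutations of the biset commuting with the right action. -/
noncomputable def GG : Subgroup (Equiv.Perm (X F ν)) :=
  Subgroup.centralizer (Set.range (fun t : S => rho F ν ((1 : S), t)))

theorem mem_GG_iff (σ : Equiv.Perm (X F ν)) :
    σ ∈ GG F ν ↔ ∀ (t : S) (x : X F ν), σ (((1 : S), t) • x) = ((1 : S), t) • σ x := by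
  unfold GG
  rw [Subgroup.mem_centralizer_iff]
  constructor
  · intro h t x
    have := h _ ⟨t, rfl⟩
    have h2 := congrArg (fun τ : Equiv.Perm (X F ν) => τ x) this
    simp only [Equiv.Perm.mul_apply, rho_apply] at h2
    exact h2.symm
  · rintro h _ ⟨t, rfl⟩
    apply Equiv.ext
    intro x
    simp only [Equiv.Perm.mul_apply, rho_apply]
    exact (h t x).symm

/-- The left action of `S`, inside `GG`. -/
noncomputable def iota : S →* GG F ν :=
  ((rho F ν).comp (MonoidHom.inl S S)).codRestrict (GG F ν) (by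
    intro s
    rw [mem_GG_iff]
    intro t x
    simp only [MonoidHom.comp_apply, MonoidHom.inl_apply, rho_apply]
    rw [smul_smul, smul_smul]
    congr 1
    simp)

theorem iota_apply (s : S) (x : X F ν) : ((iota F ν s : GG F ν) : Equiv.Perm (X F ν)) x =
    ((s, (1 : S)) : S × S) • x := rfl

/-- The base index: the diagonal. -/
def i₀ (hν : ∀ Δ, 1 ≤ ν Δ) : Idx F ν :=
  ⟨⟨graphOf S S S.subtype, isFGraph_diag F⟩, (⟨0, hν _⟩, 1)⟩

/-- The base point. -/
def x₀ (hν : ∀ Δ, 1 ≤ ν Δ) : X F ν :=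
  ⟨i₀ F ν hν, ((1 : S × S) : (S × S) ⧸ Dsub F ν (i₀ F ν hν))⟩

theorem smul_x₀_iff (hν : ∀ Δ, 1 ≤ ν Δ) (a : S × S) :
    a • x₀ F ν hν = x₀ F ν hν ↔ a.1 = a.2 := by
  unfold x₀
  rw [Sigma.smul_mk]
  constructor
  · intro h1
    have h2 : a • ((1 : S × S) : (S × S) ⧸ Dsub F ν (i₀ F ν hν)) = ((1 : S × S) : _) :=
      eq_of_heq (Sigma.mk.inj h1).2
    rw [smul_mk_eq_iff] at h2
    have h3 : a ∈ Dsub F ν (i₀ F ν hν) := by simpa using h2
    exact mem_diag.mp h3
  · intro h1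
    have h3 : a ∈ Dsub F ν (i₀ F ν hν) := mem_diag.mpr h1
    have h2 : a • ((1 : S × S) : (S × S) ⧸ Dsub F ν (i₀ F ν hν)) = ((1 : S × S) : _) := by
      rw [smul_mk_eq_iff]
      simpa using h3
    rw [h2]

theorem iota_injective (hν : ∀ Δ, 1 ≤ ν Δ) : Function.Injective (iota F ν) := by
  rw [injective_iff_map_eq_one]
  intro s hs
  have h1 : ((iota F ν s : GG F ν) : Equiv.Perm (X F ν)) (x₀ F ν hν) = x₀ F ν hν := by
    rw [hs]; rfl
  rw [iota_apply, smul_x₀_iff] at h1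
  exact h1

/-- Maps realized by conjugation in `GG` belong to the system. -/
theorem mem_of_realized (hν : ∀ Δ, 1 ≤ ν Δ) {P : Subgroup Ω} (hP : P ≤ S) (φ : P →* Ω)
    (hφS : ∀ x : P, φ x ∈ S) (g : GG F ν)
    (hg : ∀ x : P, iota F ν ⟨φ x, hφS x⟩ = g * iota F ν ⟨x, hP x.2⟩ * g⁻¹) : φ ∈ F.Hom P := by
  rcases hy : (g : Equiv.Perm (X F ν)) (x₀ F ν hν) with ⟨i, q⟩
  induction q using QuotientGroup.induction_on with
  | H c =>
  have hΔ : IsFGraph F ((Dsub F ν i).map (MulAut.conj c).toMonoidHom) :=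
    isFGraph_conj F i.1.2 c
  apply mem_of_swap_mem_graph F hΔ hP φ hφS
  intro u
  -- (s', s) fixes y = g x₀
  have h1 : iota F ν ⟨φ u, hφS u⟩ * g = g * iota F ν ⟨u, hP u.2⟩ := by
    rw [hg u]; group
  generalize (⟨φ u, hφS u⟩ : S) = s' at h1 ⊢
  generalize (⟨u, hP u.2⟩ : S) = s at h1 ⊢
  have h2 : ((s', (1 : S)) : S × S) • (g : Equiv.Perm (X F ν)) (x₀ F ν hν) =
      (g : Equiv.Perm (X F ν)) (((s, (1 : S)) : S × S) • x₀ F ν hν) := by
    have := congrArg (fun τ : GG F ν => (τ : Equiv.Perm (X F ν)) (x₀ F ν hν)) h1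
    simpa [Subgroup.coe_mul, Equiv.Perm.mul_apply, iota_apply] using this
  have h3 : ((s, (1 : S)) : S × S) • x₀ F ν hν = (((1 : S), s⁻¹) : S × S) • x₀ F ν hν := by
    have h4 : (((1 : S), s⁻¹) : S × S)⁻¹ * (s, (1 : S)) = (s, s) := by
      simp
    have h5 : ((((1 : S), s⁻¹) : S × S)⁻¹ * (s, (1 : S))) • x₀ F ν hν = x₀ F ν hν := by
      rw [h4, smul_x₀_iff]
    rw [mul_smul, inv_smul_eq_iff] at h5
    exact h5
  have h6 : (g : Equiv.Perm (X F ν)) ((((1 : S), s⁻¹) : S × S) • x₀ F ν hν) =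
      (((1 : S), s⁻¹) : S × S) • (g : Equiv.Perm (X F ν)) (x₀ F ν hν) :=
    (mem_GG_iff F ν _).mp g.2 s⁻¹ _
  rw [h3, h6, hy] at h2
  have h7 : ((s', s) : S × S) • (⟨i, (c : (S × S) ⧸ Dsub F ν i)⟩ : X F ν) = ⟨i, c⟩ := by
    have h8 : ((s', s) : S × S) = (((1 : S), s⁻¹) : S × S)⁻¹ * (s', (1 : S)) := by simp
    rw [h8, mul_smul, h2, inv_smul_smul]
  rw [Sigma.smul_mk] at h7
  have h9 : ((s', s) : S × S) • (c : (S × S) ⧸ Dsub F ν i) = c := eq_of_heq (Sigma.mk.inj h7).2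
  rw [smul_mk_eq_iff] at h9
  rw [Subgroup.mem_map_equiv]
  simpa [MulAut.conj_symm_apply] using h9

/-- Maps of the system are realized by conjugation in `GG`. -/
theorem realized_of_mem [Fintype (FG F)] [DecidableRel (fun Δ Δ' : FG F => Δ.1 ≤ Δ'.1)]
    (h : ℕ → ℕ)
    (hsum : ∀ Δ : FG F, ∑ Δ' ∈ univ.filter (fun Δ' : FG F => Δ.1 ≤ Δ'.1), ν Δ' = h (Nat.card Δ.1))
    {P : Subgroup Ω} (hP : P ≤ S) (φ : P →* Ω) (hφ : φ ∈ F.Hom P) (hφS : ∀ x : P, φ x ∈ S) :
    ∃ g : GG F ν, ∀ x : P, iota F ν ⟨φ x, hφS x⟩ = g * iota F ν ⟨x, hP x.2⟩ * g⁻¹ := by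
  haveI : Finite P := Finite.of_injective (Subgroup.inclusion hP) (Subgroup.inclusion_injective hP)
  -- marks
  have hfix : ∀ (α : P × S →* S × S) (K : Subgroup (P × S)),
      Nat.card {x : X F ν // ∀ k ∈ K, α k • x = x} =
        Nat.card {x : X F ν // ∀ a ∈ K.map α, a • x = x} := by
    intro α K
    apply Nat.card_congr
    refine Equiv.subtypeEquivRight ?_
    intro x
    constructor
    · rintro hx _ ⟨k, hk, rfl⟩
      exact hx k hk
    · intro hx k hk
      exact hx _ ⟨k, hk, rfl⟩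
  have hmarks : ∀ K : Subgroup (P × S),
      Nat.card {x : X F ν // ∀ k ∈ K, alpha1 hP k • x = x} =
        Nat.card {x : X F ν // ∀ k ∈ K, alpha2 φ hφS k • x = x} := by
    intro K
    rw [hfix, hfix]
    by_cases hG : IsFGraph F (K.map (alpha1 hP))
    · have hG2 := isFGraph_map_alpha2 F hP φ hφ hφS K hG
      rw [card_fix_X F ν h hsum _ hG, card_fix_X F ν h hsum _ hG2,
        Subgroup.card_map_of_injective (alpha1_injective hP),
        Subgroup.card_map_of_injective (alpha2_injective φ hφS (F.injective_of_mem hφ))]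
    · have hG2 : ¬ IsFGraph F (K.map (alpha2 φ hφS)) :=
        fun h' => hG (isFGraph_map_alpha1 F hP φ hφ hφS K h')
      have e1 : IsEmpty {x : X F ν // ∀ a ∈ K.map (alpha1 hP), a • x = x} :=
        ⟨fun x => hG (fix_X_isFGraph F ν _ x.1 x.2)⟩
      have e2 : IsEmpty {x : X F ν // ∀ a ∈ K.map (alpha2 φ hφS), a • x = x} :=
        ⟨fun x => hG2 (fix_X_isFGraph F ν _ x.1 x.2)⟩
      rw [Nat.card_of_isEmpty, Nat.card_of_isEmpty]
  obtain ⟨e, he⟩ := @Cfsg.Agent.Lib.helper17.Marks.exists_equiv_of_marks (P × S) _ _ _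
    (X F ν) (X F ν) (MulAction.compHom (X F ν) (alpha1 hP))
    (MulAction.compHom (X F ν) (alpha2 φ hφS)) _ _ rfl hmarks
  have he' : ∀ (k : P × S) (x : X F ν), e (alpha1 hP k • x) = alpha2 φ hφS k • e x := he
  have hmem : e ∈ GG F ν := by
    rw [mem_GG_iff]
    intro t x
    have := he' ((1 : P), t) x
    have h1 : alpha1 hP ((1 : P), t) = ((1 : S), t) := by
      rw [alpha1_apply]; apply Prod.ext <;> simp
    have h2 : alpha2 φ hφS ((1 : P), t) = ((1 : S), t) := by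
      rw [alpha2_apply]; apply Prod.ext <;> simp
    rw [h1, h2] at this
    exact this
  refine ⟨⟨e, hmem⟩, ?_⟩
  intro x
  rw [eq_mul_inv_iff_mul_eq]
  apply Subtype.ext
  apply Equiv.ext
  intro z
  simp only [Subgroup.coe_mul, Equiv.Perm.mul_apply, iota_apply]
  have := he' (x, (1 : S)) z
  rw [alpha1_apply, alpha2_apply] at this
  exact this.symm

/-- Park's theorem for a weight function with constant up-sums. -/
theorem isRealizedBy_iota [Fintype (FG F)] [DecidableRel (fun Δ Δ' : FG F => Δ.1 ≤ Δ'.1)]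
    (h : ℕ → ℕ) (hν : ∀ Δ, 1 ≤ ν Δ)
    (hsum : ∀ Δ : FG F, ∑ Δ' ∈ univ.filter (fun Δ' : FG F => Δ.1 ≤ Δ'.1), ν Δ' = h (Nat.card Δ.1)) :
    F.IsRealizedBy (iota F ν) := by
  refine ⟨iota_injective F ν hν, ?_⟩
  intro P hP φ hφS
  constructor
  · intro hφ
    exact realized_of_mem F ν h hsum hP φ hφ hφS
  · rintro ⟨g, hg⟩
    exact mem_of_realized F ν hν hP φ hφS g hg

end Realize

/-- **Park's theorem**: every fusion system on a finite group `S` is realized by a finite group. -/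
theorem exists_realization [Finite S] (F : FusionSystem S) :
    ∃ (G : Type u) (_ : Group G) (_ : Finite G) (ι : S →* G), F.IsRealizedBy ι := by
  classical
  haveI : Fintype (FG F) := Fintype.ofFinite _
  obtain ⟨ν, h, hν, hsum⟩ := Cfsg.Agent.Lib.helper17.PosetSum.exists_weight
    (fun Δ Δ' : FG F => Δ.1 ≤ Δ'.1) (fun Δ : FG F => Nat.card Δ.1) (fun Δ => le_refl _)
    (by
      intro Δ Δ' hle hne
      by_contra hlt'
      have hlt := not_lt.mp hlt'
      apply hne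
      apply Subtype.ext
      exact Subgroup.eq_of_le_of_card_ge hle hlt)
  exact ⟨GG F ν, inferInstance, inferInstance, iota F ν, isRealizedBy_iota F ν h hν hsum⟩

end Cfsg.Agent.Lib.helper17.ParkBiset
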