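import Cfsg.Agent.Lib.helper17.CB3
import Cfsg.Agent.Lib.helper17.ParkBiset

set_option autoImplicit false

namespace Cfsg.Agent.Lib.helper17.CB4

open Cfsg Cfsg.FusionSystem MulAction
open Cfsg.Agent.Lib.Helper26
open Cfsg.Agent.Lib.helper17.ParkGraph (graphOf IsFGraph mem_graphOf isFGraph_conj isFGraph_of_le)
open Cfsg.Agent.Lib.helper17.ParkBiset (FG conjD card_conjD)
open Cfsg.Agent.Lib.helper17.BisetFix
open Cfsg.Agent.Lib.helper17.CB1 Cfsg.Agent.Lib.helper17.CB2 Cfsg.Agent.Lib.helper17.CB3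

universe u

section Mult

variable {A : Type u} [Group A] [Finite A]

/-- number of cosets of `Δ` fixed by `L` -/
noncomputable def mm (Δ L : Subgroup A) : ℕ := Nat.card (Fix (A ⧸ Δ) L)

theorem card_mul_mm (Δ L : Subgroup A) :
    Nat.card Δ * mm Δ L = Nat.card {c : A // ∀ a ∈ L, c⁻¹ * a * c ∈ Δ} :=
  (card_conj_le Δ L).symm

theorem mm_eq_zero_of_forall {Δ L : Subgroup A} (h : ∀ c : A, ¬ ∀ a ∈ L, c⁻¹ * a * c ∈ Δ) :
    mm Δ L = 0 := by
  have h1 := card_mul_mm Δ L
  have : IsEmpty {c : A // ∀ a ∈ L, c⁻¹ * a * c ∈ Δ} := ⟨fun c => h c.1 c.2⟩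
  have h0 : Nat.card {c : A // ∀ a ∈ L, c⁻¹ * a * c ∈ Δ} = 0 := Nat.card_of_isEmpty
  rw [h0] at h1
  have hpos : 0 < Nat.card Δ := Nat.card_pos
  rcases Nat.mul_eq_zero.mp h1 with h2 | h2
  · omega
  · exact h2

theorem card_le_of_conj_le {Δ L : Subgroup A} {c : A} (h : ∀ a ∈ L, c⁻¹ * a * c ∈ Δ) :
    Nat.card L ≤ Nat.card Δ := by
  refine Nat.card_le_card_of_injective (fun a : L => (⟨c⁻¹ * a * c, h a a.2⟩ : Δ)) ?_
  intro a b hab
  have := congrArg Subtype.val hab
  simp only at this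
  apply Subtype.ext
  exact mul_left_cancel (mul_right_cancel this)

theorem mm_eq_zero_of_card_lt {Δ L : Subgroup A} (h : Nat.card Δ < Nat.card L) : mm Δ L = 0 := by
  apply mm_eq_zero_of_forall
  intro c hc
  have := card_le_of_conj_le hc
  omega

/-- with equal cardinalities the conjugation map is onto -/
theorem conj_surj {Δ L : Subgroup A} (hcard : Nat.card Δ = Nat.card L) {c : A}
    (h : ∀ a ∈ L, c⁻¹ * a * c ∈ Δ) : ∀ d ∈ Δ, c * d * c⁻¹ ∈ L := by
  have hinj : Function.Injective (fun a : L => (⟨c⁻¹ * a * c, h a a.2⟩ : Δ)) := by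
    intro a b hab
    have := congrArg Subtype.val hab
    simp only at this
    apply Subtype.ext
    exact mul_left_cancel (mul_right_cancel this)
  have hbij : Function.Bijective (fun a : L => (⟨c⁻¹ * a * c, h a a.2⟩ : Δ)) := by
    rw [Nat.bijective_iff_injective_and_card]
    exact ⟨hinj, hcard.symm⟩
  intro d hd
  obtain ⟨a, ha⟩ := hbij.2 ⟨d, hd⟩
  have h1 : c⁻¹ * a * c = d := congrArg Subtype.val ha
  rw [← h1]
  have : c * (c⁻¹ * (a : A) * c) * c⁻¹ = a := by group
  rw [this]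
  exact a.2

theorem mm_eq_wt {Δ L : Subgroup A} (hcard : Nat.card Δ = Nat.card L) {c₀ : A}
    (h₀ : ∀ a ∈ L, c₀⁻¹ * a * c₀ ∈ Δ) :
    mm Δ L = Nat.card (Subgroup.normalizer (L : Set A)) / Nat.card L := by
  have h1 := card_mul_mm Δ L
  have hsurj₀ := conj_surj hcard h₀
  have e : {c : A // ∀ a ∈ L, c⁻¹ * a * c ∈ Δ} ≃ Subgroup.normalizer (L : Set A) :=
    { toFun := fun c => ⟨c.1 * c₀⁻¹, by
        have hs := conj_surj hcard c.2
        apply mem_normalizer_of_forall
        · intro y hy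
          have h2 := hs _ (h₀ y hy)
          have : c.1 * c₀⁻¹ * y * (c.1 * c₀⁻¹)⁻¹ = c.1 * (c₀⁻¹ * y * c₀) * c.1⁻¹ := by group
          rw [this]
          exact h2
        · intro y hy
          have h2 := hsurj₀ _ (c.2 y hy)
          have : (c.1 * c₀⁻¹)⁻¹ * y * (c.1 * c₀⁻¹) = c₀ * (c.1⁻¹ * y * c.1) * c₀⁻¹ := by group
          rw [this]
          exact h2⟩
      invFun := fun n => ⟨n.1 * c₀, by
        intro a ha
        have h2 : n.1⁻¹ * a * n.1 ∈ L := by
          have := (Subgroup.mem_normalizer_iff.mp (Subgroup.inv_mem _ n.2) a).mp ha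
          simpa using this
        have := h₀ _ h2
        have e : (n.1 * c₀)⁻¹ * a * (n.1 * c₀) = c₀⁻¹ * (n.1⁻¹ * a * n.1) * c₀ := by group
        rw [e]
        exact this⟩
      left_inv := fun c => by
        apply Subtype.ext
        simp
      right_inv := fun n => by
        apply Subtype.ext
        simp }
  rw [Nat.card_congr e, hcard] at h1
  rw [← h1, Nat.mul_div_cancel_left _ Nat.card_pos]

end Mult

section Classes

variable {Ω : Type u} [Group Ω] {S : Subgroup Ω} (F : FusionSystem S)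

theorem mem_conjD (c : S × S) (Δ : FG F) (x : S × S) :
    x ∈ (conjD F c Δ).1 ↔ c⁻¹ * x * c ∈ Δ.1 := by
  unfold conjD
  simp only
  rw [Subgroup.mem_map_equiv]
  simp [MulAut.conj_symm_apply]

/-- conjugacy of `F`-graphs under `S × S` -/
def conjSetoid : Setoid (FG F) where
  r Δ Δ' := ∃ c : S × S, conjD F c Δ = Δ'
  iseqv := by
    refine ⟨fun Δ => ⟨1, ?_⟩, ?_, ?_⟩
    · apply Subtype.ext
      ext x
      rw [mem_conjD]
      simp
    · rintro Δ Δ' ⟨c, rfl⟩
      refine ⟨c⁻¹, ?_⟩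
      apply Subtype.ext
      ext x
      rw [mem_conjD, mem_conjD]
      simp [mul_assoc]
    · rintro Δ Δ' Δ'' ⟨c, rfl⟩ ⟨c', rfl⟩
      refine ⟨c' * c, ?_⟩
      apply Subtype.ext
      ext x
      rw [mem_conjD, mem_conjD, mem_conjD]
      simp [mul_assoc]

/-- conjugacy classes of `F`-graphs -/
abbrev CC : Type u := Quotient (conjSetoid F)

/-- the class of an `F`-graph -/
def cls (Δ : FG F) : CC F := Quotient.mk (conjSetoid F) Δ

theorem exists_conj_out (Δ : FG F) : ∃ c : S × S, conjD F c (cls F Δ).out = Δ :=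
  Quotient.exact (s := conjSetoid F) (Quotient.out_eq (s := conjSetoid F) (cls F Δ))

theorem cls_out (q : CC F) : cls F q.out = q := Quotient.out_eq (s := conjSetoid F) q

theorem cls_conjD (c : S × S) (Δ : FG F) : cls F (conjD F c Δ) = cls F Δ :=
  (Quotient.sound (s := conjSetoid F) ⟨c, rfl⟩).symm

theorem cls_eq_of_conj_le [Finite S] {Δ L : FG F} (hcard : Nat.card Δ.1 = Nat.card L.1) {c : S × S}
    (h : ∀ a ∈ L.1, c⁻¹ * a * c ∈ Δ.1) : cls F Δ = cls F L := by
  apply Quotient.sound (s := conjSetoid F)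
  refine ⟨c, ?_⟩
  apply Subtype.ext
  symm
  apply Subgroup.eq_of_le_of_card_ge
  · intro x hx
    rw [mem_conjD]
    exact h x hx
  · rw [card_conjD, hcard]

theorem card_out_cls [Finite S] (Δ : FG F) : Nat.card (cls F Δ).out.1 = Nat.card Δ.1 := by
  obtain ⟨c, hc⟩ := exists_conj_out F Δ
  have h1 := card_conjD F c (cls F Δ).out
  rw [hc] at h1
  exact h1.symm

/-- fixed cosets at equal level -/
theorem mm_level [Finite S] (q : CC F) (L : FG F) (hcard : Nat.card q.out.1 = Nat.card L.1)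
    [Decidable (q = cls F L)] :
    mm q.out.1 L.1 = if q = cls F L then wt L.1 else 0 := by
  split_ifs with hq
  · obtain ⟨c, hc⟩ := exists_conj_out F L
    rw [← hq] at hc
    have h0 : ∀ a ∈ L.1, c⁻¹ * a * c ∈ q.out.1 := by
      intro a ha
      rw [← hc] at ha
      exact (mem_conjD F c _ a).mp ha
    exact mm_eq_wt hcard h0
  · apply mm_eq_zero_of_forall
    intro c hc
    apply hq
    rw [← cls_out F q]
    exact cls_eq_of_conj_le F hcard hc

end Classes

end Cfsg.Agent.Lib.helper17.CB4
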