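import Cfsg.Agent.Lib.helper17.CB4

set_option autoImplicit false

namespace Cfsg.Agent.Lib.helper17.CB5

open Cfsg Cfsg.FusionSystem MulAction
open Cfsg.Agent.Lib.Helper26
open Cfsg.Agent.Lib.helper17.ParkGraph (graphOf IsFGraph mem_graphOf isFGraph_conj isFGraph_of_le)
open Cfsg.Agent.Lib.helper17.ParkBiset (FG conjD card_conjD)
open Cfsg.Agent.Lib.helper17.BisetFix
open Cfsg.Agent.Lib.helper17.CB1 Cfsg.Agent.Lib.helper17.CB2 Cfsg.Agent.Lib.helper17.CB3
open Cfsg.Agent.Lib.helper17.CB4

universe u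

variable {Ω : Type u} [Group Ω] {S : Subgroup Ω} (F : FusionSystem S)

/-- index type of the class-indexed biset -/
abbrev Idx (μ : CC F → ℕ) : Type u := Σ q : CC F, Fin (μ q)

/-- point stabilizer attached to an index -/
noncomputable abbrev Dq (μ : CC F → ℕ) : Idx F μ → Subgroup (S × S) := fun i => i.1.out.1

/-- the class-indexed biset -/
abbrev Y (μ : CC F → ℕ) : Type u := Σ i : Idx F μ, (S × S) ⧸ Dq F μ i

section Count

variable [Finite S] [Fintype (CC F)]

/-- the mark function of the biset with multiplicities `μ` -/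
noncomputable def aa (μ : CC F → ℕ) (L : Subgroup (S × S)) : ℕ :=
  ∑ q : CC F, μ q * mm q.out.1 L

theorem card_fix_Y (μ : CC F → ℕ) (L : Subgroup (S × S)) :
    Nat.card (Fix (Y F μ) L) = aa F μ L := by
  classical
  unfold aa
  have h0 := card_fix_sigma (Dq F μ) L
  rw [show Nat.card (Fix (Y F μ) L) = _ from h0, Fintype.sum_sigma]
  apply Finset.sum_congr rfl
  intro q _
  show ∑ _y : Fin (μ q), mm q.out.1 L = _
  rw [Finset.sum_const, Finset.card_univ, Fintype.card_fin, smul_eq_mul]

theorem fix_Y_isFGraph (μ : CC F → ℕ) (M : Subgroup (S × S)) (x : Y F μ)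
    (hx : ∀ a ∈ M, a • x = x) : IsFGraph F M := by
  obtain ⟨i, q⟩ := x
  induction q using QuotientGroup.induction_on with
  | H c =>
    have hD : IsFGraph F (Dq F μ i) := i.1.out.2
    apply isFGraph_of_le F (isFGraph_conj F hD c)
    intro a ha
    have h1 := hx a ha
    rw [Sigma.smul_mk] at h1
    have h2 : a • (c : (S × S) ⧸ Dq F μ i) = c := eq_of_heq (Sigma.mk.inj h1).2
    rw [smul_mk_eq_iff] at h2
    rw [Subgroup.mem_map_equiv]
    simpa [MulAut.conj_symm_apply] using h2

theorem aa_add (μ δ : CC F → ℕ) (L : Subgroup (S × S)) :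
    aa F (μ + δ) L = aa F μ L + aa F δ L := by
  unfold aa
  rw [← Finset.sum_add_distrib]
  apply Finset.sum_congr rfl
  intro q _
  rw [Pi.add_apply, add_mul]

/-- multiplicities at lower levels do not contribute -/
theorem aa_eq_zero_of_lt (δ : CC F → ℕ) (k : ℕ) (hδ : ∀ q, δ q ≠ 0 → Nat.card q.out.1 = k)
    (L : Subgroup (S × S)) (hL : k < Nat.card L) : aa F δ L = 0 := by
  unfold aa
  apply Finset.sum_eq_zero
  intro q _
  by_cases hq : δ q = 0
  · rw [hq, zero_mul]
  · rw [mm_eq_zero_of_card_lt, mul_zero]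
    rw [hδ q hq]
    exact hL

/-- multiplicities at the same level -/
theorem aa_level (δ : CC F → ℕ) (k : ℕ) (hδ : ∀ q, δ q ≠ 0 → Nat.card q.out.1 = k)
    (L : FG F) (hL : Nat.card L.1 = k) : aa F δ L.1 = δ (cls F L) * wt L.1 := by
  classical
  unfold aa
  rw [Finset.sum_eq_single (cls F L)]
  · have hc : Nat.card (cls F L).out.1 = Nat.card L.1 := card_out_cls F L
    rw [mm_level F _ L hc, if_pos rfl]
  · intro q _ hq
    by_cases hq0 : δ q = 0
    · rw [hq0, zero_mul]
    · have hc : Nat.card q.out.1 = Nat.card L.1 := by rw [hδ q hq0, hL]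
      rw [mm_level F _ L hc, if_neg hq, mul_zero]
  · intro h
    exact absurd (Finset.mem_univ _) h

end Count

end Cfsg.Agent.Lib.helper17.CB5
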