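import Cfsg.Agent.Lib.helper17.CB5

set_option autoImplicit false

namespace Cfsg.Agent.Lib.helper17.CB6

open Cfsg Cfsg.FusionSystem MulAction
open Cfsg.Agent.Lib.Helper26
open Cfsg.Agent.Lib.helper17.ParkGraph (graphOf IsFGraph mem_graphOf isFGraph_conj isFGraph_of_le)
open Cfsg.Agent.Lib.helper17.ParkBiset (FG conjD card_conjD)
open Cfsg.Agent.Lib.helper17.BisetFix
open Cfsg.Agent.Lib.helper17.CB1 Cfsg.Agent.Lib.helper17.CB2 Cfsg.Agent.Lib.helper17.CB3
open Cfsg.Agent.Lib.helper17.CB4 Cfsg.Agent.Lib.helper17.CB5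

universe u

section General

variable {G : Type*} [Group G] {X : Type*} [MulAction G X]

/-- fixed points of a conjugate subgroup -/
theorem card_fix_conj (L : Subgroup G) (c : G) :
    Nat.card (Fix X (L.map (MulAut.conj c).toMonoidHom)) = Nat.card (Fix X L) := by
  apply Nat.card_congr
  refine
    { toFun := fun x => ⟨c⁻¹ • x.1, fun l hl => ?_⟩
      invFun := fun x => ⟨c • x.1, fun l hl => ?_⟩
      left_inv := fun x => by
        apply Subtype.ext
        simp
      right_inv := fun x => by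
        apply Subtype.ext
        simp }
  · have h1 : c * l * c⁻¹ ∈ L.map (MulAut.conj c).toMonoidHom := ⟨l, hl, rfl⟩
    have h2 := x.2 _ h1
    rw [← mul_smul]
    have : l * c⁻¹ = c⁻¹ * (c * l * c⁻¹) := by group
    rw [this, mul_smul, h2]
  · obtain ⟨l', hl', rfl⟩ := hl
    have h2 := x.2 _ hl'
    rw [← mul_smul]
    have : (MulAut.conj c).toMonoidHom l' * c = c * l' := by simp
    rw [this, mul_smul, h2]

end General

variable {Ω : Type u} [Group Ω] {S : Subgroup Ω} (F : FusionSystem S)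

theorem wt_conjD [Finite S] (c : S × S) (L : FG F) : wt (conjD F c L).1 = wt L.1 := by
  unfold wt
  have h1 : Nat.card (conjD F c L).1 = Nat.card L.1 := card_conjD F c L
  have h2 : Subgroup.normalizer ((conjD F c L).1 : Set (S × S)) =
      (Subgroup.normalizer (L.1 : Set (S × S))).map (MulAut.conj c).toMonoidHom :=
    (Subgroup.map_equiv_normalizer_eq L.1 (MulAut.conj c)).symm
  rw [h1, h2, Subgroup.card_map_of_injective (MulAut.conj c).injective]

theorem aa_conjD [Finite S] [Fintype (CC F)] (μ : CC F → ℕ) (c : S × S) (L : FG F) :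
    aa F μ (conjD F c L).1 = aa F μ L.1 := by
  rw [← card_fix_Y, ← card_fix_Y]
  exact card_fix_conj L.1 c

theorem isConj_src_conjD (c : S × S) (L : FG F) :
    F.IsConj (src L.1) (src (conjD F c L).1) := by
  refine ⟨conjHom (src L.1) (c.1 : Ω), F.conj_mem (src_le L.1) c.1.2, ?_⟩
  ext y
  rw [mem_src]
  constructor
  · rintro ⟨x, rfl⟩
    obtain ⟨z, hz, hzx⟩ := mem_src.mp x.2
    refine ⟨c * z * c⁻¹, ?_, ?_⟩
    · rw [mem_conjD]
      have : c⁻¹ * (c * z * c⁻¹) * c = z := by group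
      rw [this]
      exact hz
    · rw [conjHom_apply, ← hzx]
      rfl
  · rintro ⟨z, hz, rfl⟩
    rw [mem_conjD] at hz
    have hx : ((c⁻¹ * z * c).1 : Ω) ∈ src L.1 := mem_src.mpr ⟨_, hz, rfl⟩
    refine ⟨⟨_, hx⟩, ?_⟩
    rw [conjHom_apply]
    show (c.1 : Ω) * ((c⁻¹ * z * c).1 : Ω) * (c.1 : Ω)⁻¹ = z.1
    simp [mul_assoc]

theorem card_graphOf {P : Subgroup Ω} {φ : P →* Ω} (hφ : φ ∈ F.Hom P) :
    Nat.card (graphOf S P φ) = Nat.card P := by
  have hPS : P ≤ S := source_le F hφ
  apply Nat.card_congr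
  refine
    { toFun := fun z => ⟨z.1.1, (mem_graphOf.mp z.2).1⟩
      invFun := fun u => ⟨(⟨u, hPS u.2⟩, ⟨φ u, apply_mem F hφ u⟩), mem_graphOf.mpr ⟨u.2, rfl⟩⟩
      left_inv := fun z => by
        apply Subtype.ext
        apply Prod.ext
        · rfl
        · apply Subtype.ext
          exact (mem_graphOf.mp z.2).2
      right_inv := fun u => rfl }

theorem card_src (L : FG F) : Nat.card (src L.1) = Nat.card L.1 := by
  obtain ⟨P, φ, hφ, hL⟩ := L.2
  rw [hL, src_graphOf F hφ, card_graphOf F hφ]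

theorem card_eq_of_isConj {P Q : Subgroup Ω} (h : F.IsConj P Q) : Nat.card P = Nat.card Q := by
  obtain ⟨φ, hφ, rfl⟩ := h
  exact Nat.card_congr (MonoidHom.ofInjective (F.injective_of_mem hφ)).toEquiv

theorem card_eq_of_isConj_src {L L' : FG F} (h : F.IsConj (src L.1) (src L'.1)) :
    Nat.card L.1 = Nat.card L'.1 := by
  rw [← card_src, ← card_src]
  exact card_eq_of_isConj F h

end Cfsg.Agent.Lib.helper17.CB6
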