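import Cfsg.Agent.Lib.helper17.CB6
import Cfsg.Agent.Lib.Helper26.FusionSat2

set_option autoImplicit false

namespace Cfsg.Agent.Lib.helper17.CB7

open Cfsg Cfsg.FusionSystem MulAction
open Cfsg.Agent.Lib.Helper26
open Cfsg.Agent.Lib.helper17.ParkGraph (graphOf IsFGraph mem_graphOf isFGraph_conj isFGraph_of_le)
open Cfsg.Agent.Lib.helper17.ParkBiset (FG conjD card_conjD)
open Cfsg.Agent.Lib.helper17.BisetFix
open Cfsg.Agent.Lib.helper17.CB1 Cfsg.Agent.Lib.helper17.CB2 Cfsg.Agent.Lib.helper17.CB3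
open Cfsg.Agent.Lib.helper17.CB4 Cfsg.Agent.Lib.helper17.CB5 Cfsg.Agent.Lib.helper17.CB6

universe u

variable {Ω : Type u} [Group Ω] {S : Subgroup Ω} (F : FusionSystem S)

/-- cardinalities of subgroups of a finite `p`-group are totally ordered by divisibility -/
theorem card_dvd_of_le_of_isPGroup {G : Type*} [Group G] [Finite G] {p : ℕ} [Fact p.Prime]
    (hG : IsPGroup p G) (H K : Subgroup G) (h : Nat.card H ≤ Nat.card K) :
    Nat.card H ∣ Nat.card K := by
  obtain ⟨a, ha⟩ := (hG.to_subgroup H).exists_card_eq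
  obtain ⟨b, hb⟩ := (hG.to_subgroup K).exists_card_eq
  rw [ha, hb] at h ⊢
  have hp : 1 < p := (Fact.out : p.Prime).one_lt
  exact Nat.pow_dvd_pow p ((Nat.pow_le_pow_iff_right hp).mp h)

theorem isPGroup_prod {p : ℕ} [Fact p.Prime] [Finite S] (hS : IsPGroup p S) : IsPGroup p (S × S) := by
  obtain ⟨n, hn⟩ := hS.exists_card_eq
  apply IsPGroup.of_card (n := n + n)
  rw [Nat.card_prod, hn, pow_add]

section Step

variable [Finite S] [Fintype (CC F)] [Fintype (FG F)] {p : ℕ} [Fact p.Prime]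

/-- stability of the mark function at levels `≥ k` -/
def StableAt (μ : CC F → ℕ) (k : ℕ) : Prop :=
  ∀ L L' : FG F, F.IsConj (src L.1) (src L'.1) → k ≤ Nat.card L.1 → aa F μ L.1 = aa F μ L'.1

/-- a bound for all marks -/
noncomputable def bnd (μ : CC F → ℕ) : ℕ := ∑ L : FG F, aa F μ L.1

theorem aa_le_bnd (μ : CC F → ℕ) (L : FG F) : aa F μ L.1 ≤ bnd F μ :=
  Finset.single_le_sum (f := fun L : FG F => aa F μ L.1) (fun _ _ => Nat.zero_le _)
    (Finset.mem_univ L)

/-- admissible common values of the marks on a class -/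
def Tset (μ : CC F → ℕ) (L : FG F) : Set ℕ :=
  {T | bnd F μ ≤ T ∧ ∀ L' : FG F, F.IsConj (src L.1) (src L'.1) →
      ((wt L'.1 : ℕ) : ℤ) ∣ (T : ℤ) - (aa F μ L'.1 : ℤ)}

theorem Tset_congr (μ : CC F → ℕ) {L L₁ : FG F} (h : F.IsConj (src L.1) (src L₁.1)) :
    Tset F μ L = Tset F μ L₁ := by
  ext T
  constructor
  · rintro ⟨h1, h2⟩
    exact ⟨h1, fun L' hL' => h2 L' (isConj_trans F h hL')⟩
  · rintro ⟨h1, h2⟩
    exact ⟨h1, fun L' hL' => h2 L' (isConj_trans F (isConj_symm F h) hL')⟩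

theorem Tset_nonempty (hS : IsPGroup p S) (hF : F.IsSaturated p) (μ : CC F → ℕ) (L : FG F)
    (hst : StableAt F μ (Nat.card L.1 + 1)) : (Tset F μ L).Nonempty := by
  obtain ⟨P₀, hconj₀, hfn⟩ := exists_fullyNormalized_conj F (src_le L.1)
  obtain ⟨-, h₁, h₂⟩ := saturated_fullyNormalized hS F hF hfn
  have hL₀ : IsFGraph F (graphOf S P₀ P₀.subtype) :=
    ⟨P₀, _, Cfsg.Agent.Lib.Helper26.subtype_mem F h₂.1, rfl⟩
  refine ⟨aa F μ (graphOf S P₀ P₀.subtype) + bnd F μ *
    Nat.card (Subgroup.normalizer ((graphOf S P₀ P₀.subtype : Subgroup (S × S)) : Set (S × S))),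
    ?_, ?_⟩
  · have hpos : 0 < Nat.card (Subgroup.normalizer
        ((graphOf S P₀ P₀.subtype : Subgroup (S × S)) : Set (S × S))) := Nat.card_pos
    nlinarith
  · intro L' hL'
    obtain ⟨P', φ', hφ', hL'eq⟩ := L'.2
    have hsrc : src L'.1 = P' := by rw [hL'eq, src_graphOf F hφ']
    have hc' : F.IsConj P' P₀ := by
      rw [← hsrc]
      exact isConj_trans F (isConj_symm F hL') hconj₀
    have hcard : Nat.card L.1 = Nat.card (graphOf S P' φ') := by
      rw [← hL'eq]
      exact card_eq_of_isConj_src F hL'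
    have key := key_congr hS F hφ' h₁ h₂ hc' (X := Y F μ) (fix_Y_isFGraph F μ) (by
      intro M M' hM hM' hc hlt
      rw [card_fix_Y, card_fix_Y]
      exact hst ⟨M, hM⟩ ⟨M', hM'⟩ hc (by rw [hcard]; exact hlt))
    obtain ⟨hdvd, hle⟩ := key
    rw [card_fix_Y, card_fix_Y, ← hL'eq] at hdvd
    rw [← hL'eq] at hle
    have h3 : wt L'.1 ∣ Nat.card (Subgroup.normalizer
        ((graphOf S P₀ P₀.subtype : Subgroup (S × S)) : Set (S × S))) := by
      have h4 : wt L'.1 ∣ Nat.card (Subgroup.normalizer (L'.1 : Set (S × S))) := by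
        rw [card_normalizer_eq]
        exact Dvd.intro_left _ rfl
      exact h4.trans (card_dvd_of_le_of_isPGroup (isPGroup_prod hS) _ _ hle)
    have h5 : ((wt L'.1 : ℕ) : ℤ) ∣ ((bnd F μ * Nat.card (Subgroup.normalizer
        ((graphOf S P₀ P₀.subtype : Subgroup (S × S)) : Set (S × S))) : ℕ) : ℤ) :=
      Int.natCast_dvd_natCast.mpr (Dvd.dvd.mul_left h3 _)
    have h6 : ((aa F μ (graphOf S P₀ P₀.subtype) + bnd F μ * Nat.card (Subgroup.normalizer
        ((graphOf S P₀ P₀.subtype : Subgroup (S × S)) : Set (S × S))) : ℕ) : ℤ) -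
        (aa F μ L'.1 : ℤ) = -((aa F μ L'.1 : ℤ) - (aa F μ (graphOf S P₀ P₀.subtype) : ℤ)) +
        ((bnd F μ * Nat.card (Subgroup.normalizer
        ((graphOf S P₀ P₀.subtype : Subgroup (S × S)) : Set (S × S))) : ℕ) : ℤ) := by
      push_cast
      ring
    rw [h6]
    exact dvd_add ((dvd_neg).mpr hdvd) h5

/-- the common value chosen on the class of `L` -/
noncomputable def Tval (μ : CC F → ℕ) (L : FG F) : ℕ := sInf (Tset F μ L)

theorem Tval_congr (μ : CC F → ℕ) {L L₁ : FG F} (h : F.IsConj (src L.1) (src L₁.1)) :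
    Tval F μ L = Tval F μ L₁ := by
  unfold Tval
  rw [Tset_congr F μ h]

/-- the multiplicities added at level `k` -/
noncomputable def delta (μ : CC F → ℕ) (k : ℕ) : CC F → ℕ := fun q =>
  if Nat.card q.out.1 = k then (Tval F μ q.out - aa F μ q.out.1) / wt q.out.1 else 0

theorem delta_supp (μ : CC F → ℕ) (k : ℕ) (q : CC F) (h : delta F μ k q ≠ 0) :
    Nat.card q.out.1 = k := by
  unfold delta at h
  by_contra hne
  rw [if_neg hne] at h
  exact h rfl

theorem aa_step_level (hS : IsPGroup p S) (hF : F.IsSaturated p) (μ : CC F → ℕ) (k : ℕ)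
    (hst : StableAt F μ (k + 1)) (L : FG F) (hL : Nat.card L.1 = k) :
    aa F (μ + delta F μ k) L.1 = Tval F μ L := by
  rw [aa_add, aa_level F (delta F μ k) k (delta_supp F μ k) L hL]
  obtain ⟨c, hc⟩ := exists_conj_out F L
  have hr : Nat.card (cls F L).out.1 = k := by rw [card_out_cls, hL]
  have hconj : F.IsConj (src (cls F L).out.1) (src L.1) := by
    have := isConj_src_conjD F c (cls F L).out
    rw [hc] at this
    exact this
  have e1 : Tval F μ (cls F L).out = Tval F μ L := Tval_congr F μ hconj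
  have e2 : aa F μ (cls F L).out.1 = aa F μ L.1 := by
    have := aa_conjD F μ c (cls F L).out
    rw [hc] at this
    exact this.symm
  have e3 : wt (cls F L).out.1 = wt L.1 := by
    have := wt_conjD F c (cls F L).out
    rw [hc] at this
    exact this.symm
  have hd : delta F μ k (cls F L) = (Tval F μ L - aa F μ L.1) / wt L.1 := by
    unfold delta
    rw [if_pos hr, e1, e2, e3]
  rw [hd]
  have hne : (Tset F μ L).Nonempty := Tset_nonempty F hS hF μ L (by rw [hL]; exact hst)
  obtain ⟨hb, hT⟩ : Tval F μ L ∈ Tset F μ L := Nat.sInf_mem hne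
  have hle : aa F μ L.1 ≤ Tval F μ L := (aa_le_bnd F μ L).trans hb
  have hdvd := hT L (isConj_refl F (src_le L.1))
  rw [← Nat.cast_sub hle, Int.natCast_dvd_natCast] at hdvd
  rw [Nat.div_mul_cancel hdvd]
  omega

theorem step (hS : IsPGroup p S) (hF : F.IsSaturated p) (μ : CC F → ℕ) (k : ℕ)
    (hst : StableAt F μ (k + 1)) :
    StableAt F (μ + delta F μ k) k ∧
      (∀ L : Subgroup (S × S), k < Nat.card L → aa F (μ + delta F μ k) L = aa F μ L) ∧
      (∀ q : CC F, Nat.card q.out.1 ≠ k → (μ + delta F μ k) q = μ q) := by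
  have hhigh : ∀ L : Subgroup (S × S), k < Nat.card L → aa F (μ + delta F μ k) L = aa F μ L := by
    intro L hL
    rw [aa_add, aa_eq_zero_of_lt F (delta F μ k) k (delta_supp F μ k) L hL, add_zero]
  refine ⟨?_, hhigh, ?_⟩
  · intro L L' hc hk
    have hcard := card_eq_of_isConj_src F hc
    rcases Nat.eq_or_lt_of_le hk with h | h
    · rw [aa_step_level F hS hF μ k hst L h.symm, aa_step_level F hS hF μ k hst L' (by omega)]
      exact Tval_congr F μ hc
    · rw [hhigh _ h, hhigh _ (by omega)]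
      exact hst L L' hc h
  · intro q hq
    rw [Pi.add_apply]
    unfold delta
    rw [if_neg hq, add_zero]

end Step

end Cfsg.Agent.Lib.helper17.CB7
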