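import Cfsg.Agent.Lib.helper17.CB7

set_option autoImplicit false

namespace Cfsg.Agent.Lib.helper17.CB8

open Cfsg Cfsg.FusionSystem MulAction
open Cfsg.Agent.Lib.Helper26
open Cfsg.Agent.Lib.helper17.ParkGraph (graphOf IsFGraph mem_graphOf isFGraph_conj isFGraph_of_le
  isFGraph_diag)
open Cfsg.Agent.Lib.helper17.ParkBiset (FG conjD card_conjD)
open Cfsg.Agent.Lib.helper17.BisetFix
open Cfsg.Agent.Lib.helper17.CB1 Cfsg.Agent.Lib.helper17.CB2 Cfsg.Agent.Lib.helper17.CB3
open Cfsg.Agent.Lib.helper17.CB4 Cfsg.Agent.Lib.helper17.CB5 Cfsg.Agent.Lib.helper17.CB6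
open Cfsg.Agent.Lib.helper17.CB7

universe u

variable {Ω : Type u} [Group Ω] {S : Subgroup Ω} (F : FusionSystem S)

/-- the diagonal, as an `F`-graph -/
def diag : FG F := ⟨graphOf S S S.subtype, isFGraph_diag F⟩

theorem src_diag : src (diag F).1 = S :=
  src_graphOf F (Cfsg.Agent.Lib.Helper26.subtype_mem F le_rfl)

section Top

variable [Finite S] [Fintype (CC F)] [Fintype (FG F)] {p : ℕ} [Fact p.Prime]

theorem card_diag : Nat.card (diag F).1 = Nat.card S := by
  rw [← card_src, src_diag]

theorem card_le_card_S (L : FG F) : Nat.card L.1 ≤ Nat.card S := by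
  rw [← card_src]
  exact card_le_card_of_le_of_finite (src_le L.1)

theorem src_eq_of_top (L : FG F) (h : Nat.card S ≤ Nat.card L.1) : src L.1 = S := by
  apply Subgroup.eq_of_le_of_card_ge (src_le L.1)
  rw [card_src]
  exact h

theorem fullyNormalized_top : F.IsFullyNormalized S := by
  refine ⟨le_rfl, fun Q _ => ?_⟩
  have h1 : normalizerIn S S = S := by
    apply le_antisymm inf_le_left
    intro x hx
    exact ⟨hx, Subgroup.le_normalizer hx⟩
  rw [h1]
  exact card_le_card_of_le_of_finite inf_le_left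

theorem aa_zero (L : Subgroup (S × S)) : aa F (0 : CC F → ℕ) L = 0 := by
  unfold aa
  apply Finset.sum_eq_zero
  intro q _
  rw [Pi.zero_apply, zero_mul]

/-- the weights of the top-level graphs divide the weight of the diagonal -/
theorem wt_dvd_wt_diag (hS : IsPGroup p S) (hF : F.IsSaturated p) (L : FG F)
    (hL : Nat.card S ≤ Nat.card L.1) : wt L.1 ∣ wt (diag F).1 := by
  obtain ⟨-, h₁, h₂⟩ := saturated_fullyNormalized hS F hF (fullyNormalized_top F)
  obtain ⟨P', φ', hφ', hLeq⟩ := L.2
  have hsrc : src L.1 = P' := by rw [hLeq, src_graphOf F hφ']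
  have hc' : F.IsConj P' S := by
    rw [← hsrc, src_eq_of_top F L hL]
    exact isConj_refl F le_rfl
  have key := key_congr hS F hφ' h₁ h₂ hc' (X := Y F (0 : CC F → ℕ)) (fix_Y_isFGraph F 0) (by
    intro M M' _ _ _ _
    rw [card_fix_Y, card_fix_Y, aa_zero, aa_zero])
  have hle := key.2
  rw [← hLeq] at hle
  have hdvd := card_dvd_of_le_of_isPGroup (isPGroup_prod hS) _ _ hle
  rw [card_normalizer_eq, card_normalizer_eq] at hdvd
  have hc1 : Nat.card L.1 = Nat.card S := le_antisymm (card_le_card_S F L) hL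
  have hc2 : Nat.card (graphOf S S S.subtype) = Nat.card S := card_diag F
  rw [hc1, hc2] at hdvd
  exact Nat.dvd_of_mul_dvd_mul_left Nat.card_pos hdvd

/-- the top-level multiplicities -/
noncomputable def mu1 : CC F → ℕ := fun q =>
  if Nat.card q.out.1 = Nat.card S then wt (diag F).1 / wt q.out.1 else 0

theorem mu1_supp (q : CC F) (h : mu1 F q ≠ 0) : Nat.card q.out.1 = Nat.card S := by
  unfold mu1 at h
  by_contra hne
  rw [if_neg hne] at h
  exact h rfl

theorem aa_mu1 (hS : IsPGroup p S) (hF : F.IsSaturated p) (L : FG F)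
    (hL : Nat.card L.1 = Nat.card S) : aa F (mu1 F) L.1 = wt (diag F).1 := by
  rw [aa_level F (mu1 F) (Nat.card S) (mu1_supp F) L hL]
  obtain ⟨c, hc⟩ := exists_conj_out F L
  have hr : Nat.card (cls F L).out.1 = Nat.card S := by rw [card_out_cls, hL]
  have e3 : wt (cls F L).out.1 = wt L.1 := by
    have := wt_conjD F c (cls F L).out
    rw [hc] at this
    exact this.symm
  unfold mu1
  rw [if_pos hr, e3]
  exact Nat.div_mul_cancel (wt_dvd_wt_diag F hS hF L (le_of_eq hL.symm))

theorem stableAt_mu1 (hS : IsPGroup p S) (hF : F.IsSaturated p) :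
    StableAt F (mu1 F) (Nat.card S) := by
  intro L L' hc hk
  have h1 : Nat.card L.1 = Nat.card S := le_antisymm (card_le_card_S F L) hk
  have h2 : Nat.card L'.1 = Nat.card S := by rw [← card_eq_of_isConj_src F hc, h1]
  rw [aa_mu1 F hS hF L h1, aa_mu1 F hS hF L' h2]

/-- existence of stable multiplicities with the right value on the diagonal -/
theorem exists_stable (hS : IsPGroup p S) (hF : F.IsSaturated p) :
    ∃ μ : CC F → ℕ, StableAt F μ 0 ∧ aa F μ (diag F).1 = wt (diag F).1 := by
  have key : ∀ d : ℕ, ∃ μ : CC F → ℕ, StableAt F μ (Nat.card S - d) ∧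
      aa F μ (diag F).1 = wt (diag F).1 := by
    intro d
    induction d with
    | zero => exact ⟨mu1 F, stableAt_mu1 F hS hF, aa_mu1 F hS hF (diag F) (card_diag F)⟩
    | succ d ih =>
      obtain ⟨μ, hμ, hd⟩ := ih
      by_cases h0 : Nat.card S - d = 0
      · refine ⟨μ, ?_, hd⟩
        have : Nat.card S - (d + 1) = 0 := by omega
        rw [this]
        rw [h0] at hμ
        exact hμ
      · have hk : Nat.card S - d = (Nat.card S - (d + 1)) + 1 := by omega
        rw [hk] at hμ
        obtain ⟨h1, h2, -⟩ := step F hS hF μ _ hμ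
        refine ⟨_, h1, ?_⟩
        rw [h2 _ (by rw [card_diag]; omega)]
        exact hd
  obtain ⟨μ, hμ, hd⟩ := key (Nat.card S)
  rw [Nat.sub_self] at hμ
  exact ⟨μ, hμ, hd⟩

end Top

end Cfsg.Agent.Lib.helper17.CB8
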