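import Cfsg.Agent.Lib.helper17.CB8

set_option autoImplicit false

namespace Cfsg.Agent.Lib.helper17.CB9

open Cfsg Cfsg.FusionSystem MulAction
open Cfsg.Agent.Lib.Helper26
open Cfsg.Agent.Lib.helper17.ParkGraph (graphOf IsFGraph mem_graphOf isFGraph_conj isFGraph_of_le
  isFGraph_diag mem_diag)
open Cfsg.Agent.Lib.helper17.ParkBiset (FG conjD card_conjD)
open Cfsg.Agent.Lib.helper17.BisetFix
open Cfsg.Agent.Lib.helper17.CB1 Cfsg.Agent.Lib.helper17.CB2 Cfsg.Agent.Lib.helper17.CB3
open Cfsg.Agent.Lib.helper17.CB4 Cfsg.Agent.Lib.helper17.CB5 Cfsg.Agent.Lib.helper17.CB6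
open Cfsg.Agent.Lib.helper17.CB7 Cfsg.Agent.Lib.helper17.CB8

universe u

variable {Ω : Type u} [Group Ω] {S : Subgroup Ω} (F : FusionSystem S)

/-- the normalizer of the diagonal -/
theorem mem_normalizer_diag (z : S × S) :
    z ∈ Subgroup.normalizer ((graphOf S S S.subtype : Subgroup (S × S)) : Set (S × S)) ↔
      z.1⁻¹ * z.2 ∈ Subgroup.center S := by
  rw [Subgroup.mem_normalizer_iff, Subgroup.mem_center_iff]
  constructor
  · intro h u
    have h1 := (h (u, u)).mp (mem_diag.mpr rfl)
    rw [mem_diag] at h1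
    have h2 : z.1 * u * z.1⁻¹ = z.2 * u * z.2⁻¹ := h1
    calc u * (z.1⁻¹ * z.2) = z.1⁻¹ * (z.1 * u * z.1⁻¹) * z.2 := by group
      _ = z.1⁻¹ * (z.2 * u * z.2⁻¹) * z.2 := by rw [h2]
      _ = z.1⁻¹ * z.2 * u := by group
  · intro h w
    rw [mem_diag, mem_diag]
    show w.1 = w.2 ↔ z.1 * w.1 * z.1⁻¹ = z.2 * w.2 * z.2⁻¹
    constructor
    · intro hw
      rw [hw]
      have h1 := h w.2
      calc z.1 * w.2 * z.1⁻¹ = z.1 * (w.2 * (z.1⁻¹ * z.2)) * z.2⁻¹ := by group
        _ = z.1 * (z.1⁻¹ * z.2 * w.2) * z.2⁻¹ := by rw [h1]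
        _ = z.2 * w.2 * z.2⁻¹ := by group
    · intro hw
      have h1 := h w.2
      calc w.1 = z.1⁻¹ * (z.1 * w.1 * z.1⁻¹) * z.1 := by group
        _ = z.1⁻¹ * (z.2 * w.2 * z.2⁻¹) * z.1 := by rw [hw]
        _ = (z.1⁻¹ * z.2 * w.2) * (z.2⁻¹ * z.1) := by group
        _ = (w.2 * (z.1⁻¹ * z.2)) * (z.2⁻¹ * z.1) := by rw [h1]
        _ = w.2 := by group

theorem card_normalizer_diag [Finite S] :
    Nat.card (Subgroup.normalizer ((graphOf S S S.subtype : Subgroup (S × S)) : Set (S × S))) =
      Nat.card S * Nat.card (Subgroup.center S) := by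
  rw [← Nat.card_prod]
  apply Nat.card_congr
  refine
    { toFun := fun z => (z.1.1, ⟨z.1.1⁻¹ * z.1.2, (mem_normalizer_diag z.1).mp z.2⟩)
      invFun := fun w => ⟨(w.1, w.1 * w.2.1), (mem_normalizer_diag _).mpr (by simp)⟩
      left_inv := fun z => by
        apply Subtype.ext
        apply Prod.ext <;> simp
      right_inv := fun w => by
        apply Prod.ext
        · rfl
        · apply Subtype.ext
          simp }

theorem wt_diag [Finite S] [Fintype (CC F)] [Fintype (FG F)] : wt (diag F).1 = Nat.card (Subgroup.center S) := by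
  have h1 := card_normalizer_eq (diag F).1
  have h2 : Nat.card (Subgroup.normalizer (((diag F).1 : Subgroup (S × S)) : Set (S × S))) =
      Nat.card S * Nat.card (Subgroup.center S) := card_normalizer_diag
  rw [h2, card_diag] at h1
  exact (Nat.eq_of_mul_eq_mul_left Nat.card_pos h1).symm

theorem autInducedBy_top_eq_range : autInducedBy S S = (MulAut.conj : S →* MulAut S).range := by
  ext α
  rw [mem_autInducedBy_iff]
  constructor
  · rintro ⟨g, hg, h⟩
    refine ⟨⟨g, hg⟩, ?_⟩
    ext x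
    rw [h x]
    rfl
  · rintro ⟨g, rfl⟩
    exact ⟨g, g.2, fun x => rfl⟩

theorem card_autInducedBy_top [Finite S] :
    Nat.card (autInducedBy S S) * Nat.card (Subgroup.center S) = Nat.card S := by
  rw [autInducedBy_top_eq_range]
  have h1 : (MulAut.conj : S →* MulAut S).ker = Subgroup.center S := by
    ext g
    rw [MonoidHom.mem_ker, Subgroup.mem_center_iff]
    constructor
    · intro h x
      have := congrArg (fun α : MulAut S => α x) h
      simp only [MulAut.conj_apply, MulAut.one_apply] at this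
      calc x * g = g * x * g⁻¹ * g := by rw [this]
        _ = g * x := by group
    · intro h
      ext x
      simp only [MulAut.conj_apply, MulAut.one_apply]
      rw [← h x]
      simp
  rw [← Subgroup.index_ker, h1]
  exact Subgroup.index_mul_card _

end Cfsg.Agent.Lib.helper17.CB9
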