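import Mathlib
import Cfsg.Agent.Lib.helper17.CW3
import Cfsg.Agent.Lib.Helper27.GTConstrained

/-!
# Control of weak closure of elements: the case `z ∈ O_p(F)`
-/

set_option autoImplicit false

namespace Cfsg.Agent.Lib.helper17.CW

open Cfsg Cfsg.FusionSystem Cfsg.Agent.Lib.Helper26 Cfsg.Agent.Lib.Helper27
  Cfsg.Agent.Lib.Helper27.GT

universe u

variable {Ω : Type u} [Group Ω] {S : Subgroup Ω}

/-- if `Q ⊴ F` contains `z` and `Aut_F(Q)` fixes `z`, every map of `F` is a map of the
centralizer system of `⟨z⟩` -/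
theorem centralizerHom_of_aut_normal (F : FusionSystem S) {Q : Subgroup Ω} (hQ : F.IsNormal Q)
    {z : Ω} (hzQ : z ∈ Q) (hzc : ∀ s ∈ S, s * z = z * s)
    (haut : ∀ α ∈ F.autGroup Q, ((α ⟨z, hzQ⟩ : Q) : Ω) = z) (P : Subgroup Ω) :
    F.Hom P ⊆ F.centralizerHom (Subgroup.zpowers z) P := by
  intro φ hφ
  have hQS : Q ≤ S := hQ.1
  have hPS : P ≤ S := source_le F hφ
  have hSZ := le_centralizer_zpowers hzc
  obtain ⟨ψ, hψ, hext, hmap⟩ := hQ.2 P φ hφ
  -- the restriction of `ψ` to `Q` is an automorphism
  have hρ : ψ.comp (Subgroup.inclusion (le_sup_right : Q ≤ P ⊔ Q)) ∈ F.Hom Q :=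
    restrict_mem F hψ le_sup_right
  have hr := range_eq_of_isNormal F hQ hρ
  have h1 := haut _ (autOfHom_mem F hρ hr)
  rw [autOfHom_apply] at h1
  have hzPQ : z ∈ P ⊔ Q := le_sup_right (a := P) hzQ
  have h2 : ψ ⟨z, hzPQ⟩ = z := h1
  have hle : P ⊔ Subgroup.zpowers z ≤ P ⊔ Q :=
    sup_le le_sup_left (((Subgroup.zpowers_le).mpr hzQ).trans le_sup_right)
  refine ⟨hφ, le_inf hPS (hPS.trans hSZ), fun x => ⟨apply_mem F hφ x, hSZ (apply_mem F hφ x)⟩,
    ψ.comp (Subgroup.inclusion hle), restrict_mem F hψ hle, fun x => hext x, fun x => ?_⟩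
  have hxz : (x : Ω) ∈ Subgroup.zpowers z := x.2
  exact apply_eq_of_forall_zpowers hzPQ h2 ⟨(x : Ω), hle (le_sup_right (a := P) x.2)⟩ hxz

/-- the case `z ∈ O_p(F)` -/
theorem lemmaA [Finite S] {p n : ℕ} [Fact p.Prime] (𝒲 : PFun.{u} p) (hL : LocalHyp p n 𝒲)
    (hS : IsPGroup p S) {y : Ω} (hyS : y ∈ S) (hyc : ∀ s ∈ S, s * y = y * s) :
    ∀ (k : ℕ) (F : FusionSystem S), F.IsSaturated p → Nat.card S - Nat.card F.core = k →
      y ^ n ∈ F.core → FixOn F (𝒲.W S) (y ^ n) →
      ∀ P : Subgroup Ω, F.Hom P ⊆ F.centralizerHom (Subgroup.zpowers (y ^ n)) P := by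
  have hzS : y ^ n ∈ S := S.pow_mem hyS n
  have hzc : ∀ s ∈ S, s * y ^ n = y ^ n * s := fun s hs =>
    ((show Commute s y from hyc s hs).pow_right n).eq
  intro k
  induction k using Nat.strong_induction_on with
  | _ k ih =>
    intro F hF hk hzcore hfix
    have hQ := isNormal_core F
    have hQS : F.core ≤ S := hQ.1
    have hSQ : S ≤ Subgroup.normalizer (F.core : Set Ω) :=
      fun s hs => mem_normalizer_of_isNormal F hQ hs
    refine centralizerHom_of_aut_normal F hQ hzcore hzc ?_
    by_cases hcen : centralizerIn S F.core ≤ F.core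
    · -- constrained case
      have hcon : F.IsConstrained p := by
        refine ⟨hF, F.core, hQ, hQS, fun Q' hQ' => ?_⟩
        rw [isConj_eq_of_isNormal F hQ hQ']
        exact hcen
      obtain ⟨G, _, ι, hG⟩ := Model.exists_model p hS F hcon
      have hall := fixes_of_model 𝒲 hL hS F ι hG hyS hyc hfix
      intro α hα
      exact hall _ _ ((mem_autGroup_iff F hQS).mp hα) hzcore
    · -- pass to the normalizer system of `R = Q C_S(Q)`
      have hRS : F.core ⊔ centralizerIn S F.core ≤ S := sup_le hQS (centralizerIn_le S _)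
      have hSR := normal_sup_centralizerIn hSQ
      have hKsat := normSys_saturated hS F hF _ hRS hSR
      have hRK := normSys_isNormal F _ hRS hSR
      have hRcore : F.core ⊔ centralizerIn S F.core ≤ (normSys F _ hRS hSR).core := le_sSup hRK
      have hKcoreS : (normSys F _ hRS hSR).core ≤ S := (isNormal_core _).1
      have : Finite ↥(normSys F _ hRS hSR).core := finite_of_le hKcoreS
      have : Finite ↥(F.core ⊔ centralizerIn S F.core) := finite_of_le hRS
      have : Finite ↥F.core := finite_of_le hQS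
      have hlt : F.core < F.core ⊔ centralizerIn S F.core := by
        exact lt_of_le_of_ne le_sup_left (fun h => hcen (le_sup_right.trans h.ge))
      have hc1 : Nat.card F.core < Nat.card ↥(F.core ⊔ centralizerIn S F.core) :=
        card_lt_card_of_lt hlt
      have hc2 : Nat.card ↥(F.core ⊔ centralizerIn S F.core) ≤
          Nat.card ↥(normSys F _ hRS hSR).core :=
        Nat.card_le_card_of_injective (Subgroup.inclusion hRcore) (Subgroup.inclusion_injective _)
      have hc3 : Nat.card ↥(normSys F _ hRS hSR).core ≤ Nat.card S :=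
        card_le_card_of_le_of_finite hKcoreS
      have hK := ih (Nat.card S - Nat.card ↥(normSys F _ hRS hSR).core) (by omega)
        (normSys F _ hRS hSR) hKsat rfl (hRcore (le_sup_left (a := F.core) hzcore))
        (hfix.mono (normSys_le F _ hRS hSR))
      intro α hα
      have hφ₀ := (mem_autGroup_iff F hQS).mp hα
      have hr₀ : (F.core.subtype.comp α.toMonoidHom).range = F.core :=
        range_eq_of_isNormal F hQ hφ₀
      obtain ⟨-, -, hrec⟩ := saturated_fullyNormalized hS F hF (fullyNormalized_of_isNormal F hQ)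
      obtain ⟨ψ, hψ, hψe⟩ := hrec.2 F.core _ hφ₀ hr₀
      have hle : F.core ⊔ centralizerIn S F.core ≤ extender S F.core
          (F.core.subtype.comp α.toMonoidHom) :=
        sup_le (le_extender F hφ₀) (centralizerIn_le_extender S _ _)
      have hρ : ψ.comp (Subgroup.inclusion hle) ∈ F.Hom (F.core ⊔ centralizerIn S F.core) :=
        restrict_mem F hψ hle
      -- `ρ` agrees with `α` on `Q`
      have hρQ : ∀ q : F.core, ψ.comp (Subgroup.inclusion hle)
          (Subgroup.inclusion le_sup_left q) = ((α q : F.core) : Ω) := by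
        intro q
        exact hψe q q.2 (hle (le_sup_left (a := F.core) q.2))
      have hinv : ∀ x : ↥(F.core ⊔ centralizerIn S F.core),
          ψ.comp (Subgroup.inclusion hle) x ∈ F.core ⊔ centralizerIn S F.core := by
        intro x
        refine map_sup_mem _ _ (fun q => ?_) (fun c => ?_) x
        · rw [hρQ]
          exact le_sup_left (a := F.core) (α q).2
        · refine le_sup_right (a := F.core) ⟨apply_mem F hρ _, ?_⟩
          show _ ∈ Subgroup.centralizer (F.core : Set Ω)
          rw [Subgroup.mem_centralizer_iff]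
          intro q hq
          have h1 := hρQ (α⁻¹ ⟨q, hq⟩)
          rw [MulAut.apply_inv_self] at h1
          have h2 : (q : Ω) = ψ.comp (Subgroup.inclusion hle)
              (Subgroup.inclusion le_sup_left (α⁻¹ ⟨q, hq⟩)) := h1.symm
          rw [h2, ← map_mul, ← map_mul]
          congr 1
          apply Subtype.ext
          exact (Subgroup.mem_centralizer_iff.mp c.2.2) _ (α⁻¹ ⟨q, hq⟩).2
      have hρK : ψ.comp (Subgroup.inclusion hle) ∈
          (normSys F _ hRS hSR).Hom (F.core ⊔ centralizerIn S F.core) := by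
        rw [normSys_hom]
        exact mem_normalizerHom_of_invariant F hρ le_rfl Subgroup.le_normalizer
          (fun x _ => hinv x)
      have h3 := apply_eq_of_mem_centralizerHom_zpowers _ (hK _ hρK)
        (le_sup_left (a := F.core) hzcore)
      have h4 := hρQ ⟨y ^ n, hzcore⟩
      rw [← h4]
      exact h3

end Cfsg.Agent.Lib.helper17.CW
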