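import Mathlib
import Cfsg.Agent.Lib.helper17.CW4
import Cfsg.Agent.Lib.Helper26.SatCrit2

/-!
# Control of weak closure of elements: the main induction
-/

set_option autoImplicit false

namespace Cfsg.Agent.Lib.helper17.CW

open Cfsg Cfsg.FusionSystem Cfsg.Agent.Lib.Helper26 Cfsg.Agent.Lib.Helper27
  Cfsg.Agent.Lib.Helper27.GT

universe u

variable {Ω : Type u} [Group Ω] {S : Subgroup Ω}

/-- transport of `FixOn` along a map defined on `N_S(V)` which fixes `z` -/
theorem FixOn.transport [Finite S] (F : FusionSystem S) {V V' : Subgroup Ω} (hVS : V ≤ S)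
    (β : NormalizerHom F V V') {z : Ω} (hzN : z ∈ normalizerIn S V) (hβz : β.φ ⟨z, hzN⟩ = z)
    (h : FixOn F V' z) : FixOn F V z := by
  intro P φ hφ hVP hPN hinv hzP
  have hPS : P ≤ S := source_le F hφ
  have hPNS : P ≤ normalizerIn S V := le_inf hPS hPN
  have hφN := mem_normalizerHom_of_invariant F hφ hVP hPN hinv
  have hφmaps : φ.range ≤ normalizerIn S V := by
    rintro _ ⟨x, rfl⟩
    exact hφN.2.2.1 x
  obtain ⟨P₁, e₁, he₁, he₁x⟩ := exists_iso_restrict F β.mem hPNS
  obtain ⟨eφ, heφ, heφx⟩ := exists_iso_of_hom F hφ rfl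
  obtain ⟨P₃, e₃, he₃, he₃x⟩ := exists_iso_restrict F β.mem hφmaps
  have he : IsIso F (e₁.symm.trans (eφ.trans e₃)) := he₁.symm.trans (heφ.trans he₃)
  -- elements of `V'` come from `V`
  have hV'pre : ∀ y ∈ V', ∃ v : P, (v : Ω) ∈ V ∧ ((e₁ v : P₁) : Ω) = y := by
    intro y hy
    obtain ⟨v, hv⟩ := β.exists_preimage hVS hy
    refine ⟨⟨v, hVP v.2⟩, v.2, ?_⟩
    rw [he₁x]
    exact hv
  have hV'P₁ : V' ≤ P₁ := by
    intro y hy
    obtain ⟨v, -, hv⟩ := hV'pre y hy
    rw [← hv]
    exact (e₁ v).2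
  have hP₁N : P₁ ≤ Subgroup.normalizer (V' : Set Ω) := by
    intro y hy
    have h1 := he₁x (e₁.symm ⟨y, hy⟩)
    rw [MulEquiv.apply_symm_apply] at h1
    have h2 := β.maps (Subgroup.inclusion hPNS (e₁.symm ⟨y, hy⟩))
    rw [← h1] at h2
    exact h2.2
  have hzP₁ : z ∈ P₁ := by
    have h1 := he₁x ⟨z, hzP⟩
    have h2 : β.φ (Subgroup.inclusion hPNS ⟨z, hzP⟩) = z := hβz
    rw [h2] at h1
    rw [← h1]
    exact (e₁ ⟨z, hzP⟩).2
  have happ : ∀ v : P, ((e₁.symm.trans (eφ.trans e₃)) (e₁ v) : Ω) =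
      β.φ ⟨φ v, hφmaps ⟨v, rfl⟩⟩ := by
    intro v
    have h1 : (e₁.symm.trans (eφ.trans e₃)) (e₁ v) = e₃ (eφ v) := by
      simp
    rw [h1, he₃x]
    congr 1
    exact Subtype.ext (heφx v)
  have key := h P₁ _ he hV'P₁ hP₁N (fun x hx => by
    obtain ⟨v, hv, hvx⟩ := hV'pre x hx
    have e : x = e₁ v := Subtype.ext hvx.symm
    rw [e]
    show ((e₁.symm.trans (eφ.trans e₃)) (e₁ v) : Ω) ∈ V'
    rw [happ]
    exact β.apply_mem_of_mem hVS ⟨φ v, hinv v hv⟩) hzP₁
  have e : (⟨z, hzP₁⟩ : P₁) = e₁ ⟨z, hzP⟩ := by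
    apply Subtype.ext
    rw [he₁x]
    exact hβz.symm
  rw [e] at key
  have key' : ((e₁.symm.trans (eφ.trans e₃)) (e₁ ⟨z, hzP⟩) : Ω) = z := key
  rw [happ] at key'
  have h3 : β.φ ⟨φ ⟨z, hzP⟩, hφmaps ⟨_, rfl⟩⟩ = β.φ ⟨z, hzN⟩ := by rw [key', hβz]
  have h4 := β.injective h3
  exact congrArg Subtype.val h4

/-- the normalizer system of `V ⊴ S` over `S` controls `FixOn` -/
theorem FixOn.of_fixes_normSys [Finite S] (F : FusionSystem S) {V : Subgroup Ω} (hVS : V ≤ S)
    (hSV : S ≤ Subgroup.normalizer (V : Set Ω)) {z : Ω}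
    (h : Fixes (normSys F V hVS hSV) z) : FixOn F V z := by
  intro P φ hφ hVP hPN hinv hz
  have := mem_normalizerHom_of_invariant F hφ hVP hPN hinv
  rw [← normSys_hom F V hVS hSV P] at this
  exact h P φ this hz

theorem fixes_of_centralizerHom {T : Subgroup Ω} (K : FusionSystem T) {z : Ω}
    (h : ∀ P : Subgroup Ω, K.Hom P ⊆ K.centralizerHom (Subgroup.zpowers z) P) : Fixes K z :=
  fun P _ hφ hz => apply_eq_of_mem_centralizerHom_zpowers K (h P hφ) hz

/-- the induction hypothesis of the main theorem -/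
def IH (p n : ℕ) (𝒲 : PFun.{u} p) (N : ℕ) : Prop :=
  ∀ {Ω : Type u} [Group Ω] (S : Subgroup Ω) [Finite S], Nat.card S < N → IsPGroup p S →
    ∀ F : FusionSystem S, F.IsSaturated p → ∀ y ∈ S, (∀ s ∈ S, s * y = y * s) →
      FixOn F (𝒲.W S) (y ^ n) →
      ∀ P : Subgroup Ω, F.Hom P ⊆ F.centralizerHom (Subgroup.zpowers (y ^ n)) P

theorem central_mem_normalizerIn {y : Ω} (hyS : y ∈ S) (hyc : ∀ s ∈ S, s * y = y * s)
    {V : Subgroup Ω} (hVS : V ≤ S) : y ∈ normalizerIn S V := by
  refine ⟨hyS, mem_normalizer_of_forall (fun x hx => ?_) (fun x hx => ?_)⟩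
  · have : y * x = x * y := (hyc x (hVS hx)).symm
    rw [this, mul_inv_cancel_right]
    exact hx
  · have : x * y = y * x := hyc x (hVS hx)
    rw [mul_assoc, this, inv_mul_cancel_left]
    exact hx

/-- the climbing step -/
theorem fixOn_step [Finite S] {p n : ℕ} [Fact p.Prime] (𝒲 : PFun.{u} p) (hL : LocalHyp p n 𝒲)
    (ih : IH p n 𝒲 (Nat.card S)) (hS : IsPGroup p S) (F : FusionSystem S)
    (hF : F.IsSaturated p) {y : Ω} (hyS : y ∈ S) (hyc : ∀ s ∈ S, s * y = y * s)
    (hfix : FixOn F (𝒲.W S) (y ^ n)) (m : ℕ)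
    (hA : ∀ P : Subgroup Ω, P ≤ S → m < Nat.card P →
      F.Hom P ⊆ F.centralizerHom (Subgroup.zpowers (y ^ n)) P)
    (hB : ∀ T : Subgroup Ω, T ≤ S → S ⊓ Subgroup.centralizer (S : Set Ω) ≤ T → m < Nat.card T →
      FixOn F (𝒲.W T) (y ^ n))
    {T : Subgroup Ω} (hTS : T ≤ S) (hZT : S ⊓ Subgroup.centralizer (S : Set Ω) ≤ T)
    (hTne : T ≠ S) (hcard : m ≤ Nat.card T) : FixOn F (𝒲.W T) (y ^ n) := by
  have : Finite T := finite_of_le hTS
  have hTp : IsPGroup p T := hS.to_le hTS
  have hzS : y ^ n ∈ S := S.pow_mem hyS n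
  have hzc : ∀ s ∈ S, s * y ^ n = y ^ n * s := fun s hs =>
    ((show Commute s y from hyc s hs).pow_right n).eq
  have hyZ : y ∈ S ⊓ Subgroup.centralizer (S : Set Ω) := by
    refine ⟨hyS, ?_⟩
    show y ∈ Subgroup.centralizer (S : Set Ω)
    rw [Subgroup.mem_centralizer_iff]
    intro s hs
    exact hyc s hs
  have hyT : y ∈ T := hZT hyZ
  have hyZT : y ∈ T ⊓ Subgroup.centralizer (T : Set Ω) := by
    refine ⟨hyT, ?_⟩
    show y ∈ Subgroup.centralizer (T : Set Ω)
    rw [Subgroup.mem_centralizer_iff]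
    intro s hs
    exact hyc s (hTS hs)
  have hVT : 𝒲.W T ≤ T := 𝒲.le T
  have hVS : 𝒲.W T ≤ S := hVT.trans hTS
  have hyV : y ∈ 𝒲.W T := 𝒲.center_le T hTp hyZT
  have hzV : y ^ n ∈ 𝒲.W T := (𝒲.W T).pow_mem hyV n
  -- `N_S(V)` is larger than `T`
  have hlt : T < normalizerIn S T := lt_normalizerIn hS hTS hTne
  have hle : normalizerIn S T ≤ normalizerIn S (𝒲.W T) :=
    inf_le_inf_left S (𝒲.normalizer_le T hTp)
  have : Finite ↥(normalizerIn S T) := finite_of_le (normalizerIn_le _ _)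
  have : Finite ↥(normalizerIn S (𝒲.W T)) := finite_of_le (normalizerIn_le _ _)
  have hc1 : Nat.card T < Nat.card ↥(normalizerIn S T) := card_lt_card_of_lt hlt
  have hc2 : Nat.card ↥(normalizerIn S T) ≤ Nat.card ↥(normalizerIn S (𝒲.W T)) :=
    Nat.card_le_card_of_injective (Subgroup.inclusion hle) (Subgroup.inclusion_injective _)
  -- a fully normalized conjugate
  obtain ⟨V', hVV', hV'n⟩ := exists_fullyNormalized_conj F hVS
  obtain ⟨-, hV'a, hV'r⟩ := saturated_fullyNormalized hS F hF hV'n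
  obtain ⟨β⟩ := nonempty_normalizerHom hS F hV'a hV'r hVV'
  have hV'S : V' ≤ S := hV'n.1
  have : Finite ↥(normalizerIn S V') := finite_of_le (normalizerIn_le _ _)
  have hc3 : Nat.card ↥(normalizerIn S (𝒲.W T)) ≤ Nat.card ↥(normalizerIn S V') :=
    Nat.card_le_card_of_injective (fun x => (⟨β.φ x, β.maps x⟩ : ↥(normalizerIn S V')))
      (fun a b hab => β.injective (congrArg Subtype.val hab))
  -- `β` fixes `z`
  have hzN : y ^ n ∈ normalizerIn S (𝒲.W T) :=
    central_mem_normalizerIn hzS hzc hVS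
  have hβz : β.φ ⟨y ^ n, hzN⟩ = y ^ n :=
    apply_eq_of_mem_centralizerHom_zpowers F
      (hA _ (normalizerIn_le _ _) (by omega) β.mem) hzN
  refine FixOn.transport F hVS β hzN hβz ?_
  have hzV' : y ^ n ∈ V' := by
    rw [← hβz]
    exact β.apply_mem_of_mem hVS ⟨y ^ n, hzV⟩
  by_cases hSV' : S ≤ Subgroup.normalizer (V' : Set Ω)
  · -- `V' ⊴ S`: the case `z ∈ O_p`
    have hKsat := normSys_saturated hS F hF V' hV'S hSV'
    have hV'K := normSys_isNormal F V' hV'S hSV'
    have hV'core : V' ≤ (normSys F V' hV'S hSV').core := le_sSup hV'K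
    have hK := lemmaA 𝒲 hL hS hyS hyc _ (normSys F V' hV'S hSV') hKsat rfl (hV'core hzV')
      (hfix.mono (normSys_le F V' hV'S hSV'))
    exact FixOn.of_fixes_normSys F hV'S hSV' (fixes_of_centralizerHom _ hK)
  · -- `N_S(V') < S`: induction
    have hne : normalizerIn S V' ≠ S := fun h => hSV' (h ▸ inf_le_right)
    have hc4 : Nat.card ↥(normalizerIn S V') < Nat.card S :=
      Cfsg.Agent.S5082.card_lt_of_ne (normalizerIn_le _ _) hne
    have hNN := normalizerSystem_isNormalizerSystem F V' hV'S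
    have hNsat := normalizerSystem_saturated hS F hF hV'n _ hNN
    have hZS₁ : S ⊓ Subgroup.centralizer (S : Set Ω) ≤ normalizerIn S V' := by
      intro c hc
      refine central_mem_normalizerIn hc.1 (fun s hs => ?_) hV'S
      exact (Subgroup.mem_centralizer_iff.mp hc.2) s hs
    have hfix₁ : FixOn F (𝒲.W (normalizerIn S V')) (y ^ n) :=
      hB _ (normalizerIn_le _ _) hZS₁ (by omega)
    have hK := ih (normalizerIn S V') hc4 (hS.to_le (normalizerIn_le _ _)) _ hNsat y
      (hZS₁ hyZ) (fun s hs => hyc s (normalizerIn_le _ _ hs))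
      (hfix₁.mono (fun P φ hφ => by
        rw [hNN P] at hφ
        exact hφ.1))
    exact FixOn.of_fixes_normalizerSystem F _ hNN (fixes_of_centralizerHom _ hK)

/-- the main theorem -/
theorem main {p n : ℕ} [Fact p.Prime] (𝒲 : PFun.{u} p) (hL : LocalHyp p n 𝒲) :
    ∀ N : ℕ, IH p n 𝒲 N := by
  intro N
  induction N using Nat.strong_induction_on with
  | _ N ihN =>
    intro Ω _ S _ hcard hS F hF y hyS hyc hfix
    have ih : IH p n 𝒲 (Nat.card S) := ihN (Nat.card S) hcard
    have hzS : y ^ n ∈ S := S.pow_mem hyS n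
    have hzc : ∀ s ∈ S, s * y ^ n = y ^ n * s := fun s hs =>
      ((show Commute s y from hyc s hs).pow_right n).eq
    -- the downward induction
    have key : ∀ d m : ℕ, m + d = Nat.card S →
        (∀ P : Subgroup Ω, P ≤ S → m < Nat.card P →
          F.Hom P ⊆ F.centralizerHom (Subgroup.zpowers (y ^ n)) P) ∧
        (∀ T : Subgroup Ω, T ≤ S → S ⊓ Subgroup.centralizer (S : Set Ω) ≤ T → m < Nat.card T →
          FixOn F (𝒲.W T) (y ^ n)) := by
      intro d
      induction d with
      | zero =>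
        intro m hm
        constructor
        · intro P hPS hmP
          have := card_le_card_of_le_of_finite hPS
          omega
        · intro T hTS _ hmT
          have := card_le_card_of_le_of_finite hTS
          omega
      | succ d ihd =>
        intro m hm
        obtain ⟨hA, hB⟩ := ihd (m + 1) (by omega)
        have hB' : ∀ T : Subgroup Ω, T ≤ S → S ⊓ Subgroup.centralizer (S : Set Ω) ≤ T →
            m < Nat.card T → FixOn F (𝒲.W T) (y ^ n) := by
          intro T hTS hZT hmT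
          by_cases hTne : T = S
          · rw [hTne]
            exact hfix
          · exact fixOn_step 𝒲 hL ih hS F hF hyS hyc hfix (m + 1) hA hB hTS hZT hTne (by omega)
        refine ⟨?_, hB'⟩
        intro P hPS hmP
        refine alperin_fix hS F hF hzS hzc m ?_ P hPS hmP
        intro Q hQ hmQ α hα hzQ
        rcases hQ with rfl | hQ
        · -- automorphisms of `S`
          have hφ := (mem_autGroup_iff F le_rfl).mp hα
          have hr : (Q.subtype.comp α.toMonoidHom).range = Q := by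
            ext t
            constructor
            · rintro ⟨x, rfl⟩
              exact (α x).2
            · intro ht
              exact ⟨α⁻¹ ⟨t, ht⟩, by simp⟩
          have hinj : Function.Injective (Q.subtype.comp α.toMonoidHom) :=
            Q.subtype_injective.comp α.injective
          exact hfix Q _ hφ (𝒲.le Q)
            (Subgroup.le_normalizer.trans (𝒲.normalizer_le Q hS)) (fun x hx => by
              have := (𝒲.W_range Q hS _ hinj x).mp hx
              rwa [hr] at this) hzQ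
        · -- essential subgroups
          have hQS : Q ≤ S := hQ.1.1
          have hQT : Q ≤ normalizerIn S Q := le_normalizerIn_self hQS
          have : Finite ↥(normalizerIn S Q) := finite_of_le (normalizerIn_le _ _)
          have : Finite Q := finite_of_le hQS
          have hc : Nat.card Q ≤ Nat.card ↥(normalizerIn S Q) :=
            Nat.card_le_card_of_injective (Subgroup.inclusion hQT) (Subgroup.inclusion_injective _)
          have hZT : S ⊓ Subgroup.centralizer (S : Set Ω) ≤ normalizerIn S Q := by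
            intro c hc
            refine central_mem_normalizerIn hc.1 (fun s hs => ?_) hQS
            exact (Subgroup.mem_centralizer_iff.mp hc.2) s hs
          exact aut_fixes_of_fixOn 𝒲 hL hS F hF hQ.2.1 hQ.1 hyS hyc
            (hB' _ (normalizerIn_le _ _) hZT (by omega)) α hα hzQ
    intro P φ hφ
    have hPS : P ≤ S := source_le F hφ
    have : Finite P := finite_of_le hPS
    exact (key (Nat.card S) 0 (by omega)).1 P hPS Nat.card_pos hφ

end Cfsg.Agent.Lib.helper17.CW
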