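import Mathlib
import Cfsg.Agent.Lib.helper17.CW5

/-!
# Control of weak closure of elements: the centre of the normalizer system
-/

set_option autoImplicit false

namespace Cfsg.Agent.Lib.helper17.CW

open Cfsg Cfsg.FusionSystem Cfsg.Agent.Lib.Helper26 Cfsg.Agent.Lib.Helper27

universe u

variable {Ω : Type u} [Group Ω] {S : Subgroup Ω}

/-- the centre of `F` is central in the normalizer system of a subgroup normalized by `S` -/
theorem center_le_center_normalizerSystem [Finite S] (F : FusionSystem S) {X : Subgroup Ω} (hXS : X ≤ S)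
    (hSX : S ≤ Subgroup.normalizer (X : Set Ω))
    (N : FusionSystem (normalizerIn S X)) (hN : F.IsNormalizerSystem X N) :
    F.center ≤ N.center := by
  have hFc := isCentral_center F
  have hZS : F.center ≤ S := hFc.1
  have hcen : N.IsCentral F.center := by
    refine ⟨fun x hx => ⟨hZS hx, hSX (hZS hx)⟩, fun P φ hφ => ?_⟩
    rw [hN P] at hφ
    obtain ⟨hφF, hPT, hφT, ψ₀, hψ₀, hext₀, hmap₀⟩ := hφ
    obtain ⟨ψ₁, hψ₁, hext₁, hfix₁⟩ := hFc.2 _ ψ₀ hψ₀
    have hPtS : (P ⊔ X) ⊔ F.center ≤ S := source_le F hψ₁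
    have hψ₁N : ψ₁ ∈ N.Hom ((P ⊔ X) ⊔ F.center) := by
      rw [hN _]
      refine mem_normalizerHom_of_invariant F hψ₁ (le_sup_right.trans le_sup_left)
        (hPtS.trans hSX) (fun x hx => ?_)
      have e : x = Subgroup.inclusion le_sup_left
          (Subgroup.inclusion (le_sup_right : X ≤ P ⊔ X) ⟨x, hx⟩) := Subtype.ext rfl
      rw [e, hext₁]
      exact hmap₀.le ((map_subgroupOf_sup_eq ψ₀).mpr ⟨⟨x, hx⟩, rfl⟩)
    have hle : P ⊔ F.center ≤ (P ⊔ X) ⊔ F.center :=
      sup_le (le_sup_left.trans le_sup_left) le_sup_right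
    refine ⟨ψ₁.comp (Subgroup.inclusion hle), restrict_mem N hψ₁N hle, fun x => ?_, fun x => ?_⟩
    · have e : Subgroup.inclusion hle (Subgroup.inclusion le_sup_left x) =
          Subgroup.inclusion le_sup_left (Subgroup.inclusion
            (le_sup_left : P ≤ P ⊔ X) x) := Subtype.ext rfl
      show ψ₁ (Subgroup.inclusion hle (Subgroup.inclusion le_sup_left x)) = φ x
      rw [e, hext₁, hext₀]
    · have e : Subgroup.inclusion hle (Subgroup.inclusion le_sup_right x) =
          Subgroup.inclusion le_sup_right x := Subtype.ext rfl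
      show ψ₁ (Subgroup.inclusion hle (Subgroup.inclusion le_sup_right x)) = x
      rw [e, hfix₁]
  exact le_sSup hcen

/-- a functor satisfying the local hypothesis controls weak closure of elements -/
theorem center_eq_of_localHyp [Finite S] {p : ℕ} [Fact p.Prime] (𝒲 : PFun.{u} p)
    (hL : LocalHyp p 1 𝒲) (hS : IsPGroup p S) (F : FusionSystem S) (hF : F.IsSaturated p)
    (N : FusionSystem (normalizerIn S (𝒲.W S))) (hN : F.IsNormalizerSystem (𝒲.W S) N) :
    N.center = F.center := by
  have hSV : S ≤ Subgroup.normalizer ((𝒲.W S : Subgroup Ω) : Set Ω) :=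
    Subgroup.le_normalizer.trans (𝒲.normalizer_le S hS)
  have hVS : 𝒲.W S ≤ S := 𝒲.le S
  have : Finite ↥(normalizerIn S (𝒲.W S)) := finite_of_le (normalizerIn_le _ _)
  apply le_antisymm
  · intro z hz
    have hNc := isCentral_center N
    have hzT : z ∈ normalizerIn S (𝒲.W S) := hNc.1 hz
    have hzS : z ∈ S := hzT.1
    have hfixN : Fixes N z := fixes_of_mem_center N hz
    have hzc : ∀ s ∈ S, s * z = z * s := by
      intro s hs
      have hsT : s ∈ normalizerIn S (𝒲.W S) := ⟨hs, hSV hs⟩
      have h1 := hfixN _ _ (N.conj_mem (le_refl _) hsT) hzT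
      have h2 : s * z * s⁻¹ = z := h1
      calc s * z = (s * z * s⁻¹) * s := by group
        _ = z * s := by rw [h2]
    have hfix : FixOn F (𝒲.W S) (z ^ 1) := by
      rw [pow_one]
      exact FixOn.of_fixes_normalizerSystem F N hN hfixN
    have hall := main 𝒲 hL (Nat.card S + 1) S (Nat.lt_succ_self _) hS F hF z hzS hzc hfix
    have := mem_center_of_forall_centralizerHom F (S.pow_mem hzS 1) hall
    rwa [pow_one] at this
  · exact center_le_center_normalizerSystem F hVS hSV N hN

end Cfsg.Agent.Lib.helper17.CW
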