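import Mathlib
import Cfsg.Agent.Lib.helper17.GB1

/-!
# The trace argument at the prime 2: abelian groups acting quadratically without orbits of
length two
-/

set_option autoImplicit false

namespace Cfsg.Agent.Lib.helper17.GB

open scoped BigOperators

section Generic

variable {V : Type*} [CommGroup V] {D : Type*} [Group D] [MulDistribMulAction D V] [Finite D]

/-- if the products over the non-trivial orbits lie in `⟨c⟩`, the product over a stable set is
the product of its fixed points, up to `⟨c⟩` -/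
theorem finprod_mem_stable_of_orbit (c : V)
    (horb : ∀ y : V, (∃ d : D, d • y ≠ y) → ∏ᶠ z ∈ MulAction.orbit D y, z ∈ Subgroup.zpowers c)
    (X : Set V) (hX : X.Finite) (hstab : ∀ d : D, ∀ z ∈ X, d • z ∈ X) :
    ∃ m : ℤ, ∏ᶠ z ∈ X, z = (∏ᶠ z ∈ X ∩ MulAction.fixedPoints D V, z) * c ^ m := by
  induction' hn : X.ncard using Nat.strong_induction_on with n ih generalizing X
  by_cases hall : X ⊆ MulAction.fixedPoints D V
  · refine ⟨0, ?_⟩
    rw [Set.inter_eq_left.mpr hall]
    simp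
  · obtain ⟨y, hyX, hyfix⟩ := Set.not_subset.mp hall
    have hy : ∃ d : D, d • y ≠ y := by
      by_contra h
      push Not at h
      exact hyfix (MulAction.mem_fixedPoints.mpr h)
    have hOX : MulAction.orbit D y ⊆ X := by
      rintro _ ⟨d, rfl⟩
      exact hstab d y hyX
    have hOfin : (MulAction.orbit D y).Finite := Set.finite_range _
    have hX'fin : (X \ MulAction.orbit D y).Finite := hX.subset Set.sdiff_subset
    have hX'stab : ∀ d : D, ∀ z ∈ X \ MulAction.orbit D y, d • z ∈ X \ MulAction.orbit D y := by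
      rintro d z ⟨hzX, hzO⟩
      refine ⟨hstab d z hzX, fun h => hzO ?_⟩
      have h2 : d⁻¹ • (d • z) ∈ MulAction.orbit D y := MulAction.mem_orbit_of_mem_orbit d⁻¹ h
      rwa [inv_smul_smul] at h2
    have hcardlt : (X \ MulAction.orbit D y).ncard < X.ncard := by
      apply Set.ncard_lt_ncard _ hX
      refine ⟨Set.sdiff_subset, fun h => ?_⟩
      exact (h hyX).2 (MulAction.mem_orbit_self y)
    obtain ⟨m', hm'⟩ := ih _ (hn ▸ hcardlt) _ hX'fin hX'stab rfl
    obtain ⟨m₀, hm₀⟩ := Subgroup.mem_zpowers_iff.mp (horb y hy)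
    have hunion : MulAction.orbit D y ∪ (X \ MulAction.orbit D y) = X :=
      Set.union_sdiff_cancel hOX
    have hdisj : Disjoint (MulAction.orbit D y) (X \ MulAction.orbit D y) :=
      Set.disjoint_sdiff_right
    have hfix_eq : X ∩ MulAction.fixedPoints D V =
        (X \ MulAction.orbit D y) ∩ MulAction.fixedPoints D V := by
      ext z
      constructor
      · rintro ⟨hzX, hzf⟩
        refine ⟨⟨hzX, ?_⟩, hzf⟩
        rintro ⟨d, rfl⟩
        apply hyfix
        rw [MulAction.mem_fixedPoints] at hzf ⊢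
        intro e
        have h1 : y = d • y := by
          have := hzf d⁻¹
          rw [inv_smul_smul] at this
          exact this
        have h2 := hzf (e * d⁻¹)
        rw [mul_smul, inv_smul_smul] at h2
        rw [h2]
        exact h1.symm
      · rintro ⟨⟨hzX, _⟩, hzf⟩
        exact ⟨hzX, hzf⟩
    refine ⟨m₀ + m', ?_⟩
    rw [← hunion, finprod_mem_union hdisj hOfin hX'fin, hm', ← hm₀, hunion, hfix_eq, zpow_add]
    rw [mul_comm (c ^ m₀), mul_assoc, mul_comm (c ^ m') (c ^ m₀)]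

end Generic

section Two

variable {V : Type*} [CommGroup V]

/-- the product over an orbit of length at least four of a 2-group acting quadratically -/
theorem finprod_orbit_two_step {A : Type*} [Group A] [Finite A] [MulDistribMulAction A V]
    (hA : IsPGroup 2 A) (c : V) (hc : ∀ a : A, a • c = c)
    (hV2 : ∀ u : V, u ^ 2 ∈ Subgroup.zpowers c)
    (hquad : ∀ a b : A, ∀ v : V, a • (b • v / v) = b • v / v)
    (v : V) (a b : A) (ha : a • v ≠ v) (hb : b • v ≠ v) (hab : b • v ≠ a • v) :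
    ∏ᶠ z ∈ MulAction.orbit A v, z ∈ Subgroup.zpowers c := by
  have h2 : Fact (Nat.Prime 2) := ⟨Nat.prime_two⟩
  obtain ⟨k, hk⟩ := IsPGroup.iff_card.mp hA
  obtain ⟨n, hn⟩ := IsPGroup.iff_card.mp (hA.to_subgroup (MulAction.stabilizer A v))
  -- the index of the stabilizer is at least 4
  have hidx4 : n + 2 ≤ k := by
    have h1 := (MulAction.stabilizer A v).card_mul_index
    rw [hn, hk] at h1
    have h3 : 3 ≤ (MulAction.stabilizer A v).index := by
      rw [Subgroup.index_eq_card]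
      have hinj : Function.Injective (fun i : Fin 3 =>
          (QuotientGroup.mk (![1, a, b] i) : A ⧸ MulAction.stabilizer A v)) := by
        intro i j hij
        have hij' : (![1, a, b] i)⁻¹ * (![1, a, b] j) ∈ MulAction.stabilizer A v :=
          QuotientGroup.eq.mp hij
        rw [MulAction.mem_stabilizer_iff, mul_smul, inv_smul_eq_iff] at hij'
        fin_cases i <;> fin_cases j <;> simp at hij' ⊢
        · exact ha hij'
        · exact hb hij'
        · exact ha hij'.symm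
        · exact hab hij'
        · exact hb hij'.symm
        · exact hab hij'.symm
      have := Nat.card_le_card_of_injective _ hinj
      simpa using this
    by_contra hlt
    push Not at hlt
    have hle : k ≤ n + 1 := by omega
    have hnk : n ≤ k := by
      by_contra h
      push Not at h
      have : 2 ^ k < 2 ^ n := Nat.pow_lt_pow_right (by norm_num) h
      have hpos : 0 < (MulAction.stabilizer A v).index := Nat.pos_of_ne_zero (by
        intro h0; rw [h0] at h3; omega)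
      nlinarith
    have : (MulAction.stabilizer A v).index ≤ 2 := by
      have e : 2 ^ k ≤ 2 ^ (n + 1) := Nat.pow_le_pow_right (by norm_num) hle
      rw [pow_succ] at e
      have hpos : 0 < 2 ^ n := pow_pos (by norm_num) n
      nlinarith
    omega
  -- the first step
  obtain ⟨A₁, hA₁card, hA₀A₁⟩ := Sylow.exists_subgroup_card_pow_prime_le 2 (n := n) (m := k - 1)
    (by rw [hk]; exact pow_dvd_pow 2 (Nat.sub_le k 1)) (MulAction.stabilizer A v) hn (by omega)
  have hidx₁ : A₁.index = 2 := by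
    have h1 := A₁.card_mul_index
    rw [hA₁card, hk] at h1
    have : 2 ^ k = 2 ^ (k - 1) * 2 := by
      rw [← pow_succ]; congr 1; omega
    rw [this] at h1
    exact Nat.eq_of_mul_eq_mul_left (pow_pos (by norm_num) _) h1
  have hnorm₁ : A₁.Normal := by
    apply Subgroup.normal_of_index_eq_minFac_card
    rw [hidx₁, hk, Nat.prime_two.pow_minFac (by omega)]
  obtain ⟨a₁, ha₁⟩ : ∃ a₁ : A, a₁ ∉ A₁ := by
    by_contra h
    push Not at h
    have : A₁ = ⊤ := (Subgroup.eq_top_iff' A₁).mpr h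
    rw [this, Subgroup.index_top] at hidx₁
    omega
  -- the second step
  have hstab₁ : MulAction.stabilizer ↥A₁ v = (MulAction.stabilizer A v).subgroupOf A₁ := by
    ext x
    rw [MulAction.mem_stabilizer_iff, Subgroup.mem_subgroupOf, MulAction.mem_stabilizer_iff]
    rfl
  have hn₁ : Nat.card (MulAction.stabilizer ↥A₁ v) = 2 ^ n := by
    rw [hstab₁, ← hn]
    exact Nat.card_congr (Subgroup.subgroupOfEquivOfLe hA₀A₁).toEquiv
  obtain ⟨A₂, hA₂card, hA₀A₂⟩ := Sylow.exists_subgroup_card_pow_prime_le (G := ↥A₁) 2 (n := n)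
    (m := k - 2) (by rw [hA₁card]; exact pow_dvd_pow 2 (by omega))
    (MulAction.stabilizer ↥A₁ v) hn₁ (by omega)
  have hidx₂ : A₂.index = 2 := by
    have h1 := A₂.card_mul_index
    rw [hA₂card, hA₁card] at h1
    have : 2 ^ (k - 1) = 2 ^ (k - 2) * 2 := by
      rw [← pow_succ]; congr 1; omega
    rw [this] at h1
    exact Nat.eq_of_mul_eq_mul_left (pow_pos (by norm_num) _) h1
  have hnorm₂ : A₂.Normal := by
    apply Subgroup.normal_of_index_eq_minFac_card
    rw [hidx₂, hA₁card, Nat.prime_two.pow_minFac (by omega)]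
  obtain ⟨b₁, hb₁⟩ : ∃ b₁ : ↥A₁, b₁ ∉ A₂ := by
    by_contra h
    push Not at h
    have : A₂ = ⊤ := (Subgroup.eq_top_iff' A₂).mpr h
    rw [this, Subgroup.index_top] at hidx₂
    omega
  rw [finprod_orbit_eq A₁ hidx₁ a₁ ha₁ v hA₀A₁, finprod_orbit_eq A₂ hidx₂ b₁ hb₁ v hA₀A₂]
  simp only [Finset.prod_range_succ, Finset.prod_range_zero, one_mul, pow_zero, pow_one, one_smul]
  -- the computation
  have e1 : (b₁ : A) • (∏ᶠ z ∈ MulAction.orbit ↥A₂ v, z) = b₁ • (∏ᶠ z ∈ MulAction.orbit ↥A₂ v, z) :=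
    rfl
  rw [← e1]
  have hfix2 : ∀ (g : A) (t : V), g • (t ^ 2) = t ^ 2 := by
    intro g t
    obtain ⟨m, hm⟩ := Subgroup.mem_zpowers_iff.mp (hV2 t)
    rw [← hm, smul_zpow', hc]
  obtain ⟨t, ht⟩ : ∃ t : V, t = ∏ᶠ z ∈ MulAction.orbit ↥A₂ v, z := ⟨_, rfl⟩
  rw [← ht]
  have hw : (b₁ : A) • t = t * ((b₁ : A) • t / t) := by rw [mul_div_cancel]
  have e2 : a₁ • (t * (b₁ : A) • t) = t * (b₁ : A) • t := by
    rw [hw, ← mul_assoc, ← pow_two, smul_mul', hfix2, hquad]
  rw [e2, ← pow_two]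
  exact hV2 _

/-- the product over a non-trivial orbit of a 2-group generated by abelian subgroups acting
quadratically without orbits of length two -/
theorem finprod_orbit_mem_zpowers_two {D : Type*} [Group D] [Finite D] [MulDistribMulAction D V]
    (hD : IsPGroup 2 D) (c : V) (hc : ∀ d : D, d • c = c)
    (hV2 : ∀ u : V, u ^ 2 ∈ Subgroup.zpowers c)
    (𝒮 : Set (Subgroup D)) (hgen : sSup 𝒮 = ⊤)
    (hquad : ∀ A ∈ 𝒮, ∀ a ∈ A, ∀ b ∈ A, ∀ v : V, a • (b • v / v) = b • v / v)
    (hgood : ∀ A ∈ 𝒮, ∀ a ∈ A, ∀ v : V, a • v ≠ v → ∃ b ∈ A, b • v ≠ v ∧ b • v ≠ a • v)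
    (y : V) (hy : ∃ d : D, d • y ≠ y) :
    ∏ᶠ z ∈ MulAction.orbit D y, z ∈ Subgroup.zpowers c := by
  have h2 : Fact (Nat.Prime 2) := ⟨Nat.prime_two⟩
  have hD₀ne : MulAction.stabilizer D y ≠ ⊤ := by
    intro h
    obtain ⟨d, hd⟩ := hy
    exact hd (MulAction.mem_stabilizer_iff.mp (h ▸ Subgroup.mem_top d))
  obtain ⟨k, hk⟩ := IsPGroup.iff_card.mp hD
  obtain ⟨n, hn⟩ := IsPGroup.iff_card.mp (hD.to_subgroup (MulAction.stabilizer D y))
  have hlt : n < k := by
    have h1 : Nat.card (MulAction.stabilizer D y) < Nat.card D := by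
      by_contra h
      push Not at h
      exact hD₀ne (Subgroup.eq_top_of_le_card _ h)
    rw [hn, hk] at h1
    exact (Nat.pow_lt_pow_iff_right (by norm_num)).mp h1
  obtain ⟨D₁, hD₁card, hD₀D₁⟩ := Sylow.exists_subgroup_card_pow_prime_le 2 (n := n) (m := k - 1)
    (by rw [hk]; exact pow_dvd_pow 2 (Nat.sub_le k 1)) (MulAction.stabilizer D y) hn (by omega)
  have hidx : D₁.index = 2 := by
    have h1 := D₁.card_mul_index
    rw [hD₁card, hk] at h1
    have : 2 ^ k = 2 ^ (k - 1) * 2 := by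
      rw [← pow_succ]; congr 1; omega
    rw [this] at h1
    exact Nat.eq_of_mul_eq_mul_left (pow_pos (by norm_num) _) h1
  have hnorm : D₁.Normal := by
    apply Subgroup.normal_of_index_eq_minFac_card
    rw [hidx, hk, Nat.prime_two.pow_minFac (by omega)]
  obtain ⟨A, hA𝒮, hAD₁⟩ : ∃ A ∈ 𝒮, ¬ A ≤ D₁ := by
    by_contra h
    push Not at h
    have h0 : sSup 𝒮 ≤ D₁ := sSup_le h
    rw [hgen] at h0
    have h1 : D₁ = ⊤ := top_le_iff.mp h0
    rw [h1, Subgroup.index_top] at hidx
    omega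
  -- the action of `A` on the orbit has no fixed points
  have horb : ∀ v : V, (∃ a : ↥A, a • v ≠ v) →
      ∏ᶠ z ∈ MulAction.orbit ↥A v, z ∈ Subgroup.zpowers c := by
    rintro v ⟨a, ha⟩
    obtain ⟨b, hbA, hb1, hb2⟩ := hgood A hA𝒮 a a.2 v ha
    exact finprod_orbit_two_step (hD.to_subgroup A) c (fun a => hc a) hV2
      (fun a b v => hquad A hA𝒮 a a.2 b b.2 v) v a ⟨b, hbA⟩ ha hb1 hb2
  obtain ⟨m, hm⟩ := finprod_mem_stable_of_orbit (D := ↥A) c horb (MulAction.orbit D y)
    (Set.finite_range _) (by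
      rintro a _ ⟨d, rfl⟩
      exact ⟨(a : D) * d, by
        show ((a : D) * d) • y = (a : D) • (d • y)
        rw [mul_smul]⟩)
  have hempty : MulAction.orbit D y ∩ MulAction.fixedPoints ↥A V = ∅ := by
    rw [Set.eq_empty_iff_forall_notMem]
    rintro _ ⟨⟨d, rfl⟩, hfix⟩
    apply hAD₁
    intro a ha
    have h1 : a ∈ MulAction.stabilizer D (d • y) := by
      rw [MulAction.mem_stabilizer_iff]
      exact MulAction.mem_fixedPoints.mp hfix ⟨a, ha⟩
    rw [MulAction.stabilizer_smul_eq_stabilizer_map_conj] at h1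
    obtain ⟨s, hs, rfl⟩ := h1
    exact hnorm.conj_mem s (hD₀D₁ hs) d
  rw [hempty, finprod_mem_empty, one_mul] at hm
  rw [hm]
  exact Subgroup.zpow_mem_zpowers c m

/-- the product over a stable set -/
theorem finprod_mem_stable_two {D : Type*} [Group D] [Finite D] [MulDistribMulAction D V]
    (hD : IsPGroup 2 D) (c : V) (hc : ∀ d : D, d • c = c)
    (hV2 : ∀ u : V, u ^ 2 ∈ Subgroup.zpowers c)
    (𝒮 : Set (Subgroup D)) (hgen : sSup 𝒮 = ⊤)
    (hquad : ∀ A ∈ 𝒮, ∀ a ∈ A, ∀ b ∈ A, ∀ v : V, a • (b • v / v) = b • v / v)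
    (hgood : ∀ A ∈ 𝒮, ∀ a ∈ A, ∀ v : V, a • v ≠ v → ∃ b ∈ A, b • v ≠ v ∧ b • v ≠ a • v)
    (X : Set V) (hX : X.Finite) (hstab : ∀ d : D, ∀ z ∈ X, d • z ∈ X) :
    ∃ m : ℤ, ∏ᶠ z ∈ X, z = (∏ᶠ z ∈ X ∩ MulAction.fixedPoints D V, z) * c ^ m :=
  finprod_mem_stable_of_orbit c
    (fun y hy => finprod_orbit_mem_zpowers_two hD c hc hV2 𝒮 hgen hquad hgood y hy) X hX hstab

end Two

end Cfsg.Agent.Lib.helper17.GB
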