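import Mathlib
import Cfsg.Agent.Lib.helper17.GB5

/-!
# The trace argument inside a finite group, at the prime 2
-/

set_option autoImplicit false

namespace Cfsg.Agent.Lib.helper17.GB

open scoped BigOperators

theorem central_of_unique_fixed_two {G : Type*} [Group G] [Finite G]
    (V : Subgroup G) [hVn : V.Normal] (hVab : ∀ u ∈ V, ∀ v ∈ V, u * v = v * u)
    (𝒮 : Set (Subgroup G)) (D : Subgroup G) (hD : IsPGroup 2 D) (hgen : sSup 𝒮 = D)
    (hcomm : ∀ A ∈ 𝒮, ∀ a ∈ A, ∀ b ∈ A, a * b = b * a)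
    (hVA : ∀ A ∈ 𝒮, V ≤ Subgroup.normalizer (A : Set G))
    (hgood : ∀ A ∈ 𝒮, ∀ a ∈ A, ∀ v ∈ V, a * v * a⁻¹ ≠ v →
      ∃ b ∈ A, b * v * b⁻¹ ≠ v ∧ b * v * b⁻¹ ≠ a * v * a⁻¹)
    (c : G) (hc : ∀ g : G, g * c = c * g) (hcV : c ∈ V)
    (hV2 : ∀ u ∈ V, u ^ 2 ∈ Subgroup.zpowers c)
    (x : G) (hxV : x ∈ V) (hxD : ∀ d ∈ D, d * x = x * d)
    (huniq : ∀ g : G, (∀ d ∈ D, d * (g * x * g⁻¹) = (g * x * g⁻¹) * d) → g * x * g⁻¹ = x) :
    ∀ g : G, g * x = x * g := by
  classical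
  subst hgen
  let _ : CommGroup V :=
    { (inferInstance : Group V) with mul_comm := fun a b => Subtype.ext (hVab a a.2 b b.2) }
  let _ : MulDistribMulAction ↥(sSup 𝒮) V :=
    MulDistribMulAction.compHom V ((MulAut.conjNormal (H := V)).comp (sSup 𝒮).subtype)
  have hsmul : ∀ (d : ↥(sSup 𝒮)) (v : V),
      ((d • v : V) : G) = (d : G) * v * (d : G)⁻¹ := fun d v => rfl
  have hconj : ∀ (g : G) (v : V), ((MulAut.conjNormal g v : V) : G) = g * v * g⁻¹ :=
    fun g v => rfl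
  have hc' : ∀ d : ↥(sSup 𝒮), d • (⟨c, hcV⟩ : V) = ⟨c, hcV⟩ := by
    intro d
    apply Subtype.ext
    rw [hsmul]
    show (d : G) * c * (d : G)⁻¹ = c
    rw [hc, mul_inv_cancel_right]
  have hVp' : ∀ u : V, u ^ 2 ∈ Subgroup.zpowers (⟨c, hcV⟩ : V) := by
    intro u
    obtain ⟨m, hm⟩ := Subgroup.mem_zpowers_iff.mp (hV2 u u.2)
    refine Subgroup.mem_zpowers_iff.mpr ⟨m, ?_⟩
    apply Subtype.ext
    rw [Subgroup.coe_zpow, Subgroup.coe_pow]
    exact hm
  -- the family inside `D`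
  have hgen' : sSup ((fun A : Subgroup G => A.subgroupOf (sSup 𝒮)) '' 𝒮) = ⊤ := by
    rw [eq_top_iff]
    have h1 : sSup 𝒮 ≤ (sSup ((fun A : Subgroup G => A.subgroupOf (sSup 𝒮)) '' 𝒮)).map
        (sSup 𝒮).subtype := by
      apply sSup_le
      intro A hA a ha
      have haD : a ∈ sSup 𝒮 := (le_sSup hA) ha
      refine ⟨⟨a, haD⟩, ?_, rfl⟩
      have h2 : A.subgroupOf (sSup 𝒮) ≤
          sSup ((fun A : Subgroup G => A.subgroupOf (sSup 𝒮)) '' 𝒮) := le_sSup ⟨A, hA, rfl⟩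
      exact h2 (Subgroup.mem_subgroupOf.mpr ha)
    intro d _
    obtain ⟨t, ht, htd⟩ := h1 d.2
    have : t = d := Subtype.ext htd
    rwa [← this]
  have hquad' : ∀ A' ∈ (fun A : Subgroup G => A.subgroupOf (sSup 𝒮)) '' 𝒮, ∀ a ∈ A', ∀ b ∈ A',
      ∀ v : V, a • (b • v / v) = b • v / v := by
    rintro _ ⟨A, hA, rfl⟩ a ha b hb v
    rw [Subgroup.mem_subgroupOf] at ha hb
    apply Subtype.ext
    rw [hsmul]
    have e : ((b • v / v : V) : G) = (b : G) * v * (b : G)⁻¹ * (v : G)⁻¹ := by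
      rw [Subgroup.coe_div, hsmul, div_eq_mul_inv]
    rw [e]
    have hw : (v : G) * (b : G)⁻¹ * (v : G)⁻¹ ∈ A :=
      (Subgroup.mem_normalizer_iff.mp (hVA A hA v.2) (b : G)⁻¹).mp (A.inv_mem hb)
    have e2 : (b : G) * v * (b : G)⁻¹ * (v : G)⁻¹ = (b : G) * ((v : G) * (b : G)⁻¹ * (v : G)⁻¹) := by
      group
    rw [e2]
    have h3 := hcomm A hA a ha _ (A.mul_mem hb hw)
    rw [h3, mul_inv_cancel_right]
  have hgood' : ∀ A' ∈ (fun A : Subgroup G => A.subgroupOf (sSup 𝒮)) '' 𝒮, ∀ a ∈ A', ∀ v : V,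
      a • v ≠ v → ∃ b ∈ A', b • v ≠ v ∧ b • v ≠ a • v := by
    rintro _ ⟨A, hA, rfl⟩ a ha v hav
    rw [Subgroup.mem_subgroupOf] at ha
    have h1 : (a : G) * v * (a : G)⁻¹ ≠ v := by
      intro h
      apply hav
      apply Subtype.ext
      rw [hsmul]
      exact h
    obtain ⟨b, hbA, hb1, hb2⟩ := hgood A hA a ha v v.2 h1
    have hbD : b ∈ sSup 𝒮 := (le_sSup hA) hbA
    refine ⟨⟨b, hbD⟩, Subgroup.mem_subgroupOf.mpr hbA, fun h => hb1 ?_, fun h => hb2 ?_⟩
    · have := congrArg Subtype.val h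
      rw [hsmul] at this
      exact this
    · have := congrArg Subtype.val h
      rw [hsmul, hsmul] at this
      exact this
  have hXfin : (Set.range (fun g : G => MulAut.conjNormal g (⟨x, hxV⟩ : V))).Finite :=
    Set.finite_range _
  have hstab : ∀ d : ↥(sSup 𝒮),
      ∀ z ∈ Set.range (fun g : G => MulAut.conjNormal g (⟨x, hxV⟩ : V)),
      d • z ∈ Set.range (fun g : G => MulAut.conjNormal g (⟨x, hxV⟩ : V)) := by
    rintro d _ ⟨g, rfl⟩
    refine ⟨(d : G) * g, ?_⟩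
    apply Subtype.ext
    rw [hsmul, hconj, hconj]
    show (d : G) * g * x * ((d : G) * g)⁻¹ = (d : G) * (g * x * g⁻¹) * (d : G)⁻¹
    group
  obtain ⟨m, hm⟩ := finprod_mem_stable_two hD (⟨c, hcV⟩ : V) hc' hVp' _ hgen' hquad' hgood' _
    hXfin hstab
  have hfixed : Set.range (fun g : G => MulAut.conjNormal g (⟨x, hxV⟩ : V)) ∩
      MulAction.fixedPoints (↥(sSup 𝒮)) V = {⟨x, hxV⟩} := by
    ext z
    constructor
    · rintro ⟨⟨g, rfl⟩, hz⟩
      rw [Set.mem_singleton_iff]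
      apply Subtype.ext
      rw [hconj]
      apply huniq g
      intro d hd
      have h1 := MulAction.mem_fixedPoints.mp hz ⟨d, hd⟩
      have h2 : d * (g * x * g⁻¹) * d⁻¹ = g * x * g⁻¹ := by
        have := congrArg Subtype.val h1
        rw [hsmul, hconj] at this
        exact this
      calc d * (g * x * g⁻¹) = (d * (g * x * g⁻¹) * d⁻¹) * d := by group
        _ = g * x * g⁻¹ * d := by rw [h2]
    · rintro rfl
      refine ⟨⟨1, ?_⟩, ?_⟩
      · apply Subtype.ext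
        rw [hconj]
        show (1 : G) * x * (1 : G)⁻¹ = x
        group
      · rw [MulAction.mem_fixedPoints]
        intro d
        apply Subtype.ext
        rw [hsmul]
        show (d : G) * x * (d : G)⁻¹ = x
        rw [hxD d d.2, mul_inv_cancel_right]
  rw [hfixed, finprod_mem_singleton] at hm
  -- the product is invariant
  have hinv : ∀ g : G, MulAut.conjNormal g
      (∏ᶠ z ∈ Set.range (fun g : G => MulAut.conjNormal g (⟨x, hxV⟩ : V)), z) =
      ∏ᶠ z ∈ Set.range (fun g : G => MulAut.conjNormal g (⟨x, hxV⟩ : V)), z := by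
    intro g
    have himage : (fun z => MulAut.conjNormal g z) ''
        Set.range (fun g : G => MulAut.conjNormal g (⟨x, hxV⟩ : V)) =
        Set.range (fun g : G => MulAut.conjNormal g (⟨x, hxV⟩ : V)) := by
      ext z
      constructor
      · rintro ⟨_, ⟨h, rfl⟩, rfl⟩
        refine ⟨g * h, ?_⟩
        show MulAut.conjNormal (g * h) (⟨x, hxV⟩ : V) = _
        rw [map_mul]
        rfl
      · rintro ⟨h, rfl⟩
        refine ⟨MulAut.conjNormal (g⁻¹ * h) (⟨x, hxV⟩ : V), ⟨g⁻¹ * h, rfl⟩, ?_⟩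
        show MulAut.conjNormal g (MulAut.conjNormal (g⁻¹ * h) (⟨x, hxV⟩ : V)) = _
        rw [← MulAut.mul_apply, ← map_mul, mul_inv_cancel_left]
    rw [(MulAut.conjNormal g : V ≃* V).map_finprod_mem (fun z => z) hXfin]
    have h1 := finprod_mem_image (s := Set.range (fun g : G => MulAut.conjNormal g (⟨x, hxV⟩ : V)))
      (g := fun z => MulAut.conjNormal g z) (f := fun z => z)
      (fun a _ b _ h => (MulAut.conjNormal g : V ≃* V).injective h)
    rw [himage] at h1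
    exact h1.symm
  intro g
  have hx' : (⟨x, hxV⟩ : V) =
      (∏ᶠ z ∈ Set.range (fun g : G => MulAut.conjNormal g (⟨x, hxV⟩ : V)), z) *
        (⟨c, hcV⟩ : V) ^ (-m) := by
    rw [hm, zpow_neg, mul_inv_cancel_right]
  have hcg : MulAut.conjNormal g (⟨c, hcV⟩ : V) = ⟨c, hcV⟩ := by
    apply Subtype.ext
    rw [hconj]
    show g * c * g⁻¹ = c
    rw [hc, mul_inv_cancel_right]
  have h3 : MulAut.conjNormal g (⟨x, hxV⟩ : V) = ⟨x, hxV⟩ := by
    conv_lhs => rw [hx']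
    rw [map_mul, map_zpow, hinv, hcg, ← hx']
  have h4 : g * x * g⁻¹ = x := by
    have := congrArg Subtype.val h3
    rw [hconj] at this
    exact this
  calc g * x = (g * x * g⁻¹) * g := by group
    _ = x * g := by rw [h4]

end Cfsg.Agent.Lib.helper17.GB
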