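import Mathlib
import Cfsg.Agent.Lib.Helper1.GNPC2.S4Rec
import Cfsg.Agent.Lib.Helper1.GNPC2.TJA

set_option autoImplicit false

namespace Cfsg.Agent.Lib.helper17.GB

open Equiv

section Perm4

set_option maxRecDepth 100000 in
theorem fin4_F1 : ∀ σ : Perm (Fin 4), ∀ i j : Fin 4, σ i = i → σ j = j →
    (i = j ∨ σ = 1 ∨ Perm.sign σ = -1) := by decide

set_option maxRecDepth 100000 in
theorem fin4_F2 : ∀ σ : Perm (Fin 4), ∀ i : Fin 4, σ i = i → Perm.sign σ = -1 → σ * σ = 1 := by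
  decide

set_option maxRecDepth 100000 in
theorem fin4_F3 : ∀ σ : Perm (Fin 4), ∀ i j : Fin 4, (σ i = i ∧ σ j = j ∧ σ ^ 3 = 1) →
    (σ = 1 ∨ j = i) := by
  decide

set_option maxRecDepth 100000 in
theorem fin4_F4 : ∀ σ τ : Perm (Fin 4), ∀ i : Fin 4,
    (σ i = i ∧ τ i = i ∧ Perm.sign σ = -1 ∧ Perm.sign τ = -1) →
    (σ = τ ∨ ((σ * τ) ^ 3 = 1 ∧ σ * τ ≠ 1)) := by
  decide

set_option maxRecDepth 100000 in
theorem fin4_F5 : ∀ σ : Perm (Fin 4), σ ^ 12 = 1 := by
  decide

variable {α : Type*} [Fintype α] [DecidableEq α]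

theorem perm4_F1 (h : Fintype.card α = 4) (σ : Perm α) {i j : α} (hij : i ≠ j) (hi : σ i = i)
    (hj : σ j = j) (hne : σ ≠ 1) : Perm.sign σ = -1 := by
  have key := fin4_F1 ((Fintype.equivFinOfCardEq h).permCongrHom σ) (Fintype.equivFinOfCardEq h i)
    (Fintype.equivFinOfCardEq h j) (by simp [Equiv.permCongrHom_coe, hi])
    (by simp [Equiv.permCongrHom_coe, hj])
  rcases key with h1 | h1 | h1
  · exact absurd ((Fintype.equivFinOfCardEq h).injective h1) hij
  · exfalso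
    apply hne
    exact (Fintype.equivFinOfCardEq h).permCongrHom.injective (h1.trans (map_one _).symm)
  · rw [Equiv.permCongrHom_coe, Equiv.Perm.sign_permCongr] at h1
    exact h1

theorem perm4_F2 (h : Fintype.card α = 4) (σ : Perm α) {i : α} (hi : σ i = i)
    (hs : Perm.sign σ = -1) : σ * σ = 1 := by
  have key := fin4_F2 ((Fintype.equivFinOfCardEq h).permCongrHom σ) (Fintype.equivFinOfCardEq h i)
    (by simp [Equiv.permCongrHom_coe, hi])
    (by rw [Equiv.permCongrHom_coe, Equiv.Perm.sign_permCongr]; exact hs)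
  rw [← map_mul] at key
  exact (Fintype.equivFinOfCardEq h).permCongrHom.injective (key.trans (map_one _).symm)

omit [DecidableEq α] in
theorem perm4_F3 (h : Fintype.card α = 4) (σ : Perm α) {i : α} (hi : σ i = i) (hne : σ ≠ 1)
    (h3 : σ ^ 3 = 1) {j : α} (hj : σ j = j) : j = i := by
  have key := fin4_F3 ((Fintype.equivFinOfCardEq h).permCongrHom σ) (Fintype.equivFinOfCardEq h i)
    (Fintype.equivFinOfCardEq h j) ⟨by simp [Equiv.permCongrHom_coe, hi],
      by simp [Equiv.permCongrHom_coe, hj], by rw [← map_pow, h3, map_one]⟩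
  rcases key with h1 | h1
  · exfalso
    apply hne
    exact (Fintype.equivFinOfCardEq h).permCongrHom.injective (h1.trans (map_one _).symm)
  · exact (Fintype.equivFinOfCardEq h).injective h1

theorem perm4_F4 (h : Fintype.card α = 4) (σ τ : Perm α) {i : α} (hi : σ i = i) (hi' : τ i = i)
    (hs : Perm.sign σ = -1) (hs' : Perm.sign τ = -1) (hne : σ ≠ τ) :
    (σ * τ) ^ 3 = 1 ∧ σ * τ ≠ 1 := by
  have key := fin4_F4 ((Fintype.equivFinOfCardEq h).permCongrHom σ)
    ((Fintype.equivFinOfCardEq h).permCongrHom τ) (Fintype.equivFinOfCardEq h i)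
    ⟨by simp [Equiv.permCongrHom_coe, hi], by simp [Equiv.permCongrHom_coe, hi'],
      by rw [Equiv.permCongrHom_coe, Equiv.Perm.sign_permCongr]; exact hs,
      by rw [Equiv.permCongrHom_coe, Equiv.Perm.sign_permCongr]; exact hs'⟩
  rcases key with h1 | ⟨h1, h2⟩
  · exact absurd ((Fintype.equivFinOfCardEq h).permCongrHom.injective h1) hne
  · rw [← map_mul, ← map_pow] at h1
    rw [← map_mul] at h2
    refine ⟨(Fintype.equivFinOfCardEq h).permCongrHom.injective (h1.trans (map_one _).symm), ?_⟩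
    intro h3
    apply h2
    rw [h3, map_one]

omit [DecidableEq α] in
theorem perm4_F5 (h : Fintype.card α = 4) (σ : Perm α) (k : ℕ) (hk : σ ^ (3 ^ k) = 1) :
    σ ^ 3 = 1 := by
  have h12 : σ ^ 12 = 1 := by
    have key := fin4_F5 ((Fintype.equivFinOfCardEq h).permCongrHom σ)
    rw [← map_pow] at key
    exact (Fintype.equivFinOfCardEq h).permCongrHom.injective (key.trans (map_one _).symm)
  have h1 : σ ^ Nat.gcd (3 ^ k) 12 = 1 := pow_gcd_eq_one.mpr ⟨hk, h12⟩
  have h2 : Nat.gcd (3 ^ k) 12 ∣ 3 := by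
    have hc : Nat.Coprime (3 ^ k) 4 := Nat.Coprime.pow_left k (by norm_num)
    have hc' : Nat.Coprime (Nat.gcd (3 ^ k) 12) 4 :=
      Nat.Coprime.coprime_dvd_left (Nat.gcd_dvd_left _ _) hc
    have hd : Nat.gcd (3 ^ k) 12 ∣ 3 * 4 := Nat.gcd_dvd_right _ _
    exact hc'.dvd_of_dvd_mul_right hd
  obtain ⟨m, hm⟩ := h2
  rw [hm, pow_mul, h1, one_pow]

end Perm4

section S4

open Cfsg.Agent.Lib.Helper1.GNPC2

variable {G : Type*} [Group G] [Finite G]

/-- a variant of the recognition lemma, with a subgroup `T` meeting `U` trivially in place of a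
subgroup of order three -/
theorem s4_involved' (U : Subgroup G) (hU : Nat.card U = 4) (T : Subgroup G)
    (hTU : T ≤ Subgroup.normalizer (U : Set G)) (hTdisj : ∀ g : G, g ∈ U → g ∈ T → g = 1)
    (y t : G) (hyT : y ∈ T)
    (hy3 : ∀ u ∈ U, y ^ 3 * u * (y ^ 3)⁻¹ = u)
    (hfix : ∀ u ∈ U, y * u * y⁻¹ = u → u = 1)
    (htU : t ∈ Subgroup.normalizer (U : Set G))
    (htT : t ∈ Subgroup.normalizer (T : Set G))
    (htne : ∃ u ∈ U, t * u * t⁻¹ ≠ u)
    (ht2 : ∀ u ∈ U, (t * t) * u * (t * t)⁻¹ = u) :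
    Cfsg.Involves (Equiv.Perm (Fin 4)) G := by
  set S := Subgroup.normalizer (U : Set G) ⊓ Subgroup.normalizer (T : Set G) with hSdef
  have hS : S ≤ Subgroup.normalizer (U : Set G) := inf_le_left
  have hyU : y ∈ Subgroup.normalizer (U : Set G) := hTU hyT
  have hyS : y ∈ S := ⟨hyU, Subgroup.le_normalizer hyT⟩
  have htS : t ∈ S := ⟨htU, htT⟩
  have hdisj : ∀ g : G, g ∈ U → g ∈ S → g = 1 := by
    intro g hgU hgS
    have h1 : g * y * g⁻¹ ∈ T := (Subgroup.mem_normalizer_iff.mp hgS.2 y).mp hyT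
    have hc1 : g * y * g⁻¹ * y⁻¹ ∈ T := T.mul_mem h1 (T.inv_mem hyT)
    have hc2 : g * y * g⁻¹ * y⁻¹ ∈ U := by
      have h2 : y * g⁻¹ * y⁻¹ ∈ U := (Subgroup.mem_normalizer_iff.mp hyU g⁻¹).mp (U.inv_mem hgU)
      have e : g * y * g⁻¹ * y⁻¹ = g * (y * g⁻¹ * y⁻¹) := by group
      rw [e]
      exact U.mul_mem hgU h2
    have hc4 := hTdisj _ hc2 hc1
    have h5 : g * y * g⁻¹ = y := mul_inv_eq_one.mp hc4
    apply hfix g hgU
    calc y * g * y⁻¹ = (g * y * g⁻¹) * g * y⁻¹ := by rw [h5]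
      _ = g := by group
  set φ := conjAct S U hS with hφ
  set ρ := sdPerm S U hS with hρ
  set C := φ.ker with hC
  have hkerle : Nat.card ρ.ker ≤ Nat.card C := sdPerm_ker_card_le S U hS
  obtain ⟨u₀, hu₀⟩ : ∃ u : U, u ≠ 1 := by
    have : Nontrivial U := by
      rw [← Finite.one_lt_card_iff_nontrivial, hU]
      norm_num
    exact exists_ne 1
  have : Fact (Nat.Prime 3) := ⟨Nat.prime_three⟩
  have : Fact (Nat.Prime 2) := ⟨Nat.prime_two⟩
  have h3 : 3 ∣ C.index := by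
    have ho : orderOf (QuotientGroup.mk' C ⟨y, hyS⟩) = 3 := by
      apply orderOf_eq_prime
      · rw [← map_pow]
        have : (⟨y, hyS⟩ : S) ^ 3 ∈ C := by
          rw [hC, MonoidHom.mem_ker]
          ext w
          show ((((⟨y, hyS⟩ : S) ^ 3 : S) : G)) * w * ((((⟨y, hyS⟩ : S) ^ 3 : S) : G))⁻¹ = w
          rw [Subgroup.coe_pow]
          exact hy3 w w.2
        exact (QuotientGroup.eq_one_iff _).mpr this
      · intro h1
        have h2 : (⟨y, hyS⟩ : S) ∈ C := (QuotientGroup.eq_one_iff _).mp h1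
        rw [hC, MonoidHom.mem_ker] at h2
        have h4 : φ ⟨y, hyS⟩ u₀ = u₀ := by rw [h2]; rfl
        have h5 : y * (u₀ : G) * y⁻¹ = u₀ := congrArg Subtype.val h4
        exact hu₀ (Subtype.ext (hfix _ u₀.2 h5))
    rw [Subgroup.index_eq_card, ← ho]
    exact orderOf_dvd_natCard _
  have h2 : 2 ∣ C.index := by
    have ho : orderOf (QuotientGroup.mk' C ⟨t, htS⟩) = 2 := by
      apply orderOf_eq_prime
      · rw [← map_pow]
        have : (⟨t, htS⟩ : S) ^ 2 ∈ C := by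
          rw [hC, MonoidHom.mem_ker]
          ext w
          show ((((⟨t, htS⟩ : S) ^ 2 : S) : G)) * w * ((((⟨t, htS⟩ : S) ^ 2 : S) : G))⁻¹ = w
          rw [Subgroup.coe_pow, pow_two]
          exact ht2 w w.2
        exact (QuotientGroup.eq_one_iff _).mpr this
      · intro h1
        have h2 : (⟨t, htS⟩ : S) ∈ C := (QuotientGroup.eq_one_iff _).mp h1
        rw [hC, MonoidHom.mem_ker] at h2
        obtain ⟨u, huU, hne⟩ := htne
        have h4 : φ ⟨t, htS⟩ ⟨u, huU⟩ = ⟨u, huU⟩ := by rw [h2]; rfl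
        exact hne (congrArg Subtype.val h4)
    rw [Subgroup.index_eq_card, ← ho]
    exact orderOf_dvd_natCard _
  have h6 : 6 ∣ C.index :=
    Nat.Coprime.mul_dvd_of_dvd_of_dvd (by norm_num : Nat.Coprime 2 3) h2 h3
  have hidx : 6 ≤ C.index :=
    Nat.le_of_dvd (Nat.pos_of_ne_zero C.index_ne_zero_of_finite) h6
  have hcard1 : Nat.card (↥U ⋊[φ] ↥S) = 4 * Nat.card S := by
    rw [SemidirectProduct.card, hU]
  have hcard2 : Nat.card C * C.index = Nat.card S := C.card_mul_index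
  have hcard3 : Nat.card ρ.ker * Nat.card ρ.range = Nat.card (↥U ⋊[φ] ↥S) := by
    rw [← Subgroup.index_ker]
    exact ρ.ker.card_mul_index
  have hCpos : 0 < Nat.card C := Nat.card_pos
  have hrange : 24 ≤ Nat.card ρ.range := by
    have h7 : Nat.card C * (4 * C.index) ≤ Nat.card C * Nat.card ρ.range := by
      calc Nat.card C * (4 * C.index) = 4 * (Nat.card C * C.index) := by ring
        _ = Nat.card ρ.ker * Nat.card ρ.range := by rw [hcard2, ← hcard1, hcard3]
        _ ≤ Nat.card C * Nat.card ρ.range := Nat.mul_le_mul_right _ hkerle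
    have h8 := Nat.le_of_mul_le_mul_left h7 hCpos
    omega
  have hperm : Nat.card (Equiv.Perm ↥U) = 24 := by
    rw [Nat.card_perm, hU]
    rfl
  have htop : ρ.range = ⊤ := by
    apply Subgroup.eq_top_of_le_card
    rw [hperm]
    exact hrange
  have hsurj : Function.Surjective ρ := MonoidHom.range_eq_top.mp htop
  have e : ↥U ≃ Fin 4 := Finite.equivFinOfCardEq hU
  apply Cfsg.Agent.S5299.involves_of_inj_surj (sdInj S U hS) (sdInj_injective S U hS hdisj)
    ((Equiv.permCongrHom e).toMonoidHom.comp ρ)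
  exact (Equiv.permCongrHom e).surjective.comp hsurj

/-- two elements inducing distinct transpositions on a normal four-subgroup -/
theorem s4_of_normal_four (U : Subgroup G) [hUn : U.Normal] (hU : Nat.card U = 4)
    (w₁ w₂ a b : G) (hw₁ : w₁ ∈ U) (hw₂ : w₂ ∈ U)
    (ha1 : a * w₁ * a⁻¹ = w₁) (ha2 : a * w₂ * a⁻¹ ≠ w₂)
    (hb2 : b * w₂ * b⁻¹ = w₂) (hb1 : b * w₁ * b⁻¹ ≠ w₁) :
    Cfsg.Involves (Equiv.Perm (Fin 4)) G := by
  classical
  have : Fintype ↥U := Fintype.ofFinite _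
  have hcard : Fintype.card ↥U = 4 := by
    rw [← Nat.card_eq_fintype_card]
    exact hU
  obtain ⟨π, hπdef⟩ : ∃ π : G →* Perm ↥U, π = (MulAut.toPerm ↥U).comp (MulAut.conjNormal (H := U)) :=
    ⟨_, rfl⟩
  have hπ : ∀ (g : G) (u : U), ((π g u : U) : G) = g * u * g⁻¹ := by
    intro g u
    rw [hπdef]
    rfl
  have hπ1 : ∀ g : G, π g 1 = 1 := by
    intro g
    apply Subtype.ext
    rw [hπ]
    simp
  have hw₁1 : w₁ ≠ 1 := by
    rintro rfl
    apply hb1
    simp
  have hw₂1 : w₂ ≠ 1 := by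
    rintro rfl
    apply ha2
    simp
  have hsa : Perm.sign (π a) = -1 := by
    refine perm4_F1 hcard (π a) (i := 1) (j := ⟨w₁, hw₁⟩) ?_ (hπ1 a) ?_ ?_
    · intro h
      exact hw₁1 (congrArg Subtype.val h).symm
    · apply Subtype.ext
      rw [hπ]
      exact ha1
    · intro h
      apply ha2
      have h1 : π a ⟨w₂, hw₂⟩ = ⟨w₂, hw₂⟩ := by rw [h]; rfl
      have h2 := congrArg Subtype.val h1
      rw [hπ] at h2
      exact h2
  have hsb : Perm.sign (π b) = -1 := by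
    refine perm4_F1 hcard (π b) (i := 1) (j := ⟨w₂, hw₂⟩) ?_ (hπ1 b) ?_ ?_
    · intro h
      exact hw₂1 (congrArg Subtype.val h).symm
    · apply Subtype.ext
      rw [hπ]
      exact hb2
    · intro h
      apply hb1
      have h1 : π b ⟨w₁, hw₁⟩ = ⟨w₁, hw₁⟩ := by rw [h]; rfl
      have h2 := congrArg Subtype.val h1
      rw [hπ] at h2
      exact h2
  have hne : π a ≠ π b := by
    intro h
    apply hb1
    have h1 : π b ⟨w₁, hw₁⟩ = π a ⟨w₁, hw₁⟩ := by rw [h]
    have h2 := congrArg Subtype.val h1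
    rw [hπ, hπ, ha1] at h2
    exact h2
  obtain ⟨hx3, hx1⟩ := perm4_F4 hcard (π a) (π b) (hπ1 a) (hπ1 b) hsa hsb hne
  have : Fact (Nat.Prime 3) := ⟨Nat.prime_three⟩
  have h3idx : 3 ∣ π.ker.index := by
    have ho : orderOf (QuotientGroup.mk' π.ker (a * b)) = 3 := by
      apply orderOf_eq_prime
      · rw [← map_pow]
        apply (QuotientGroup.eq_one_iff _).mpr
        rw [MonoidHom.mem_ker, map_pow, map_mul]
        exact hx3
      · intro h1
        have h2 := (QuotientGroup.eq_one_iff _).mp h1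
        rw [MonoidHom.mem_ker, map_mul] at h2
        exact hx1 h2
    rw [Subgroup.index_eq_card, ← ho]
    exact orderOf_dvd_natCard _
  obtain ⟨T⟩ : Nonempty (Sylow 3 G) := inferInstance
  have hpow : ∀ g ∈ (T : Subgroup G), ∃ k : ℕ, g ^ (3 ^ k) = 1 := by
    intro g hg
    obtain ⟨k, hk⟩ := T.2 ⟨g, hg⟩
    refine ⟨k, ?_⟩
    have := congrArg Subtype.val hk
    rwa [Subgroup.coe_pow] at this
  have hTker : ¬ (T : Subgroup G) ≤ π.ker := fun hle =>
    T.not_dvd_index (dvd_trans h3idx (Subgroup.index_dvd_of_le hle))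
  obtain ⟨y, hyT, hyker⟩ := SetLike.not_le_iff_exists.mp hTker
  obtain ⟨k, hyk⟩ := hpow y hyT
  have hπy3 : π y ^ 3 = 1 := perm4_F5 hcard (π y) k (by rw [← map_pow, hyk, map_one])
  have hπy1 : π y ≠ 1 := fun h => hyker (MonoidHom.mem_ker.mpr h)
  -- the sign
  obtain ⟨sgn, hsgn⟩ : ∃ sgn : G →* ℤˣ, sgn = Perm.sign.comp π := ⟨_, rfl⟩
  have hsgn' : ∀ g : G, sgn g = Perm.sign (π g) := by
    intro g
    rw [hsgn]
    rfl
  have hTsgn : (T : Subgroup G) ≤ sgn.ker := by
    intro g hg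
    obtain ⟨k, hgk⟩ := hpow g hg
    rw [MonoidHom.mem_ker]
    rcases Int.units_eq_one_or (sgn g) with h | h
    · exact h
    · exfalso
      have h1 : sgn g ^ (3 ^ k) = 1 := by rw [← map_pow, hgk, map_one]
      rw [h, Odd.neg_one_pow (Odd.pow (by decide))] at h1
      exact absurd h1 (by decide)
  have hfr := Sylow.normalizer_sup_eq_top' T hTsgn
  have ha_top : a ∈ Subgroup.normalizer ((T : Subgroup G) : Set G) ⊔ sgn.ker := by
    have h1 := Subgroup.mem_top a
    rw [← hfr] at h1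
    exact h1
  obtain ⟨t, ht, n, hn, htn⟩ := Subgroup.mem_sup_of_normal_right.mp ha_top
  have hst : Perm.sign (π t) = -1 := by
    rw [← hsgn', ← hsa, ← hsgn' a, ← htn, map_mul, MonoidHom.mem_ker.mp hn, mul_one]
  have hπt2 : π t * π t = 1 := perm4_F2 hcard (π t) (hπ1 t) hst
  have hπtne : π t ≠ 1 := by
    intro h
    rw [h, map_one] at hst
    exact absurd hst (by decide)
  have hNU : Subgroup.normalizer (U : Set G) = ⊤ := Subgroup.normalizer_eq_top_iff.mpr hUn
  refine s4_involved' U hU (T : Subgroup G) (by rw [hNU]; exact le_top) ?_ y t hyT ?_ ?_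
    (by rw [hNU]; exact Subgroup.mem_top t) ht ?_ ?_
  · intro g hgU hgT
    obtain ⟨k, hgk⟩ := hpow g hgT
    have h4 : g ^ 4 = 1 := by
      have h1 : (⟨g, hgU⟩ : U) ^ Nat.card U = 1 := pow_card_eq_one'
      rw [hU] at h1
      have := congrArg Subtype.val h1
      rwa [Subgroup.coe_pow] at this
    have h1 : g ^ Nat.gcd (3 ^ k) 4 = 1 := pow_gcd_eq_one.mpr ⟨hgk, h4⟩
    have hc : Nat.Coprime (3 ^ k) 4 := Nat.Coprime.pow_left k (by norm_num)
    rw [hc, pow_one] at h1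
    exact h1
  · intro u hu
    have h1 : (π y ^ 3) ⟨u, hu⟩ = ⟨u, hu⟩ := by rw [hπy3]; rfl
    rw [← map_pow] at h1
    have h2 := congrArg Subtype.val h1
    rw [hπ] at h2
    exact h2
  · intro u hu hfix
    have h1 : π y ⟨u, hu⟩ = ⟨u, hu⟩ := by
      apply Subtype.ext
      rw [hπ]
      exact hfix
    have h2 := perm4_F3 hcard (π y) (hπ1 y) hπy1 hπy3 h1
    exact congrArg Subtype.val h2
  · by_contra h
    push Not at h
    apply hπtne
    ext u
    rw [hπ]
    exact h u u.2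
  · intro u hu
    have h1 : (π t * π t) ⟨u, hu⟩ = ⟨u, hu⟩ := by rw [hπt2]; rfl
    rw [← map_mul] at h1
    have h2 := congrArg Subtype.val h1
    rw [hπ] at h2
    exact h2

/-- two elements inducing distinct transpositions on a four-subgroup -/
theorem s4_of_four (U : Subgroup G) (hU : Nat.card U = 4)
    (w₁ w₂ a b : G) (hw₁ : w₁ ∈ U) (hw₂ : w₂ ∈ U)
    (haU : a ∈ Subgroup.normalizer (U : Set G)) (hbU : b ∈ Subgroup.normalizer (U : Set G))
    (ha1 : a * w₁ * a⁻¹ = w₁) (ha2 : a * w₂ * a⁻¹ ≠ w₂)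
    (hb2 : b * w₂ * b⁻¹ = w₂) (hb1 : b * w₁ * b⁻¹ ≠ w₁) :
    Cfsg.Involves (Equiv.Perm (Fin 4)) G := by
  have hn : (U.subgroupOf (Subgroup.normalizer (U : Set G))).Normal :=
    Subgroup.normal_in_normalizer
  have hcard : Nat.card (U.subgroupOf (Subgroup.normalizer (U : Set G))) = 4 := by
    rw [← hU]
    exact Nat.card_congr (Subgroup.subgroupOfEquivOfLe Subgroup.le_normalizer).toEquiv
  have hw₁N : w₁ ∈ Subgroup.normalizer (U : Set G) := Subgroup.le_normalizer hw₁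
  have hw₂N : w₂ ∈ Subgroup.normalizer (U : Set G) := Subgroup.le_normalizer hw₂
  have key := s4_of_normal_four (G := ↥(Subgroup.normalizer (U : Set G)))
    (U.subgroupOf (Subgroup.normalizer (U : Set G))) hcard ⟨w₁, hw₁N⟩ ⟨w₂, hw₂N⟩ ⟨a, haU⟩ ⟨b, hbU⟩
    (Subgroup.mem_subgroupOf.mpr hw₁) (Subgroup.mem_subgroupOf.mpr hw₂)
    (Subtype.ext ha1) (fun h => ha2 (congrArg Subtype.val h))
    (Subtype.ext hb2) (fun h => hb1 (congrArg Subtype.val h))
  exact involves_of_injective (Subgroup.normalizer (U : Set G)).subtype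
    (Subgroup.subtype_injective _) key

end S4

end Cfsg.Agent.Lib.helper17.GB
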