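import Mathlib
import Cfsg.Agent.Lib.helper17.GB7
import Cfsg.Agent.Lib.Helper1.GNPC2.TJFinal4

/-!
# Transvections on a normal abelian 2-subgroup, and the symmetric group of degree four
-/

set_option autoImplicit false

namespace Cfsg.Agent.Lib.helper17.GB

open Cfsg.Agent.Lib.Helper1.GNPC2

variable {G : Type*} [Group G]

/-- `a` acts on `V` as a transvection with direction `w` -/
structure IsTransv (V : Subgroup G) (a w : G) : Prop where
  mem : w ∈ V
  comm : a * w = w * a
  sq : w * w = 1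
  act : ∀ v ∈ V, a * v * a⁻¹ = v ∨ a * v * a⁻¹ = w * v

theorem IsTransv.conj {V : Subgroup G} [hV : V.Normal] {a w : G} (h : IsTransv V a w) (g : G) :
    IsTransv V (g * a * g⁻¹) (g * w * g⁻¹) := by
  refine ⟨hV.conj_mem w h.mem g, ?_, ?_, ?_⟩
  · have := h.comm
    calc g * a * g⁻¹ * (g * w * g⁻¹) = g * (a * w) * g⁻¹ := by group
      _ = g * (w * a) * g⁻¹ := by rw [this]
      _ = g * w * g⁻¹ * (g * a * g⁻¹) := by group
  · calc g * w * g⁻¹ * (g * w * g⁻¹) = g * (w * w) * g⁻¹ := by group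
      _ = 1 := by rw [h.sq]; group
  · intro v hv
    have hv' : g⁻¹ * v * g ∈ V := by
      have := hV.conj_mem v hv g⁻¹
      rwa [inv_inv] at this
    rcases h.act _ hv' with h1 | h1
    · left
      calc g * a * g⁻¹ * v * (g * a * g⁻¹)⁻¹ = g * (a * (g⁻¹ * v * g) * a⁻¹) * g⁻¹ := by group
        _ = g * (g⁻¹ * v * g) * g⁻¹ := by rw [h1]
        _ = v := by group
    · right
      calc g * a * g⁻¹ * v * (g * a * g⁻¹)⁻¹ = g * (a * (g⁻¹ * v * g) * a⁻¹) * g⁻¹ := by group
        _ = g * (w * (g⁻¹ * v * g)) * g⁻¹ := by rw [h1]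
        _ = g * w * g⁻¹ * v := by group

/-- the square of a transvection centralizes `V` -/
theorem IsTransv.sq_comm {V : Subgroup G} {a w : G} (h : IsTransv V a w) {v : G} (hv : v ∈ V) :
    (a * a) * v * (a * a)⁻¹ = v := by
  have hw : a * w * a⁻¹ = w := by rw [h.comm, mul_inv_cancel_right]
  rcases h.act v hv with h1 | h1
  · calc a * a * v * (a * a)⁻¹ = a * (a * v * a⁻¹) * a⁻¹ := by group
      _ = v := by rw [h1, h1]
  · calc a * a * v * (a * a)⁻¹ = a * (a * v * a⁻¹) * a⁻¹ := by group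
      _ = a * (w * v) * a⁻¹ := by rw [h1]
      _ = (a * w * a⁻¹) * (a * v * a⁻¹) := by group
      _ = w * (w * v) := by rw [hw, h1]
      _ = v := by rw [← mul_assoc, h.sq, one_mul]

/-! ### four-groups -/

/-- the four-group generated by two commuting involutions -/
def fourSub (w₁ w₂ : G) (h11 : w₁ * w₁ = 1) (h22 : w₂ * w₂ = 1) (hc : w₁ * w₂ = w₂ * w₁) :
    Subgroup G where
  carrier := {1, w₁, w₂, w₁ * w₂}
  one_mem' := Or.inl rfl
  mul_mem' := by
    have e1 : w₁ * (w₁ * w₂) = w₂ := by rw [← mul_assoc, h11, one_mul]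
    have e2 : w₂ * (w₁ * w₂) = w₁ := by rw [hc, ← mul_assoc, h22, one_mul]
    have e3 : w₁ * w₂ * w₁ = w₂ := by rw [hc, mul_assoc, h11, mul_one]
    have e4 : w₁ * w₂ * w₂ = w₁ := by rw [mul_assoc, h22, mul_one]
    have e5 : w₁ * w₂ * (w₁ * w₂) = 1 := by rw [mul_assoc, e2, h11]
    intro x y hx hy
    simp only [Set.mem_insert_iff, Set.mem_singleton_iff] at hx hy ⊢
    rcases hx with rfl | rfl | rfl | rfl <;> rcases hy with rfl | rfl | rfl | rfl
    · left; rw [mul_one]
    · right; left; rw [one_mul]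
    · right; right; left; rw [one_mul]
    · right; right; right; rw [one_mul]
    · right; left; rw [mul_one]
    · left; exact h11
    · right; right; right; rfl
    · right; right; left; exact e1
    · right; right; left; rw [mul_one]
    · right; right; right; exact hc.symm
    · left; exact h22
    · right; left; exact e2
    · right; right; right; rw [mul_one]
    · right; right; left; exact e3
    · right; left; exact e4
    · left; exact e5
  inv_mem' := by
    intro x hx
    simp only [Set.mem_insert_iff, Set.mem_singleton_iff] at hx ⊢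
    rcases hx with rfl | rfl | rfl | rfl
    · left; exact inv_one
    · right; left; exact inv_eq_of_mul_eq_one_left h11
    · right; right; left; exact inv_eq_of_mul_eq_one_left h22
    · right; right; right
      apply inv_eq_of_mul_eq_one_left
      rw [mul_assoc, show w₂ * (w₁ * w₂) = w₁ from by rw [hc, ← mul_assoc, h22, one_mul], h11]

theorem mem_fourSub {w₁ w₂ : G} {h11 : w₁ * w₁ = 1} {h22 : w₂ * w₂ = 1}
    {hc : w₁ * w₂ = w₂ * w₁} {x : G} :
    x ∈ fourSub w₁ w₂ h11 h22 hc ↔ x = 1 ∨ x = w₁ ∨ x = w₂ ∨ x = w₁ * w₂ := by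
  show x ∈ ({1, w₁, w₂, w₁ * w₂} : Set G) ↔ _
  simp only [Set.mem_insert_iff, Set.mem_singleton_iff]

theorem card_fourSub {w₁ w₂ : G} (h11 : w₁ * w₁ = 1) (h22 : w₂ * w₂ = 1)
    (hc : w₁ * w₂ = w₂ * w₁) (h1 : w₁ ≠ 1) (h2 : w₂ ≠ 1) (h12 : w₁ ≠ w₂) :
    Nat.card (fourSub w₁ w₂ h11 h22 hc) = 4 := by
  have e : Nat.card (fourSub w₁ w₂ h11 h22 hc) = Set.ncard ({1, w₁, w₂, w₁ * w₂} : Set G) :=
    Nat.card_coe_set_eq _
  rw [e]
  have h3 : w₁ * w₂ ≠ 1 := by
    intro h
    apply h12
    calc w₁ = w₁ * (w₂ * w₂) := by rw [h22, mul_one]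
      _ = (w₁ * w₂) * w₂ := by rw [mul_assoc]
      _ = w₂ := by rw [h, one_mul]
  have h4 : w₁ * w₂ ≠ w₁ := by
    intro h
    apply h2
    have : w₁ * w₂ = w₁ * 1 := by rw [mul_one]; exact h
    exact mul_left_cancel this
  have h5 : w₁ * w₂ ≠ w₂ := by
    intro h
    apply h1
    have : w₁ * w₂ = 1 * w₂ := by rw [one_mul]; exact h
    exact mul_right_cancel this
  rw [Set.ncard_insert_of_notMem, Set.ncard_insert_of_notMem, Set.ncard_pair]
  · exact fun h => h5 h.symm
  · simp only [Set.mem_insert_iff, Set.mem_singleton_iff, not_or]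
    exact ⟨h12, fun h => h4 h.symm⟩
  · simp only [Set.mem_insert_iff, Set.mem_singleton_iff, not_or]
    exact ⟨fun h => h1 h.symm, fun h => h2 h.symm, fun h => h3 h.symm⟩

/-! ### two transvections -/

theorem conj_mul_mul (g u v : G) : g * (u * v) * g⁻¹ = (g * u * g⁻¹) * (g * v * g⁻¹) := by group

theorem mul_conj (g h v : G) : (g * h) * v * (g * h)⁻¹ = g * (h * v * h⁻¹) * g⁻¹ := by group

/-- two transvections, one fixing the direction of the other: the product has order dividing
four on `V` -/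
theorem transv_pow_four {V : Subgroup G} (hVab : ∀ u ∈ V, ∀ v ∈ V, u * v = v * u)
    {a b wa wb : G} (ha : IsTransv V a wa) (hb : IsTransv V b wb) (hbw : b * wa = wa * b) :
    ∀ v ∈ V, (a * b) ^ 4 * v * ((a * b) ^ 4)⁻¹ = v := by
  have hA : a * wa * a⁻¹ = wa := by rw [ha.comm, mul_inv_cancel_right]
  have hB : b * wb * b⁻¹ = wb := by rw [hb.comm, mul_inv_cancel_right]
  have hBa : b * wa * b⁻¹ = wa := by rw [hbw, mul_inv_cancel_right]
  have hxa : (a * b) * wa * (a * b)⁻¹ = wa := by rw [mul_conj, hBa, hA]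
  have hxb : (a * b) * wb * (a * b)⁻¹ = a * wb * a⁻¹ := by rw [mul_conj, hB]
  have hcab : wa * wb = wb * wa := hVab wa ha.mem wb hb.mem
  have hab2 : wa * wb * (wa * wb) = 1 := by
    rw [mul_assoc, ← mul_assoc wb, ← hcab, mul_assoc wa, hb.sq, mul_one, ha.sq]
  have hba2 : wb * wa * (wb * wa) = 1 := by rw [← hcab]; exact hab2
  have key : ∀ v ∈ V, ∃ u z : G, u * u = 1 ∧ z * z = 1 ∧ (a * b) * v * (a * b)⁻¹ = u * v ∧
      (a * b) * u * (a * b)⁻¹ = z * u ∧ (a * b) * z * (a * b)⁻¹ = z := by
    intro v hv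
    have h1' : (a * b) * (1 : G) * (a * b)⁻¹ = 1 := by group
    rcases hb.act v hv with h1 | h1
    · rcases ha.act v hv with h2 | h2
      · refine ⟨1, 1, by group, by group, ?_, ?_, h1'⟩
        · rw [mul_conj, h1, h2, one_mul]
        · rw [h1', one_mul]
      · refine ⟨wa, 1, ha.sq, by group, ?_, ?_, h1'⟩
        · rw [mul_conj, h1, h2]
        · rw [hxa, one_mul]
    · rcases ha.act wb hb.mem with h3 | h3
      · rcases ha.act v hv with h2 | h2
        · refine ⟨wb, 1, hb.sq, by group, ?_, ?_, h1'⟩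
          · rw [mul_conj, h1, conj_mul_mul, h3, h2]
          · rw [hxb, h3, one_mul]
        · refine ⟨wb * wa, 1, hba2, by group, ?_, ?_, h1'⟩
          · rw [mul_conj, h1, conj_mul_mul, h3, h2, mul_assoc]
          · rw [conj_mul_mul, hxb, h3, hxa, one_mul]
      · rcases ha.act v hv with h2 | h2
        · refine ⟨wa * wb, wa, hab2, ha.sq, ?_, ?_, hxa⟩
          · rw [mul_conj, h1, conj_mul_mul, h3, h2]
          · rw [conj_mul_mul, hxb, h3, hxa]
        · refine ⟨wb, wa, hb.sq, ha.sq, ?_, ?_, hxa⟩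
          · rw [mul_conj, h1, conj_mul_mul, h3, h2]
            calc wa * wb * (wa * v) = wa * (wb * wa) * v := by group
              _ = wa * (wa * wb) * v := by rw [hcab]
              _ = (wa * wa) * wb * v := by group
              _ = wb * v := by rw [ha.sq, one_mul]
          · rw [hxb, h3]
  intro v hv
  obtain ⟨u, z, hu, hz, h1, h2, h3⟩ := key v hv
  have e2 : (a * b) * (a * b) * v * ((a * b) * (a * b))⁻¹ = z * v := by
    rw [mul_conj, h1, conj_mul_mul, h2, h1]
    calc z * u * (u * v) = z * (u * u) * v := by group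
      _ = z * v := by rw [hu, mul_one]
  have e3 : (a * b) * (a * b) * z * ((a * b) * (a * b))⁻¹ = z := by
    rw [mul_conj, h3, h3]
  have e4 : (a * b) ^ 4 = ((a * b) * (a * b)) * ((a * b) * (a * b)) := by
    rw [pow_succ, pow_succ, pow_succ, pow_one]
    group
  rw [e4, mul_conj, e2, conj_mul_mul, e3, e2, ← mul_assoc, hz, one_mul]

/-- two transvections generate a 2-group modulo `C(V)`, unless the symmetric group of degree
four is involved -/
theorem transv_dichotomy [Finite G] {V : Subgroup G} [hVn : V.Normal]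
    (hVab : ∀ u ∈ V, ∀ v ∈ V, u * v = v * u)
    {a b wa wb : G} (ha : IsTransv V a wa) (hb : IsTransv V b wb) :
    Cfsg.Involves (Equiv.Perm (Fin 4)) G ∨ ∀ v ∈ V, (a * b) ^ 4 * v * ((a * b) ^ 4)⁻¹ = v := by
  by_cases h1 : b * wa = wa * b
  · exact Or.inr (transv_pow_four hVab ha hb h1)
  by_cases h2 : a * wb = wb * a
  · right
    have key := transv_pow_four hVab hb ha h2
    intro v hv
    have e : (a * b) ^ 4 = a * (b * a) ^ 4 * a⁻¹ := by
      rw [pow_succ, pow_succ, pow_succ, pow_one, pow_succ, pow_succ, pow_succ, pow_one]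
      group
    have hv' : a⁻¹ * v * a ∈ V := by
      have := hVn.conj_mem v hv a⁻¹
      rwa [inv_inv] at this
    have h3 := key _ hv'
    calc (a * b) ^ 4 * v * ((a * b) ^ 4)⁻¹
        = a * ((b * a) ^ 4 * (a⁻¹ * v * a) * ((b * a) ^ 4)⁻¹) * a⁻¹ := by rw [e]; group
      _ = a * (a⁻¹ * v * a) * a⁻¹ := by rw [h3]
      _ = v := by group
  left
  have hA : a * wa * a⁻¹ = wa := by rw [ha.comm, mul_inv_cancel_right]
  have hB : b * wb * b⁻¹ = wb := by rw [hb.comm, mul_inv_cancel_right]
  have hcab : wa * wb = wb * wa := hVab wa ha.mem wb hb.mem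
  have hAb : a * wb * a⁻¹ = wa * wb := by
    rcases ha.act wb hb.mem with h | h
    · exfalso
      apply h2
      calc a * wb = (a * wb * a⁻¹) * a := by group
        _ = wb * a := by rw [h]
    · exact h
  have hBa : b * wa * b⁻¹ = wb * wa := by
    rcases hb.act wa ha.mem with h | h
    · exfalso
      apply h1
      calc b * wa = (b * wa * b⁻¹) * b := by group
        _ = wa * b := by rw [h]
    · exact h
  have hwa1 : wa ≠ 1 := by
    rintro rfl
    apply h1
    rw [mul_one, one_mul]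
  have hwb1 : wb ≠ 1 := by
    rintro rfl
    apply h2
    rw [mul_one, one_mul]
  have hne : wa ≠ wb := by
    intro h
    apply h2
    rw [← h]
    exact ha.comm
  have hAb' : a * wb * a⁻¹ ≠ wb := by
    rw [hAb]
    intro h
    apply hwa1
    have : wa * wb = 1 * wb := by rw [one_mul]; exact h
    exact mul_right_cancel this
  have hBa' : b * wa * b⁻¹ ≠ wa := by
    rw [hBa]
    intro h
    apply hwb1
    have : wb * wa = 1 * wa := by rw [one_mul]; exact h
    exact mul_right_cancel this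
  have hU := card_fourSub ha.sq hb.sq hcab hwa1 hwb1 hne
  have hfin : Finite (fourSub wa wb ha.sq hb.sq hcab) := Nat.finite_of_card_ne_zero (by
    rw [hU]; norm_num)
  have e1 : wa * (wa * wb) = wb := by rw [← mul_assoc, ha.sq, one_mul]
  have e2 : wb * (wa * wb) = wa := by rw [hcab, ← mul_assoc, hb.sq, one_mul]
  refine s4_of_four (fourSub wa wb ha.sq hb.sq hcab) hU wa wb a b
    (mem_fourSub.mpr (Or.inr (Or.inl rfl))) (mem_fourSub.mpr (Or.inr (Or.inr (Or.inl rfl))))
    ?_ ?_ hA hAb' hB hBa'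
  · apply mem_normalizer_of_forall_conj_mem
    intro q hq
    rw [mem_fourSub] at hq ⊢
    rcases hq with rfl | rfl | rfl | rfl
    · left; group
    · right; left; exact hA
    · right; right; right; exact hAb
    · right; right; left
      rw [conj_mul_mul, hA, hAb, e1]
  · apply mem_normalizer_of_forall_conj_mem
    intro q hq
    rw [mem_fourSub] at hq ⊢
    rcases hq with rfl | rfl | rfl | rfl
    · left; group
    · right; right; right; rw [hBa, hcab]
    · right; right; left; exact hB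
    · right; left
      rw [conj_mul_mul, hBa, hB, ← hcab, mul_assoc, hb.sq, mul_one]

/-- a dihedral group of order dividing eight is a 2-group -/
theorem isPGroup_two_of_dihedral {H : Type*} [Group H] (s t : H) (hs : s * s = 1) (ht : t * t = 1)
    (hst : (s * t) ^ 4 = 1) : IsPGroup 2 ↥(Subgroup.zpowers s ⊔ Subgroup.zpowers t) := by
  have hpz : ∀ (r : H) (k : ℕ), r ^ (2 ^ k) = 1 → IsPGroup 2 ↥(Subgroup.zpowers r) := by
    intro r k hr g
    obtain ⟨i, hi⟩ := Subgroup.mem_zpowers_iff.mp g.2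
    refine ⟨k, ?_⟩
    apply Subtype.ext
    rw [Subgroup.coe_pow, ← hi, Subgroup.coe_one, ← zpow_natCast, ← zpow_mul, mul_comm, zpow_mul,
      zpow_natCast, hr, one_zpow]
  have h1 : IsPGroup 2 ↥(Subgroup.zpowers (s * t)) := hpz (s * t) 2 (by rw [← hst]; norm_num)
  have h2 : IsPGroup 2 ↥(Subgroup.zpowers s) := hpz s 1 (by rw [pow_one, pow_two]; exact hs)
  have hsinv : s⁻¹ = s := inv_eq_of_mul_eq_one_left hs
  have htinv : t⁻¹ = t := inv_eq_of_mul_eq_one_left ht
  have hnorm : Subgroup.zpowers s ≤ Subgroup.normalizer ((Subgroup.zpowers (s * t) : Subgroup H) : Set H) := by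
    rw [Subgroup.zpowers_le]
    have hconj : ∀ q ∈ Subgroup.zpowers (s * t), s * q * s⁻¹ ∈ Subgroup.zpowers (s * t) := by
      intro q hq
      obtain ⟨i, rfl⟩ := Subgroup.mem_zpowers_iff.mp hq
      rw [← conj_zpow]
      apply Subgroup.zpow_mem
      have e : s * (s * t) * s⁻¹ = (s * t)⁻¹ := by
        rw [mul_inv_rev, hsinv, htinv, ← mul_assoc, hs, one_mul]
      rw [e]
      exact Subgroup.inv_mem _ (Subgroup.mem_zpowers _)
    rw [Subgroup.mem_normalizer_iff]
    intro q
    constructor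
    · exact hconj q
    · intro hq
      have := hconj _ hq
      rw [hsinv] at this
      have e : s * (s * q * s) * s = q := by
        calc s * (s * q * s) * s = (s * s) * q * (s * s) := by group
          _ = q := by rw [hs, one_mul, mul_one]
      rwa [e] at this
  have h3 : IsPGroup 2 ↥(Subgroup.zpowers s ⊔ Subgroup.zpowers (s * t)) :=
    IsPGroup.to_sup_of_normal_right' h2 h1 hnorm
  refine h3.to_le (sup_le le_sup_left ?_)
  rw [Subgroup.zpowers_le]
  have h4 : s⁻¹ * (s * t) ∈ Subgroup.zpowers s ⊔ Subgroup.zpowers (s * t) :=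
    Subgroup.mul_mem _ (Subgroup.inv_mem _ (Subgroup.mem_sup_left (Subgroup.mem_zpowers s)))
      (Subgroup.mem_sup_right (Subgroup.mem_zpowers _))
  rwa [inv_mul_cancel_left] at h4

end Cfsg.Agent.Lib.helper17.GB
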