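import Mathlib
import Cfsg.Agent.Lib.helper17.GB8
import Cfsg.Agent.Lib.helper17.GB6
import Cfsg.Agent.Lib.helper17.GB4
import Cfsg.Agent.S0199

/-!
# Glauberman's theorem on `Z(N(J(P)))` at the prime 2, for groups not involving the symmetric group
of degree four: auxiliary lemmas
-/

set_option autoImplicit false

namespace Cfsg.Agent.Lib.helper17.GB

open Cfsg Cfsg.Agent.Lib.helper17 Cfsg.Agent.Lib.Helper9 Cfsg.Agent.Lib.Helper1.GNPC2

variable {G : Type*} [Group G]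

theorem mem_normalizer_of_cj_le [Finite G] {g : G} {K : Subgroup G} (h : cj g K ≤ K) :
    g ∈ Subgroup.normalizer (K : Set G) := by
  have h3 : K ≤ cj g⁻¹ K := cj_le_iff.mp h
  have h4 := cj_eq_of_le_cj h3
  have h5 : g⁻¹ ∈ Subgroup.normalizer (K : Set G) := cj_eq_self_iff.mp h4
  have := Subgroup.inv_mem _ h5
  rwa [inv_inv] at this

theorem mem_normalizer_sSup_of_invariant [Finite G] {P : Subgroup G} {𝒮 : Set (Subgroup G)}
    (hinv : ∀ A ∈ 𝒮, ∀ g : G, cj g A ≤ P → cj g A ∈ 𝒮) {g : G} (hg : cj g (sSup 𝒮) ≤ P) :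
    g ∈ Subgroup.normalizer ((sSup 𝒮 : Subgroup G) : Set G) := by
  apply mem_normalizer_of_cj_le
  unfold cj
  rw [Subgroup.map_le_iff_le_comap]
  apply sSup_le
  intro A hA
  rw [← Subgroup.map_le_iff_le_comap]
  exact le_sSup (hinv A hA g ((cj_mono (le_sSup hA)).trans hg))

/-- if `N(D)` controls the conjugates of `D` inside `P` and centralizes `y ∈ Z(P)`, then `y` is the
only conjugate of `y` centralized by `D` -/
theorem unique_fixed_of_control [Finite G] {p : ℕ} [Fact p.Prime] (P : Sylow p G)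
    (D : Subgroup G) (hDp : IsPGroup p D)
    (hctrl : ∀ g : G, cj g D ≤ (P : Subgroup G) → g ∈ Subgroup.normalizer (D : Set G))
    (y : G) (hyc : ∀ s ∈ (P : Subgroup G), s * y = y * s)
    (hNy : ∀ k ∈ Subgroup.normalizer (D : Set G), k * y = y * k) :
    ∀ g : G, (∀ d ∈ D, d * (g * y * g⁻¹) = (g * y * g⁻¹) * d) → g * y * g⁻¹ = y := by
  intro g hg
  obtain ⟨M, hM⟩ : ∃ M : Subgroup G, M = Subgroup.centralizer ({y} : Set G) := ⟨_, rfl⟩
  have hMmem : ∀ k : G, k ∈ M ↔ k * y = y * k := by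
    intro k
    rw [hM, Subgroup.mem_centralizer_iff]
    constructor
    · intro h
      exact (h y (Set.mem_singleton y)).symm
    · intro h z hz
      rw [Set.mem_singleton_iff] at hz
      subst hz
      exact h.symm
  have hPM : (P : Subgroup G) ≤ M := fun s hs => (hMmem s).mpr (hyc s hs)
  have hNM : Subgroup.normalizer (D : Set G) ≤ M := fun k hk => (hMmem k).mpr (hNy k hk)
  have hD'M : cj g⁻¹ D ≤ M := by
    intro x hx
    rw [mem_cj, inv_inv] at hx
    rw [hMmem]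
    have h1 := hg _ hx
    have e1 : x * y = g⁻¹ * ((g * x * g⁻¹) * (g * y * g⁻¹)) * g := by group
    have e2 : y * x = g⁻¹ * ((g * y * g⁻¹) * (g * x * g⁻¹)) * g := by group
    rw [e1, e2, h1]
  obtain ⟨m, hmM, hle⟩ := exists_le_cj_of_isPGroup P (D := M)
    (hPM.trans Subgroup.le_normalizer) hD'M (isPGroup_cj hDp)
  have hle' : cj (m⁻¹ * g⁻¹) D ≤ (P : Subgroup G) := by
    rw [cj_mul]
    have h1 : cj m⁻¹ (cj g⁻¹ D) ≤ cj m⁻¹ (cj m (M ⊓ (P : Subgroup G))) := cj_mono hle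
    rw [cj_inv_cj] at h1
    exact h1.trans inf_le_right
  have hmem : m⁻¹ * g⁻¹ ∈ Subgroup.normalizer (D : Set G) := hctrl _ hle'
  have h2 : m⁻¹ * g⁻¹ ∈ M := hNM hmem
  have h3 : g⁻¹ ∈ M := by
    have := M.mul_mem hmM h2
    rwa [mul_inv_cancel_left] at this
  have h4 : g ∈ M := by
    have := M.inv_mem h3
    rwa [inv_inv] at this
  rw [(hMmem g).mp h4, mul_inv_cancel_right]

theorem card_le_two_mul [Finite G] {A A₁ : Subgroup G} (a : G)
    (h : ∀ b ∈ A, b ∈ A₁ ∨ a⁻¹ * b ∈ A₁) : Nat.card A ≤ 2 * Nat.card A₁ := by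
  have e1 : Nat.card A = Set.ncard (A : Set G) := Nat.card_coe_set_eq _
  have e2 : Nat.card A₁ = Set.ncard (A₁ : Set G) := Nat.card_coe_set_eq _
  rw [e1, e2]
  have hsub : (A : Set G) ⊆ (A₁ : Set G) ∪ (fun x => a * x) '' (A₁ : Set G) := by
    intro b hb
    rcases h b hb with h1 | h1
    · exact Or.inl h1
    · exact Or.inr ⟨a⁻¹ * b, h1, by simp⟩
  calc Set.ncard (A : Set G) ≤ Set.ncard ((A₁ : Set G) ∪ (fun x => a * x) '' (A₁ : Set G)) :=
        Set.ncard_le_ncard hsub (Set.toFinite _)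
    _ ≤ Set.ncard (A₁ : Set G) + Set.ncard ((fun x => a * x) '' (A₁ : Set G)) :=
        Set.ncard_union_le _ _
    _ ≤ Set.ncard (A₁ : Set G) + Set.ncard (A₁ : Set G) :=
        Nat.add_le_add_left (Set.ncard_image_le (Set.toFinite _)) _
    _ = 2 * Set.ncard (A₁ : Set G) := by ring

theorem mem_or_inv_mul_mem [Finite G] {H K : Subgroup G} (hHK : H ≤ K)
    (hcard : Nat.card K ≤ 2 * Nat.card H) {v u : G} (hv : v ∈ K) (hvH : v ∉ H) (hu : u ∈ K) :
    u ∈ H ∨ v⁻¹ * u ∈ H := by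
  have h1 : Nat.card (H.subgroupOf K) = Nat.card H :=
    Nat.card_congr (Subgroup.subgroupOfEquivOfLe hHK).toEquiv
  have h2 := (H.subgroupOf K).card_mul_index
  rw [h1] at h2
  have hidx : (H.subgroupOf K).index = 2 := by
    have hpos : 0 < Nat.card H := Nat.card_pos
    have hle : (H.subgroupOf K).index ≤ 2 := by nlinarith
    have hne1 : (H.subgroupOf K).index ≠ 1 := by
      intro h
      rw [Subgroup.index_eq_one] at h
      apply hvH
      have : (⟨v, hv⟩ : K) ∈ H.subgroupOf K := h ▸ Subgroup.mem_top _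
      exact Subgroup.mem_subgroupOf.mp this
    have hne0 : (H.subgroupOf K).index ≠ 0 := Subgroup.index_ne_zero_of_finite
    omega
  have h3 := Subgroup.mul_mem_iff_of_index_two hidx (a := (⟨v, hv⟩ : K)⁻¹) (b := ⟨u, hu⟩)
  by_cases huH : u ∈ H
  · exact Or.inl huH
  · right
    have h4 : (⟨v, hv⟩ : K)⁻¹ * ⟨u, hu⟩ ∈ H.subgroupOf K := by
      rw [h3]
      constructor
      · intro h
        exfalso
        apply hvH
        have := (H.subgroupOf K).inv_mem h
        rw [inv_inv] at this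
        exact Subgroup.mem_subgroupOf.mp this
      · intro h
        exact absurd (Subgroup.mem_subgroupOf.mp h) huH
    exact Subgroup.mem_subgroupOf.mp h4

/-- a member of `𝒜(P)` normalized by `V`, not centralizing `V`, with `|A ∩ C(V)|` as large as
possible, having an orbit of length two on `V`, contains a transvection -/
theorem transv_of_not_good [Finite G] {P V : Subgroup G} [hVn : V.Normal]
    (hVab : ∀ u ∈ V, ∀ v ∈ V, u * v = v * u) (hVP : V ≤ P)
    {A : Subgroup G} (hA : A ∈ theta P V)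
    (hmax : ∀ B ∈ theta P V, ¬ B ≤ Subgroup.centralizer (V : Set G) →
      Nat.card ↥(B ⊓ Subgroup.centralizer (V : Set G)) ≤
        Nat.card ↥(A ⊓ Subgroup.centralizer (V : Set G)))
    {a v : G} (haA : a ∈ A) (hvV : v ∈ V) (hav : a * v * a⁻¹ ≠ v)
    (horb : ∀ b ∈ A, b * v * b⁻¹ = v ∨ b * v * b⁻¹ = a * v * a⁻¹) :
    IsTransv V a (a * v * a⁻¹ * v⁻¹) ∧ a ∉ Subgroup.centralizer (V : Set G) := by
  obtain ⟨⟨hAP, hAc, hAmax⟩, hVA⟩ := hA
  obtain ⟨C, hC⟩ : ∃ C : Subgroup G, C = Subgroup.centralizer (V : Set G) := ⟨_, rfl⟩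
  rw [← hC] at hmax ⊢
  have hCmem : ∀ x : G, x ∈ C ↔ ∀ z ∈ V, z * x = x * z := by
    intro x
    rw [hC, Subgroup.mem_centralizer_iff]
    rfl
  have hcomm : ∀ x ∈ A, ∀ z ∈ A, x * z = z * x := fun x hx z hz => setLike_mul_comm hx hz
  have hVC : V ≤ C := by
    intro u hu
    rw [hCmem]
    intro z hz
    exact hVab z hz u hu
  have hvA : v ∉ A := by
    intro h
    apply hav
    rw [hcomm a haA v h, mul_inv_cancel_right]
  have haC : a ∉ C := by
    intro h
    apply hav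
    have := (hCmem a).mp h v hvV
    rw [← this, mul_inv_cancel_right]
  -- the centralizer of `v` in `A`
  obtain ⟨A₁, hA₁⟩ : ∃ A₁ : Subgroup G, A₁ = A ⊓ Subgroup.centralizer ({v} : Set G) := ⟨_, rfl⟩
  have hA₁mem : ∀ x : G, x ∈ A₁ ↔ x ∈ A ∧ x * v * x⁻¹ = v := by
    intro x
    rw [hA₁, Subgroup.mem_inf, Subgroup.mem_centralizer_iff]
    constructor
    · rintro ⟨h1, h2⟩
      refine ⟨h1, ?_⟩
      have := h2 v rfl
      rw [← this, mul_inv_cancel_right]
    · rintro ⟨h1, h2⟩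
      refine ⟨h1, ?_⟩
      intro z hz
      rw [Set.mem_singleton_iff] at hz
      subst hz
      calc z * x = (x * z * x⁻¹) * x := by rw [h2]
        _ = x * z := by group
  have hA₁A : A₁ ≤ A := hA₁ ▸ inf_le_left
  have hstep1 : ∀ b ∈ A, b ∈ A₁ ∨ a⁻¹ * b ∈ A₁ := by
    intro b hb
    rcases horb b hb with h | h
    · left
      exact (hA₁mem b).mpr ⟨hb, h⟩
    · right
      refine (hA₁mem _).mpr ⟨A.mul_mem (A.inv_mem haA) hb, ?_⟩
      calc a⁻¹ * b * v * (a⁻¹ * b)⁻¹ = a⁻¹ * (b * v * b⁻¹) * a := by group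
        _ = a⁻¹ * (a * v * a⁻¹) * a := by rw [h]
        _ = v := by group
  have hcard1 : Nat.card A ≤ 2 * Nat.card A₁ := card_le_two_mul a hstep1
  -- the subgroup `B₀ = A₁ ⟨v⟩`
  have hzA₁ : Subgroup.zpowers v ≤ Subgroup.centralizer (A₁ : Set G) := by
    rw [Subgroup.zpowers_le, Subgroup.mem_centralizer_iff]
    intro x hx
    have := ((hA₁mem x).mp hx).2
    calc x * v = (x * v * x⁻¹) * x := by group
      _ = v * x := by rw [this]
  have hA₁c : IsMulCommutative A₁ :=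
    ⟨⟨fun x z => Subtype.ext (hcomm x (hA₁A x.2) z (hA₁A z.2))⟩⟩
  have hB₀c : IsMulCommutative ↥(A₁ ⊔ Subgroup.zpowers v) := comm_sup hA₁c inferInstance hzA₁
  have hB₀P : A₁ ⊔ Subgroup.zpowers v ≤ P :=
    sup_le (hA₁A.trans hAP) (by rw [Subgroup.zpowers_le]; exact hVP hvV)
  have hvB₀ : v ∈ A₁ ⊔ Subgroup.zpowers v := Subgroup.mem_sup_right (Subgroup.mem_zpowers v)
  have hcard2 : 2 * Nat.card A₁ ≤ Nat.card ↥(A₁ ⊔ Subgroup.zpowers v) := by
    have hdvd : Nat.card A₁ ∣ Nat.card ↥(A₁ ⊔ Subgroup.zpowers v) :=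
      Subgroup.card_dvd_of_le le_sup_left
    obtain ⟨k, hk⟩ := hdvd
    have hpos : 0 < Nat.card A₁ := Nat.card_pos
    have hk1 : k ≠ 1 := by
      intro h
      rw [h, mul_one] at hk
      have := Subgroup.eq_of_le_of_card_ge (le_sup_left : A₁ ≤ A₁ ⊔ Subgroup.zpowers v) hk.le
      apply hvA
      apply hA₁A
      rw [this]
      exact hvB₀
    have hk0 : k ≠ 0 := by
      rintro rfl
      rw [mul_zero] at hk
      exact Nat.card_pos.ne' hk
    have h2k : 2 ≤ k := by omega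
    rw [hk]
    nlinarith
  have hB₀card : Nat.card A ≤ Nat.card ↥(A₁ ⊔ Subgroup.zpowers v) := hcard1.trans hcard2
  have hB₀fam : A₁ ⊔ Subgroup.zpowers v ∈ famQ (fun A : Subgroup G => IsMulCommutative A) P :=
    ⟨hB₀P, hB₀c, fun B hB hBc => (hAmax B hB hBc).trans hB₀card⟩
  have hVB₀ : V ≤ Subgroup.normalizer ((A₁ ⊔ Subgroup.zpowers v : Subgroup G) : Set G) := by
    intro u hu
    apply mem_normalizer_of_cj_le
    unfold cj
    rw [Subgroup.map_sup]
    apply sup_le_sup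
    · rintro _ ⟨x, hx, rfl⟩
      show u * x * u⁻¹ ∈ A₁
      obtain ⟨hxA, hxv⟩ := (hA₁mem x).mp hx
      refine (hA₁mem _).mpr ⟨(Subgroup.mem_normalizer_iff.mp (hVA hu) x).mp hxA, ?_⟩
      have huv : u * v = v * u := hVab u hu v hvV
      have e1 : u⁻¹ * v * u = v := by rw [mul_assoc, ← huv, inv_mul_cancel_left]
      have e2 : u * v * u⁻¹ = v := by rw [huv, mul_inv_cancel_right]
      calc u * x * u⁻¹ * v * (u * x * u⁻¹)⁻¹ = u * (x * (u⁻¹ * v * u) * x⁻¹) * u⁻¹ := by group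
        _ = v := by rw [e1, hxv, e2]
    · rintro _ ⟨x, hx, rfl⟩
      show u * x * u⁻¹ ∈ Subgroup.zpowers v
      have hxV : x ∈ V := (Subgroup.zpowers_le.mpr hvV) hx
      rw [hVab u hu x hxV, mul_inv_cancel_right]
      exact hx
  have hB₀θ : A₁ ⊔ Subgroup.zpowers v ∈ theta P V := ⟨hB₀fam, hVB₀⟩
  have hACA₁ : A ⊓ C ≤ A₁ := by
    intro x hx
    obtain ⟨hxA, hxC⟩ := Subgroup.mem_inf.mp hx
    refine (hA₁mem x).mpr ⟨hxA, ?_⟩
    have := (hCmem x).mp hxC v hvV
    rw [← this, mul_inv_cancel_right]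
  have hB₀C : A₁ ⊔ Subgroup.zpowers v ≤ C := by
    by_contra hnot
    have h1 := hmax _ hB₀θ hnot
    have h2 : (A ⊓ C) ⊔ Subgroup.zpowers v ≤ (A₁ ⊔ Subgroup.zpowers v) ⊓ C :=
      le_inf (sup_le_sup_right hACA₁ _)
        (sup_le inf_le_right (by rw [Subgroup.zpowers_le]; exact hVC hvV))
    have h3 : Nat.card ↥((A ⊓ C) ⊔ Subgroup.zpowers v) ≤
        Nat.card ↥((A₁ ⊔ Subgroup.zpowers v) ⊓ C) :=
      Nat.card_le_card_of_injective (Subgroup.inclusion h2) (Subgroup.inclusion_injective h2)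
    have h4 : Nat.card ↥(A ⊓ C) < Nat.card ↥((A ⊓ C) ⊔ Subgroup.zpowers v) := by
      by_contra hge
      push Not at hge
      have := Subgroup.eq_of_le_of_card_ge
        (le_sup_left : A ⊓ C ≤ (A ⊓ C) ⊔ Subgroup.zpowers v) hge
      apply hvA
      have hv' : v ∈ (A ⊓ C) ⊔ Subgroup.zpowers v :=
        Subgroup.mem_sup_right (Subgroup.mem_zpowers v)
      rw [← this] at hv'
      exact hv'.1
    omega
  have hA₁C : A₁ ≤ C := le_sup_left.trans hB₀C
  have hstar : ∀ b ∈ A, b ∈ A ⊓ C ∨ a⁻¹ * b ∈ A ⊓ C := by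
    intro b hb
    rcases hstep1 b hb with h | h
    · left
      exact ⟨hb, hA₁C h⟩
    · right
      exact ⟨hA₁A h, hA₁C h⟩
  have hcard3 : Nat.card A ≤ 2 * Nat.card ↥(A ⊓ C) := card_le_two_mul a hstar
  -- the direction
  obtain ⟨w, hw⟩ : ∃ w : G, w = a * v * a⁻¹ * v⁻¹ := ⟨_, rfl⟩
  rw [← hw]
  have hwV : w ∈ V := by
    rw [hw]
    exact V.mul_mem (hVn.conj_mem v hvV a) (V.inv_mem hvV)
  have hwA : w ∈ A := by
    have h1 : v * a⁻¹ * v⁻¹ ∈ A :=
      (Subgroup.mem_normalizer_iff.mp (hVA hvV) a⁻¹).mp (A.inv_mem haA)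
    have e : w = a * (v * a⁻¹ * v⁻¹) := by rw [hw]; group
    rw [e]
    exact A.mul_mem haA h1
  have hcomm_w : a * w = w * a := hcomm a haA w hwA
  have hav' : a * v * a⁻¹ = w * v := by rw [hw]; group
  have haaC : a * a ∈ C := by
    rcases hstar (a * a) (A.mul_mem haA haA) with h | h
    · exact h.2
    · exfalso
      apply haC
      have := h.2
      rwa [inv_mul_cancel_left] at this
  have hsq : w * w = 1 := by
    have h1 : (a * a) * v * (a * a)⁻¹ = v := by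
      have := (hCmem _).mp haaC v hvV
      rw [← this, mul_inv_cancel_right]
    have h2 : (a * a) * v * (a * a)⁻¹ = w * (w * v) := by
      have h5 : a * w * a⁻¹ = w := by rw [hcomm_w, mul_inv_cancel_right]
      rw [mul_conj, hav', conj_mul_mul, hav', h5]
    rw [h1] at h2
    have h3 : 1 * v = (w * w) * v := by rw [one_mul, mul_assoc]; exact h2
    exact (mul_right_cancel h3).symm
  have hact : ∀ u ∈ V, a * u * a⁻¹ = u ∨ a * u * a⁻¹ = w * u := by
    intro u hu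
    have hA₀c : IsMulCommutative ↥(A ⊓ C) :=
      ⟨⟨fun x z => Subtype.ext (hcomm x x.2.1 z z.2.1)⟩⟩
    have hVc : IsMulCommutative V := ⟨⟨fun x z => Subtype.ext (hVab x x.2 z z.2)⟩⟩
    have hVcent : V ≤ Subgroup.centralizer ((A ⊓ C : Subgroup G) : Set G) := by
      intro z hz
      rw [Subgroup.mem_centralizer_iff]
      intro x hx
      exact ((hCmem x).mp hx.2 z hz).symm
    have hB₂c : IsMulCommutative ↥((A ⊓ C) ⊔ V) := comm_sup hA₀c hVc hVcent
    have hB₂P : (A ⊓ C) ⊔ V ≤ P := sup_le (inf_le_left.trans hAP) hVP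
    have hB₂card : Nat.card ↥((A ⊓ C) ⊔ V) ≤ 2 * Nat.card ↥(A ⊓ C) :=
      (hAmax _ hB₂P hB₂c).trans hcard3
    have hvnot : v ∉ A ⊓ C := fun h => hvA h.1
    rcases mem_or_inv_mul_mem (le_sup_left : A ⊓ C ≤ (A ⊓ C) ⊔ V) hB₂card
      (Subgroup.mem_sup_right hvV) hvnot (Subgroup.mem_sup_right hu) with h | h
    · left
      rw [hcomm a haA u h.1, mul_inv_cancel_right]
    · right
      have h1 : a * (v⁻¹ * u) * a⁻¹ = v⁻¹ * u := by
        rw [hcomm a haA _ h.1, mul_inv_cancel_right]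
      calc a * u * a⁻¹ = (a * v * a⁻¹) * (a * (v⁻¹ * u) * a⁻¹) := by group
        _ = w * v * (v⁻¹ * u) := by rw [hav', h1]
        _ = w * u := by group
  exact ⟨⟨hwV, hcomm_w, hsq, hact⟩, haC⟩

end Cfsg.Agent.Lib.helper17.GB
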