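import Mathlib
import Cfsg.Agent.Lib.helper17.GB9

/-!
# Glauberman's theorem on `Z(N(J(P)))` at the prime 2, for groups not involving the symmetric group
of degree four: the local step
-/

set_option autoImplicit false

namespace Cfsg.Agent.Lib.helper17.GB

open Cfsg Cfsg.Agent.Lib.helper17 Cfsg.Agent.Lib.Helper9 Cfsg.Agent.Lib.Helper1.GNPC2

universe u

theorem step_two {G : Type u} [Group G] [Finite G] (P : Sylow 2 G)
    (hfree : ¬ Cfsg.Involves (Equiv.Perm (Fin 4)) G)
    (hcon : Subgroup.centralizer ((pCore 2 G : Subgroup G) : Set G) ≤ pCore 2 G)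
    (y : G) (hyP : y ∈ (P : Subgroup G)) (hyc : ∀ x ∈ (P : Subgroup G), x * y = y * x)
    (hnorm : ∀ g ∈ Subgroup.normalizer
      ((Cfsg.thompsonSubgroupAOf (P : Subgroup G) : Subgroup G) : Set G), g * y = y * g)
    (hc : ∀ g : G, g * y ^ 2 = y ^ 2 * g)
    (IH : ∀ M : Subgroup G, M ≠ ⊤ → (P : Subgroup G) ≤ M → ∀ k ∈ M, k * y = y * k) :
    ∀ g : G, g * y = y * g := by
  have hQn : (pCore 2 G).Normal := Cfsg.Agent.Lib.Helper1.pCore_normal 2
  have hQP : pCore 2 G ≤ (P : Subgroup G) := Cfsg.Agent.Lib.Helper1.pCore_le_sylow 2 P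
  have hyQ : y ∈ pCore 2 G := by
    apply hcon
    rw [Subgroup.mem_centralizer_iff]
    intro u hu
    exact hyc u (hQP hu)
  -- the centre of `O_p(G)`
  have hZcn : (pCore 2 G ⊓ Subgroup.centralizer ((pCore 2 G : Subgroup G) : Set G)).Normal :=
    inferInstance
  have hyZc : y ∈ pCore 2 G ⊓ Subgroup.centralizer ((pCore 2 G : Subgroup G) : Set G) := by
    refine Subgroup.mem_inf.mpr ⟨hyQ, ?_⟩
    rw [Subgroup.mem_centralizer_iff]
    intro u hu
    exact hyc u (hQP hu)
  -- the normal closure of `y`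
  obtain ⟨V, hV⟩ : ∃ V : Subgroup G, V = Subgroup.normalClosure ({y} : Set G) := ⟨_, rfl⟩
  have hVn : V.Normal := by rw [hV]; infer_instance
  have hyV : y ∈ V := by
    rw [hV]
    exact Subgroup.subset_normalClosure (Set.mem_singleton y)
  have hVZc : V ≤ pCore 2 G ⊓ Subgroup.centralizer ((pCore 2 G : Subgroup G) : Set G) := by
    rw [hV]
    apply Subgroup.normalClosure_le_normal
    rw [Set.singleton_subset_iff]
    exact hyZc
  have hVQ : V ≤ pCore 2 G := hVZc.trans inf_le_left
  have hVP : V ≤ (P : Subgroup G) := hVQ.trans hQP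
  have hQV : ∀ q ∈ pCore 2 G, ∀ v ∈ V, q * v = v * q := by
    intro q hq v hv
    exact ((Subgroup.mem_centralizer_iff.mp (Subgroup.mem_inf.mp (hVZc hv)).2) q hq)
  have hVab : ∀ u ∈ V, ∀ v ∈ V, u * v = v * u := fun u hu v hv => hQV u (hVQ hu) v hv
  have hVc : IsMulCommutative V := ⟨⟨fun a b => Subtype.ext (hVab a a.2 b b.2)⟩⟩
  have hVp : ∀ u ∈ V, u ^ 2 ∈ Subgroup.zpowers (y ^ 2) := by
    intro u hu
    rw [hV] at hu
    unfold Subgroup.normalClosure at hu
    have hVab' : ∀ a ∈ Subgroup.closure (Group.conjugatesOfSet ({y} : Set G)),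
        ∀ b ∈ Subgroup.closure (Group.conjugatesOfSet ({y} : Set G)), a * b = b * a := by
      intro a ha b hb
      apply hVab
      · rw [hV]; exact ha
      · rw [hV]; exact hb
    refine Subgroup.closure_induction (p := fun x _ => x ^ 2 ∈ Subgroup.zpowers (y ^ 2))
      ?_ ?_ ?_ ?_ hu
    · intro x hx
      rw [Group.mem_conjugatesOfSet_iff] at hx
      obtain ⟨b, hb, hbx⟩ := hx
      rw [Set.mem_singleton_iff] at hb
      subst hb
      obtain ⟨g, rfl⟩ := isConj_iff.mp hbx
      have e : (g * b * g⁻¹) ^ 2 = b ^ 2 := by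
        rw [conj_pow, hc g, mul_inv_cancel_right]
      rw [e]
      exact Subgroup.mem_zpowers _
    · rw [one_pow]; exact Subgroup.one_mem _
    · intro a b ha hb hap hbp
      have hcm : Commute a b := hVab' a ha b hb
      rw [hcm.mul_pow]
      exact Subgroup.mul_mem _ hap hbp
    · intro a _ hap
      rw [inv_pow]
      exact Subgroup.inv_mem _ hap
  have hcV : y ^ 2 ∈ V := V.pow_mem hyV 2
  -- the centralizer of `V`
  have hCn : (Subgroup.centralizer (V : Set G)).Normal := inferInstance
  have hQC : pCore 2 G ≤ Subgroup.centralizer (V : Set G) := by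
    intro q hq
    rw [Subgroup.mem_centralizer_iff]
    intro v hv
    exact (hQV q hq v hv).symm
  by_cases hall : ∀ A ∈ famQ (fun A : Subgroup G => IsMulCommutative A) (P : Subgroup G),
      A ≤ Subgroup.centralizer (V : Set G)
  · -- the Thompson subgroup centralizes `V`: Frattini argument
    have hJ : Cfsg.thompsonSubgroupAOf ((P : Subgroup G) ⊓ Subgroup.centralizer (V : Set G)) =
        Cfsg.thompsonSubgroupAOf (P : Subgroup G) :=
      tja_eq_of_forall_le inf_le_left (fun A hA => le_inf hA.1 (hall A hA))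
    intro g
    obtain ⟨a, ha, c, hcC, rfl⟩ := frattini_ambient P (M := ⊤)
      (C := Subgroup.centralizer (V : Set G)) le_top (by
        intro t _
        rw [Subgroup.normalizer_eq_top_iff.mpr hCn]
        exact Subgroup.mem_top t) (Subgroup.mem_top g)
    have h1 : a * y = y * a := by
      apply hnorm
      rw [← hJ]
      exact normalizer_le_normalizer_tja _ ha.2
    have h2 : c * y = y * c := ((Subgroup.mem_centralizer_iff.mp hcC.2) y hyV).symm
    calc a * c * y = a * (c * y) := by group
      _ = a * (y * c) := by rw [h2]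
      _ = (a * y) * c := by group
      _ = y * a * c := by rw [h1]
      _ = y * (a * c) := by group
  · -- some member of `𝒜(P)` does not centralize `V`
    push Not at hall
    obtain ⟨A₀, hA₀, hA₀C⟩ := hall
    obtain ⟨A', hA', hA'C, hVA'⟩ := exists_quadratic_comm (P := (P : Subgroup G)) (V := V)
      (H := Subgroup.centralizer (V : Set G)) P.2 hVc hVP (by
        rw [Subgroup.normalizer_eq_top_iff.mpr hVn]; exact le_top) le_rfl ⟨A₀, hA₀, hA₀C⟩
    have hCnorm : ∀ g : G, cj g (Subgroup.centralizer (V : Set G)) =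
        Subgroup.centralizer (V : Set G) := by
      intro g
      rw [cj_eq_self_iff, Subgroup.normalizer_eq_top_iff.mpr hCn]
      exact Subgroup.mem_top g
    -- the members of `Θ` which do not centralize `V`, with `|A ∩ C|` as large as possible
    have hΘne : {A | A ∈ theta (P : Subgroup G) V ∧
        ¬ A ≤ Subgroup.centralizer (V : Set G)}.Nonempty := ⟨A', ⟨hA', hVA'⟩, hA'C⟩
    obtain ⟨A₁, hA₁mem, hA₁max⟩ := Set.exists_max_image _
      (fun A : Subgroup G => Nat.card ↥(A ⊓ Subgroup.centralizer (V : Set G)))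
      (Set.toFinite _) hΘne
    obtain ⟨m, hm⟩ : ∃ m : ℕ, m = Nat.card ↥(A₁ ⊓ Subgroup.centralizer (V : Set G)) := ⟨_, rfl⟩
    obtain ⟨Θ₀, hΘ₀⟩ : ∃ Θ₀ : Set (Subgroup G), Θ₀ = {A | A ∈ theta (P : Subgroup G) V ∧
        ¬ A ≤ Subgroup.centralizer (V : Set G) ∧
        Nat.card ↥(A ⊓ Subgroup.centralizer (V : Set G)) = m} := ⟨_, rfl⟩
    have hΘ₀mem : ∀ A : Subgroup G, A ∈ Θ₀ ↔ A ∈ theta (P : Subgroup G) V ∧
        ¬ A ≤ Subgroup.centralizer (V : Set G) ∧
        Nat.card ↥(A ⊓ Subgroup.centralizer (V : Set G)) = m := by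
      intro A
      rw [hΘ₀]
      rfl
    have hA₁Θ₀ : A₁ ∈ Θ₀ := (hΘ₀mem A₁).mpr ⟨hA₁mem.1, hA₁mem.2, hm.symm⟩
    have hmaxΘ₀ : ∀ A ∈ Θ₀, ∀ B ∈ theta (P : Subgroup G) V,
        ¬ B ≤ Subgroup.centralizer (V : Set G) →
        Nat.card ↥(B ⊓ Subgroup.centralizer (V : Set G)) ≤
          Nat.card ↥(A ⊓ Subgroup.centralizer (V : Set G)) := by
      intro A hA B hB hBC
      rw [((hΘ₀mem A).mp hA).2.2, hm]
      exact hA₁max B ⟨hB, hBC⟩
    by_cases hgood : ∀ A ∈ Θ₀, ∀ a ∈ A, ∀ v ∈ V, a * v * a⁻¹ ≠ v →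
        ∃ b ∈ A, b * v * b⁻¹ ≠ v ∧ b * v * b⁻¹ ≠ a * v * a⁻¹
    · -- all orbits have length at least four: the trace argument
      obtain ⟨D, hD⟩ : ∃ D : Subgroup G, D = sSup Θ₀ := ⟨_, rfl⟩
      have hDP : D ≤ (P : Subgroup G) := by
        rw [hD]
        exact sSup_le (fun B hB => ((hΘ₀mem B).mp hB).1.1.1)
      have hDp : IsPGroup 2 D := P.2.to_le hDP
      have hinv : ∀ A ∈ Θ₀, ∀ g : G, cj g A ≤ (P : Subgroup G) → cj g A ∈ Θ₀ := by
        intro A hA g hg
        obtain ⟨hAθ, hAC, hAm⟩ := (hΘ₀mem A).mp hA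
        refine (hΘ₀mem _).mpr ⟨cj_mem_theta hVn hAθ hg, ?_, ?_⟩
        · intro hle
          apply hAC
          have h1 : A ≤ cj g⁻¹ (Subgroup.centralizer (V : Set G)) := cj_le_iff.mp hle
          rwa [hCnorm] at h1
        · have e : cj g A ⊓ Subgroup.centralizer (V : Set G) =
              cj g (A ⊓ Subgroup.centralizer (V : Set G)) := by
            rw [cj_inf, hCnorm]
          rw [e, card_cj]
          exact hAm
      have hctrl : ∀ g : G, cj g D ≤ (P : Subgroup G) →
          g ∈ Subgroup.normalizer (D : Set G) := by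
        intro g hg
        rw [hD] at hg ⊢
        exact mem_normalizer_sSup_of_invariant hinv hg
      have hPN : (P : Subgroup G) ≤ Subgroup.normalizer (D : Set G) := by
        intro s hs
        apply hctrl
        intro x hx
        rw [mem_cj] at hx
        have := (P : Subgroup G).mul_mem ((P : Subgroup G).mul_mem hs (hDP hx))
          ((P : Subgroup G).inv_mem hs)
        have e : s * (s⁻¹ * x * s) * s⁻¹ = x := by group
        rwa [e] at this
      have hNne : Subgroup.normalizer (D : Set G) ≠ ⊤ := by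
        intro htop
        have hDn : D.Normal := Subgroup.normalizer_eq_top_iff.mp htop
        have hDQ : D ≤ pCore 2 G := Cfsg.Agent.Lib.Helper1.le_pCore hDn hDp
        have hA₁D : A₁ ≤ D := hD ▸ le_sSup hA₁Θ₀
        exact hA₁mem.2 ((hA₁D.trans hDQ).trans hQC)
      have hNy : ∀ k ∈ Subgroup.normalizer (D : Set G), k * y = y * k := IH _ hNne hPN
      have huniq := unique_fixed_of_control P D hDp hctrl y hyc hNy
      refine central_of_unique_fixed_two V hVab Θ₀ D hDp hD.symm ?_ ?_ hgood (y ^ 2) hc hcV hVp y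
        hyV (fun d hd => hyc d (hDP hd)) huniq
      · intro A hA a ha b hb
        have hAc : IsMulCommutative A := ((hΘ₀mem A).mp hA).1.1.2.1
        exact setLike_mul_comm ha hb
      · intro A hA
        exact ((hΘ₀mem A).mp hA).1.2
    · -- some orbit has length two: transvections
      push Not at hgood
      obtain ⟨A, hAΘ₀, a, haA, v, hvV, hav, horb⟩ := hgood
      obtain ⟨hAθ, hAC, hAm⟩ := (hΘ₀mem A).mp hAΘ₀
      obtain ⟨htr, haC⟩ := transv_of_not_good hVab hVP hAθ (hmaxΘ₀ A hAΘ₀) haA hvV hav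
        (fun b hb => by
          by_cases h : b * v * b⁻¹ = v
          · exact Or.inl h
          · exact Or.inr (horb b hb h))
      obtain ⟨w, hw⟩ : ∃ w : G, w = a * v * a⁻¹ * v⁻¹ := ⟨_, rfl⟩
      rw [← hw] at htr
      have haP : a ∈ (P : Subgroup G) := hAθ.1.1 haA
      have hmemC : ∀ x : G, (∀ z ∈ V, x * z * x⁻¹ = z) → x ∈ Subgroup.centralizer (V : Set G) := by
        intro x hx
        rw [Subgroup.mem_centralizer_iff]
        intro z hz
        have := hx z hz
        calc z * x = (x * z * x⁻¹) * x := by rw [this]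
          _ = x * z := by group
      have hsqC : ∀ g : G, (g * a * g⁻¹) * (g * a * g⁻¹) ∈ Subgroup.centralizer (V : Set G) :=
        fun g => hmemC _ (fun z hz => (htr.conj g).sq_comm hz)
      -- Baer-Suzuki in the quotient
      have h2 : Fact (Nat.Prime 2) := ⟨Nat.prime_two⟩
      obtain ⟨π, hπ⟩ : ∃ π : G →* G ⧸ Subgroup.centralizer (V : Set G),
          π = QuotientGroup.mk' (Subgroup.centralizer (V : Set G)) := ⟨_, rfl⟩
      have hπker : ∀ x : G, π x = 1 ↔ x ∈ Subgroup.centralizer (V : Set G) := by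
        intro x
        rw [hπ]
        exact QuotientGroup.eq_one_iff x
      have hπsurj : Function.Surjective π := by
        rw [hπ]
        exact QuotientGroup.mk'_surjective _
      have hXp : IsPGroup 2 ↥((Subgroup.zpowers a).map π) := by
        apply IsPGroup.map
        exact P.2.to_le (by rw [Subgroup.zpowers_le]; exact haP)
      have hBS : ∀ gb : G ⧸ Subgroup.centralizer (V : Set G),
          IsPGroup 2 ↥((Subgroup.zpowers a).map π ⊔
            ((Subgroup.zpowers a).map π).map (MulAut.conj gb).toMonoidHom) := by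
        intro gb
        obtain ⟨g, rfl⟩ := hπsurj gb
        have e1 : (Subgroup.zpowers a).map π = Subgroup.zpowers (π a) := MonoidHom.map_zpowers π a
        have e2 : ((Subgroup.zpowers a).map π).map (MulAut.conj (π g)).toMonoidHom =
            Subgroup.zpowers (π (g * a * g⁻¹)) := by
          rw [e1, MonoidHom.map_zpowers]
          congr 1
          rw [map_mul, map_mul, map_inv]
          rfl
        rw [e2, e1]
        have hs : π a * π a = 1 := by
          rw [← map_mul, hπker]
          have := hsqC 1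
          simpa using this
        have ht : π (g * a * g⁻¹) * π (g * a * g⁻¹) = 1 := by
          rw [← map_mul, hπker]
          exact hsqC g
        have hst : (π a * π (g * a * g⁻¹)) ^ 4 = 1 := by
          rw [← map_mul, ← map_pow, hπker]
          rcases transv_dichotomy hVab htr (htr.conj g) with h | h
          · exact absurd h hfree
          · exact hmemC _ h
        exact isPGroup_two_of_dihedral _ _ hs ht hst
      obtain ⟨Nb, hNbn, hNbp, hXNb⟩ := Cfsg.Agent.S0199.result _ hXp hBS
      obtain ⟨N, hN⟩ : ∃ N : Subgroup G, N = Nb.comap π := ⟨_, rfl⟩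
      have hNn : N.Normal := by
        rw [hN]
        exact hNbn.comap π
      have haN : a ∈ N := by
        rw [hN, Subgroup.mem_comap]
        exact hXNb ⟨a, Subgroup.mem_zpowers a, rfl⟩
      have hpp : PPowIn 2 N (Subgroup.centralizer (V : Set G)) := by
        intro n hn
        rw [hN, Subgroup.mem_comap] at hn
        obtain ⟨k, hk⟩ := hNbp ⟨π n, hn⟩
        refine ⟨k, ?_⟩
        rw [← hπker, map_pow]
        have := congrArg Subtype.val hk
        rwa [Subgroup.coe_pow] at this
      have hPNN : (P : Subgroup G) ≤ Subgroup.normalizer (N : Set G) := by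
        rw [Subgroup.normalizer_eq_top_iff.mpr hNn]
        exact le_top
      have hNN : Subgroup.normalizer ((((P : Subgroup G) ⊓ N : Subgroup G)) : Set G) ≠ ⊤ := by
        intro htop
        have hn : ((P : Subgroup G) ⊓ N).Normal := Subgroup.normalizer_eq_top_iff.mp htop
        have hp : IsPGroup 2 ↥((P : Subgroup G) ⊓ N) := P.2.to_le inf_le_left
        have hle : (P : Subgroup G) ⊓ N ≤ pCore 2 G := Cfsg.Agent.Lib.Helper1.le_pCore hn hp
        exact haC (hQC (hle ⟨haP, haN⟩))
      have hPle : (P : Subgroup G) ≤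
          Subgroup.normalizer ((((P : Subgroup G) ⊓ N : Subgroup G)) : Set G) :=
        le_normalizer_inf' Subgroup.le_normalizer hPNN
      have hNy := IH _ hNN hPle
      intro g
      obtain ⟨a', ha', n, hn, rfl⟩ := frattini_ambient P (M := ⊤) (C := N) le_top (by
        rw [Subgroup.normalizer_eq_top_iff.mpr hNn]) (Subgroup.mem_top g)
      obtain ⟨c, hcC, t, htP, rfl⟩ := exists_mul_of_pPowIn P hPNN hpp hn.2
      have h1 : a' * y = y * a' := hNy a' ha'.2
      have h3 : c * y = y * c := ((Subgroup.mem_centralizer_iff.mp hcC.2) y hyV).symm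
      have h4 : t * y = y * t := hyc t htP.2
      calc a' * (c * t) * y = a' * c * (t * y) := by group
        _ = a' * c * (y * t) := by rw [h4]
        _ = a' * (c * y) * t := by group
        _ = a' * (y * c) * t := by rw [h3]
        _ = (a' * y) * c * t := by group
        _ = y * a' * c * t := by rw [h1]
        _ = y * (a' * (c * t)) := by group

end Cfsg.Agent.Lib.helper17.GB
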