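import Mathlib
import Cfsg.Agent.Lib.helper17.GB10

/-!
# Glauberman's theorem on `Z(N(J(P)))` at the prime 2, for groups not involving the symmetric group
of degree four: the relative local hypothesis
-/

set_option autoImplicit false

namespace Cfsg.Agent.Lib.helper17.CW

open Cfsg

universe u v

/-- the local hypothesis, on groups of characteristic `p` not involving `X` -/
def LocalHypX (p n : ℕ) (𝒲 : PFun.{u} p) (X : Type v) [Group X] : Prop :=
  ∀ (G : Type u) [Group G] [Finite G] (P : Sylow p G), ¬ Cfsg.Involves X G →
    Subgroup.centralizer ((pCore p G : Subgroup G) : Set G) ≤ pCore p G →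
    ∀ y ∈ (P : Subgroup G), (∀ x ∈ (P : Subgroup G), x * y = y * x) →
      (∀ g ∈ Subgroup.normalizer ((𝒲.W (P : Subgroup G) : Subgroup G) : Set G),
        g * y ^ n = y ^ n * g) →
      ∀ g : G, g * y ^ n = y ^ n * g

theorem LocalHyp.toX {p n : ℕ} {𝒲 : PFun.{u} p} (h : LocalHyp p n 𝒲) (X : Type v) [Group X] :
    LocalHypX p n 𝒲 X :=
  fun G _ _ P _ => h G P

end Cfsg.Agent.Lib.helper17.CW

namespace Cfsg.Agent.Lib.helper17.GB

open Cfsg Cfsg.Agent.Lib.helper17 Cfsg.Agent.Lib.Helper9 Cfsg.Agent.Lib.Helper1.GNPC2
  Cfsg.Agent.Lib.helper17.CW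

universe u

theorem localHypX_thompson_two :
    LocalHypX 2 1 (thompsonFun.{u} 2) (Equiv.Perm (Fin 4)) := by
  have key : ∀ (N : ℕ) (G : Type u) [Group G] [Finite G], Nat.card G = N → ∀ P : Sylow 2 G,
      ¬ Cfsg.Involves (Equiv.Perm (Fin 4)) G →
      Subgroup.centralizer ((pCore 2 G : Subgroup G) : Set G) ≤ pCore 2 G →
      ∀ y ∈ (P : Subgroup G), (∀ x ∈ (P : Subgroup G), x * y = y * x) →
      (∀ g ∈ Subgroup.normalizer
        ((Cfsg.thompsonSubgroupAOf (P : Subgroup G) : Subgroup G) : Set G),
        g * y = y * g) → ∀ g : G, g * y = y * g := by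
    intro N
    induction N using Nat.strong_induction_on with
    | _ N ih =>
      intro G _ _ hcard P hfree hcon
      have hQn : (pCore 2 G).Normal := Cfsg.Agent.Lib.Helper1.pCore_normal 2
      have hQP : pCore 2 G ≤ (P : Subgroup G) := Cfsg.Agent.Lib.Helper1.pCore_le_sylow 2 P
      -- the induction hypothesis for proper subgroups containing `P`
      have IHsub : ∀ y ∈ (P : Subgroup G), (∀ x ∈ (P : Subgroup G), x * y = y * x) →
          (∀ g ∈ Subgroup.normalizer
            ((Cfsg.thompsonSubgroupAOf (P : Subgroup G) : Subgroup G) : Set G),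
            g * y = y * g) →
          ∀ M : Subgroup G, M ≠ ⊤ → (P : Subgroup G) ≤ M → ∀ k ∈ M, k * y = y * k := by
        intro y hyP hyc hnorm M hMne hPM k hk
        have hMcard : Nat.card M < N := by
          rw [← hcard]
          by_contra hge
          push Not at hge
          exact hMne (Subgroup.eq_top_of_le_card M hge)
        have hconM : Subgroup.centralizer ((pCore 2 ↥M : Subgroup ↥M) : Set ↥M) ≤ pCore 2 ↥M := by
          intro x hx
          have hQ'n : ((pCore 2 G).subgroupOf M).Normal := hQn.subgroupOf M
          have hQ'p : IsPGroup 2 ((pCore 2 G).subgroupOf M) :=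
            (Cfsg.Agent.Lib.Helper1.pCore_isPGroup 2).comap_subtype
          have hQ'le : (pCore 2 G).subgroupOf M ≤ pCore 2 ↥M :=
            Cfsg.Agent.Lib.Helper1.le_pCore hQ'n hQ'p
          apply hQ'le
          rw [Subgroup.mem_subgroupOf]
          apply hcon
          rw [Subgroup.mem_centralizer_iff]
          intro u hu
          have huM : u ∈ M := hPM (hQP hu)
          have h1 := (Subgroup.mem_centralizer_iff.mp hx) ⟨u, huM⟩
            (hQ'le (Subgroup.mem_subgroupOf.mpr hu))
          exact congrArg Subtype.val h1
        have hP'coe : ((P.subtype hPM : Sylow 2 ↥M) : Subgroup ↥M) =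
            (P : Subgroup G).subgroupOf M := Sylow.coe_subtype _ _
        have hWmap : Cfsg.thompsonSubgroupAOf (P : Subgroup G) =
            (Cfsg.thompsonSubgroupAOf ((P : Subgroup G).subgroupOf M)).map M.subtype := by
          have := tja_map M.subtype (S := (P : Subgroup G).subgroupOf M)
            (M.subtype_injective.injOn)
          rw [Subgroup.map_subgroupOf_eq_of_le hPM] at this
          exact this
        have hfreeM : ¬ Cfsg.Involves (Equiv.Perm (Fin 4)) ↥M := fun h =>
          hfree (involves_of_injective M.subtype M.subtype_injective h)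
        have hIH := ih (Nat.card M) hMcard ↥M rfl (P.subtype hPM) hfreeM hconM ⟨y, hPM hyP⟩
          (by rw [hP'coe]; exact Subgroup.mem_subgroupOf.mpr hyP)
          (fun x hx => by
            rw [hP'coe] at hx
            exact Subtype.ext (hyc x (Subgroup.mem_subgroupOf.mp hx)))
          (fun k hk => by
            rw [hP'coe] at hk
            apply Subtype.ext
            refine hnorm k ?_
            rw [hWmap]
            have hconj : ∀ (k' : ↥M), k' ∈ Subgroup.normalizer
                ((Cfsg.thompsonSubgroupAOf ((P : Subgroup G).subgroupOf M) : Subgroup ↥M) :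
                  Set ↥M) →
                ∀ u ∈ (Cfsg.thompsonSubgroupAOf ((P : Subgroup G).subgroupOf M)).map M.subtype,
                (k' : G) * u * (k' : G)⁻¹ ∈
                  (Cfsg.thompsonSubgroupAOf ((P : Subgroup G).subgroupOf M)).map M.subtype := by
              rintro k' hk' _ ⟨u', hu', rfl⟩
              exact ⟨k' * u' * k'⁻¹, (Subgroup.mem_normalizer_iff.mp hk' u').mp hu', rfl⟩
            refine Cfsg.Agent.Lib.Helper26.mem_normalizer_of_forall (hconj k hk) (fun u hu => ?_)
            have := hconj k⁻¹ (Subgroup.inv_mem _ hk) u hu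
            simpa using this)
        exact congrArg Subtype.val (hIH ⟨k, hk⟩)
      -- induction on the order of `y`
      have inner : ∀ (m : ℕ) (y : G), orderOf y = m → y ∈ (P : Subgroup G) →
          (∀ x ∈ (P : Subgroup G), x * y = y * x) →
          (∀ g ∈ Subgroup.normalizer
            ((Cfsg.thompsonSubgroupAOf (P : Subgroup G) : Subgroup G) : Set G),
            g * y = y * g) → ∀ g : G, g * y = y * g := by
        intro m
        induction m using Nat.strong_induction_on with
        | _ m ihm =>
          intro y hord hyP hyc hnorm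
          by_cases hy1 : y = 1
          · subst hy1
            intro g
            rw [mul_one, one_mul]
          have hc : ∀ g : G, g * y ^ 2 = y ^ 2 * g := by
            have hlt : orderOf (y ^ 2) < m := by
              obtain ⟨k, hk⟩ := (IsPGroup.iff_orderOf.mp P.2) ⟨y, hyP⟩
              have hk' : orderOf y = 2 ^ k := by
                rw [← hk]
                exact (Subgroup.orderOf_mk y hyP).symm
              have hk0 : k ≠ 0 := by
                rintro rfl
                rw [pow_zero, orderOf_eq_one_iff] at hk'
                exact hy1 hk'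
              have hdvd : 2 ∣ orderOf y := by
                rw [hk']
                exact dvd_pow_self 2 hk0
              have hp : Nat.Prime 2 := Nat.prime_two
              rw [orderOf_pow_of_dvd hp.ne_zero hdvd, hord]
              apply Nat.div_lt_self
              · rw [← hord]
                exact orderOf_pos y
              · exact hp.one_lt
            refine ihm _ hlt (y ^ 2) rfl ((P : Subgroup G).pow_mem hyP 2) (fun x hx => ?_)
              (fun g hg => ?_)
            · exact ((show Commute x y from hyc x hx).pow_right 2).eq
            · exact ((show Commute g y from hnorm g hg).pow_right 2).eq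
          exact step_two P hfree hcon y hyP hyc hnorm hc (IHsub y hyP hyc hnorm)
      intro y hyP hyc hnorm
      exact inner (orderOf y) y rfl hyP hyc hnorm
  intro G _ _ P hfree hcon y hyP hyc hnorm
  rw [pow_one]
  refine key (Nat.card G) G rfl P hfree hcon y hyP hyc (fun g hg => ?_)
  have := hnorm g hg
  rwa [pow_one] at this

end Cfsg.Agent.Lib.helper17.GB
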