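import Mathlib
import Cfsg.Agent.Lib.helper17.CW7
import Cfsg.Agent.Lib.helper17.GB11
import Cfsg.Agent.Lib.Helper27.HFreeMain

/-!
# Control of weak closure of elements, relative to a forbidden section
-/

set_option autoImplicit false

namespace Cfsg.Agent.Lib.helper17.CWR

open Cfsg Cfsg.FusionSystem Cfsg.Agent.Lib.Helper26 Cfsg.Agent.Lib.Helper27
  Cfsg.Agent.Lib.Helper27.GT Cfsg.Agent.Lib.helper17.CW

universe u v

variable {Ω : Type u} [Group Ω] {S : Subgroup Ω}

theorem castSystem_sectionFree {T S : Subgroup Ω} (h : T = S) (E : FusionSystem T) {p : ℕ}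
    (X : Type v) [Group X] (hE : E.IsSectionFree p X) : (castSystem h E).IsSectionFree p X := by
  subst h
  exact hE

theorem normSys_sectionFree [Finite S] {p : ℕ} [Fact p.Prime] (hS : IsPGroup p S)
    (F : FusionSystem S) (hF : F.IsSaturated p) (X : Type v) [Group X]
    (hfree : F.IsSectionFree p X) (V : Subgroup Ω) (hVS : V ≤ S)
    (hSV : S ≤ Subgroup.normalizer (V : Set Ω)) : (normSys F V hVS hSV).IsSectionFree p X := by
  apply castSystem_sectionFree
  exact HFree.sectionFree_normalizer hS F hF X hfree (fullyNormalized_of_normal F hVS hSV) _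
    (normalizerSystem_isNormalizerSystem F V hVS)

/-- in a system with a model, the local hypothesis gives control -/
theorem fixes_of_model {p n : ℕ} [Fact p.Prime] (𝒲 : PFun.{u} p) (X : Type v) [Group X]
    (hL : LocalHypX p n 𝒲 X)
    {T : Subgroup Ω} [Finite T] (hT : IsPGroup p T) (K : FusionSystem T) {G : Type u} [Group G]
    (ι : T →* G) (hG : K.IsModel p G ι) (hXG : ¬ Cfsg.Involves X G) {y : Ω} (hyT : y ∈ T) (hyc : ∀ s ∈ T, s * y = y * s)
    (hfix : FixOn K (𝒲.W T) (y ^ n)) : Fixes K (y ^ n) := by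
  obtain ⟨hfin, hR, ⟨P, hP⟩, hC⟩ := hG
  have := hfin
  have hinj := hR.1
  have hznT : y ^ n ∈ T := T.pow_mem hyT n
  have hιz : ι ⟨y ^ n, hznT⟩ = (ι ⟨y, hyT⟩) ^ n := by
    rw [← map_pow]
    rfl
  have hOr : pCore p G ≤ ι.range := hP ▸ Helper1.pCore_le_sylow p P
  have hOn : (pCore p G).Normal := Helper1.pCore_normal p
  -- the image of `y` is central in the Sylow subgroup
  have hy'c : ∀ x ∈ (P : Subgroup G), x * ι ⟨y, hyT⟩ = ι ⟨y, hyT⟩ * x := by
    intro x hx
    rw [hP] at hx
    obtain ⟨s, rfl⟩ := hx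
    rw [← map_mul, ← map_mul]
    congr 1
    exact Subtype.ext (hyc s s.2)
  have hy'P : ι ⟨y, hyT⟩ ∈ (P : Subgroup G) := by
    rw [hP]
    exact ⟨_, rfl⟩
  -- the image of `z` lies in `O_p(G)`
  have hzO : ι ⟨y ^ n, hznT⟩ ∈ pCore p G := by
    apply hC
    rw [Subgroup.mem_centralizer_iff]
    intro u hu
    have huP : u ∈ (P : Subgroup G) := hP ▸ hOr hu
    rw [hιz]
    have : Commute u (ι ⟨y, hyT⟩) := hy'c u huP
    exact (this.pow_right n).eq
  have hWr : 𝒲.W (P : Subgroup G) = 𝒲.W ι.range := by rw [hP]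
  have hkey : ∀ g ∈ Subgroup.normalizer ((𝒲.W (P : Subgroup G) : Subgroup G) : Set G),
      g * (ι ⟨y, hyT⟩) ^ n = (ι ⟨y, hyT⟩) ^ n * g := by
    intro g hg
    rw [hWr] at hg
    -- the subgroup `R = U ⊔ W(T)`
    have hUT : preSub ι (pCore p G) ≤ T := preSub_le ι _
    have hWT : 𝒲.W T ≤ T := 𝒲.le T
    have hRT : preSub ι (pCore p G) ⊔ 𝒲.W T ≤ T := sup_le hUT hWT
    let B : Subgroup Ω := ((ι.range).comap ((MulAut.conj g).toMonoidHom.comp ι)).map T.subtype
    have hB : ∀ x : Ω, x ∈ B ↔ ∃ hx : x ∈ T, g * ι ⟨x, hx⟩ * g⁻¹ ∈ ι.range := by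
      intro x
      constructor
      · rintro ⟨s, hs, rfl⟩
        exact ⟨s.2, hs⟩
      · rintro ⟨hx, h⟩
        exact ⟨⟨x, hx⟩, h, rfl⟩
    have hWmem : ∀ x : T, (x : Ω) ∈ 𝒲.W T → g * ι x * g⁻¹ ∈ 𝒲.W ι.range := by
      intro x hx
      have h1 := (𝒲.W_range T hT ι hinj x).mp hx
      exact (Subgroup.mem_normalizer_iff.mp hg _).mp h1
    have hRB : preSub ι (pCore p G) ⊔ 𝒲.W T ≤ B := by
      refine sup_le ?_ ?_
      · intro x hx
        obtain ⟨hxT, hxO⟩ := mem_preSub_iff.mp hx
        exact (hB x).mpr ⟨hxT, hOr (hOn.conj_mem _ hxO g)⟩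
      · intro x hx
        exact (hB x).mpr ⟨hWT hx, 𝒲.le _ (hWmem ⟨x, hWT hx⟩ hx)⟩
    have h : ∀ x : ↥(preSub ι (pCore p G) ⊔ 𝒲.W T), g * ι ⟨x, hRT x.2⟩ * g⁻¹ ∈ ι.range := by
      intro x
      obtain ⟨_, h1⟩ := (hB x).mp (hRB x.2)
      exact h1
    have hφ := pullHom_mem_hom K hR _ hRT g h
    have hzR : y ^ n ∈ preSub ι (pCore p G) ⊔ 𝒲.W T :=
      (le_sup_left : preSub ι (pCore p G) ≤ _) (mem_preSub_iff.mpr ⟨hznT, hzO⟩)
    have hTN : T ≤ Subgroup.normalizer (𝒲.W T : Set Ω) :=
      Subgroup.le_normalizer.trans (𝒲.normalizer_le T hT)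
    have h2 := hfix _ _ hφ le_sup_right (hRT.trans hTN) (fun x hx => by
      have h3 := apply_pullHom hinj _ hRT g h x
      have h4 := hWmem ⟨x, hRT x.2⟩ hx
      rw [← h3] at h4
      exact (𝒲.W_range T hT ι hinj ⟨_, pullHom_mem hinj _ hRT g h x⟩).mpr h4) hzR
    have h5 := apply_pullHom hinj _ hRT g h ⟨y ^ n, hzR⟩
    have h6 : ι ⟨y ^ n, hznT⟩ = g * ι ⟨y ^ n, hznT⟩ * g⁻¹ := by
      rw [← h5]
      congr 1
      exact Subtype.ext h2.symm
    rw [← hιz]
    calc g * ι ⟨y ^ n, hznT⟩ = (g * ι ⟨y ^ n, hznT⟩ * g⁻¹) * g := by group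
      _ = ι ⟨y ^ n, hznT⟩ * g := by rw [← h6]
  have hall := hL G P hXG hC (ι ⟨y, hyT⟩) hy'P hy'c hkey
  intro Q φ hφ hzQ
  obtain ⟨g, hg⟩ := exists_of_mem_hom K hR hφ
  have h1 := hg ⟨y ^ n, hzQ⟩
  have h2 : ι ⟨y ^ n, hznT⟩ = (ι ⟨y, hyT⟩) ^ n := hιz
  have h3 : g * ι ⟨y ^ n, hznT⟩ * g⁻¹ = ι ⟨y ^ n, hznT⟩ := by
    rw [h2, hall g]
    group
  have h4 : ι ⟨φ ⟨y ^ n, hzQ⟩, (K.le_of_mem hφ).2 _⟩ = ι ⟨y ^ n, hznT⟩ := by
    rw [h1]
    exact h3
  exact congrArg Subtype.val (hinj h4)

/-- the automorphisms of a fully normalized centric subgroup `E` fix `z` as soon as the maps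
normalizing `W(N_S(E))` do -/
theorem aut_fixes_of_fixOn [Finite S] {p n : ℕ} [Fact p.Prime] (𝒲 : PFun.{u} p)
    (X : Type v) [Group X]
    (hL : LocalHypX p n 𝒲 X) (hS : IsPGroup p S) (F : FusionSystem S) (hF : F.IsSaturated p)
    (hfree : F.IsSectionFree p X)
    {E : Subgroup Ω} (hEn : F.IsFullyNormalized E) (hEc : F.IsCentric E) {y : Ω} (hyS : y ∈ S)
    (hyc : ∀ s ∈ S, s * y = y * s) (hfix : FixOn F (𝒲.W (normalizerIn S E)) (y ^ n)) :
    ∀ α ∈ F.autGroup E, ∀ hz : y ^ n ∈ E, ((α ⟨y ^ n, hz⟩ : E) : Ω) = y ^ n := by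
  have hES : E ≤ S := hEn.1
  have hNN := normalizerSystem_isNormalizerSystem F E hES
  have hcon := normalizerSystem_constrained hS F hF hEn hEc _ hNN
  have : Finite ↥(normalizerIn S E) := finite_of_le (normalizerIn_le S E)
  have hT : IsPGroup p ↥(normalizerIn S E) := hS.to_le (normalizerIn_le S E)
  obtain ⟨G, _, ι, hG⟩ := Model.exists_model p hT _ hcon
  have hyT : y ∈ normalizerIn S E := by
    refine ⟨hyS, mem_normalizer_of_forall (fun x hx => ?_) (fun x hx => ?_)⟩
    · have : y * x = x * y := (hyc x (hES hx)).symm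
      rw [this, mul_inv_cancel_right]
      exact hx
    · have : x * y = y * x := hyc x (hES hx)
      rw [mul_assoc, this, inv_mul_cancel_left]
      exact hx
  have hfixN : FixOn (normalizerSystem F E hES) (𝒲.W (normalizerIn S E)) (y ^ n) :=
    hfix.mono (fun P φ hφ => by
      rw [hNN P] at hφ
      exact hφ.1)
  have hall := fixes_of_model 𝒲 X hL hT _ ι hG (hfree E hEn hEc _ hNN G ι hG) hyT
    (fun s hs => hyc s (normalizerIn_le S E hs)) hfixN
  intro α hα hz
  have hαN : α ∈ (normalizerSystem F E hES).autGroup E := by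
    rw [normalizerSystem_autGroup_eq F hES _ hNN]
    exact hα
  have h1 := (mem_autGroup_iff _ (le_normalizerIn_self hES)).mp hαN
  exact hall E _ h1 hz

/-- the case `z ∈ O_p(F)` -/
theorem lemmaA [Finite S] {p n : ℕ} [Fact p.Prime] (𝒲 : PFun.{u} p) (X : Type v) [Group X]
    (hL : LocalHypX p n 𝒲 X)
    (hS : IsPGroup p S) {y : Ω} (hyS : y ∈ S) (hyc : ∀ s ∈ S, s * y = y * s) :
    ∀ (k : ℕ) (F : FusionSystem S), F.IsSaturated p → F.IsSectionFree p X →
      Nat.card S - Nat.card F.core = k →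
      y ^ n ∈ F.core → FixOn F (𝒲.W S) (y ^ n) →
      ∀ P : Subgroup Ω, F.Hom P ⊆ F.centralizerHom (Subgroup.zpowers (y ^ n)) P := by
  have hzS : y ^ n ∈ S := S.pow_mem hyS n
  have hzc : ∀ s ∈ S, s * y ^ n = y ^ n * s := fun s hs =>
    ((show Commute s y from hyc s hs).pow_right n).eq
  intro k
  induction k using Nat.strong_induction_on with
  | _ k ih =>
    intro F hF hfree hk hzcore hfix
    have hQ := isNormal_core F
    have hQS : F.core ≤ S := hQ.1
    have hSQ : S ≤ Subgroup.normalizer (F.core : Set Ω) :=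
      fun s hs => mem_normalizer_of_isNormal F hQ hs
    refine centralizerHom_of_aut_normal F hQ hzcore hzc ?_
    by_cases hcen : centralizerIn S F.core ≤ F.core
    · -- constrained case
      have hcent : F.IsCentric F.core := by
        refine ⟨hQS, fun Q' hQ' => ?_⟩
        rw [isConj_eq_of_isNormal F hQ hQ']
        exact hcen
      have hcon : F.IsConstrained p := ⟨hF, F.core, hQ, hcent⟩
      obtain ⟨G, _, ι, hG⟩ := Model.exists_model p hS F hcon
      have hN' := normalizerSystem_isNormalizerSystem F F.core hQS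
      have hXG : ¬ Cfsg.Involves X G :=
        hfree F.core (fullyNormalized_of_isNormal F hQ) hcent
          _ hN' G _ (HFree.isModel_normalizer_of_isNormal hQ _ hN' ι hG)
      have hall := fixes_of_model 𝒲 X hL hS F ι hG hXG hyS hyc hfix
      intro α hα
      exact hall _ _ ((mem_autGroup_iff F hQS).mp hα) hzcore
    · -- pass to the normalizer system of `R = Q C_S(Q)`
      have hRS : F.core ⊔ centralizerIn S F.core ≤ S := sup_le hQS (centralizerIn_le S _)
      have hSR := normal_sup_centralizerIn hSQ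
      have hKsat := normSys_saturated hS F hF _ hRS hSR
      have hRK := normSys_isNormal F _ hRS hSR
      have hRcore : F.core ⊔ centralizerIn S F.core ≤ (normSys F _ hRS hSR).core := le_sSup hRK
      have hKcoreS : (normSys F _ hRS hSR).core ≤ S := (isNormal_core _).1
      have : Finite ↥(normSys F _ hRS hSR).core := finite_of_le hKcoreS
      have : Finite ↥(F.core ⊔ centralizerIn S F.core) := finite_of_le hRS
      have : Finite ↥F.core := finite_of_le hQS
      have hlt : F.core < F.core ⊔ centralizerIn S F.core := by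
        exact lt_of_le_of_ne le_sup_left (fun h => hcen (le_sup_right.trans h.ge))
      have hc1 : Nat.card F.core < Nat.card ↥(F.core ⊔ centralizerIn S F.core) :=
        Cfsg.Agent.Lib.Helper26.card_lt_card_of_lt hlt
      have hc2 : Nat.card ↥(F.core ⊔ centralizerIn S F.core) ≤
          Nat.card ↥(normSys F _ hRS hSR).core :=
        Nat.card_le_card_of_injective (Subgroup.inclusion hRcore) (Subgroup.inclusion_injective _)
      have hc3 : Nat.card ↥(normSys F _ hRS hSR).core ≤ Nat.card S :=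
        card_le_card_of_le_of_finite hKcoreS
      have hK := ih (Nat.card S - Nat.card ↥(normSys F _ hRS hSR).core) (by omega)
        (normSys F _ hRS hSR) hKsat (normSys_sectionFree hS F hF X hfree _ hRS hSR) rfl (hRcore (le_sup_left (a := F.core) hzcore))
        (hfix.mono (normSys_le F _ hRS hSR))
      intro α hα
      have hφ₀ := (mem_autGroup_iff F hQS).mp hα
      have hr₀ : (F.core.subtype.comp α.toMonoidHom).range = F.core :=
        range_eq_of_isNormal F hQ hφ₀
      obtain ⟨-, -, hrec⟩ := saturated_fullyNormalized hS F hF (fullyNormalized_of_isNormal F hQ)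
      obtain ⟨ψ, hψ, hψe⟩ := hrec.2 F.core _ hφ₀ hr₀
      have hle : F.core ⊔ centralizerIn S F.core ≤ extender S F.core
          (F.core.subtype.comp α.toMonoidHom) :=
        sup_le (le_extender F hφ₀) (centralizerIn_le_extender S _ _)
      have hρ : ψ.comp (Subgroup.inclusion hle) ∈ F.Hom (F.core ⊔ centralizerIn S F.core) :=
        restrict_mem F hψ hle
      -- `ρ` agrees with `α` on `Q`
      have hρQ : ∀ q : F.core, ψ.comp (Subgroup.inclusion hle)
          (Subgroup.inclusion le_sup_left q) = ((α q : F.core) : Ω) := by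
        intro q
        exact hψe q q.2 (hle (le_sup_left (a := F.core) q.2))
      have hinv : ∀ x : ↥(F.core ⊔ centralizerIn S F.core),
          ψ.comp (Subgroup.inclusion hle) x ∈ F.core ⊔ centralizerIn S F.core := by
        intro x
        refine map_sup_mem _ _ (fun q => ?_) (fun c => ?_) x
        · rw [hρQ]
          exact le_sup_left (a := F.core) (α q).2
        · refine le_sup_right (a := F.core) ⟨apply_mem F hρ _, ?_⟩
          show _ ∈ Subgroup.centralizer (F.core : Set Ω)
          rw [Subgroup.mem_centralizer_iff]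
          intro q hq
          have h1 := hρQ (α⁻¹ ⟨q, hq⟩)
          rw [MulAut.apply_inv_self] at h1
          have h2 : (q : Ω) = ψ.comp (Subgroup.inclusion hle)
              (Subgroup.inclusion le_sup_left (α⁻¹ ⟨q, hq⟩)) := h1.symm
          rw [h2, ← map_mul, ← map_mul]
          congr 1
          apply Subtype.ext
          exact (Subgroup.mem_centralizer_iff.mp c.2.2) _ (α⁻¹ ⟨q, hq⟩).2
      have hρK : ψ.comp (Subgroup.inclusion hle) ∈
          (normSys F _ hRS hSR).Hom (F.core ⊔ centralizerIn S F.core) := by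
        rw [normSys_hom]
        exact mem_normalizerHom_of_invariant F hρ le_rfl Subgroup.le_normalizer
          (fun x _ => hinv x)
      have h3 := apply_eq_of_mem_centralizerHom_zpowers _ (hK _ hρK)
        (le_sup_left (a := F.core) hzcore)
      have h4 := hρQ ⟨y ^ n, hzcore⟩
      rw [← h4]
      exact h3

/-- the induction hypothesis of the main theorem -/
def IH (p n : ℕ) (𝒲 : PFun.{u} p) (X : Type v) [Group X] (N : ℕ) : Prop :=
  ∀ {Ω : Type u} [Group Ω] (S : Subgroup Ω) [Finite S], Nat.card S < N → IsPGroup p S →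
    ∀ F : FusionSystem S, F.IsSaturated p → F.IsSectionFree p X → ∀ y ∈ S, (∀ s ∈ S, s * y = y * s) →
      FixOn F (𝒲.W S) (y ^ n) →
      ∀ P : Subgroup Ω, F.Hom P ⊆ F.centralizerHom (Subgroup.zpowers (y ^ n)) P

/-- the climbing step -/
theorem fixOn_step [Finite S] {p n : ℕ} [Fact p.Prime] (𝒲 : PFun.{u} p) (X : Type v) [Group X]
    (hL : LocalHypX p n 𝒲 X)
    (ih : IH p n 𝒲 X (Nat.card S)) (hS : IsPGroup p S) (F : FusionSystem S)
    (hF : F.IsSaturated p) (hfree : F.IsSectionFree p X) {y : Ω} (hyS : y ∈ S) (hyc : ∀ s ∈ S, s * y = y * s)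
    (hfix : FixOn F (𝒲.W S) (y ^ n)) (m : ℕ)
    (hA : ∀ P : Subgroup Ω, P ≤ S → m < Nat.card P →
      F.Hom P ⊆ F.centralizerHom (Subgroup.zpowers (y ^ n)) P)
    (hB : ∀ T : Subgroup Ω, T ≤ S → S ⊓ Subgroup.centralizer (S : Set Ω) ≤ T → m < Nat.card T →
      FixOn F (𝒲.W T) (y ^ n))
    {T : Subgroup Ω} (hTS : T ≤ S) (hZT : S ⊓ Subgroup.centralizer (S : Set Ω) ≤ T)
    (hTne : T ≠ S) (hcard : m ≤ Nat.card T) : FixOn F (𝒲.W T) (y ^ n) := by
  have : Finite T := finite_of_le hTS
  have hTp : IsPGroup p T := hS.to_le hTS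
  have hzS : y ^ n ∈ S := S.pow_mem hyS n
  have hzc : ∀ s ∈ S, s * y ^ n = y ^ n * s := fun s hs =>
    ((show Commute s y from hyc s hs).pow_right n).eq
  have hyZ : y ∈ S ⊓ Subgroup.centralizer (S : Set Ω) := by
    refine ⟨hyS, ?_⟩
    show y ∈ Subgroup.centralizer (S : Set Ω)
    rw [Subgroup.mem_centralizer_iff]
    intro s hs
    exact hyc s hs
  have hyT : y ∈ T := hZT hyZ
  have hyZT : y ∈ T ⊓ Subgroup.centralizer (T : Set Ω) := by
    refine ⟨hyT, ?_⟩
    show y ∈ Subgroup.centralizer (T : Set Ω)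
    rw [Subgroup.mem_centralizer_iff]
    intro s hs
    exact hyc s (hTS hs)
  have hVT : 𝒲.W T ≤ T := 𝒲.le T
  have hVS : 𝒲.W T ≤ S := hVT.trans hTS
  have hyV : y ∈ 𝒲.W T := 𝒲.center_le T hTp hyZT
  have hzV : y ^ n ∈ 𝒲.W T := (𝒲.W T).pow_mem hyV n
  -- `N_S(V)` is larger than `T`
  have hlt : T < normalizerIn S T := lt_normalizerIn hS hTS hTne
  have hle : normalizerIn S T ≤ normalizerIn S (𝒲.W T) :=
    inf_le_inf_left S (𝒲.normalizer_le T hTp)
  have : Finite ↥(normalizerIn S T) := finite_of_le (normalizerIn_le _ _)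
  have : Finite ↥(normalizerIn S (𝒲.W T)) := finite_of_le (normalizerIn_le _ _)
  have hc1 : Nat.card T < Nat.card ↥(normalizerIn S T) := Cfsg.Agent.Lib.Helper26.card_lt_card_of_lt hlt
  have hc2 : Nat.card ↥(normalizerIn S T) ≤ Nat.card ↥(normalizerIn S (𝒲.W T)) :=
    Nat.card_le_card_of_injective (Subgroup.inclusion hle) (Subgroup.inclusion_injective _)
  -- a fully normalized conjugate
  obtain ⟨V', hVV', hV'n⟩ := exists_fullyNormalized_conj F hVS
  obtain ⟨-, hV'a, hV'r⟩ := saturated_fullyNormalized hS F hF hV'n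
  obtain ⟨β⟩ := nonempty_normalizerHom hS F hV'a hV'r hVV'
  have hV'S : V' ≤ S := hV'n.1
  have : Finite ↥(normalizerIn S V') := finite_of_le (normalizerIn_le _ _)
  have hc3 : Nat.card ↥(normalizerIn S (𝒲.W T)) ≤ Nat.card ↥(normalizerIn S V') :=
    Nat.card_le_card_of_injective (fun x => (⟨β.φ x, β.maps x⟩ : ↥(normalizerIn S V')))
      (fun a b hab => β.injective (congrArg Subtype.val hab))
  -- `β` fixes `z`
  have hzN : y ^ n ∈ normalizerIn S (𝒲.W T) :=
    central_mem_normalizerIn hzS hzc hVS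
  have hβz : β.φ ⟨y ^ n, hzN⟩ = y ^ n :=
    apply_eq_of_mem_centralizerHom_zpowers F
      (hA _ (normalizerIn_le _ _) (by omega) β.mem) hzN
  refine FixOn.transport F hVS β hzN hβz ?_
  have hzV' : y ^ n ∈ V' := by
    rw [← hβz]
    exact β.apply_mem_of_mem hVS ⟨y ^ n, hzV⟩
  by_cases hSV' : S ≤ Subgroup.normalizer (V' : Set Ω)
  · -- `V' ⊴ S`: the case `z ∈ O_p`
    have hKsat := normSys_saturated hS F hF V' hV'S hSV'
    have hV'K := normSys_isNormal F V' hV'S hSV'
    have hV'core : V' ≤ (normSys F V' hV'S hSV').core := le_sSup hV'K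
    have hK := lemmaA 𝒲 X hL hS hyS hyc _ (normSys F V' hV'S hSV') hKsat
      (normSys_sectionFree hS F hF X hfree _ hV'S hSV') rfl (hV'core hzV')
      (hfix.mono (normSys_le F V' hV'S hSV'))
    exact FixOn.of_fixes_normSys F hV'S hSV' (fixes_of_centralizerHom _ hK)
  · -- `N_S(V') < S`: induction
    have hne : normalizerIn S V' ≠ S := fun h => hSV' (h ▸ inf_le_right)
    have hc4 : Nat.card ↥(normalizerIn S V') < Nat.card S :=
      Cfsg.Agent.S5082.card_lt_of_ne (normalizerIn_le _ _) hne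
    have hNN := normalizerSystem_isNormalizerSystem F V' hV'S
    have hNsat := normalizerSystem_saturated hS F hF hV'n _ hNN
    have hZS₁ : S ⊓ Subgroup.centralizer (S : Set Ω) ≤ normalizerIn S V' := by
      intro c hc
      refine central_mem_normalizerIn hc.1 (fun s hs => ?_) hV'S
      exact (Subgroup.mem_centralizer_iff.mp hc.2) s hs
    have hfix₁ : FixOn F (𝒲.W (normalizerIn S V')) (y ^ n) :=
      hB _ (normalizerIn_le _ _) hZS₁ (by omega)
    have hK := ih (normalizerIn S V') hc4 (hS.to_le (normalizerIn_le _ _)) _ hNsat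
      (HFree.sectionFree_normalizer hS F hF X hfree hV'n _ hNN) y
      (hZS₁ hyZ) (fun s hs => hyc s (normalizerIn_le _ _ hs))
      (hfix₁.mono (fun P φ hφ => by
        rw [hNN P] at hφ
        exact hφ.1))
    exact FixOn.of_fixes_normalizerSystem F _ hNN (fixes_of_centralizerHom _ hK)

/-- the main theorem -/
theorem main {p n : ℕ} [Fact p.Prime] (𝒲 : PFun.{u} p) (X : Type v) [Group X]
    (hL : LocalHypX p n 𝒲 X) :
    ∀ N : ℕ, IH p n 𝒲 X N := by
  intro N
  induction N using Nat.strong_induction_on with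
  | _ N ihN =>
    intro Ω _ S _ hcard hS F hF hfree y hyS hyc hfix
    have ih : IH p n 𝒲 X (Nat.card S) := ihN (Nat.card S) hcard
    have hzS : y ^ n ∈ S := S.pow_mem hyS n
    have hzc : ∀ s ∈ S, s * y ^ n = y ^ n * s := fun s hs =>
      ((show Commute s y from hyc s hs).pow_right n).eq
    -- the downward induction
    have key : ∀ d m : ℕ, m + d = Nat.card S →
        (∀ P : Subgroup Ω, P ≤ S → m < Nat.card P →
          F.Hom P ⊆ F.centralizerHom (Subgroup.zpowers (y ^ n)) P) ∧
        (∀ T : Subgroup Ω, T ≤ S → S ⊓ Subgroup.centralizer (S : Set Ω) ≤ T → m < Nat.card T →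
          FixOn F (𝒲.W T) (y ^ n)) := by
      intro d
      induction d with
      | zero =>
        intro m hm
        constructor
        · intro P hPS hmP
          have := card_le_card_of_le_of_finite hPS
          omega
        · intro T hTS _ hmT
          have := card_le_card_of_le_of_finite hTS
          omega
      | succ d ihd =>
        intro m hm
        obtain ⟨hA, hB⟩ := ihd (m + 1) (by omega)
        have hB' : ∀ T : Subgroup Ω, T ≤ S → S ⊓ Subgroup.centralizer (S : Set Ω) ≤ T →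
            m < Nat.card T → FixOn F (𝒲.W T) (y ^ n) := by
          intro T hTS hZT hmT
          by_cases hTne : T = S
          · rw [hTne]
            exact hfix
          · exact fixOn_step 𝒲 X hL ih hS F hF hfree hyS hyc hfix (m + 1) hA hB hTS hZT hTne
              (by omega)
        refine ⟨?_, hB'⟩
        intro P hPS hmP
        refine alperin_fix hS F hF hzS hzc m ?_ P hPS hmP
        intro Q hQ hmQ α hα hzQ
        rcases hQ with rfl | hQ
        · -- automorphisms of `S`
          have hφ := (mem_autGroup_iff F le_rfl).mp hα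
          have hr : (Q.subtype.comp α.toMonoidHom).range = Q := by
            ext t
            constructor
            · rintro ⟨x, rfl⟩
              exact (α x).2
            · intro ht
              exact ⟨α⁻¹ ⟨t, ht⟩, by simp⟩
          have hinj : Function.Injective (Q.subtype.comp α.toMonoidHom) :=
            Q.subtype_injective.comp α.injective
          exact hfix Q _ hφ (𝒲.le Q)
            (Subgroup.le_normalizer.trans (𝒲.normalizer_le Q hS)) (fun x hx => by
              have := (𝒲.W_range Q hS _ hinj x).mp hx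
              rwa [hr] at this) hzQ
        · -- essential subgroups
          have hQS : Q ≤ S := hQ.1.1
          have hQT : Q ≤ normalizerIn S Q := le_normalizerIn_self hQS
          have : Finite ↥(normalizerIn S Q) := finite_of_le (normalizerIn_le _ _)
          have : Finite Q := finite_of_le hQS
          have hc : Nat.card Q ≤ Nat.card ↥(normalizerIn S Q) :=
            Nat.card_le_card_of_injective (Subgroup.inclusion hQT) (Subgroup.inclusion_injective _)
          have hZT : S ⊓ Subgroup.centralizer (S : Set Ω) ≤ normalizerIn S Q := by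
            intro c hc
            refine central_mem_normalizerIn hc.1 (fun s hs => ?_) hQS
            exact (Subgroup.mem_centralizer_iff.mp hc.2) s hs
          exact aut_fixes_of_fixOn 𝒲 X hL hS F hF hfree hQ.2.1 hQ.1 hyS hyc
            (hB' _ (normalizerIn_le _ _) hZT (by omega)) α hα hzQ
    intro P φ hφ
    have hPS : P ≤ S := source_le F hφ
    have : Finite P := finite_of_le hPS
    exact (key (Nat.card S) 0 (by omega)).1 P hPS Nat.card_pos hφ

/-- a functor satisfying the local hypothesis controls weak closure of elements -/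
theorem center_eq_of_localHyp [Finite S] {p : ℕ} [Fact p.Prime] (𝒲 : PFun.{u} p)
    (X : Type v) [Group X]
    (hL : LocalHypX p 1 𝒲 X) (hS : IsPGroup p S) (F : FusionSystem S) (hF : F.IsSaturated p)
    (hfree : F.IsSectionFree p X)
    (N : FusionSystem (normalizerIn S (𝒲.W S))) (hN : F.IsNormalizerSystem (𝒲.W S) N) :
    N.center = F.center := by
  have hSV : S ≤ Subgroup.normalizer ((𝒲.W S : Subgroup Ω) : Set Ω) :=
    Subgroup.le_normalizer.trans (𝒲.normalizer_le S hS)
  have hVS : 𝒲.W S ≤ S := 𝒲.le S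
  have : Finite ↥(normalizerIn S (𝒲.W S)) := finite_of_le (normalizerIn_le _ _)
  apply le_antisymm
  · intro z hz
    have hNc := isCentral_center N
    have hzT : z ∈ normalizerIn S (𝒲.W S) := hNc.1 hz
    have hzS : z ∈ S := hzT.1
    have hfixN : Fixes N z := fixes_of_mem_center N hz
    have hzc : ∀ s ∈ S, s * z = z * s := by
      intro s hs
      have hsT : s ∈ normalizerIn S (𝒲.W S) := ⟨hs, hSV hs⟩
      have h1 := hfixN _ _ (N.conj_mem (le_refl _) hsT) hzT
      have h2 : s * z * s⁻¹ = z := h1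
      calc s * z = (s * z * s⁻¹) * s := by group
        _ = z * s := by rw [h2]
    have hfix : FixOn F (𝒲.W S) (z ^ 1) := by
      rw [pow_one]
      exact FixOn.of_fixes_normalizerSystem F N hN hfixN
    have hall := main 𝒲 X hL (Nat.card S + 1) S (Nat.lt_succ_self _) hS F hF hfree z hzS hzc hfix
    have := mem_center_of_forall_centralizerHom F (S.pow_mem hzS 1) hall
    rwa [pow_one] at this
  · exact center_le_center_normalizerSystem F hVS hSV N hN

end Cfsg.Agent.Lib.helper17.CWR
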