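import Mathlib

set_option autoImplicit false

namespace Cfsg.Agent.Lib.helper17.ClsCount

open Equiv

/-- the set of cycle types of permutations of `Fin n` -/
def T (n : ℕ) : Set (Multiset ℕ) := {m | m.sum ≤ n ∧ ∀ a ∈ m, 2 ≤ a}

theorem T_eq_range (n : ℕ) : T n = Set.range (fun σ : Perm (Fin n) => σ.cycleType) := by
  ext m
  constructor
  · rintro ⟨h1, h2⟩
    obtain ⟨g, hg⟩ := (Equiv.Perm.exists_with_cycleType_iff (Fin n)).mpr
      ⟨by rw [Fintype.card_fin]; exact h1, h2⟩
    exact ⟨g, hg⟩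
  · rintro ⟨g, rfl⟩
    have := (Equiv.Perm.exists_with_cycleType_iff (Fin n) (m := g.cycleType)).mp ⟨g, rfl⟩
    rw [Fintype.card_fin] at this
    exact this

theorem T_finite (n : ℕ) : (T n).Finite := by
  rw [T_eq_range]
  exact Set.finite_range _

/-- cycle type of a conjugacy class -/
noncomputable def ct (n : ℕ) (c : ConjClasses (Perm (Fin n))) : Multiset ℕ :=
  (Quotient.out c).cycleType

theorem ct_mk (n : ℕ) (σ : Perm (Fin n)) : ct n (ConjClasses.mk σ) = σ.cycleType := by
  unfold ct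
  have h : ConjClasses.mk (Quotient.out (ConjClasses.mk σ)) = ConjClasses.mk σ :=
    Quotient.out_eq _
  rw [ConjClasses.mk_eq_mk_iff_isConj, Equiv.Perm.isConj_iff_cycleType_eq] at h
  exact h

theorem ct_injective (n : ℕ) : Function.Injective (ct n) := by
  intro c d h
  obtain ⟨σ, rfl⟩ := ConjClasses.mk_surjective c
  obtain ⟨τ, rfl⟩ := ConjClasses.mk_surjective d
  rw [ct_mk, ct_mk] at h
  rw [ConjClasses.mk_eq_mk_iff_isConj, Equiv.Perm.isConj_iff_cycleType_eq]
  exact h

theorem range_ct (n : ℕ) : Set.range (ct n) = T n := by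
  rw [T_eq_range]
  ext m
  constructor
  · rintro ⟨c, rfl⟩
    obtain ⟨σ, rfl⟩ := ConjClasses.mk_surjective c
    exact ⟨σ, (ct_mk n σ).symm⟩
  · rintro ⟨σ, rfl⟩
    exact ⟨ConjClasses.mk σ, ct_mk n σ⟩

theorem card_conjClasses_perm (n : ℕ) : Nat.card (ConjClasses (Perm (Fin n))) = (T n).ncard := by
  rw [← range_ct, ← _root_.Nat.card_coe_set_eq, Nat.card_range_of_injective (ct_injective n)]

theorem T_mono {a b : ℕ} (h : a ≤ b) : T a ⊆ T b := fun _ hm => ⟨hm.1.trans h, hm.2⟩

/-- types of sum exactly `n` -/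
def Top (n : ℕ) : Set (Multiset ℕ) := {m | m.sum = n ∧ ∀ a ∈ m, 2 ≤ a}

theorem T_succ (n : ℕ) : T (n + 1) = T n ∪ Top (n + 1) := by
  ext m
  simp only [T, Top, Set.mem_ofPred_eq, Set.mem_union]
  constructor
  · rintro ⟨h1, h2⟩
    rcases Nat.lt_or_ge m.sum (n + 1) with h | h
    · left; exact ⟨by omega, h2⟩
    · right; exact ⟨by omega, h2⟩
  · rintro (⟨h1, h2⟩ | ⟨h1, h2⟩)
    · exact ⟨by omega, h2⟩
    · exact ⟨by omega, h2⟩

theorem Top_ncard_le (n : ℕ) : (Top (n + 2)).ncard ≤ (T n).ncard := by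
  classical
  -- erase the largest part
  have hex : ∀ m ∈ Top (n + 2), ∃ M ∈ m, ∀ a ∈ m, a ≤ M := by
    intro m hm
    have hne : m ≠ 0 := by
      rintro rfl
      simp [Top] at hm
    obtain ⟨M, hM, hmax⟩ := Multiset.exists_max_image id hne
    exact ⟨M, hM, hmax⟩
  let f : Multiset ℕ → Multiset ℕ := fun m =>
    if h : ∃ M ∈ m, ∀ a ∈ m, a ≤ M then m.erase (Classical.choose h) else m
  apply Set.ncard_le_ncard_of_injOn f _ _ (T_finite n)
  · intro m hm
    have h := hex m hm
    have hf : f m = m.erase (Classical.choose h) := dif_pos h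
    obtain ⟨hM, hmax⟩ := Classical.choose_spec h
    rw [hf]
    refine ⟨?_, fun a ha => hm.2 a (Multiset.mem_of_mem_erase ha)⟩
    have hs : (m.erase (Classical.choose h)).sum + Classical.choose h = m.sum := by
      rw [add_comm, ← Multiset.sum_cons, Multiset.cons_erase hM]
    have h2 := hm.2 _ hM
    have h1 := hm.1
    omega
  · intro m hm m' hm' hff
    have h := hex m hm
    have h' := hex m' hm'
    have hf : f m = m.erase (Classical.choose h) := dif_pos h
    have hf' : f m' = m'.erase (Classical.choose h') := dif_pos h'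
    obtain ⟨hM, -⟩ := Classical.choose_spec h
    obtain ⟨hM', -⟩ := Classical.choose_spec h'
    rw [hf, hf'] at hff
    have hs : (m.erase (Classical.choose h)).sum + Classical.choose h = m.sum := by
      rw [add_comm, ← Multiset.sum_cons, Multiset.cons_erase hM]
    have hs' : (m'.erase (Classical.choose h')).sum + Classical.choose h' = m'.sum := by
      rw [add_comm, ← Multiset.sum_cons, Multiset.cons_erase hM']
    have hMM : Classical.choose h = Classical.choose h' := by
      rw [hff] at hs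
      have := hm.1
      have := hm'.1
      omega
    rw [← Multiset.cons_erase hM, ← Multiset.cons_erase hM', hff, hMM]

theorem T_ncard_rec (n : ℕ) : (T (n + 2)).ncard ≤ (T (n + 1)).ncard + (T n).ncard := by
  rw [T_succ (n + 1)]
  exact (Set.ncard_union_le _ _).trans (Nat.add_le_add_left (Top_ncard_le n) _)

theorem T_zero : T 0 = {0} := by
  ext m
  simp only [T, Set.mem_ofPred_eq, Set.mem_singleton_iff]
  constructor
  · rintro ⟨h1, h2⟩
    by_contra hne
    obtain ⟨a, ha⟩ := Multiset.exists_mem_of_ne_zero hne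
    have := Multiset.le_sum_of_mem ha
    have := h2 a ha
    omega
  · rintro rfl
    simp

theorem T_one : T 1 = {0} := by
  ext m
  simp only [T, Set.mem_ofPred_eq, Set.mem_singleton_iff]
  constructor
  · rintro ⟨h1, h2⟩
    by_contra hne
    obtain ⟨a, ha⟩ := Multiset.exists_mem_of_ne_zero hne
    have := Multiset.le_sum_of_mem ha
    have := h2 a ha
    omega
  · rintro rfl
    simp

theorem T_ncard_le_fib (n : ℕ) : (T n).ncard ≤ Nat.fib (n + 1) ∧ (T (n + 1)).ncard ≤ Nat.fib (n + 2) := by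
  induction n with
  | zero =>
    rw [T_zero, T_one]
    simp
  | succ n ih =>
    refine ⟨ih.2, ?_⟩
    have h3 := T_ncard_rec n
    have hf : Nat.fib (n + 1 + 2) = Nat.fib (n + 1) + Nat.fib (n + 2) := Nat.fib_add_two
    rw [hf]
    have e : n + 1 + 1 = n + 2 := rfl
    rw [e]
    omega

theorem fib_le_two_pow (n : ℕ) : Nat.fib (n + 6) ≤ 2 ^ (n + 3) ∧ Nat.fib (n + 7) ≤ 2 ^ (n + 4) := by
  induction n with
  | zero => decide
  | succ n ih =>
    refine ⟨ih.2, ?_⟩
    have hf : Nat.fib (n + 6 + 2) = Nat.fib (n + 6) + Nat.fib (n + 7) := Nat.fib_add_two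
    have e : n + 1 + 7 = n + 6 + 2 := by ring
    rw [e, hf]
    have : 2 ^ (n + 1 + 4) = 2 * 2 ^ (n + 4) := by ring
    have h3 : 2 ^ (n + 4) = 2 * 2 ^ (n + 3) := by ring
    omega

theorem card_conjClasses_perm_le (n : ℕ) (hn : 5 ≤ n) :
    Nat.card (ConjClasses (Perm (Fin n))) ≤ 2 ^ (n - 2) := by
  rw [card_conjClasses_perm]
  obtain ⟨k, rfl⟩ : ∃ k, n = k + 5 := ⟨n - 5, by omega⟩
  have h1 := (T_ncard_le_fib (k + 5)).1
  have h2 := (fib_le_two_pow k).1
  have e : k + 5 - 2 = k + 3 := by omega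
  rw [e]
  exact h1.trans h2

end Cfsg.Agent.Lib.helper17.ClsCount
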