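import Mathlib
import Cfsg.Agent.Lib.helper17.ClsCount1

set_option autoImplicit false

namespace Cfsg.Agent.Lib.helper17.ClsCount

open Equiv

/-- the splitting condition on a cycle type -/
def Split (n : ℕ) (m : Multiset ℕ) : Prop :=
  (∀ a ∈ m, Odd a) ∧ n ≤ m.sum + 1 ∧ ∀ i, m.count i ≤ 1

theorem centralizer_le_iff_split (n : ℕ) (σ : Perm (Fin n)) :
    Subgroup.centralizer {σ} ≤ alternatingGroup (Fin n) ↔ Split n σ.cycleType := by
  rw [Equiv.Perm.centralizer_le_alternating_iff, Fintype.card_fin]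
  rfl

theorem isConj_of_sign_eq_one (n : ℕ) (σ τ : alternatingGroup (Fin n)) (g : Perm (Fin n))
    (hg : Perm.sign g = 1) (h : g * (σ : Perm (Fin n)) * g⁻¹ = τ) : IsConj σ τ := by
  rw [isConj_iff]
  exact ⟨⟨g, Perm.mem_alternatingGroup.mpr hg⟩, Subtype.ext h⟩

theorem fiber_one (n : ℕ) (σ τ : alternatingGroup (Fin n))
    (h : (σ : Perm (Fin n)).cycleType = (τ : Perm (Fin n)).cycleType)
    (hns : ¬ Split n (σ : Perm (Fin n)).cycleType) : IsConj σ τ := by
  obtain ⟨g, hg⟩ := isConj_iff.mp (Perm.isConj_iff_cycleType_eq.mpr h)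
  rcases Int.units_eq_one_or (Perm.sign g) with h1 | h1
  · exact isConj_of_sign_eq_one n σ τ g h1 hg
  · rw [← centralizer_le_iff_split, SetLike.not_le_iff_exists] at hns
    obtain ⟨z, hz, hzA⟩ := hns
    rw [Subgroup.mem_centralizer_singleton_iff] at hz
    have hz1 : Perm.sign z = -1 := by
      rcases Int.units_eq_one_or (Perm.sign z) with h2 | h2
      · exact absurd (Perm.mem_alternatingGroup.mpr h2) hzA
      · exact h2
    apply isConj_of_sign_eq_one n σ τ (g * z)
    · rw [map_mul, h1, hz1]; rfl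
    · rw [← hg]
      have : z * (σ : Perm (Fin n)) * z⁻¹ = σ := by
        rw [hz, mul_inv_cancel_right]
      calc g * z * (σ : Perm (Fin n)) * (g * z)⁻¹ = g * (z * (σ : Perm (Fin n)) * z⁻¹) * g⁻¹ := by group
        _ = _ := by rw [this]

theorem fiber_two (n : ℕ) (ρ σ τ : alternatingGroup (Fin n))
    (h1 : (ρ : Perm (Fin n)).cycleType = (σ : Perm (Fin n)).cycleType)
    (h2 : (ρ : Perm (Fin n)).cycleType = (τ : Perm (Fin n)).cycleType)
    (hσ : ¬ IsConj ρ σ) (hτ : ¬ IsConj ρ τ) : IsConj σ τ := by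
  obtain ⟨g, hg⟩ := isConj_iff.mp (Perm.isConj_iff_cycleType_eq.mpr h1)
  obtain ⟨g', hg'⟩ := isConj_iff.mp (Perm.isConj_iff_cycleType_eq.mpr h2)
  have hs : Perm.sign g = -1 := by
    rcases Int.units_eq_one_or (Perm.sign g) with h | h
    · exact absurd (isConj_of_sign_eq_one n ρ σ g h hg) hσ
    · exact h
  have hs' : Perm.sign g' = -1 := by
    rcases Int.units_eq_one_or (Perm.sign g') with h | h
    · exact absurd (isConj_of_sign_eq_one n ρ τ g' h hg') hτ
    · exact h
  apply isConj_of_sign_eq_one n σ τ (g' * g⁻¹)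
  · rw [map_mul, map_inv, hs, hs']; rfl
  · rw [← hg, ← hg']
    group

/-- cycle type of a class of `A_n` -/
noncomputable def ctA (n : ℕ) (c : ConjClasses (alternatingGroup (Fin n))) : Multiset ℕ :=
  ((Quotient.out c : alternatingGroup (Fin n)) : Perm (Fin n)).cycleType

theorem ctA_mk (n : ℕ) (σ : alternatingGroup (Fin n)) :
    ctA n (ConjClasses.mk σ) = (σ : Perm (Fin n)).cycleType := by
  unfold ctA
  have h : ConjClasses.mk (Quotient.out (ConjClasses.mk σ)) = ConjClasses.mk σ :=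
    Quotient.out_eq _
  generalize Quotient.out (ConjClasses.mk σ) = τ at h ⊢
  rw [ConjClasses.mk_eq_mk_iff_isConj, isConj_iff] at h
  obtain ⟨c, rfl⟩ := h
  simp [Perm.cycleType_conj]

/-- even types -/
def Te (n : ℕ) : Set (Multiset ℕ) := {m | m ∈ T n ∧ Even (m.sum + Multiset.card m)}
/-- odd types -/
def To (n : ℕ) : Set (Multiset ℕ) := {m | m ∈ T n ∧ ¬ Even (m.sum + Multiset.card m)}
/-- split types -/
def Sp (n : ℕ) : Set (Multiset ℕ) := {m | m ∈ T n ∧ Split n m}

theorem ctA_mem_Te (n : ℕ) (c : ConjClasses (alternatingGroup (Fin n))) : ctA n c ∈ Te n := by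
  obtain ⟨σ, rfl⟩ := ConjClasses.mk_surjective c
  rw [ctA_mk]
  refine ⟨?_, ?_⟩
  · rw [T_eq_range]; exact ⟨σ, rfl⟩
  · have h := Perm.mem_alternatingGroup.mp σ.2
    rw [Perm.sign_of_cycleType] at h
    by_contra hodd
    rw [Nat.not_even_iff_odd] at hodd
    rw [hodd.neg_one_pow] at h
    exact absurd h (by decide)

theorem card_conjClasses_alt_le (n : ℕ) :
    Nat.card (ConjClasses (alternatingGroup (Fin n))) ≤ (Te n).ncard + (Sp n).ncard := by
  classical
  have hTe : (Te n).Finite := (T_finite n).subset fun m hm => hm.1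
  have hSp : (Sp n).Finite := (T_finite n).subset fun m hm => hm.1
  let r : Multiset ℕ → ConjClasses (alternatingGroup (Fin n)) := fun m =>
    if h : ∃ c, ctA n c = m then Classical.choose h else ConjClasses.mk 1
  have hr : ∀ c, ctA n (r (ctA n c)) = ctA n c := by
    intro c
    have h : ∃ c', ctA n c' = ctA n c := ⟨c, rfl⟩
    have : r (ctA n c) = Classical.choose h := dif_pos h
    rw [this]
    exact Classical.choose_spec h
  let X₁ : Set (ConjClasses (alternatingGroup (Fin n))) :=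
    {c | Split n (ctA n c) ∧ c ≠ r (ctA n c)}
  have hcover : (Set.univ : Set (ConjClasses (alternatingGroup (Fin n)))) = X₁ᶜ ∪ X₁ := by
    rw [Set.compl_union_self]
  have hinj0 : Set.InjOn (ctA n) X₁ᶜ := by
    intro c hc c' hc' h
    by_cases hs : Split n (ctA n c)
    · have e1 : c = r (ctA n c) := by
        by_contra hne
        exact hc ⟨hs, hne⟩
      have e2 : c' = r (ctA n c') := by
        by_contra hne
        exact hc' ⟨h ▸ hs, hne⟩
      rw [e1, e2, h]
    · obtain ⟨σ, rfl⟩ := ConjClasses.mk_surjective c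
      obtain ⟨τ, rfl⟩ := ConjClasses.mk_surjective c'
      rw [ctA_mk, ctA_mk] at h
      rw [ctA_mk] at hs
      rw [ConjClasses.mk_eq_mk_iff_isConj]
      exact fiber_one n σ τ h hs
  have hinj1 : Set.InjOn (ctA n) X₁ := by
    intro c hc c' hc' h
    have h1 : c ≠ r (ctA n c) := hc.2
    have h2 : c' ≠ r (ctA n c) := by rw [h]; exact hc'.2
    have h3 := hr c
    generalize r (ctA n c) = d at h1 h2 h3
    obtain ⟨σ, rfl⟩ := ConjClasses.mk_surjective c
    obtain ⟨τ, rfl⟩ := ConjClasses.mk_surjective c'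
    obtain ⟨ρ, rfl⟩ := ConjClasses.mk_surjective d
    rw [ctA_mk, ctA_mk] at h
    rw [ctA_mk, ctA_mk] at h3
    rw [ConjClasses.mk_eq_mk_iff_isConj]
    apply fiber_two n ρ σ τ h3 (h3.trans h)
    · intro hcon
      exact h1 (ConjClasses.mk_eq_mk_iff_isConj.mpr hcon).symm
    · intro hcon
      exact h2 (ConjClasses.mk_eq_mk_iff_isConj.mpr hcon).symm
  have hsub0 : ctA n '' X₁ᶜ ⊆ Te n := by
    rintro m ⟨c, -, rfl⟩
    exact ctA_mem_Te n c
  have hsub1 : ctA n '' X₁ ⊆ Sp n := by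
    rintro m ⟨c, hc, rfl⟩
    exact ⟨(ctA_mem_Te n c).1, hc.1⟩
  calc Nat.card (ConjClasses (alternatingGroup (Fin n)))
      = (Set.univ : Set (ConjClasses (alternatingGroup (Fin n)))).ncard := (Set.ncard_univ _).symm
    _ = (X₁ᶜ ∪ X₁).ncard := by rw [← hcover]
    _ ≤ (X₁ᶜ).ncard + X₁.ncard := Set.ncard_union_le _ _
    _ = (ctA n '' X₁ᶜ).ncard + (ctA n '' X₁).ncard := by
        rw [hinj0.ncard_image, hinj1.ncard_image]
    _ ≤ (Te n).ncard + (Sp n).ncard :=
        Nat.add_le_add (Set.ncard_le_ncard hsub0 hTe) (Set.ncard_le_ncard hsub1 hSp)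

end Cfsg.Agent.Lib.helper17.ClsCount
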