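import Mathlib
import Cfsg.Agent.Lib.helper17.ClsCount2

set_option autoImplicit false

namespace Cfsg.Agent.Lib.helper17.ClsCount

open Equiv

theorem even_sum_add_card_of_odd (m : Multiset ℕ) (h : ∀ a ∈ m, Odd a) :
    Even (m.sum + Multiset.card m) := by
  induction m using Multiset.induction_on with
  | empty => simp
  | cons a s ih =>
    rw [Multiset.sum_cons, Multiset.card_cons]
    have ha : Odd a := h a (Multiset.mem_cons_self a s)
    have hs := ih (fun b hb => h b (Multiset.mem_cons_of_mem hb))
    have : a + s.sum + (Multiset.card s + 1) = (s.sum + Multiset.card s) + (a + 1) := by ring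
    rw [this]
    exact hs.add ha.add_one

theorem Te_union_To (n : ℕ) : Te n ∪ To n = T n := by
  ext m
  simp only [Te, To, Set.mem_union, Set.mem_ofPred_eq]
  tauto

theorem Te_disjoint_To (n : ℕ) : Disjoint (Te n) (To n) := by
  rw [Set.disjoint_left]
  intro m hm hm'
  exact hm'.2 hm.2

theorem T_ncard_eq (n : ℕ) : (T n).ncard = (Te n).ncard + (To n).ncard := by
  rw [← Te_union_To]
  exact Set.ncard_union_eq (Te_disjoint_To n) ((T_finite n).subset fun m hm => hm.1)
    ((T_finite n).subset fun m hm => hm.1)

theorem Sp_ncard_lt (n : ℕ) (hn : 5 ≤ n) : (Sp n).ncard < (To n).ncard := by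
  classical
  have hTo : (To n).Finite := (T_finite n).subset fun m hm => hm.1
  let ψ : Multiset ℕ → Multiset ℕ := fun m =>
    if h : ∃ M, M ∈ m then (Classical.choose h - 1) ::ₘ m.erase (Classical.choose h) else m
  have key : ∀ m ∈ Sp n, ∃ M, M ∈ m ∧ 3 ≤ M ∧ Odd M ∧ ψ m = (M - 1) ::ₘ m.erase M := by
    intro m hm
    have hne : ∃ M, M ∈ m := by
      apply Multiset.exists_mem_of_ne_zero
      rintro rfl
      have := hm.2.2.1
      simp at this
      omega
    refine ⟨Classical.choose hne, Classical.choose_spec hne, ?_, hm.2.1 _ (Classical.choose_spec hne),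
      dif_pos hne⟩
    have h2 := hm.1.2 _ (Classical.choose_spec hne)
    obtain ⟨k, hk⟩ := hm.2.1 _ (Classical.choose_spec hne)
    omega
  have hinj : Set.InjOn ψ (Sp n) := by
    intro m hm m' hm' h
    obtain ⟨M, hM, hM3, hMo, e⟩ := key m hm
    obtain ⟨M', hM', hM3', hMo', e'⟩ := key m' hm'
    rw [e, e'] at h
    have hf : ∀ (m : Multiset ℕ) (M : ℕ), (∀ a ∈ m, Odd a) → Odd M →
        Multiset.filter Even ((M - 1) ::ₘ m.erase M) = {M - 1} := by
      intro m M hodd hMo
      have hev : Even (M - 1) := by
        obtain ⟨k, hk⟩ := hMo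
        exact ⟨k, by omega⟩
      rw [Multiset.filter_cons_of_pos _ hev]
      have : Multiset.filter Even (m.erase M) = 0 := by
        rw [Multiset.filter_eq_nil]
        intro a ha
        rw [Nat.not_even_iff_odd]
        exact hodd a (Multiset.mem_of_mem_erase ha)
      rw [this]
      rfl
    have h1 := hf m M hm.2.1 hMo
    have h2 := hf m' M' hm'.2.1 hMo'
    rw [h] at h1
    rw [h1] at h2
    have hMM : M - 1 = M' - 1 := by
      have := Multiset.singleton_inj.mp h2
      omega
    have hMM' : M = M' := by omega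
    subst hMM'
    have h3 : m.erase M = m'.erase M := by
      exact (Multiset.cons_inj_right _).mp h
    rw [← Multiset.cons_erase hM, ← Multiset.cons_erase hM', h3]
  have hsub : ψ '' Sp n ⊆ To n := by
    rintro _ ⟨m, hm, rfl⟩
    obtain ⟨M, hM, hM3, hMo, e⟩ := key m hm
    rw [e]
    have hs : (m.erase M).sum + M = m.sum := by
      rw [add_comm, ← Multiset.sum_cons, Multiset.cons_erase hM]
    have hc : Multiset.card (m.erase M) + 1 = Multiset.card m := by
      rw [← Multiset.card_cons M, Multiset.cons_erase hM]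
    refine ⟨⟨?_, ?_⟩, ?_⟩
    · rw [Multiset.sum_cons]
      have := hm.1.1
      omega
    · intro a ha
      rw [Multiset.mem_cons] at ha
      rcases ha with rfl | ha
      · omega
      · exact hm.1.2 a (Multiset.mem_of_mem_erase ha)
    · rw [Multiset.sum_cons, Multiset.card_cons]
      have hev := even_sum_add_card_of_odd m hm.2.1
      have : M - 1 + (m.erase M).sum + (Multiset.card (m.erase M) + 1) + 1 =
          m.sum + Multiset.card m := by omega
      rw [← Nat.even_add_one, this]
      exact hev
  have h2 : ({2} : Multiset ℕ) ∈ To n := by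
    refine ⟨⟨?_, ?_⟩, ?_⟩
    · simp; omega
    · simp
    · simp
      decide
  have h2n : ({2} : Multiset ℕ) ∉ ψ '' Sp n := by
    rintro ⟨m, hm, hψ⟩
    obtain ⟨M, hM, hM3, hMo, e⟩ := key m hm
    rw [e] at hψ
    have h3 : M - 1 = 2 ∧ m.erase M = 0 := by
      have : (M - 1) ::ₘ m.erase M = 2 ::ₘ 0 := hψ
      have hc := congrArg Multiset.card this
      simp at hc
      rw [hc] at this
      exact ⟨by simpa using this, hc⟩
    have hm3 : m = {3} := by
      rw [← Multiset.cons_erase hM, h3.2]
      have : M = 3 := by omega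
      rw [this]
      rfl
    have := hm.2.2.1
    rw [hm3] at this
    simp at this
    omega
  have hss : ψ '' Sp n ⊂ To n := by
    rw [Set.ssubset_iff_of_subset hsub]
    exact ⟨_, h2, h2n⟩
  rw [← hinj.ncard_image]
  exact Set.ncard_lt_ncard hss hTo

theorem card_conjClasses_alt_lt (n : ℕ) (hn : 5 ≤ n) :
    Nat.card (ConjClasses (alternatingGroup (Fin n))) < Nat.card (ConjClasses (Perm (Fin n))) := by
  rw [card_conjClasses_perm, T_ncard_eq]
  have h1 := card_conjClasses_alt_le n
  have h2 := Sp_ncard_lt n hn
  omega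

end Cfsg.Agent.Lib.helper17.ClsCount
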