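import Mathlib

/-!
# Fixed points of a group are a direct factor of the fixed points of a Sylow subgroup
-/

set_option autoImplicit false

namespace Cfsg.Agent.Lib.helper17.DF

open scoped BigOperators

variable {Γ U : Type*} [Group Γ] [Finite Γ] [CommGroup U] [MulDistribMulAction Γ U]

/-- the trace from a subgroup -/
noncomputable def tr (Γ₀ : Subgroup Γ) : U →* U where
  toFun u := ∏ᶠ q : Γ ⧸ Γ₀, (Quotient.out q : Γ) • u
  map_one' := by simp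
  map_mul' := fun a b => by
    simp_rw [smul_mul']
    exact finprod_mul_distrib (Set.toFinite _) (Set.toFinite _)

theorem tr_apply (Γ₀ : Subgroup Γ) (u : U) :
    tr Γ₀ u = ∏ᶠ q : Γ ⧸ Γ₀, (Quotient.out q : Γ) • u := rfl

omit [Finite Γ] in
theorem out_smul_eq (Γ₀ : Subgroup Γ) {u : U} (hu : ∀ g ∈ Γ₀, g • u = u) (g : Γ) :
    (Quotient.out (QuotientGroup.mk g : Γ ⧸ Γ₀) : Γ) • u = g • u := by
  have h1 : (QuotientGroup.mk (Quotient.out (QuotientGroup.mk g : Γ ⧸ Γ₀)) : Γ ⧸ Γ₀) =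
      QuotientGroup.mk g := Quotient.out_eq _
  rw [QuotientGroup.eq] at h1
  have h2 := hu _ h1
  rw [mul_smul] at h2
  have h3 := congrArg (fun w => (Quotient.out (QuotientGroup.mk g : Γ ⧸ Γ₀) : Γ) • w) h2
  simp only [smul_inv_smul] at h3
  exact h3.symm

theorem smul_tr (Γ₀ : Subgroup Γ) {u : U} (hu : ∀ g ∈ Γ₀, g • u = u) (γ : Γ) :
    γ • tr Γ₀ u = tr Γ₀ u := by
  rw [tr_apply]
  have h1 : γ • (∏ᶠ q : Γ ⧸ Γ₀, (Quotient.out q : Γ) • u) =
      ∏ᶠ q : Γ ⧸ Γ₀, γ • ((Quotient.out q : Γ) • u) :=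
    (MulDistribMulAction.toMonoidHom U γ).map_finprod (Set.toFinite _)
  rw [h1]
  have h2 : ∀ q : Γ ⧸ Γ₀, γ • ((Quotient.out q : Γ) • u) =
      (Quotient.out (γ • q) : Γ) • u := by
    intro q
    rw [← mul_smul]
    have : γ • q = (QuotientGroup.mk (γ * Quotient.out q) : Γ ⧸ Γ₀) := by
      conv_lhs => rw [← Quotient.out_eq q]
      rfl
    rw [this, out_smul_eq Γ₀ hu]
  simp_rw [h2]
  exact finprod_comp_equiv (MulAction.toPerm γ : Equiv.Perm (Γ ⧸ Γ₀))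
    (f := fun q => (Quotient.out q : Γ) • u)

theorem tr_of_fixed (Γ₀ : Subgroup Γ) {u : U} (hu : ∀ g : Γ, g • u = u) :
    tr Γ₀ u = u ^ Γ₀.index := by
  rw [tr_apply]
  simp_rw [hu]
  have : Fintype (Γ ⧸ Γ₀) := Fintype.ofFinite _
  rw [finprod_eq_prod_of_fintype, Finset.prod_const, Finset.card_univ, Subgroup.index_eq_card,
    Nat.card_eq_fintype_card]

omit [Finite Γ] in
/-- a `p`-element is an `m`-th power of a power of itself, for `m` prime to `p` -/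
theorem exists_zpow_pow_eq {p : ℕ} {m : ℕ} (hm : Nat.Coprime m p) {w : U} {k : ℕ}
    (hw : w ^ (p ^ k) = 1) : ∃ a : ℤ, (w ^ a) ^ m = w := by
  have hcop : IsCoprime (m : ℤ) ((p ^ k : ℕ) : ℤ) :=
    Nat.isCoprime_iff_coprime.mpr (Nat.Coprime.pow_right k hm)
  obtain ⟨a, b, hab⟩ := hcop
  refine ⟨a, ?_⟩
  have h1 : w ^ (a * (m : ℤ) + b * ((p ^ k : ℕ) : ℤ)) = w := by rw [hab, zpow_one]
  rw [zpow_add, zpow_mul, zpow_mul, zpow_natCast, zpow_natCast] at h1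
  have h2 : (w ^ b) ^ (p ^ k) = 1 := by
    rw [← zpow_natCast, ← zpow_mul, mul_comm, zpow_mul, zpow_natCast, hw, one_zpow]
  rw [h2, mul_one] at h1
  exact h1

/-- the fixed points of `Γ` are a direct factor of the fixed points of a subgroup of index
prime to `p`, in a `p`-group -/
theorem exists_complement (Γ₀ : Subgroup Γ) {p : ℕ} (hidx : Nat.Coprime Γ₀.index p)
    (hU : ∀ u : U, ∃ k : ℕ, u ^ (p ^ k) = 1) :
    ∃ K : Subgroup U, (∀ u ∈ K, ∀ g ∈ Γ₀, g • u = u) ∧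
      (∀ u ∈ K, (∀ g : Γ, g • u = u) → u = 1) ∧
      ∀ u : U, (∀ g ∈ Γ₀, g • u = u) →
        ∃ v w : U, (∀ g : Γ, g • v = v) ∧ w ∈ K ∧ u = v * w := by
  refine ⟨{ carrier := {u | (∀ g ∈ Γ₀, g • u = u) ∧ tr Γ₀ u = 1}
            one_mem' := ⟨fun g _ => smul_one g, map_one _⟩
            mul_mem' := fun {a b} ha hb => ⟨fun g hg => by rw [smul_mul', ha.1 g hg, hb.1 g hg],
              by rw [map_mul, ha.2, hb.2, one_mul]⟩
            inv_mem' := fun {a} ha => ⟨fun g hg => by rw [smul_inv', ha.1 g hg],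
              by rw [map_inv, ha.2, inv_one]⟩ }, ?_, ?_, ?_⟩
  · intro u hu
    exact hu.1
  · intro u hu hfix
    have h1 : u ^ Γ₀.index = 1 := by
      rw [← tr_of_fixed Γ₀ hfix]
      exact hu.2
    obtain ⟨k, hk⟩ := hU u
    obtain ⟨a, ha⟩ := exists_zpow_pow_eq hidx hk
    rw [← ha, ← zpow_natCast, ← zpow_mul, mul_comm, zpow_mul, zpow_natCast, h1, one_zpow]
  · intro u hu
    have hT : ∀ g : Γ, g • tr Γ₀ u = tr Γ₀ u := smul_tr Γ₀ hu
    obtain ⟨k, hk⟩ := hU (tr Γ₀ u)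
    obtain ⟨a, ha⟩ := exists_zpow_pow_eq hidx hk
    have hvfix : ∀ g : Γ, g • (tr Γ₀ u ^ a) = tr Γ₀ u ^ a := by
      intro g
      rw [smul_zpow', hT g]
    refine ⟨tr Γ₀ u ^ a, u * (tr Γ₀ u ^ a)⁻¹, hvfix, ⟨?_, ?_⟩, ?_⟩
    · intro g hg
      rw [smul_mul', smul_inv', hu g hg, hvfix g]
    · rw [map_mul, map_inv, tr_of_fixed Γ₀ hvfix, ha, mul_inv_cancel]
    · rw [mul_comm u, mul_inv_cancel_left]

end Cfsg.Agent.Lib.helper17.DF
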