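import Mathlib
import Cfsg.Agent.Lib.helper17.Dih
import Cfsg.Agent.Lib.helper17.SPE4
import Cfsg.Agent.Lib.helper17.WC

set_option autoImplicit false
set_option linter.unusedSectionVars false
set_option linter.unusedVariables false

open scoped commutatorElement

namespace Cfsg.Agent.Lib.helper17

section DihedralFacts

variable {r : ℕ} [hr : Fact r.Prime]

theorem zmod_two_ne_zero (hr2 : r ≠ 2) : (2 : ZMod r) ≠ 0 := by
  have : ((2 : ℕ) : ZMod r) ≠ 0 := by
    rw [Ne, ZMod.natCast_eq_zero_iff]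
    intro hd
    exact hr2 ((Nat.prime_dvd_prime_iff_eq hr.out Nat.prime_two).mp hd)
  simpa using this

/-- Involutions of `D_{2r}` (`r` odd) are reflections. -/
theorem dih_eq_sr_of_sq (hr2 : r ≠ 2) {d : DihedralGroup r} (h1 : d ≠ 1) (h2 : d * d = 1) :
    ∃ i, d = DihedralGroup.sr i := by
  rcases d with i | i
  · exfalso
    rw [DihedralGroup.r_mul_r, DihedralGroup.one_def] at h2
    have h3 : i + i = 0 := by injection h2
    have h4 : (2 : ZMod r) * i = 0 := by rw [two_mul]; exact h3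
    rcases mul_eq_zero.mp h4 with h5 | h5
    · exact zmod_two_ne_zero hr2 h5
    · apply h1
      rw [h5, DihedralGroup.one_def]
  · exact ⟨i, rfl⟩

/-- Reflections are conjugate in `D_{2r}`, `r` odd. -/
theorem dih_sr_conj (hr2 : r ≠ 2) (i j : ZMod r) :
    ∃ d : DihedralGroup r, d * DihedralGroup.sr i * d⁻¹ = DihedralGroup.sr j := by
  refine ⟨DihedralGroup.r ((i - j) * (2 : ZMod r)⁻¹), ?_⟩
  rw [DihedralGroup.inv_r, DihedralGroup.r_mul_sr, DihedralGroup.sr_mul_r]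
  congr 1
  have h2 := zmod_two_ne_zero hr2
  field_simp
  ring

end DihedralFacts

end Cfsg.Agent.Lib.helper17

namespace Cfsg.Agent.Lib.helper17

/-- The setting: `ψ` maps `G` onto `D_{2r}` with kernel the `2`-group `Q`, and `C_Q(R) = 1`. -/
structure DihSetting {G : Type*} [Group G] (r : ℕ) (Q : Subgroup G) (R : Subgroup G)
    (ψ : G →* DihedralGroup r) : Prop where
  surj : Function.Surjective ψ
  ker : ψ.ker = Q
  two : IsPGroup 2 ↥Q
  cent : Q ⊓ Subgroup.centralizer (R : Set G) = ⊥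

namespace DihSetting

variable {G : Type*} [Group G] [Finite G] {r : ℕ} [hr : Fact r.Prime] {Q : Subgroup G}
  {R : Sylow r G} {ψ : G →* DihedralGroup r}

theorem normal (h : DihSetting r Q (R : Subgroup G) ψ) : Q.Normal := by
  rw [← h.ker]; infer_instance

theorem mem_Q_iff (h : DihSetting r Q (R : Subgroup G) ψ) (g : G) : g ∈ Q ↔ ψ g = 1 := by
  rw [← h.ker, MonoidHom.mem_ker]

theorem inf_eq_bot (h : DihSetting r Q (R : Subgroup G) ψ) (hr2 : r ≠ 2) :
    (R : Subgroup G) ⊓ Q = ⊥ := by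
  rw [eq_bot_iff]
  intro x hx
  rw [Subgroup.mem_bot]
  obtain ⟨k, hk⟩ := (IsPGroup.iff_orderOf.mp R.isPGroup') ⟨x, hx.1⟩
  obtain ⟨m, hm⟩ := (IsPGroup.iff_orderOf.mp h.two) ⟨x, hx.2⟩
  rw [Subgroup.orderOf_mk] at hk hm
  have h1 : (r ^ k).Coprime (2 ^ m) := by
    apply Nat.Coprime.pow
    rw [Nat.coprime_primes hr.out Nat.prime_two]
    exact hr2
  rw [← hk, ← hm] at h1
  rw [Nat.coprime_self] at h1
  exact orderOf_eq_one_iff.mp h1

theorem map_mem_rot (h : DihSetting r Q (R : Subgroup G) ψ) (hr2 : r ≠ 2) {s : G}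
    (hs : s ∈ (R : Subgroup G)) : ∃ i, ψ s = DihedralGroup.r i := by
  rcases hψ : ψ s with i | i
  · exact ⟨i, rfl⟩
  · exfalso
    obtain ⟨k, hk⟩ := (IsPGroup.iff_orderOf.mp R.isPGroup') ⟨s, hs⟩
    rw [Subgroup.orderOf_mk] at hk
    have h1 : orderOf (ψ s) ∣ orderOf s := orderOf_map_dvd ψ s
    rw [hψ, DihedralGroup.orderOf_sr, hk] at h1
    have h2 := Nat.Prime.dvd_of_dvd_pow Nat.prime_two h1
    exact hr2 ((Nat.prime_dvd_prime_iff_eq Nat.prime_two hr.out).mp h2).symm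

theorem R_ne_bot (h : DihSetting r Q (R : Subgroup G) ψ) : (R : Subgroup G) ≠ ⊥ := by
  apply R.ne_bot_of_dvd_card
  obtain ⟨g, hg⟩ := h.surj (DihedralGroup.r 1)
  have h1 : orderOf (ψ g) ∣ orderOf g := orderOf_map_dvd ψ g
  rw [hg, DihedralGroup.orderOf_r_one] at h1
  exact h1.trans (orderOf_dvd_natCard g)

/-- Every rotation is the image of an element of `R`. -/
theorem exists_mem_map_eq_r (h : DihSetting r Q (R : Subgroup G) ψ) (hr2 : r ≠ 2) (i : ZMod r) :
    ∃ s ∈ (R : Subgroup G), ψ s = DihedralGroup.r i := by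
  obtain ⟨s₀, hs₀1⟩ := (Subgroup.ne_bot_iff_exists_ne_one.mp h.R_ne_bot)
  have hs₀R : (s₀ : G) ∈ (R : Subgroup G) := s₀.2
  obtain ⟨i₀, hi₀⟩ := h.map_mem_rot hr2 hs₀R
  have hi₀0 : i₀ ≠ 0 := by
    rintro rfl
    rw [← DihedralGroup.one_def, ← h.mem_Q_iff] at hi₀
    have : (s₀ : G) ∈ (R : Subgroup G) ⊓ Q := ⟨hs₀R, hi₀⟩
    rw [h.inf_eq_bot hr2, Subgroup.mem_bot] at this
    exact hs₀1 (Subtype.ext this)
  refine ⟨(s₀ : G) ^ (i * i₀⁻¹).val, Subgroup.pow_mem _ hs₀R _, ?_⟩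
  rw [map_pow, hi₀, DihedralGroup.r_pow, ZMod.natCast_zmod_val]
  congr 1
  field_simp

/-- `ψ` is injective on `N_G(R)`. -/
theorem normalizer_inf_eq_bot (h : DihSetting r Q (R : Subgroup G) ψ) (hr2 : r ≠ 2) :
    Subgroup.normalizer ((R : Subgroup G) : Set G) ⊓ Q = ⊥ := by
  have hQn := h.normal
  rw [eq_bot_iff]
  intro x hx
  have hxc : x ∈ Subgroup.centralizer ((R : Subgroup G) : Set G) := by
    rw [Subgroup.mem_centralizer_iff]
    intro s hs
    have h1 : x * s * x⁻¹ * s⁻¹ ∈ (R : Subgroup G) ⊓ Q := by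
      constructor
      · exact Subgroup.mul_mem _ ((Subgroup.mem_normalizer_iff.mp hx.1 s).mp hs)
          (Subgroup.inv_mem _ hs)
      · have : x * (s * x⁻¹ * s⁻¹) ∈ Q :=
          Subgroup.mul_mem _ hx.2 (hQn.conj_mem _ (Subgroup.inv_mem _ hx.2) s)
        simpa [mul_assoc] using this
    rw [h.inf_eq_bot hr2, Subgroup.mem_bot] at h1
    have h2 := congrArg (· * s * x) h1
    simpa [mul_assoc] using h2.symm
  have : x ∈ Q ⊓ Subgroup.centralizer ((R : Subgroup G) : Set G) := ⟨hx.2, hxc⟩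
  rw [h.cent] at this
  exact this

theorem eq_of_map_eq (h : DihSetting r Q (R : Subgroup G) ψ) (hr2 : r ≠ 2) {x y : G}
    (hx : x ∈ Subgroup.normalizer ((R : Subgroup G) : Set G))
    (hy : y ∈ Subgroup.normalizer ((R : Subgroup G) : Set G)) (hxy : ψ x = ψ y) : x = y := by
  have h1 : x⁻¹ * y ∈ Subgroup.normalizer ((R : Subgroup G) : Set G) ⊓ Q := by
    refine ⟨Subgroup.mul_mem _ (Subgroup.inv_mem _ hx) hy, ?_⟩
    change x⁻¹ * y ∈ Q
    rw [h.mem_Q_iff, map_mul, map_inv, hxy, inv_mul_cancel]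
  rw [h.normalizer_inf_eq_bot hr2, Subgroup.mem_bot] at h1
  exact (inv_mul_eq_one.mp h1)

/-- `R` is cyclic of order `r`, generated by a preimage of the basic rotation. -/
theorem exists_gen (h : DihSetting r Q (R : Subgroup G) ψ) (hr2 : r ≠ 2) :
    ∃ ρ ∈ (R : Subgroup G), ψ ρ = DihedralGroup.r 1 ∧ orderOf ρ = r ∧
      (R : Subgroup G) = Subgroup.zpowers ρ := by
  obtain ⟨ρ, hρR, hρ⟩ := h.exists_mem_map_eq_r hr2 1
  have hRN : (R : Subgroup G) ≤ Subgroup.normalizer ((R : Subgroup G) : Set G) :=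
    Subgroup.le_normalizer
  refine ⟨ρ, hρR, hρ, ?_, ?_⟩
  · apply orderOf_eq_prime
    · have h1 : ρ ^ r ∈ (R : Subgroup G) ⊓ Q := by
        refine ⟨Subgroup.pow_mem _ hρR _, ?_⟩
        change ρ ^ r ∈ Q
        rw [h.mem_Q_iff, map_pow, hρ, DihedralGroup.r_one_pow, ZMod.natCast_self]
        rfl
      rw [h.inf_eq_bot hr2, Subgroup.mem_bot] at h1
      exact h1
    · intro h1
      rw [h1, map_one, DihedralGroup.one_def] at hρ
      have h2 : (0 : ZMod r) = 1 := by injection hρ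
      exact zero_ne_one h2
  · apply le_antisymm
    · intro s hs
      obtain ⟨i, hi⟩ := h.map_mem_rot hr2 hs
      have h1 : ψ (ρ ^ i.val) = ψ s := by
        rw [map_pow, hρ, DihedralGroup.r_one_pow, ZMod.natCast_zmod_val, hi]
      have h2 := h.eq_of_map_eq hr2 (hRN (Subgroup.pow_mem _ hρR _)) (hRN hs) h1
      rw [← h2]
      exact Subgroup.pow_mem _ (Subgroup.mem_zpowers ρ) _
    · rw [Subgroup.zpowers_le]
      exact hρR

theorem card_R (h : DihSetting r Q (R : Subgroup G) ψ) (hr2 : r ≠ 2) :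
    Nat.card ↥(R : Subgroup G) = r := by
  obtain ⟨ρ, -, -, ho, hR⟩ := h.exists_gen hr2
  rw [hR, Nat.card_zpowers, ho]

/-- The preimage of the rotation subgroup. -/
def rotPre (ψ : G →* DihedralGroup r) : Subgroup G :=
  { carrier := {k | ∃ i, ψ k = DihedralGroup.r i}
    one_mem' := ⟨0, by rw [map_one]; rfl⟩
    mul_mem' := by
      rintro a b ⟨i, hi⟩ ⟨j, hj⟩
      exact ⟨i + j, by rw [map_mul, hi, hj, DihedralGroup.r_mul_r]⟩
    inv_mem' := by
      rintro a ⟨i, hi⟩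
      exact ⟨-i, by rw [map_inv, hi]; rfl⟩ }

theorem mem_rotPre {g : G} : g ∈ rotPre ψ ↔ ∃ i, ψ g = DihedralGroup.r i := Iff.rfl

theorem rotPre_normal : (rotPre ψ).Normal := by
  constructor
  intro n hn g
  obtain ⟨i, hi⟩ := mem_rotPre.mp hn
  rw [mem_rotPre, map_mul, map_mul, map_inv, hi]
  rcases hg : ψ g with j | j
  · exact ⟨i, by simp [DihedralGroup.r_mul_r]⟩
  · exact ⟨-i, by simp [DihedralGroup.sr_mul_r, DihedralGroup.sr_mul_sr]⟩

/-- Frattini: every element of `D_{2r}` is the image of an element of `N_G(R)`. -/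
theorem exists_mem_normalizer_map_eq (h : DihSetting r Q (R : Subgroup G) ψ) (hr2 : r ≠ 2)
    (d : DihedralGroup r) :
    ∃ n ∈ Subgroup.normalizer ((R : Subgroup G) : Set G), ψ n = d := by
  have hNn : (rotPre ψ).Normal := rotPre_normal
  have hRN : (R : Subgroup G) ≤ rotPre ψ := fun s hs => mem_rotPre.mpr (h.map_mem_rot hr2 hs)
  have hF := Sylow.normalizer_sup_eq_top (R.subtype hRN)
  have hmap : ((R.subtype hRN : Sylow r ↥(rotPre ψ)) : Subgroup ↥(rotPre ψ)).map
      (rotPre ψ).subtype = (R : Subgroup G) := by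
    rw [Sylow.coe_subtype, Subgroup.map_subgroupOf_eq_of_le hRN]
  rw [hmap] at hF
  obtain ⟨g, hg⟩ := h.surj d
  have hgmem : g ∈ Subgroup.normalizer ((R : Subgroup G) : Set G) ⊔ rotPre ψ := by
    rw [hF]; trivial
  have hAN : Subgroup.normalizer ((R : Subgroup G) : Set G) ≤
      Subgroup.normalizer ((rotPre ψ : Subgroup G) : Set G) := by
    rw [Subgroup.normalizer_eq_top_iff.mpr hNn]; exact le_top
  obtain ⟨n, hn, m, hm, rfl⟩ := exists_mul_of_mem_sup_left hAN hgmem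
  obtain ⟨i, hi⟩ := mem_rotPre.mp hm
  obtain ⟨s, hs, hsi⟩ := h.exists_mem_map_eq_r hr2 i
  refine ⟨n * s, Subgroup.mul_mem _ hn (Subgroup.le_normalizer hs), ?_⟩
  rw [← hg, map_mul, map_mul, hsi, hi]

omit [Finite G] hr in
theorem mem_normalizer_zpowers_of_inv {x y : G} (hxy : x * y * x⁻¹ = y⁻¹) :
    cj x (Subgroup.zpowers y) = Subgroup.zpowers y := by
  change (Subgroup.zpowers y).map (MulAut.conj x).toMonoidHom = _
  rw [MonoidHom.map_zpowers]
  have : (MulAut.conj x).toMonoidHom y = y⁻¹ := by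
    simpa using hxy
  rw [this, Subgroup.zpowers_inv]

/-- Key lemma: two involutions whose product maps to the basic rotation can be simultaneously
conjugated into `N_G(R)` by an element of `Q`. -/
theorem exists_conj_mem_normalizer (h : DihSetting r Q (R : Subgroup G) ψ) (hr2 : r ≠ 2)
    {b a' : G} (hb : b * b = 1) (ha' : a' * a' = 1) (hrot : ψ (b * a') = DihedralGroup.r 1) :
    ∃ u ∈ Q, u⁻¹ * b * u ∈ Subgroup.normalizer ((R : Subgroup G) : Set G) ∧
      u⁻¹ * a' * u ∈ Subgroup.normalizer ((R : Subgroup G) : Set G) := by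
  have hQn := h.normal
  obtain ⟨k, hk⟩ := IsPGroup.iff_card.mp h.two
  set c := b * a' with hc
  set c' := c ^ (2 ^ k) with hc'
  have hψc' : ψ c' = DihedralGroup.r (((2 ^ k : ℕ) : ZMod r)) := by
    rw [hc', map_pow, hrot, DihedralGroup.r_one_pow]
  have hcr : c ^ r ∈ Q := by
    rw [h.mem_Q_iff, map_pow, hrot, DihedralGroup.r_one_pow, ZMod.natCast_self]
    rfl
  have hc'r : c' ^ r = 1 := by
    rw [hc', ← pow_mul, mul_comm, pow_mul]
    have h1 : (⟨c ^ r, hcr⟩ : ↥Q) ^ Nat.card ↥Q = 1 := pow_card_eq_one'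
    rw [hk] at h1
    have h2 := congrArg Subtype.val h1
    simpa using h2
  have hc'1 : c' ≠ 1 := by
    intro h1
    rw [h1, map_one, DihedralGroup.one_def] at hψc'
    have h2 : (0 : ZMod r) = ((2 ^ k : ℕ) : ZMod r) := by injection hψc'
    have h3 : ((2 ^ k : ℕ) : ZMod r) ≠ 0 := by
      push_cast
      exact pow_ne_zero _ (zmod_two_ne_zero hr2)
    exact h3 h2.symm
  have hoc' : orderOf c' = r := orderOf_eq_prime hc'r hc'1
  have hcardz : Nat.card ↥(Subgroup.zpowers c') = r := by rw [Nat.card_zpowers, hoc']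
  have hzp : IsPGroup r ↥(Subgroup.zpowers c') := by
    apply IsPGroup.of_card (n := 1)
    rw [hcardz, pow_one]
  have hc'mem : c' ∈ Q ⊔ (R : Subgroup G) := by
    obtain ⟨s, hs, hsi⟩ := h.exists_mem_map_eq_r hr2 (((2 ^ k : ℕ) : ZMod r))
    have h1 : c' * s⁻¹ ∈ Q := by
      rw [h.mem_Q_iff, map_mul, map_inv, hsi, hψc', mul_inv_cancel]
    have h2 : c' = (c' * s⁻¹) * s := by group
    rw [h2]
    exact Subgroup.mul_mem_sup h1 hs
  have hzle : Subgroup.zpowers c' ≤ Q ⊔ (R : Subgroup G) := by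
    rw [Subgroup.zpowers_le]; exact hc'mem
  have hrel : ¬ r ∣ (R : Subgroup G).relIndex (Q ⊔ (R : Subgroup G)) := by
    intro hd
    apply R.not_dvd_index
    have h1 := Subgroup.relIndex_mul_index (le_sup_right : (R : Subgroup G) ≤ Q ⊔ (R : Subgroup G))
    rw [← h1]
    exact Dvd.dvd.mul_right hd _
  obtain ⟨n, hn, hzn⟩ := exists_le_cj_of_not_dvd_relIndex hzp hzle hrel
  have hRle : (R : Subgroup G) ≤ Subgroup.normalizer ((Q : Subgroup G) : Set G) := by
    rw [Subgroup.normalizer_eq_top_iff.mpr hQn]; exact le_top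
  obtain ⟨u, hu, s, hs, rfl⟩ := exists_mul_of_mem_sup_right hRle hn
  rw [cj_mul, cj_eq_self_of_mem hs] at hzn
  have hzeq : Subgroup.zpowers c' = cj u (R : Subgroup G) := by
    apply Subgroup.eq_of_le_of_card_ge hzn
    rw [card_cj, h.card_R hr2, hcardz]
  have hbc : b * c * b⁻¹ = c⁻¹ := by
    have hbi : b⁻¹ = b := inv_eq_of_mul_eq_one_right hb
    have hai : a'⁻¹ = a' := inv_eq_of_mul_eq_one_right ha'
    rw [hc, mul_inv_rev, hbi, hai, ← mul_assoc, hb, one_mul]
  have hac : a' * c * a'⁻¹ = c⁻¹ := by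
    have hbi : b⁻¹ = b := inv_eq_of_mul_eq_one_right hb
    have hai : a'⁻¹ = a' := inv_eq_of_mul_eq_one_right ha'
    rw [hc, mul_inv_rev, hbi, hai, mul_assoc, mul_assoc, ha', mul_one]
  have hbc' : b * c' * b⁻¹ = c'⁻¹ := by
    rw [hc', ← conj_pow, hbc, inv_pow]
  have hac' : a' * c' * a'⁻¹ = c'⁻¹ := by
    rw [hc', ← conj_pow, hac, inv_pow]
  have key : ∀ x : G, x * c' * x⁻¹ = c'⁻¹ →
      u⁻¹ * x * u ∈ Subgroup.normalizer ((R : Subgroup G) : Set G) := by
    intro x hx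
    have h1 := mem_normalizer_zpowers_of_inv hx
    rw [hzeq] at h1
    rw [← cj_eq_self_iff, cj_mul, cj_mul, h1, cj_inv_cj]
  exact ⟨u, hu, key b hbc', key a' hac'⟩

theorem normalizer_equiv (h : DihSetting r Q (R : Subgroup G) ψ) (hr2 : r ≠ 2) :
    Nonempty (↥(Subgroup.normalizer ((R : Subgroup G) : Set G)) ≃* DihedralGroup r) := by
  refine ⟨MulEquiv.ofBijective
    (ψ.comp (Subgroup.normalizer ((R : Subgroup G) : Set G)).subtype) ⟨?_, ?_⟩⟩
  · intro x y hxy
    exact Subtype.ext (h.eq_of_map_eq hr2 x.2 y.2 hxy)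
  · intro d
    obtain ⟨n, hn, hnd⟩ := h.exists_mem_normalizer_map_eq hr2 d
    exact ⟨⟨n, hn⟩, hnd⟩

omit [Finite G] hr in
theorem mul_self_of_orderOf {a : G} (hao : orderOf a = 2) : a * a = 1 := by
  have := pow_orderOf_eq_one a
  rw [hao, pow_two] at this
  exact this

omit [Finite G] hr in
theorem ne_one_of_orderOf {a : G} (hao : orderOf a = 2) : a ≠ 1 := by
  intro h1
  rw [h1, orderOf_one] at hao
  omega

/-- An involution outside `Q` maps to a reflection. -/
theorem map_invol (h : DihSetting r Q (R : Subgroup G) ψ) (hr2 : r ≠ 2) {b : G}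
    (hbb : b * b = 1) (hbQ : b ∉ Q) : ∃ j, ψ b = DihedralGroup.sr j := by
  apply dih_eq_sr_of_sq hr2
  · intro h1
    exact hbQ ((h.mem_Q_iff b).mpr h1)
  · rw [← map_mul, hbb, map_one]

theorem not_mem_Q_of_mem_normalizer (h : DihSetting r Q (R : Subgroup G) ψ) (hr2 : r ≠ 2) {a : G}
    (ha : a ∈ Subgroup.normalizer ((R : Subgroup G) : Set G)) (ha1 : a ≠ 1) : a ∉ Q := by
  intro haQ
  have : a ∈ Subgroup.normalizer ((R : Subgroup G) : Set G) ⊓ Q := ⟨ha, haQ⟩
  rw [h.normalizer_inf_eq_bot hr2, Subgroup.mem_bot] at this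
  exact ha1 this

/-- Reflections lift to involutions of `N_G(R)`. -/
theorem exists_invol_map_eq (h : DihSetting r Q (R : Subgroup G) ψ) (hr2 : r ≠ 2) (j : ZMod r) :
    ∃ a' ∈ Subgroup.normalizer ((R : Subgroup G) : Set G), ψ a' = DihedralGroup.sr j ∧
      a' * a' = 1 := by
  obtain ⟨a', ha', hψ⟩ := h.exists_mem_normalizer_map_eq hr2 (DihedralGroup.sr j)
  refine ⟨a', ha', hψ, ?_⟩
  apply h.eq_of_map_eq hr2 (Subgroup.mul_mem _ ha' ha') (Subgroup.one_mem _)
  rw [map_mul, hψ, DihedralGroup.sr_mul_self, map_one]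

/-- All involutions outside `Q` are conjugate to any involution of `N_G(R)`. -/
theorem conj_invol (h : DihSetting r Q (R : Subgroup G) ψ) (hr2 : r ≠ 2) {a b : G}
    (ha : a ∈ Subgroup.normalizer ((R : Subgroup G) : Set G)) (hao : orderOf a = 2)
    (hbo : orderOf b = 2) (hbQ : b ∉ Q) : ∃ g : G, g * a * g⁻¹ = b := by
  have haa := mul_self_of_orderOf hao
  have hbb := mul_self_of_orderOf hbo
  obtain ⟨i, hi⟩ := h.map_invol hr2 haa (h.not_mem_Q_of_mem_normalizer hr2 ha (ne_one_of_orderOf hao))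
  obtain ⟨j, hj⟩ := h.map_invol hr2 hbb hbQ
  obtain ⟨a', ha', hψa', ha'a'⟩ := h.exists_invol_map_eq hr2 (j + 1)
  have hrot : ψ (b * a') = DihedralGroup.r 1 := by
    rw [map_mul, hj, hψa', DihedralGroup.sr_mul_sr]
    congr 1
    ring
  obtain ⟨u, hu, hub, -⟩ := h.exists_conj_mem_normalizer hr2 hbb ha'a' hrot
  obtain ⟨d, hd⟩ := dih_sr_conj hr2 i j
  obtain ⟨n, hn, hnd⟩ := h.exists_mem_normalizer_map_eq hr2 d
  have hψu : ψ u = 1 := (h.mem_Q_iff u).mp hu
  have h1 : n * a * n⁻¹ = u⁻¹ * b * u := by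
    apply h.eq_of_map_eq hr2 _ hub
    · rw [map_mul, map_mul, map_inv, hnd, hi, hd, map_mul, map_mul, map_inv, hψu, hj]
      simp
    · exact Subgroup.mul_mem _ (Subgroup.mul_mem _ hn ha) (Subgroup.inv_mem _ hn)
  refine ⟨u * n, ?_⟩
  have h2 : u * n * a * (u * n)⁻¹ = u * (n * a * n⁻¹) * u⁻¹ := by group
  rw [h2, h1]
  group

/-- `|C_Q(a)|² = |Q|` for an involution `a` of `N_G(R)`. -/
theorem card_centralizer_sq (h : DihSetting r Q (R : Subgroup G) ψ) (hr2 : r ≠ 2) {a : G}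
    (ha : a ∈ Subgroup.normalizer ((R : Subgroup G) : Set G)) (hao : orderOf a = 2) :
    Nat.card ↥(Q ⊓ Subgroup.centralizer ({a} : Set G)) ^ 2 = Nat.card ↥Q := by
  have hQn := h.normal
  have haa := mul_self_of_orderOf hao
  obtain ⟨i, hi⟩ := h.map_invol hr2 haa (h.not_mem_Q_of_mem_normalizer hr2 ha (ne_one_of_orderOf hao))
  obtain ⟨a', ha', hψa', ha'a'⟩ := h.exists_invol_map_eq hr2 (i + 1)
  -- `a'` is conjugate to `a`
  obtain ⟨d, hd⟩ := dih_sr_conj hr2 i (i + 1)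
  obtain ⟨n, hn, hnd⟩ := h.exists_mem_normalizer_map_eq hr2 d
  have hna : n * a * n⁻¹ = a' := by
    apply h.eq_of_map_eq hr2 _ ha'
    · rw [map_mul, map_mul, map_inv, hnd, hi, hd, hψa']
    · exact Subgroup.mul_mem _ (Subgroup.mul_mem _ hn ha) (Subgroup.inv_mem _ hn)
  have hcj : Q ⊓ Subgroup.centralizer ({a'} : Set G) =
      cj n (Q ⊓ Subgroup.centralizer ({a} : Set G)) := by
    ext x
    rw [mem_cj, Subgroup.mem_inf, Subgroup.mem_inf, Subgroup.mem_centralizer_singleton_iff,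
      Subgroup.mem_centralizer_singleton_iff, ← hna]
    constructor
    · rintro ⟨h1, h2⟩
      refine ⟨?_, ?_⟩
      · have := hQn.conj_mem x h1 n⁻¹
        simpa [mul_assoc] using this
      · have h3 := congrArg (fun z => n⁻¹ * z * n) h2
        simpa [mul_assoc] using h3
    · rintro ⟨h1, h2⟩
      refine ⟨?_, ?_⟩
      · have := hQn.conj_mem _ h1 n
        simpa [mul_assoc] using this
      · have h3 := congrArg (fun z => n * z * n⁻¹) h2
        simpa [mul_assoc] using h3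
  have hcard : Nat.card ↥(Q ⊓ Subgroup.centralizer ({a'} : Set G)) =
      Nat.card ↥(Q ⊓ Subgroup.centralizer ({a} : Set G)) := by
    rw [hcj, card_cj]
  -- the product `a * a'` generates `R`
  obtain ⟨ρ, hρR, hψρ, -, hRz⟩ := h.exists_gen hr2
  have hρ : a * a' = ρ := by
    apply h.eq_of_map_eq hr2 (Subgroup.mul_mem _ ha ha') (Subgroup.le_normalizer hρR)
    rw [map_mul, hi, hψa', DihedralGroup.sr_mul_sr, hψρ]
    congr 1
    ring
  have hdisj : Disjoint (Q ⊓ Subgroup.centralizer ({a'} : Set G))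
      (Q ⊓ Subgroup.centralizer ({a} : Set G)) := by
    rw [disjoint_iff, eq_bot_iff]
    intro x hx
    have hxa' := Subgroup.mem_centralizer_singleton_iff.mp hx.1.2
    have hxa := Subgroup.mem_centralizer_singleton_iff.mp hx.2.2
    have hxρ : Commute x ρ := by
      rw [← hρ]
      exact Commute.mul_right hxa hxa'
    have hxc : x ∈ Q ⊓ Subgroup.centralizer ((R : Subgroup G) : Set G) := by
      refine Subgroup.mem_inf.mpr ⟨hx.1.1, ?_⟩
      rw [Subgroup.mem_centralizer_iff]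
      intro s hs
      have hs' : s ∈ Subgroup.zpowers ρ := by rw [← hRz]; exact hs
      obtain ⟨m, rfl⟩ := Subgroup.mem_zpowers_iff.mp hs'
      exact ((hxρ.zpow_right m).eq).symm
    rw [h.cent] at hxc
    exact hxc
  have hinj := Subgroup.mul_injective_of_disjoint hdisj
  -- surjectivity
  have hsurj : ∀ q ∈ Q, ∃ g : ↥(Q ⊓ Subgroup.centralizer ({a'} : Set G)) ×
      ↥(Q ⊓ Subgroup.centralizer ({a} : Set G)), (g.1 : G) * (g.2 : G) = q := by
    intro q hq
    have hψq : ψ q = 1 := (h.mem_Q_iff q).mp hq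
    have hbb : (q * a * q⁻¹) * (q * a * q⁻¹) = 1 := by
      have : (q * a * q⁻¹) * (q * a * q⁻¹) = q * (a * a) * q⁻¹ := by group
      rw [this, haa]; group
    have hrot : ψ ((q * a * q⁻¹) * a') = DihedralGroup.r 1 := by
      rw [map_mul, map_mul, map_mul, map_inv, hψq, hi, hψa']
      simp only [one_mul, inv_one, mul_one, DihedralGroup.sr_mul_sr]
      congr 1
      ring
    obtain ⟨u, hu, hub, hua⟩ := h.exists_conj_mem_normalizer hr2 hbb ha'a' hrot
    have hψu : ψ u = 1 := (h.mem_Q_iff u).mp hu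
    have h1 : u⁻¹ * a' * u = a' := by
      apply h.eq_of_map_eq hr2 hua ha'
      rw [map_mul, map_mul, map_inv, hψu]
      simp
    have h2 : u⁻¹ * (q * a * q⁻¹) * u = a := by
      apply h.eq_of_map_eq hr2 hub ha
      rw [map_mul, map_mul, map_inv, hψu, map_mul, map_mul, map_inv, hψq]
      simp
    refine ⟨⟨⟨u, Subgroup.mem_inf.mpr ⟨hu, ?_⟩⟩,
      ⟨u⁻¹ * q, Subgroup.mem_inf.mpr ⟨Subgroup.mul_mem _ (Subgroup.inv_mem _ hu) hq, ?_⟩⟩⟩, ?_⟩
    · rw [Subgroup.mem_centralizer_singleton_iff]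
      have h3 := congrArg (fun z => u * z) h1
      simpa [mul_assoc] using h3.symm
    · rw [Subgroup.mem_centralizer_singleton_iff]
      have h3 := congrArg (fun z => z * (u⁻¹ * q)) h2
      simpa [mul_assoc] using h3
    · simp
  have hcardeq : Nat.card (↥(Q ⊓ Subgroup.centralizer ({a'} : Set G)) ×
      ↥(Q ⊓ Subgroup.centralizer ({a} : Set G))) = Nat.card ↥Q := by
    let f : ↥(Q ⊓ Subgroup.centralizer ({a'} : Set G)) ×
      ↥(Q ⊓ Subgroup.centralizer ({a} : Set G)) → ↥Q :=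
      fun g => ⟨(g.1 : G) * (g.2 : G), Subgroup.mul_mem _ g.1.2.1 g.2.2.1⟩
    have hf : Function.Bijective f := by
      constructor
      · intro x y hxy
        apply hinj
        exact congrArg Subtype.val hxy
      · intro q
        obtain ⟨g, hg⟩ := hsurj q.1 q.2
        exact ⟨g, Subtype.ext hg⟩
    exact Nat.card_congr (Equiv.ofBijective f hf)
  rw [Nat.card_prod, hcard] at hcardeq
  rw [pow_two, hcardeq]

end DihSetting

end Cfsg.Agent.Lib.helper17
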