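import Mathlib

/-!
# Extraspecial-like subgroups: commutator calculus (helper17)

Group-theoretic part of the order bound for faithful modules of extraspecial groups (S2912).
-/

set_option autoImplicit false

namespace Cfsg.Agent.Lib.helper17.ExtraGroup

variable {Γ : Type*} [Group Γ] {p : ℕ}

/-- `E` is "extraspecial-like" with central element `z`. -/
structure XCond (p : ℕ) (E : Subgroup Γ) (z : Γ) : Prop where
  zmem : z ∈ E
  zcent : ∀ g ∈ E, g * z = z * g
  zpow : z ^ p = 1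
  cent : ∀ g ∈ E, (∀ h ∈ E, g * h = h * g) → g ∈ Subgroup.zpowers z
  comm : ∀ g ∈ E, ∀ h ∈ E, g * h * g⁻¹ * h⁻¹ ∈ Subgroup.zpowers z

namespace XCond

variable {E : Subgroup Γ} {z : Γ}

theorem zp_comm (hc : XCond p E z) {c : Γ} (hcz : c ∈ Subgroup.zpowers z) {g : Γ} (hg : g ∈ E) :
    Commute g c := by
  obtain ⟨k, rfl⟩ := Subgroup.mem_zpowers_iff.mp hcz
  exact (show Commute g z from hc.zcent g hg).zpow_right k

theorem zp_pow (hc : XCond p E z) {c : Γ} (hcz : c ∈ Subgroup.zpowers z) : c ^ p = 1 := by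
  obtain ⟨k, rfl⟩ := Subgroup.mem_zpowers_iff.mp hcz
  rw [← zpow_natCast, ← zpow_mul, mul_comm, zpow_mul, zpow_natCast, hc.zpow, one_zpow]

theorem zp_mem (hc : XCond p E z) {c : Γ} (hcz : c ∈ Subgroup.zpowers z) : c ∈ E :=
  (Subgroup.zpowers_le.mpr hc.zmem) hcz

theorem finite_zp [hp : Fact p.Prime] (hc : XCond p E z) : Finite ↥(Subgroup.zpowers z) := by
  have h1 : IsOfFinOrder z := isOfFinOrder_iff_pow_eq_one.mpr ⟨p, hp.out.pos, hc.zpow⟩
  exact (finite_zpowers.mpr h1).to_subtype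

/-- the commutator homomorphism `g ↦ g v g⁻¹ v⁻¹`. -/
def kap (hc : XCond p E z) (v : Γ) (hv : v ∈ E) : ↥E →* Γ :=
  MonoidHom.mk' (fun g => g.1 * v * g.1⁻¹ * v⁻¹) (by
    intro g h
    have h1 := hc.comm h.1 h.2 v hv
    have h2 : Commute g.1 (h.1 * v * h.1⁻¹ * v⁻¹) := hc.zp_comm h1 g.2
    have h3 : Commute v (h.1 * v * h.1⁻¹ * v⁻¹) := hc.zp_comm h1 hv
    show g.1 * h.1 * v * (g.1 * h.1)⁻¹ * v⁻¹ = g.1 * v * g.1⁻¹ * v⁻¹ * (h.1 * v * h.1⁻¹ * v⁻¹)
    have e1 : g.1 * h.1 * v * (g.1 * h.1)⁻¹ * v⁻¹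
        = g.1 * (h.1 * v * h.1⁻¹ * v⁻¹) * v * g.1⁻¹ * v⁻¹ := by group
    rw [e1, h2.eq]
    have e2 : (h.1 * v * h.1⁻¹ * v⁻¹) * g.1 * v * g.1⁻¹ * v⁻¹
        = (h.1 * v * h.1⁻¹ * v⁻¹) * (g.1 * v * g.1⁻¹ * v⁻¹) := by group
    rw [e2]
    have h4 : Commute (g.1 * v * g.1⁻¹ * v⁻¹) (h.1 * v * h.1⁻¹ * v⁻¹) :=
      hc.zp_comm h1 (hc.zp_mem (hc.comm g.1 g.2 v hv))
    exact h4.eq.symm)

theorem kap_apply (hc : XCond p E z) (v : Γ) (hv : v ∈ E) (g : ↥E) :
    hc.kap v hv g = g.1 * v * g.1⁻¹ * v⁻¹ := rfl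

theorem kap_mem (hc : XCond p E z) (v : Γ) (hv : v ∈ E) (g : ↥E) :
    hc.kap v hv g ∈ Subgroup.zpowers z := hc.comm g.1 g.2 v hv

theorem kap_eq_one_iff (hc : XCond p E z) (v : Γ) (hv : v ∈ E) (g : ↥E) :
    hc.kap v hv g = 1 ↔ g.1 * v = v * g.1 := by
  rw [kap_apply]
  constructor
  · intro h
    have : g.1 * v * g.1⁻¹ * v⁻¹ * (v * g.1) = v * g.1 := by rw [h, one_mul]
    rw [← this]; group
  · intro h
    have : g.1 * v * g.1⁻¹ * v⁻¹ = (g.1 * v) * (v * g.1)⁻¹ := by group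
    rw [this, h, mul_inv_cancel]

/-- `p`-th powers are in `⟨z⟩`. -/
theorem pow_p_mem (hc : XCond p E z) {g : Γ} (hg : g ∈ E) : g ^ p ∈ Subgroup.zpowers z := by
  refine hc.cent _ (pow_mem hg p) (fun h hh => ?_)
  have h1 : hc.kap h hh ⟨g, hg⟩ ^ p = 1 := hc.zp_pow (hc.kap_mem h hh _)
  rw [← map_pow] at h1
  exact (hc.kap_eq_one_iff h hh _).mp h1

/-- index bound for centralizers. -/
theorem card_le_mul_card_centralizer [hp : Fact p.Prime] (hc : XCond p E z) (H : Subgroup Γ)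
    (hHE : H ≤ E) [Finite H] (v : Γ) (hv : v ∈ E) :
    Nat.card ↥H ≤ p * Nat.card ↥(H ⊓ Subgroup.centralizer {v}) := by
  let f : ↥H →* Γ := (hc.kap v hv).comp (Subgroup.inclusion hHE)
  have h1 : Nat.card ↥f.ker * Nat.card ↥f.range = Nat.card ↥H := by
    rw [← Subgroup.index_ker]; exact Subgroup.card_mul_index _
  have h2 : Nat.card ↥f.range ≤ p := by
    have hle : f.range ≤ Subgroup.zpowers z := by
      rintro _ ⟨g, rfl⟩
      exact hc.kap_mem v hv _
    have h3 : Nat.card ↥f.range ≤ Nat.card ↥(Subgroup.zpowers z) := by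
      have : Finite ↥(Subgroup.zpowers z) := hc.finite_zp
      exact Subgroup.card_le_of_le hle
    refine h3.trans ?_
    rw [Nat.card_zpowers]
    exact Nat.le_of_dvd hp.out.pos (orderOf_dvd_of_pow_eq_one hc.zpow)
  have h4 : Nat.card ↥f.ker ≤ Nat.card ↥(H ⊓ Subgroup.centralizer {v}) := by
    have : Finite ↥(H ⊓ Subgroup.centralizer {v}) :=
      Finite.of_injective (fun b => (⟨b.1, b.2.1⟩ : ↥H)) (fun b c h => Subtype.ext (by
        have := congrArg Subtype.val h; exact this))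
    refine Nat.card_le_card_of_injective (fun g => ⟨g.1.1, g.1.2, ?_⟩) ?_
    · refine Subgroup.mem_centralizer_singleton_iff.mpr ?_
      have := g.2
      rw [MonoidHom.mem_ker] at this
      exact (hc.kap_eq_one_iff v hv _).mp this
    · intro a b h
      have := congrArg Subtype.val h
      exact Subtype.ext (Subtype.ext this)
  calc Nat.card ↥H = Nat.card ↥f.ker * Nat.card ↥f.range := h1.symm
    _ ≤ Nat.card ↥(H ⊓ Subgroup.centralizer {v}) * p := Nat.mul_le_mul h4 h2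
    _ = _ := mul_comm _ _

/-- the centralizer of a hyperbolic pair. -/
def E1 (E : Subgroup Γ) (x y : Γ) : Subgroup Γ :=
  (E ⊓ Subgroup.centralizer {y}) ⊓ Subgroup.centralizer {x}

theorem E1_le (E : Subgroup Γ) (x y : Γ) : E1 E x y ≤ E := fun _ h => h.1.1

theorem mem_E1 {E : Subgroup Γ} {x y g : Γ} :
    g ∈ E1 E x y ↔ g ∈ E ∧ g * y = y * g ∧ g * x = x * g := by
  unfold E1
  rw [Subgroup.mem_inf, Subgroup.mem_inf, Subgroup.mem_centralizer_singleton_iff,
    Subgroup.mem_centralizer_singleton_iff, and_assoc]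

theorem card_E1 [hp : Fact p.Prime] (hc : XCond p E z) [Finite E] (x y : Γ) (hx : x ∈ E)
    (hy : y ∈ E) : Nat.card ↥E ≤ p * (p * Nat.card ↥(E1 E x y)) := by
  have h1 := hc.card_le_mul_card_centralizer E le_rfl y hy
  have : Finite ↥(E ⊓ Subgroup.centralizer {y}) :=
    Finite.of_injective (fun b => (⟨b.1, b.2.1⟩ : ↥E)) (fun b c h => Subtype.ext (by
      have := congrArg Subtype.val h; exact this))
  have h2 := hc.card_le_mul_card_centralizer (E ⊓ Subgroup.centralizer {y}) inf_le_left x hx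
  exact h1.trans (Nat.mul_le_mul_left p h2)

theorem xcond_E1 (hc : XCond p E z) (x y : Γ) (hx : x ∈ E) (hy : y ∈ E)
    (hxy : x * y = z * y * x) : XCond p (E1 E x y) z := by
  refine ⟨mem_E1.mpr ⟨hc.zmem, (hc.zcent y hy).symm, (hc.zcent x hx).symm⟩,
    fun g hg => hc.zcent g (E1_le E x y hg), hc.zpow, ?_,
    fun g hg h hh => hc.comm g (E1_le E x y hg) h (E1_le E x y hh)⟩
  intro g hg hgc
  obtain ⟨hgE, hgy, hgx⟩ := mem_E1.mp hg
  refine hc.cent g hgE (fun e he => ?_)
  -- decompose e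
  have kyx : hc.kap y hy ⟨x, hx⟩ = z := by
    rw [kap_apply]
    show x * y * x⁻¹ * y⁻¹ = z
    rw [hxy]; group
  have kxy : hc.kap x hx ⟨y, hy⟩ = z⁻¹ := by
    rw [kap_apply]
    show y * x * y⁻¹ * x⁻¹ = z⁻¹
    have : y * x = z⁻¹ * (x * y) := by rw [hxy]; group
    rw [this]; group
  obtain ⟨a, ha⟩ := Subgroup.mem_zpowers_iff.mp (hc.kap_mem y hy ⟨e, he⟩)
  -- e' = x^(-a) e
  set e' : ↥E := (⟨x, hx⟩ : ↥E) ^ (-a) * ⟨e, he⟩ with he'
  have h1 : hc.kap y hy e' = 1 := by
    rw [he', map_mul, map_zpow, kyx, ← ha, ← zpow_add]; simp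
  have h1' : e'.1 * y = y * e'.1 := (hc.kap_eq_one_iff y hy e').mp h1
  obtain ⟨b, hb⟩ := Subgroup.mem_zpowers_iff.mp (hc.kap_mem x hx e')
  set e'' : ↥E := (⟨y, hy⟩ : ↥E) ^ b * e' with he''
  have h2 : hc.kap x hx e'' = 1 := by
    rw [he'', map_mul, map_zpow, kxy, ← hb, inv_zpow, inv_mul_cancel]
  have h2' : e''.1 * x = x * e''.1 := (hc.kap_eq_one_iff x hx e'').mp h2
  have h3 : e''.1 * y = y * e''.1 := by
    have : Commute e''.1 y := by
      rw [he'']
      show Commute ((y ^ b) * e'.1) y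
      exact ((Commute.refl y).zpow_left b).mul_left h1'
    exact this.eq
  have h4 : e''.1 ∈ E1 E x y := mem_E1.mpr ⟨e''.2, h3, h2'⟩
  have h5 : e = x ^ a * (y ^ (-b) * e''.1) := by
    have : (⟨e, he⟩ : ↥E) = (⟨x, hx⟩ : ↥E) ^ a * ((⟨y, hy⟩ : ↥E) ^ (-b) * e'') := by
      rw [he'', he']; group
    have := congrArg Subtype.val this
    simpa using this
  have c1 : Commute g x := hgx
  have c2 : Commute g y := hgy
  have c3 : Commute g e''.1 := hgc _ h4
  rw [h5]
  exact ((c1.zpow_right a).mul_right ((c2.zpow_right (-b)).mul_right c3)).eq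

/-- For a non-central `u`, some `x` satisfies `x u = z u x`. -/
theorem exists_pair [hp : Fact p.Prime] (hc : XCond p E z) (hz : z ≠ 1) {u : Γ} (hu : u ∈ E)
    (hunz : u ∉ Subgroup.zpowers z) : ∃ x ∈ E, x * u = z * u * x := by
  have h1 : ¬ ∀ h ∈ E, u * h = h * u := fun h => hunz (hc.cent u hu h)
  push Not at h1
  obtain ⟨h, hh, hne⟩ := h1
  have hk : hc.kap u hu ⟨h, hh⟩ ≠ 1 := by
    intro h0
    exact hne ((hc.kap_eq_one_iff u hu _).mp h0).symm
  have hcard : Nat.card ↥(Subgroup.zpowers z) = p := by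
    rw [Nat.card_zpowers]; exact orderOf_eq_prime hc.zpow hz
  have hmem := mem_zpowers_of_prime_card hcard
    (g := (⟨hc.kap u hu ⟨h, hh⟩, hc.kap_mem u hu _⟩ : ↥(Subgroup.zpowers z)))
    (g' := ⟨z, Subgroup.mem_zpowers z⟩) (fun h0 => hk (congrArg Subtype.val h0))
  obtain ⟨j, hj⟩ := Subgroup.mem_zpowers_iff.mp hmem
  have hj' : hc.kap u hu ⟨h, hh⟩ ^ j = z := by
    have := congrArg Subtype.val hj
    simpa using this
  rw [← map_zpow] at hj'
  refine ⟨((⟨h, hh⟩ : ↥E) ^ j).1, ((⟨h, hh⟩ : ↥E) ^ j).2, ?_⟩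
  rw [kap_apply] at hj'
  set x := ((⟨h, hh⟩ : ↥E) ^ j).1
  rw [← hj']; group

end XCond

/-! ### the power formula in class two -/

section PowerFormula

variable {g h c : Γ}

theorem pow_swap (hch : Commute c h) (hhg : h * g = g * h * c) (n : ℕ) :
    h ^ n * g = g * h ^ n * c ^ n := by
  induction n with
  | zero => simp
  | succ n ih =>
    calc h ^ (n + 1) * g = h ^ n * (h * g) := by rw [pow_succ]; group
      _ = h ^ n * (g * h * c) := by rw [hhg]
      _ = (h ^ n * g) * h * c := by group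
      _ = (g * h ^ n * c ^ n) * h * c := by rw [ih]
      _ = g * h ^ n * (c ^ n * h) * c := by group
      _ = g * h ^ n * (h * c ^ n) * c := by rw [(hch.pow_left n).eq]
      _ = g * h ^ (n + 1) * c ^ (n + 1) := by rw [pow_succ, pow_succ]; group

theorem mul_pow_class2 (hcg : Commute c g) (hch : Commute c h) (hhg : h * g = g * h * c) (n : ℕ) :
    (g * h) ^ n = g ^ n * h ^ n * c ^ (∑ i ∈ Finset.range n, i) := by
  induction n with
  | zero => simp
  | succ n ih =>
    have hs := pow_swap hch hhg n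
    have hcT : Commute (c ^ (∑ i ∈ Finset.range n, i)) g := hcg.pow_left _
    have hcT' : Commute (c ^ (∑ i ∈ Finset.range n, i)) h := hch.pow_left _
    calc (g * h) ^ (n + 1) = (g * h) ^ n * (g * h) := pow_succ _ _
      _ = g ^ n * h ^ n * c ^ (∑ i ∈ Finset.range n, i) * (g * h) := by rw [ih]
      _ = g ^ n * h ^ n * (c ^ (∑ i ∈ Finset.range n, i) * g) * h := by group
      _ = g ^ n * h ^ n * (g * c ^ (∑ i ∈ Finset.range n, i)) * h := by rw [hcT.eq]
      _ = g ^ n * (h ^ n * g) * (c ^ (∑ i ∈ Finset.range n, i) * h) := by group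
      _ = g ^ n * (g * h ^ n * c ^ n) * (h * c ^ (∑ i ∈ Finset.range n, i)) := by
          rw [hs, hcT'.eq]
      _ = g ^ n * g * h ^ n * (c ^ n * h) * c ^ (∑ i ∈ Finset.range n, i) := by group
      _ = g ^ n * g * h ^ n * (h * c ^ n) * c ^ (∑ i ∈ Finset.range n, i) := by
          rw [(hch.pow_left n).eq]
      _ = g ^ (n + 1) * h ^ (n + 1) * c ^ (∑ i ∈ Finset.range (n + 1), i) := by
          rw [Finset.sum_range_succ, pow_succ, pow_succ, pow_add]; group

theorem dvd_triangle {p : ℕ} (hp : p.Prime) (hp2 : p ≠ 2) : p ∣ ∑ i ∈ Finset.range p, i := by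
  have h1 := Finset.sum_range_id_mul_two p
  have h2 : p ∣ (∑ i ∈ Finset.range p, i) * 2 := by rw [h1]; exact dvd_mul_right _ _
  rcases (Nat.Prime.dvd_mul hp).mp h2 with h | h
  · exact h
  · exfalso
    have := (Nat.prime_dvd_prime_iff_eq hp Nat.prime_two).mp h
    exact hp2 this

end PowerFormula

namespace XCond

variable {E : Subgroup Γ} {z : Γ}

theorem card_zp [hp : Fact p.Prime] (hc : XCond p E z) (hz : z ≠ 1) :
    Nat.card ↥(Subgroup.zpowers z) = p := by
  rw [Nat.card_zpowers]; exact orderOf_eq_prime hc.zpow hz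

/-- for `p = 2`, two non-identity elements of `⟨z⟩` coincide. -/
theorem eq_of_ne_one [hp : Fact p.Prime] (hc : XCond p E z) (hz : z ≠ 1) (hp2 : p = 2) {a b : Γ}
    (ha : a ∈ Subgroup.zpowers z) (hb : b ∈ Subgroup.zpowers z) (ha1 : a ≠ 1) (hb1 : b ≠ 1) :
    a = b := by
  have hmem := mem_zpowers_of_prime_card (hc.card_zp hz)
    (g := (⟨a, ha⟩ : ↥(Subgroup.zpowers z))) (g' := ⟨b, hb⟩)
    (fun h0 => ha1 (congrArg Subtype.val h0))
  obtain ⟨j, hj⟩ := Subgroup.mem_zpowers_iff.mp hmem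
  have hj' : a ^ j = b := by
    have := congrArg Subtype.val hj
    simpa using this
  have ha2 : a ^ (2 : ℤ) = 1 := by
    have := hc.zp_pow ha
    rw [hp2] at this
    rw [← this]; norm_cast
  rw [zpow_eq_zpow_emod j ha2] at hj'
  rcases Int.emod_two_eq_zero_or_one j with h | h
  · rw [h, zpow_zero] at hj'; exact absurd hj'.symm hb1
  · rw [h, zpow_one] at hj'; exact hj'

theorem exists_good_y [hp : Fact p.Prime] (hc : XCond p E z) [Finite E] (hz : z ≠ 1)
    (hcard : p < Nat.card ↥E) (h8 : p = 2 → 8 < Nat.card ↥E) :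
    ∃ y ∈ E, y ∉ Subgroup.zpowers z ∧ y ^ p = 1 := by
  have hfz := hc.finite_zp
  -- a non-central element
  obtain ⟨g, hgE, hgz⟩ : ∃ g ∈ E, g ∉ Subgroup.zpowers z := by
    by_contra hcon
    push Not at hcon
    have hle : E ≤ Subgroup.zpowers z := hcon
    have := Subgroup.card_le_of_le hle
    rw [hc.card_zp hz] at this
    omega
  have h1 : ¬ ∀ h ∈ E, g * h = h * g := fun h => hgz (hc.cent g hgE h)
  push Not at h1
  obtain ⟨h, hhE, hne⟩ := h1
  have hhz : h ∉ Subgroup.zpowers z := fun hh => hne (hc.zp_comm hh hgE).eq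
  by_cases hg1 : g ^ p = 1
  · exact ⟨g, hgE, hgz, hg1⟩
  by_cases hh1 : h ^ p = 1
  · exact ⟨h, hhE, hhz, hh1⟩
  by_cases hp2 : p = 2
  · -- the case p = 2
    have hghz : g * h ∉ Subgroup.zpowers z := by
      intro hm
      have := (hc.zp_comm hm hhE).eq
      apply hne
      have e : h * (g * h) * h⁻¹ = (g * h) * h * h⁻¹ := by rw [this]
      have e2 : h * g = g * h := by
        have : h * (g * h) * h⁻¹ = h * g := by group
        rw [← this, e]; group
      exact e2.symm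
    by_cases hgh1 : (g * h) ^ p = 1
    · exact ⟨g * h, mul_mem hgE hhE, hghz, hgh1⟩
    -- find u in the centralizer
    have hcE1 := hc.card_E1 g h hgE hhE
    have h8' := h8 hp2
    have hE1card : 2 < Nat.card ↥(E1 E g h) := by
      rw [hp2] at hcE1
      omega
    have hE1fin : Finite ↥(E1 E g h) :=
      Finite.of_injective (fun b => (⟨b.1, E1_le E g h b.2⟩ : ↥E)) (fun b c h => Subtype.ext (by
        have := congrArg Subtype.val h; exact this))
    obtain ⟨u, huE1, huz⟩ : ∃ u ∈ E1 E g h, u ∉ Subgroup.zpowers z := by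
      by_contra hcon
      push Not at hcon
      have hle : E1 E g h ≤ Subgroup.zpowers z := hcon
      have := Subgroup.card_le_of_le hle
      rw [hc.card_zp hz, hp2] at this
      omega
    obtain ⟨huE, huh, hug⟩ := mem_E1.mp huE1
    by_cases hu1 : u ^ p = 1
    · exact ⟨u, huE, huz, hu1⟩
    have hgu : g ^ p = u ^ p :=
      hc.eq_of_ne_one hz hp2 (hc.pow_p_mem hgE) (hc.pow_p_mem huE) hg1 hu1
    refine ⟨g * u, mul_mem hgE huE, ?_, ?_⟩
    · intro hm
      have c1 : Commute h (g * u) := hc.zp_comm hm hhE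
      have c2 : Commute h u := (show Commute u h from huh).symm
      have c3 : Commute h g := by
        have : g = (g * u) * u⁻¹ := by group
        rw [this]
        exact c1.mul_right c2.inv_right
      exact hne c3.eq.symm
    · have c4 : Commute g u := (show Commute u g from hug).symm
      rw [c4.mul_pow, ← hgu, ← pow_two]
      have := hc.zp_pow (hc.pow_p_mem hgE)
      rw [hp2] at this ⊢
      exact this
  · -- the case p odd
    set c₀ := h * g * h⁻¹ * g⁻¹ with hc₀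
    have hc₀z : c₀ ∈ Subgroup.zpowers z := hc.comm h hhE g hgE
    have hcg : Commute c₀ g := (hc.zp_comm hc₀z hgE).symm
    have hch : Commute c₀ h := (hc.zp_comm hc₀z hhE).symm
    have hhg : h * g = g * h * c₀ := by
      have : h * g = c₀ * (g * h) := by rw [hc₀]; group
      rw [this, (hcg.mul_right hch).eq]
    -- find j
    have hmem := mem_zpowers_of_prime_card (hc.card_zp hz)
      (g := (⟨h ^ p, hc.pow_p_mem hhE⟩ : ↥(Subgroup.zpowers z)))
      (g' := ⟨(g ^ p)⁻¹, inv_mem (hc.pow_p_mem hgE)⟩)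
      (fun h0 => hh1 (congrArg Subtype.val h0))
    rw [← mem_powers_iff_mem_zpowers] at hmem
    obtain ⟨j, hj⟩ := Submonoid.mem_powers_iff _ _ |>.mp hmem
    have hj' : (h ^ p) ^ j = (g ^ p)⁻¹ := by
      have := congrArg Subtype.val hj
      simpa using this
    have hsw := pow_swap hch hhg j
    have hform := mul_pow_class2 (hcg.pow_left j) ((hch.pow_right j).pow_left j) hsw p
    have hT : (c₀ ^ j) ^ (∑ i ∈ Finset.range p, i) = 1 := by
      obtain ⟨m, hm⟩ := dvd_triangle hp.out hp2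
      rw [hm, ← pow_mul, mul_comm p m, ← mul_assoc, pow_mul, ← pow_mul, mul_comm, pow_mul,
        hc.zp_pow hc₀z, one_pow]
    refine ⟨g * h ^ j, mul_mem hgE (pow_mem hhE j), ?_, ?_⟩
    · intro hm
      have c1 : Commute h (g * h ^ j) := hc.zp_comm hm hhE
      have c2 : Commute h (h ^ j) := (Commute.refl h).pow_right j
      have c3 : Commute h g := by
        have : g = (g * h ^ j) * (h ^ j)⁻¹ := by group
        rw [this]
        exact c1.mul_right c2.inv_right
      exact hne c3.eq.symm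
    · rw [hform, hT, mul_one, ← pow_mul, mul_comm j p, pow_mul, hj', mul_inv_cancel]

end XCond

end Cfsg.Agent.Lib.helper17.ExtraGroup
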