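import Mathlib
import Cfsg.Agent.Lib.helper17.ExtraGroup

/-!
# Subgroups of extraspecial-like groups: orthogonal complements (helper17)
-/

set_option autoImplicit false

namespace Cfsg.Agent.Lib.helper17.SympGroup

open Cfsg.Agent.Lib.helper17.ExtraGroup

variable {Q : Type*} [Group Q] {p : ℕ} {z : Q}

theorem card_mul_relIndex {K L : Subgroup Q} (h : K ≤ L) :
    Nat.card K * K.relIndex L = Nat.card L := by
  have := Subgroup.relIndex_mul_relIndex (⊥ : Subgroup Q) K L bot_le h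
  rwa [Subgroup.relIndex_bot_left, Subgroup.relIndex_bot_left] at this

theorem card_sup_mul_card_inf (H K : Subgroup Q) [K.Normal] :
    Nat.card ↥(H ⊔ K) * Nat.card ↥(H ⊓ K) = Nat.card H * Nat.card K := by
  have h1 : Nat.card K * K.relIndex (H ⊔ K) = Nat.card ↥(H ⊔ K) := card_mul_relIndex le_sup_right
  have h2 : Nat.card ↥(H ⊓ K) * (H ⊓ K).relIndex H = Nat.card H := card_mul_relIndex inf_le_left
  rw [Subgroup.relIndex_sup_right] at h1
  rw [Subgroup.inf_relIndex_left] at h2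
  rw [← h1, ← h2]
  ring

section XC

variable (hQ : XCond p (⊤ : Subgroup Q) z)
include hQ

theorem isPGroup : IsPGroup p Q := by
  intro g
  refine ⟨2, ?_⟩
  rw [pow_two, pow_mul]
  exact hQ.zp_pow (hQ.pow_p_mem (Subgroup.mem_top g))

theorem normal_of_le {H : Subgroup Q} (hH : Subgroup.zpowers z ≤ H) : H.Normal := by
  refine ⟨fun n hn g => ?_⟩
  have h1 : g * n * g⁻¹ * n⁻¹ ∈ H := hH (hQ.comm g (Subgroup.mem_top _) n (Subgroup.mem_top _))
  have h2 : g * n * g⁻¹ = (g * n * g⁻¹ * n⁻¹) * n := by group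
  rw [h2]
  exact H.mul_mem h1 hn

theorem mul_card_le_of_lt [Finite Q] [hp : Fact p.Prime] {Y₁ Y₂ : Subgroup Q} (h : Y₁ ≤ Y₂)
    (hne : Y₁ ≠ Y₂) : p * Nat.card Y₁ ≤ Nat.card Y₂ := by
  obtain ⟨a, ha⟩ := ((isPGroup hQ).to_subgroup Y₁).exists_card_eq
  obtain ⟨b, hb⟩ := ((isPGroup hQ).to_subgroup Y₂).exists_card_eq
  have hdvd : Nat.card Y₁ ∣ Nat.card Y₂ := Subgroup.card_dvd_of_le h
  rw [ha, hb] at hdvd ⊢
  have hab : a ≤ b := (Nat.pow_dvd_pow_iff_le_right hp.out.one_lt).mp hdvd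
  have hab' : a ≠ b := by
    intro e
    apply hne
    apply Subgroup.eq_of_le_of_card_ge h
    rw [ha, hb, e]
  have : a + 1 ≤ b := by omega
  calc p * p ^ a = p ^ (a + 1) := by rw [pow_succ, mul_comm]
    _ ≤ p ^ b := Nat.pow_le_pow_right hp.out.pos this

theorem measure_mono [Finite Q] [hp : Fact p.Prime] (W : Subgroup Q) :
    ∀ (n : ℕ) (Y₁ Y : Subgroup Q), Y₁ ≤ Y → Nat.card Y - Nat.card Y₁ ≤ n →
      Nat.card ↥(W ⊓ Subgroup.centralizer (Y₁ : Set Q)) * Nat.card Y₁ ≤
        Nat.card ↥(W ⊓ Subgroup.centralizer (Y : Set Q)) * Nat.card Y := by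
  intro n
  induction n with
  | zero =>
    intro Y₁ Y h hn
    have hle : Nat.card Y₁ ≤ Nat.card Y := Subgroup.card_le_of_le h
    have : Y₁ = Y := Subgroup.eq_of_le_of_card_ge h (by omega)
    rw [this]
  | succ n ih =>
    intro Y₁ Y h hn
    by_cases heq : Y₁ = Y
    · rw [heq]
    · obtain ⟨y, hyY, hyY₁⟩ : ∃ y ∈ Y, y ∉ Y₁ := by
        by_contra hcon
        push Not at hcon
        exact heq (le_antisymm h hcon)
      set Y₂ := Y₁ ⊔ Subgroup.zpowers y with hY₂
      have h12 : Y₁ ≤ Y₂ := le_sup_left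
      have h2Y : Y₂ ≤ Y := sup_le h (Subgroup.zpowers_le.mpr hyY)
      have hne : Y₁ ≠ Y₂ := by
        intro e
        apply hyY₁
        rw [e]
        exact (le_sup_right : Subgroup.zpowers y ≤ Y₂) (Subgroup.mem_zpowers y)
      have hcard := mul_card_le_of_lt hQ h12 hne
      have hle2 : Nat.card Y₂ ≤ Nat.card Y := Subgroup.card_le_of_le h2Y
      have hpos : 0 < Nat.card Y₁ := Nat.card_pos
      have hlt : Nat.card Y₁ < Nat.card Y₂ := by
        have : 2 * Nat.card Y₁ ≤ p * Nat.card Y₁ := Nat.mul_le_mul_right _ hp.out.two_le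
        omega
      have hIH := ih Y₂ Y h2Y (by omega)
      have h3 := hQ.card_le_mul_card_centralizer (W ⊓ Subgroup.centralizer (Y₁ : Set Q)) le_top y
        (Subgroup.mem_top y)
      have h4 : (W ⊓ Subgroup.centralizer (Y₁ : Set Q)) ⊓ Subgroup.centralizer {y} ≤
          W ⊓ Subgroup.centralizer (Y₂ : Set Q) := by
        intro g hg
        rw [Subgroup.mem_inf, Subgroup.mem_inf] at hg
        obtain ⟨⟨hgW, hg1⟩, hg2⟩ := hg
        refine Subgroup.mem_inf.mpr ⟨hgW, ?_⟩
        rw [Subgroup.mem_centralizer_iff]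
        have hsub : Y₂ ≤ Subgroup.centralizer {g} := by
          refine sup_le ?_ (Subgroup.zpowers_le.mpr ?_)
          · intro u hu
            rw [Subgroup.mem_centralizer_singleton_iff]
            exact ((Subgroup.mem_centralizer_iff.mp hg1) u hu)
          · rw [Subgroup.mem_centralizer_singleton_iff]
            exact (Subgroup.mem_centralizer_singleton_iff.mp hg2).symm
        intro u hu
        exact (Subgroup.mem_centralizer_singleton_iff.mp (hsub hu))
      have h5 := Subgroup.card_le_of_le h4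
      calc Nat.card ↥(W ⊓ Subgroup.centralizer (Y₁ : Set Q)) * Nat.card Y₁
          ≤ (p * Nat.card ↥(W ⊓ Subgroup.centralizer (Y₂ : Set Q))) * Nat.card Y₁ :=
            Nat.mul_le_mul_right _ (h3.trans (Nat.mul_le_mul_left _ h5))
        _ = Nat.card ↥(W ⊓ Subgroup.centralizer (Y₂ : Set Q)) * (p * Nat.card Y₁) := by ring
        _ ≤ Nat.card ↥(W ⊓ Subgroup.centralizer (Y₂ : Set Q)) * Nat.card Y₂ :=
            Nat.mul_le_mul_left _ hcard
        _ ≤ _ := hIH

/-- the codimension of an orthogonal complement is at most the dimension. -/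
theorem card_mul_le [Finite Q] [hp : Fact p.Prime] (hz : z ≠ 1) (W Y : Subgroup Q)
    (hZY : Subgroup.zpowers z ≤ Y) :
    Nat.card W * p ≤ Nat.card ↥(W ⊓ Subgroup.centralizer (Y : Set Q)) * Nat.card Y := by
  have h1 := measure_mono hQ W (Nat.card Y) (Subgroup.zpowers z) Y hZY (Nat.sub_le _ _)
  have h2 : W ⊓ Subgroup.centralizer ((Subgroup.zpowers z : Subgroup Q) : Set Q) = W := by
    refine inf_eq_left.mpr ?_
    intro g _
    rw [Subgroup.mem_centralizer_iff]
    intro c hc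
    exact (hQ.zp_comm hc (Subgroup.mem_top g)).eq.symm
  rw [h2, hQ.card_zp hz] at h1
  exact h1

end XC

end Cfsg.Agent.Lib.helper17.SympGroup
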