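import Mathlib
import Cfsg.Agent.Lib.helper17.ExtraGroup
import Cfsg.Agent.Lib.helper17.SympGroup
import Cfsg.Agent.Lib.helper23.FreeAction

/-!
# Invariant nondegenerate subgroups (helper17)
-/

set_option autoImplicit false

namespace Cfsg.Agent.Lib.helper17.SympAct

open Cfsg.Agent.Lib.helper17.ExtraGroup Cfsg.Agent.Lib.helper17.SympGroup

variable {Q : Type*} [Group Q] {p : ℕ} {z : Q}

/-- nondegenerate subgroups -/
def ND (z : Q) (X : Subgroup Q) : Prop :=
  Subgroup.zpowers z ≤ X ∧ ∀ g ∈ X, (∀ h ∈ X, g * h = h * g) → g ∈ Subgroup.zpowers z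

/-- `g` commutes with a join as soon as it commutes with both parts -/
theorem comm_sup {X₁ X₂ : Subgroup Q} {g : Q} (h1 : ∀ h ∈ X₁, g * h = h * g)
    (h2 : ∀ h ∈ X₂, g * h = h * g) : ∀ h ∈ X₁ ⊔ X₂, g * h = h * g := by
  have hsub : X₁ ⊔ X₂ ≤ Subgroup.centralizer {g} := by
    refine sup_le ?_ ?_
    · intro u hu
      rw [Subgroup.mem_centralizer_singleton_iff]
      exact (h1 u hu).symm
    · intro u hu
      rw [Subgroup.mem_centralizer_singleton_iff]
      exact (h2 u hu).symm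
  intro h hh
  exact (Subgroup.mem_centralizer_singleton_iff.mp (hsub hh)).symm

theorem mem_cent_iff {Y : Subgroup Q} {g : Q} :
    g ∈ Subgroup.centralizer (Y : Set Q) ↔ ∀ h ∈ Y, g * h = h * g := by
  rw [Subgroup.mem_centralizer_iff]
  constructor
  · intro H h hh; exact (H h hh).symm
  · intro H h hh; exact (H h hh).symm

section XC

variable (hQ : XCond p (⊤ : Subgroup Q) z)
include hQ

theorem zp_le_cent (Y : Subgroup Q) : Subgroup.zpowers z ≤ Subgroup.centralizer (Y : Set Q) := by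
  intro c hc
  rw [mem_cent_iff]
  intro h _
  exact (hQ.zp_comm hc (Subgroup.mem_top h)).eq.symm

/-- splitting off a nondegenerate subgroup -/
theorem split [Finite Q] [hp : Fact p.Prime] (hz : z ≠ 1) {X X₁ : Subgroup Q} (hX : ND z X)
    (hX₁ : ND z X₁) (h1X : X₁ ≤ X) :
    ND z (X ⊓ Subgroup.centralizer (X₁ : Set Q)) ∧
      Nat.card X₁ * Nat.card ↥(X ⊓ Subgroup.centralizer (X₁ : Set Q)) = p * Nat.card X := by
  set X₂ := X ⊓ Subgroup.centralizer (X₁ : Set Q) with hX₂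
  have hZ2 : Subgroup.zpowers z ≤ X₂ := le_inf hX.1 (zp_le_cent hQ X₁)
  have hinf : X₁ ⊓ X₂ = Subgroup.zpowers z := by
    apply le_antisymm
    · intro g hg
      rw [Subgroup.mem_inf, hX₂, Subgroup.mem_inf] at hg
      exact hX₁.2 g hg.1 (mem_cent_iff.mp hg.2.2)
    · exact le_inf hX₁.1 hZ2
  have hmeas := card_mul_le hQ hz X X₁ hX₁.1
  have hn2 : X₂.Normal := normal_of_le hQ hZ2
  have hprod := card_sup_mul_card_inf X₁ X₂
  rw [hinf, hQ.card_zp hz] at hprod
  have hsupX : X₁ ⊔ X₂ ≤ X := sup_le h1X inf_le_left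
  have hpos : 0 < p := hp.out.pos
  have hge : Nat.card X ≤ Nat.card ↥(X₁ ⊔ X₂) := by
    have : Nat.card X * p ≤ Nat.card ↥(X₁ ⊔ X₂) * p := by
      rw [hprod, mul_comm (Nat.card X₁)]; exact hmeas
    exact Nat.le_of_mul_le_mul_right this hpos
  have hsup : X₁ ⊔ X₂ = X := Subgroup.eq_of_le_of_card_ge hsupX hge
  refine ⟨⟨hZ2, ?_⟩, ?_⟩
  · intro g hg hcomm
    apply hX.2 g (inf_le_left (a := X) hg)
    rw [← hsup]
    apply comm_sup _ hcomm
    intro h hh
    have := (Subgroup.mem_inf.mp hg).2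
    exact mem_cent_iff.mp this h hh
  · rw [← hprod, hsup, mul_comm]

end XC

section Action

variable {A : Type*} [Group A] [MulDistribMulAction A Q]

/-- invariant subgroups -/
def Inv (A : Type*) [Group A] [MulDistribMulAction A Q] (X : Subgroup Q) : Prop :=
  ∀ a : A, ∀ x ∈ X, a • x ∈ X

theorem Inv.inf {X₁ X₂ : Subgroup Q} (h1 : Inv A X₁) (h2 : Inv A X₂) : Inv A (X₁ ⊓ X₂) :=
  fun a x hx => Subgroup.mem_inf.mpr ⟨h1 a x (Subgroup.mem_inf.mp hx).1, h2 a x (Subgroup.mem_inf.mp hx).2⟩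

theorem Inv.sup {X₁ X₂ : Subgroup Q} (h1 : Inv A X₁) (h2 : Inv A X₂) : Inv A (X₁ ⊔ X₂) := by
  intro a x hx
  have h3 : (X₁ ⊔ X₂).map (MulDistribMulAction.toMonoidHom Q a) ≤ X₁ ⊔ X₂ := by
    rw [Subgroup.map_sup]
    refine sup_le_sup ?_ ?_
    · rintro _ ⟨y, hy, rfl⟩; exact h1 a y hy
    · rintro _ ⟨y, hy, rfl⟩; exact h2 a y hy
  exact h3 ⟨x, hx, rfl⟩

theorem Inv.cent {X : Subgroup Q} (h1 : Inv A X) : Inv A (Subgroup.centralizer (X : Set Q)) := by
  intro a g hg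
  rw [mem_cent_iff] at hg ⊢
  intro h hh
  have h2 : a⁻¹ • h ∈ X := h1 a⁻¹ h hh
  have h3 := hg _ h2
  have h4 : a • (g * a⁻¹ • h) = a • (a⁻¹ • h * g) := by rw [h3]
  rw [smul_mul', smul_mul', smul_inv_smul] at h4
  exact h4

theorem Inv.zp (hfz : ∀ a : A, a • z = z) : Inv A (Subgroup.zpowers z) := by
  intro a c hc
  obtain ⟨k, rfl⟩ := Subgroup.mem_zpowers_iff.mp hc
  have : a • z ^ k = (a • z) ^ k := map_zpow (MulDistribMulAction.toMonoidHom Q a) z k
  rw [this, hfz]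
  exact hc

theorem smul_zp_fixed (hfz : ∀ a : A, a • z = z) (a : A) {c : Q} (hc : c ∈ Subgroup.zpowers z) :
    a • c = c := by
  obtain ⟨k, rfl⟩ := Subgroup.mem_zpowers_iff.mp hc
  have : a • z ^ k = (a • z) ^ k := map_zpow (MulDistribMulAction.toMonoidHom Q a) z k
  rw [this, hfz]

/-- a free action on `Y ∖ Z` -/
theorem free_dvd [Finite Q] [Finite A] (hfz : ∀ a : A, a • z = z)
    (hfree : ∀ a : A, a ≠ 1 → ∀ x : Q, a • x = x → x ∈ Subgroup.zpowers z)
    {Y : Subgroup Q} (hY : Inv A Y) (hZY : Subgroup.zpowers z ≤ Y) :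
    Nat.card A ∣ Nat.card Y - Nat.card (Subgroup.zpowers z) := by
  let S : SubMulAction A Q :=
    { carrier := {y | y ∈ Y ∧ y ∉ Subgroup.zpowers z}
      smul_mem' := by
        intro a y hy
        refine ⟨hY a y hy.1, fun h => hy.2 ?_⟩
        have := Inv.zp hfz a⁻¹ _ h
        rwa [inv_smul_smul] at this }
  have h1 : Nat.card A ∣ Nat.card S := by
    apply Cfsg.Agent.Lib.helper23.card_dvd_of_free
    intro a y hy
    by_contra hne
    have h2 : a • y.1 = y.1 := congrArg Subtype.val hy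
    exact y.2.2 (hfree a hne y.1 h2)
  have h2 : Nat.card S = ((Y : Set Q) \ (Subgroup.zpowers z : Set Q)).ncard := by
    rw [← Nat.card_coe_set_eq]
    rfl
  have h3 := Set.ncard_sdiff_add_ncard_of_subset (s := (Subgroup.zpowers z : Set Q))
    (t := (Y : Set Q)) hZY (Set.toFinite _)
  have h4 : (Y : Set Q).ncard = Nat.card Y := (Nat.card_coe_set_eq _).symm
  have h5 : ((Subgroup.zpowers z : Subgroup Q) : Set Q).ncard = Nat.card (Subgroup.zpowers z) :=
    (Nat.card_coe_set_eq _).symm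
  rw [h4, h5] at h3
  rw [h2] at h1
  have : Nat.card Y - Nat.card (Subgroup.zpowers z) =
      ((Y : Set Q) \ (Subgroup.zpowers z : Set Q)).ncard := by omega
  rw [this]
  exact h1

end Action

end Cfsg.Agent.Lib.helper17.SympAct
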