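import Mathlib
import Cfsg.Agent.Lib.helper17.ExtraGroup
import Cfsg.Agent.Lib.helper17.SympGroup
import Cfsg.Agent.Lib.helper17.SympAct
import Cfsg.Agent.Lib.helper23.FreeAction

/-!
# Extraspecial groups of order 32 with a dihedral group of order 10 of operators (helper17)
-/

set_option autoImplicit false

namespace Cfsg.Agent.Lib.helper17.E32

open Cfsg.Agent.Lib.helper17.ExtraGroup Cfsg.Agent.Lib.helper17.SympGroup
  Cfsg.Agent.Lib.helper17.SympAct

variable {Q : Type*} [Group Q] {z : Q}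

/-- a free action outside an invariant subgroup -/
theorem free_dvd' {A : Type*} [Group A] [MulDistribMulAction A Q] [Finite Q] [Finite A]
    (C Y : Subgroup Q) (hCY : C ≤ Y) (hY : Inv A Y) (hC : Inv A C)
    (hfree : ∀ a : A, a ≠ 1 → ∀ x ∈ Y, a • x = x → x ∈ C) :
    Nat.card A ∣ Nat.card Y - Nat.card C := by
  let S : SubMulAction A Q :=
    { carrier := {y | y ∈ Y ∧ y ∉ C}
      smul_mem' := by
        intro a y hy
        refine ⟨hY a y hy.1, fun h => hy.2 ?_⟩
        have := hC a⁻¹ _ h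
        rwa [inv_smul_smul] at this }
  have h1 : Nat.card A ∣ Nat.card S := by
    apply Cfsg.Agent.Lib.helper23.card_dvd_of_free
    intro a y hy
    by_contra hne
    have h2 : a • y.1 = y.1 := congrArg Subtype.val hy
    exact y.2.2 (hfree a hne y.1 y.2.1 h2)
  have h2 : Nat.card S = ((Y : Set Q) \ (C : Set Q)).ncard := by
    rw [← Nat.card_coe_set_eq]
    rfl
  have h3 := Set.ncard_sdiff_add_ncard_of_subset (s := (C : Set Q))
    (t := (Y : Set Q)) hCY (Set.toFinite _)
  have h4 : (Y : Set Q).ncard = Nat.card Y := (Nat.card_coe_set_eq _).symm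
  have h5 : (C : Set Q).ncard = Nat.card C := (Nat.card_coe_set_eq _).symm
  rw [h4, h5] at h3
  rw [h2] at h1
  have : Nat.card Y - Nat.card C = ((Y : Set Q) \ (C : Set Q)).ncard := by omega
  rw [this]
  exact h1

/-- congruence modulo `⟨z⟩` -/
def Cong (z a b : Q) : Prop := a * b⁻¹ ∈ Subgroup.zpowers z

theorem Cong.refl (a : Q) : Cong z a a := by
  unfold Cong; rw [mul_inv_cancel]; exact Subgroup.one_mem _

theorem Cong.symm {a b : Q} (h : Cong z a b) : Cong z b a := by
  unfold Cong at *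
  have := Subgroup.inv_mem _ h
  rwa [mul_inv_rev, inv_inv] at this

theorem Cong.trans {a b c : Q} (h1 : Cong z a b) (h2 : Cong z b c) : Cong z a c := by
  unfold Cong at *
  have := Subgroup.mul_mem _ h1 h2
  rwa [mul_assoc, inv_mul_cancel_left] at this

section XC
variable (hQ : XCond 2 (⊤ : Subgroup Q) z)
include hQ

theorem cong_iff {a b : Q} : Cong z a b ↔ ∃ c ∈ Subgroup.zpowers z, a = b * c := by
  unfold Cong
  constructor
  · intro h
    refine ⟨a * b⁻¹, h, ?_⟩
    rw [(hQ.zp_comm h (Subgroup.mem_top b)).eq]; group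
  · rintro ⟨c, hc, rfl⟩
    rw [(hQ.zp_comm hc (Subgroup.mem_top b)).eq, mul_inv_cancel_right]; exact hc

theorem Cong.commute {h a b : Q} (h1 : Cong z a b) (h2 : Commute h a) : Commute h b := by
  obtain ⟨c, hc, rfl⟩ := (cong_iff hQ).mp h1
  have h3 : Commute h c := hQ.zp_comm hc (Subgroup.mem_top h)
  have h4 : Commute h (b * c * c⁻¹) := h2.mul_right h3.inv_right
  rwa [mul_inv_cancel_right] at h4

theorem cong_comm (a b : Q) : Cong z (a * b) (b * a) := by
  unfold Cong
  have := hQ.comm a (Subgroup.mem_top _) b (Subgroup.mem_top _)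
  rwa [mul_inv_rev, ← mul_assoc] 

theorem zp_two {c : Q} (hc : c ∈ Subgroup.zpowers z) : c = 1 ∨ c = z := by
  obtain ⟨k, rfl⟩ := Subgroup.mem_zpowers_iff.mp hc
  rcases Int.even_or_odd' k with ⟨m, hm | hm⟩
  · left
    rw [hm, zpow_mul, zpow_ofNat, hQ.zpow, one_zpow]
  · right
    rw [hm, zpow_add, zpow_mul, zpow_ofNat, hQ.zpow, one_zpow, one_mul, zpow_one]

theorem aut_z (hz : z ≠ 1) (α : MulAut Q) : α z = z := by
  have h1 : α z ∈ Subgroup.zpowers z := by
    refine hQ.cent _ (Subgroup.mem_top _) (fun g _ => ?_)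
    have h2 := hQ.zcent (α⁻¹ g) (Subgroup.mem_top _)
    have h3 := congrArg α h2
    rw [map_mul, map_mul, MulAut.apply_inv_self] at h3
    exact h3.symm
  rcases zp_two hQ h1 with h | h
  · exfalso
    apply hz
    have : α z = α 1 := by rw [h, map_one]
    exact α.injective this
  · exact h

theorem aut_zp (hz : z ≠ 1) (α : MulAut Q) {c : Q} (hc : c ∈ Subgroup.zpowers z) : α c = c := by
  rcases zp_two hQ hc with h | h
  · rw [h, map_one]
  · rw [h]; exact aut_z hQ hz α

theorem Cong.map (hz : z ≠ 1) (α : MulAut Q) {a b : Q} (h : Cong z a b) : Cong z (α a) (α b) := by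
  unfold Cong at *
  have := aut_zp hQ hz α h
  rw [map_mul, map_inv] at this
  rw [this]; exact h

omit hQ in
/-- elements of `⟨z⟩` are congruent to `1` -/
theorem cong_one_iff {a : Q} : Cong z a 1 ↔ a ∈ Subgroup.zpowers z := by
  unfold Cong; rw [inv_one, mul_one]

/-- an automorphism trivial modulo `⟨z⟩` has order at most two -/
theorem sq_eq_one_of_triv (hz : z ≠ 1) (ψ : MulAut Q) (h : ∀ x, Cong z (ψ x) x) : ψ * ψ = 1 := by
  ext x
  rw [MulAut.mul_apply, MulAut.one_apply]
  obtain ⟨c, hc, hx⟩ := (cong_iff hQ).mp (h x)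
  rw [hx, map_mul, hx, aut_zp hQ hz ψ hc, mul_assoc, ← pow_two, hQ.zp_pow hc, mul_one]

theorem Cong.mul {a a' b b' : Q} (h1 : Cong z a a') (h2 : Cong z b b') :
    Cong z (a * b) (a' * b') := by
  obtain ⟨c, hc, rfl⟩ := (cong_iff hQ).mp h1
  obtain ⟨d, hd, rfl⟩ := (cong_iff hQ).mp h2
  refine (cong_iff hQ).mpr ⟨c * d, Subgroup.mul_mem _ hc hd, ?_⟩
  have := (hQ.zp_comm hc (Subgroup.mem_top b')).eq
  calc a' * c * (b' * d) = a' * (c * b') * d := by group
    _ = a' * (b' * c) * d := by rw [this]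
    _ = a' * b' * (c * d) := by group

theorem Cong.inv {a a' : Q} (h1 : Cong z a a') : Cong z a⁻¹ a'⁻¹ := by
  obtain ⟨c, hc, rfl⟩ := (cong_iff hQ).mp h1
  refine (cong_iff hQ).mpr ⟨c⁻¹, Subgroup.inv_mem _ hc, ?_⟩
  have := (hQ.zp_comm hc (Subgroup.mem_top a')).eq
  rw [mul_inv_rev]
  have h2 := (hQ.zp_comm (Subgroup.inv_mem _ hc) (Subgroup.mem_top a'⁻¹)).eq
  exact h2.symm

end XC

/-- the hypotheses -/
structure Setup (z : Q) (φ t : MulAut Q) : Prop where
  hQ : XCond 2 (⊤ : Subgroup Q) z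
  hz : z ≠ 1
  hcard : Nat.card Q = 32
  hφ5 : φ ^ 5 = 1
  hφ1 : φ ≠ 1
  ht2 : t * t = 1
  hrel : ∀ h : Q, Cong z (t (φ (t (φ h)))) h

namespace Setup

variable {φ t : MulAut Q} (S : Setup z φ t)
include S

theorem finite : Finite Q := Nat.finite_of_card_ne_zero (by rw [S.hcard]; norm_num)

theorem inv_zpowers {Y : Subgroup Q} (hY : ∀ y ∈ Y, φ y ∈ Y) :
    Inv ↥(Subgroup.zpowers φ) Y := by
  have hk : ∀ (k : ℕ) (y : Q), y ∈ Y → (φ ^ k) y ∈ Y := by
    intro k
    induction k with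
    | zero => intro y hy; rw [pow_zero]; exact hy
    | succ k ih =>
      intro y hy
      rw [pow_succ', MulAut.mul_apply]
      exact hY _ (ih y hy)
  intro a y hy
  have ha : (a : MulAut Q) ∈ Submonoid.powers φ := by
    have hφfin : IsOfFinOrder φ := isOfFinOrder_iff_pow_eq_one.mpr ⟨5, by norm_num, S.hφ5⟩
    exact hφfin.mem_powers_iff_mem_zpowers.mpr a.2
  obtain ⟨k, hk'⟩ := ha
  show (a : MulAut Q) y ∈ Y
  rw [← hk']
  exact hk k y hy

/-- the basic divisibility: `5 ∣ |Y| - |C|`. -/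
theorem five_dvd (C Y : Subgroup Q) (hCY : C ≤ Y) (hY : ∀ y ∈ Y, φ y ∈ Y) (hC : ∀ y ∈ C, φ y ∈ C)
    (hfree : ∀ x ∈ Y, φ x = x → x ∈ C) : 5 ∣ Nat.card Y - Nat.card C := by
  have hfinQ := S.finite
  have hp5 : Fact (Nat.Prime 5) := ⟨by norm_num⟩
  have hord : orderOf φ = 5 := orderOf_eq_prime S.hφ5 S.hφ1
  have hcardA : Nat.card ↥(Subgroup.zpowers φ) = 5 := by rw [Nat.card_zpowers, hord]
  have hfin : Finite ↥(Subgroup.zpowers φ) := Nat.finite_of_card_ne_zero (by rw [hcardA]; norm_num)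
  rw [← hcardA]
  refine free_dvd' C Y hCY (S.inv_zpowers hY) (S.inv_zpowers hC) ?_
  intro a ha x hx hax
  apply hfree x hx
  have htop : Subgroup.zpowers a = ⊤ := zpowers_eq_top_of_prime_card hcardA ha
  have hφmem : (⟨φ, Subgroup.mem_zpowers φ⟩ : ↥(Subgroup.zpowers φ)) ∈ Subgroup.zpowers a := by
    rw [htop]; exact Subgroup.mem_top _
  obtain ⟨k, hk⟩ := Subgroup.mem_zpowers_iff.mp hφmem
  have hstab : a ∈ MulAction.stabilizer ↥(Subgroup.zpowers φ) x := hax
  have h2 : a ^ k ∈ MulAction.stabilizer ↥(Subgroup.zpowers φ) x := Subgroup.zpow_mem _ hstab k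
  rw [hk] at h2
  exact h2

theorem card_zp : Nat.card ↥(Subgroup.zpowers z) = 2 := by
  have : Fact (Nat.Prime 2) := ⟨Nat.prime_two⟩
  exact S.hQ.card_zp S.hz

/-- a subgroup between `⟨z⟩` and `Q` whose order is `≡ 2 mod 5` is one of the two. -/
theorem eq_of_five_dvd (Y : Subgroup Q) (hZY : Subgroup.zpowers z ≤ Y)
    (h5 : 5 ∣ Nat.card Y - 2) : Y = Subgroup.zpowers z ∨ Y = ⊤ := by
  have hfinQ := S.finite
  have hdvd : Nat.card Y ∣ 32 := by rw [← S.hcard]; exact Subgroup.card_subgroup_dvd_card Y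
  have h2le : 2 ≤ Nat.card Y := by rw [← S.card_zp]; exact Subgroup.card_le_of_le hZY
  have hdvd' : Nat.card Y ∣ 2 ^ 5 := by norm_num; exact hdvd
  obtain ⟨k, hk, hk'⟩ := (Nat.dvd_prime_pow Nat.prime_two).mp hdvd'
  rw [hk'] at h5 h2le
  interval_cases k
  · norm_num at h2le
  · left
    symm
    apply Subgroup.eq_of_le_of_card_ge hZY
    rw [hk', S.card_zp]; norm_num
  · norm_num at h5
  · norm_num at h5
  · norm_num at h5
  · right
    apply Subgroup.eq_top_of_card_eq
    rw [hk', S.hcard]; norm_num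

/-- the fixed points of `φ` are central -/
theorem fix_phi (h : Q) (hh : φ h = h) : h ∈ Subgroup.zpowers z := by
  have hfinQ := S.finite
  let C : Subgroup Q :=
    { carrier := {h | φ h = h}
      mul_mem' := by
        intro a b ha hb
        show φ (a * b) = a * b
        rw [map_mul, ha, hb]
      one_mem' := map_one φ
      inv_mem' := by
        intro a ha
        show φ a⁻¹ = a⁻¹
        rw [map_inv, ha] }
  have hCmem : ∀ x, x ∈ C ↔ φ x = x := fun x => Iff.rfl
  have hZC : Subgroup.zpowers z ≤ C := fun c hc => aut_zp S.hQ S.hz φ hc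
  have h5 := S.five_dvd C ⊤ le_top (fun y _ => Subgroup.mem_top _)
    (fun y hy => by rw [hCmem] at hy ⊢; rw [hy, hy]) (fun x _ hx => hx)
  have hdvd : Nat.card C ∣ 32 := by rw [← S.hcard]; exact Subgroup.card_subgroup_dvd_card C
  have h2le : 2 ≤ Nat.card C := by rw [← S.card_zp]; exact Subgroup.card_le_of_le hZC
  rw [Subgroup.card_top, S.hcard] at h5
  have hdvd' : Nat.card C ∣ 2 ^ 5 := by norm_num; exact hdvd
  obtain ⟨k, hk, hk'⟩ := (Nat.dvd_prime_pow Nat.prime_two).mp hdvd'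
  rw [hk'] at h5 h2le
  interval_cases k
  · norm_num at h2le
  · have : Subgroup.zpowers z = C := by
      apply Subgroup.eq_of_le_of_card_ge hZC
      rw [hk', S.card_zp]; norm_num
    rw [this, hCmem]; exact hh
  · norm_num at h5
  · norm_num at h5
  · norm_num at h5
  · exfalso
    apply S.hφ1
    have hCtop : C = ⊤ := by
      apply Subgroup.eq_top_of_card_eq
      rw [hk', S.hcard]; norm_num
    ext x
    have : x ∈ C := by rw [hCtop]; exact Subgroup.mem_top x
    rw [MulAut.one_apply]; exact this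

/-- `φ` acts irreducibly on `Q/⟨z⟩` -/
theorem irr_phi (Y : Subgroup Q) (hZY : Subgroup.zpowers z ≤ Y) (hY : ∀ y ∈ Y, φ y ∈ Y) :
    Y = Subgroup.zpowers z ∨ Y = ⊤ := by
  apply S.eq_of_five_dvd Y hZY
  have := S.five_dvd (Subgroup.zpowers z) Y hZY hY
    (fun c hc => by rw [aut_zp S.hQ S.hz φ hc]; exact hc) (fun x _ hx => S.fix_phi x hx)
  rwa [S.card_zp] at this

/-- `φ²` has no fixed points on `Q/⟨z⟩` -/
theorem fix_phi_sq (h : Q) (hh : Cong z (φ (φ h)) h) : h ∈ Subgroup.zpowers z := by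
  let Y : Subgroup Q :=
    { carrier := {h | Cong z (φ (φ h)) h}
      mul_mem' := by
        intro a b ha hb
        show Cong z (φ (φ (a * b))) (a * b)
        rw [map_mul, map_mul]
        exact Cong.mul S.hQ ha hb
      one_mem' := by
        show Cong z (φ (φ 1)) 1
        rw [map_one, map_one]; exact Cong.refl 1
      inv_mem' := by
        intro a ha
        show Cong z (φ (φ a⁻¹)) a⁻¹
        rw [map_inv, map_inv]
        exact Cong.inv S.hQ ha }
  have hYmem : ∀ x, x ∈ Y ↔ Cong z (φ (φ x)) x := fun x => Iff.rfl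
  have hZY : Subgroup.zpowers z ≤ Y := by
    intro c hc
    rw [hYmem, aut_zp S.hQ S.hz φ hc, aut_zp S.hQ S.hz φ hc]
    exact Cong.refl c
  rcases S.irr_phi Y hZY (fun y hy => by
    rw [hYmem] at hy ⊢
    exact Cong.map S.hQ S.hz φ hy) with h1 | h1
  · rw [← h1, hYmem]; exact hh
  · exfalso
    apply S.hφ1
    have htriv : ∀ x, Cong z ((φ * φ) x) x := by
      intro x
      have : x ∈ Y := by rw [h1]; exact Subgroup.mem_top x
      exact this
    have h4 : (φ * φ) * (φ * φ) = 1 := sq_eq_one_of_triv S.hQ S.hz (φ * φ) htriv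
    have h5 := S.hφ5
    calc φ = φ ^ 5 * ((φ * φ) * (φ * φ))⁻¹ := by group
      _ = 1 := by rw [h5, h4, inv_one, mul_one]

theorem tt (x : Q) : t (t x) = x := by
  have := congrArg (fun a : MulAut Q => a x) S.ht2
  simpa using this

/-- the preimage of the fixed points of `t` on `Q/⟨z⟩` -/
def U : Subgroup Q :=
  { carrier := {h | Cong z (t h) h}
    mul_mem' := by
      intro a b ha hb
      show Cong z (t (a * b)) (a * b)
      rw [map_mul]
      exact Cong.mul S.hQ ha hb
    one_mem' := by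
      show Cong z (t 1) 1
      rw [map_one]; exact Cong.refl 1
    inv_mem' := by
      intro a ha
      show Cong z (t a⁻¹) a⁻¹
      rw [map_inv]
      exact Cong.inv S.hQ ha }

theorem mem_U (x : Q) : x ∈ S.U ↔ Cong z (t x) x := Iff.rfl

theorem zp_le_U : Subgroup.zpowers z ≤ S.U := by
  intro c hc
  rw [S.mem_U, aut_zp S.hQ S.hz t hc]
  exact Cong.refl c

theorem U_inf : S.U ⊓ S.U.map (φ : Q →* Q) ≤ Subgroup.zpowers z := by
  intro h hh
  rw [Subgroup.mem_inf] at hh
  obtain ⟨h1, h', h2', rfl⟩ := hh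
  have h2 : h' ∈ S.U := h2'
  rw [S.mem_U] at h1 h2
  have e1 : (φ : Q →* Q) h' = φ h' := rfl
  rw [e1] at h1 ⊢
  -- t φ t φ h' ≡ t φ φ h'
  have h3 : Cong z (t (φ (t (φ h')))) (t (φ (φ h'))) :=
    Cong.map S.hQ S.hz t (Cong.map S.hQ S.hz φ h1)
  have h4 : Cong z h' (t (φ (φ h'))) := (S.hrel h').symm.trans h3
  have h5 : Cong z (t h') (φ (φ h')) := by
    have := Cong.map S.hQ S.hz t h4
    rwa [S.tt] at this
  have h6 : Cong z (φ (φ h')) h' := h5.symm.trans h2
  have h7 := S.fix_phi_sq h' h6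
  rw [aut_zp S.hQ S.hz φ h7]
  exact h7

theorem card_U_le : Nat.card S.U ≤ 8 := by
  have hfinQ := S.finite
  have hn : (S.U.map (φ : Q →* Q)).Normal := by
    apply normal_of_le S.hQ
    intro c hc
    exact ⟨c, S.zp_le_U hc, aut_zp S.hQ S.hz φ hc⟩
  have h1 := card_sup_mul_card_inf S.U (S.U.map (φ : Q →* Q))
  have h2 : Nat.card ↥(S.U.map (φ : Q →* Q)) = Nat.card S.U :=
    Subgroup.card_map_of_injective φ.injective
  have h3 : Nat.card ↥(S.U ⊓ S.U.map (φ : Q →* Q)) ≤ 2 := by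
    rw [← S.card_zp]; exact Subgroup.card_le_of_le S.U_inf
  have h4 : Nat.card ↥(S.U ⊔ S.U.map (φ : Q →* Q)) ≤ 32 := by
    rw [← S.hcard]; exact Subgroup.card_le_card_group _
  rw [h2] at h1
  have h5 : Nat.card S.U * Nat.card S.U ≤ 32 * 2 := by
    rw [← h1]; exact Nat.mul_le_mul h4 h3
  by_contra hcon
  push Not at hcon
  have : 9 * 9 ≤ Nat.card S.U * Nat.card S.U := Nat.mul_le_mul hcon hcon
  omega

/-- the main theorem: `t` centralizes fewer than 8 elements -/
theorem main (F : Subgroup Q) (hF : ∀ h ∈ F, t h = h) : Nat.card F < 8 := by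
  have hfinQ := S.finite
  by_contra hcon
  push Not at hcon
  have hFU : F ≤ S.U := by
    intro h hh
    rw [S.mem_U, hF h hh]; exact Cong.refl h
  have hFeq : F = S.U := Subgroup.eq_of_le_of_card_ge hFU (S.card_U_le.trans hcon)
  -- (★)
  have hstar : ∀ h : Q, Commute h (t h) := by
    intro h
    have hu : h * t h ∈ S.U := by
      rw [S.mem_U, map_mul, S.tt]
      exact cong_comm S.hQ (t h) h
    rw [← hFeq] at hu
    have := hF _ hu
    rw [map_mul, S.tt] at this
    exact this.symm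
  -- t ψ ≡ φ t with ψ = φ⁻¹
  have hR1 : ∀ x : Q, Cong z (t (φ⁻¹ x)) (φ (t x)) := by
    intro x
    have h1 := S.hrel (φ⁻¹ x)
    rw [MulAut.apply_inv_self] at h1
    have h2 := Cong.map S.hQ S.hz t h1
    rw [S.tt] at h2
    exact h2.symm
  have hP : ∀ (j : ℕ) (x : Q), Cong z (t ((φ⁻¹ ^ j) x)) ((φ ^ j) (t x)) := by
    intro j
    induction j with
    | zero => intro x; rw [pow_zero, pow_zero]; exact Cong.refl _
    | succ k ih =>
      intro x
      rw [pow_succ, pow_succ', MulAut.mul_apply, MulAut.mul_apply]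
      have h1 := ih (φ⁻¹ x)
      have h2 := Cong.map S.hQ S.hz (φ ^ k) (hR1 x)
      have h3 := h1.trans h2
      have e1 : (φ ^ k) (φ (t x)) = (φ ^ (k + 1)) (t x) := by
        rw [pow_succ, MulAut.mul_apply]
      have e2 : φ ((φ ^ k) (t x)) = (φ ^ (k + 1)) (t x) := by
        rw [pow_succ', MulAut.mul_apply]
      rw [e1] at h3
      rw [e2]
      exact h3
  -- h commutes with φ^(2j) (t h)
  have hcomm : ∀ (h : Q) (j : ℕ), Commute h ((φ ^ (2 * j)) (t h)) := by
    intro h j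
    have h1 := hstar ((φ⁻¹ ^ j) h)
    have h2 : Commute ((φ ^ j) ((φ⁻¹ ^ j) h)) ((φ ^ j) (t ((φ⁻¹ ^ j) h))) := h1.map (φ ^ j)
    have e1 : (φ ^ j) ((φ⁻¹ ^ j) h) = h := by
      rw [← MulAut.mul_apply, inv_pow, mul_inv_cancel, MulAut.one_apply]
    rw [e1] at h2
    have h3 := Cong.map S.hQ S.hz (φ ^ j) (hP j h)
    have e2 : (φ ^ j) ((φ ^ j) (t h)) = (φ ^ (2 * j)) (t h) := by
      rw [two_mul, pow_add, MulAut.mul_apply]
    rw [e2] at h3
    exact Cong.commute S.hQ h3 h2
  have hcomm' : ∀ (h : Q) (i : ℕ), Commute h ((φ ^ i) (t h)) := by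
    intro h i
    have := hcomm h (3 * i)
    have e : φ ^ (2 * (3 * i)) = φ ^ i := by
      have : 2 * (3 * i) = i + 5 * i := by ring
      rw [this, pow_add, pow_mul, S.hφ5, one_pow, mul_one]
    rwa [e] at this
  -- pick h ∉ Z
  obtain ⟨h, hh⟩ : ∃ h : Q, h ∉ Subgroup.zpowers z := by
    by_contra hcon2
    push Not at hcon2
    have htop : Subgroup.zpowers z = ⊤ := by
      rw [eq_top_iff]; intro x _; exact hcon2 x
    have := S.card_zp
    rw [htop, Subgroup.card_top, S.hcard] at this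
    norm_num at this
  have hth : t h ∉ Subgroup.zpowers z := by
    intro hc
    apply hh
    have := aut_zp S.hQ S.hz t hc
    rw [S.tt] at this
    rw [this]; exact hc
  let Y : Subgroup Q := Subgroup.closure ((Subgroup.zpowers z : Set Q) ∪ {y | ∃ i : ℕ, y = (φ ^ i) (t h)})
  have hZY : Subgroup.zpowers z ≤ Y := fun c hc => Subgroup.subset_closure (Or.inl hc)
  have hYinv : ∀ y ∈ Y, φ y ∈ Y := by
    intro y hy
    have : Y.map (φ : Q →* Q) ≤ Y := by
      rw [MonoidHom.map_closure, Subgroup.closure_le]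
      rintro _ ⟨x, hx, rfl⟩
      rcases hx with hx | ⟨i, rfl⟩
      · have e : (φ : Q →* Q) x = x := aut_zp S.hQ S.hz φ hx
        rw [e]; exact hZY hx
      · apply Subgroup.subset_closure
        right
        refine ⟨i + 1, ?_⟩
        show φ ((φ ^ i) (t h)) = (φ ^ (i + 1)) (t h)
        rw [pow_succ', MulAut.mul_apply]
    exact this ⟨y, hy, rfl⟩
  have hYtop : Y = ⊤ := by
    rcases S.irr_phi Y hZY hYinv with h1 | h1
    · exfalso
      apply hth
      rw [← h1]
      exact Subgroup.subset_closure (Or.inr ⟨0, by rw [pow_zero, MulAut.one_apply]⟩)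
    · exact h1
  -- h is central
  have hcent : ∀ g : Q, h * g = g * h := by
    intro g
    have hg : g ∈ Y := by rw [hYtop]; exact Subgroup.mem_top g
    have hle : Y ≤ Subgroup.centralizer {h} := by
      rw [Subgroup.closure_le]
      rintro x (hx | ⟨i, rfl⟩)
      · exact Subgroup.mem_centralizer_singleton_iff.mpr (S.hQ.zp_comm hx (Subgroup.mem_top h)).eq.symm
      · exact Subgroup.mem_centralizer_singleton_iff.mpr (hcomm' h i).eq.symm
    exact (Subgroup.mem_centralizer_singleton_iff.mp (hle hg)).symm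
  exact hh (S.hQ.cent h (Subgroup.mem_top _) (fun g _ => hcent g))

end Setup

end Cfsg.Agent.Lib.helper17.E32
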