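import Mathlib

set_option autoImplicit false

namespace Cfsg.Agent.Lib.helper17.E32W

/-- groups of order 10: an involution centralizes or inverts an element of order 5 -/
theorem order10 {K : Type*} [Group K] (hK : Nat.card K = 10) (a b : K) (ha : orderOf a = 5)
    (hb : orderOf b = 2) : b * a * b⁻¹ = a ∨ b * a * b * a = 1 := by
  have hfin : Finite K := Nat.finite_of_card_ne_zero (by rw [hK]; norm_num)
  have hbb : b * b = 1 := by rw [← pow_two, ← hb]; exact pow_orderOf_eq_one b
  have hbinv : b⁻¹ = b := inv_eq_of_mul_eq_one_right hbb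
  have hidx : (Subgroup.zpowers a).index = 2 := by
    have h1 := Subgroup.card_mul_index (Subgroup.zpowers a)
    rw [Nat.card_zpowers, ha, hK] at h1
    omega
  have hn : (Subgroup.zpowers a).Normal := Subgroup.normal_of_index_eq_two hidx
  have hmem : b * a * b⁻¹ ∈ Subgroup.zpowers a := hn.conj_mem a (Subgroup.mem_zpowers a) b
  have hafin : IsOfFinOrder a := isOfFinOrder_of_finite a
  obtain ⟨k, hk⟩ : ∃ k : ℕ, a ^ k = b * a * b⁻¹ := hafin.mem_powers_iff_mem_zpowers.mpr hmem
  -- conjugating twice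
  have h2 : a ^ (k * k) = a ^ 1 := by
    rw [pow_one, pow_mul, hk]
    have : (b * a * b⁻¹) ^ k = b * a ^ k * b⁻¹ := conj_pow
    rw [this, hk, hbinv]
    calc b * (b * a * b) * b = (b * b) * a * (b * b) := by group
      _ = a := by rw [hbb, one_mul, mul_one]
  rw [pow_eq_pow_iff_modEq, ha] at h2
  have h3 : a ^ k = a ^ (k % 5) := by rw [← ha]; exact (pow_mod_orderOf a k).symm
  have hk5 : k % 5 < 5 := Nat.mod_lt _ (by norm_num)
  have h4 : (k % 5) * (k % 5) ≡ 1 [MOD 5] := by
    have : k * k ≡ (k % 5) * (k % 5) [MOD 5] := (Nat.mod_modEq k 5).symm.mul (Nat.mod_modEq k 5).symm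
    exact this.symm.trans h2
  rw [h3] at hk
  generalize k % 5 = m at hk hk5 h4
  interval_cases m
  · exfalso; exact absurd h4 (by decide)
  · left; rw [← hk, pow_one]
  · exfalso; exact absurd h4 (by decide)
  · exfalso; exact absurd h4 (by decide)
  · right
    have : b * a * b * a = (b * a * b⁻¹) * a := by rw [hbinv]
    rw [this, ← hk, ← pow_succ]
    have : a ^ orderOf a = 1 := pow_orderOf_eq_one a
    rw [ha] at this
    exact this

/-- in a group of order 10 an involution commuting with an element of order 5 is central -/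
theorem central10 {K : Type*} [Group K] (hK : Nat.card K = 10) (a b : K) (ha : orderOf a = 5)
    (hb : orderOf b = 2) (hab : b * a * b⁻¹ = a) : (Subgroup.zpowers b).Normal := by
  have hfin : Finite K := Nat.finite_of_card_ne_zero (by rw [hK]; norm_num)
  have hC : Subgroup.centralizer {b} = ⊤ := by
    apply Subgroup.eq_top_of_card_eq
    have h1 : a ∈ Subgroup.centralizer {b} := by
      rw [Subgroup.mem_centralizer_singleton_iff]
      have : b * a * b⁻¹ * b = a * b := by rw [hab]
      rw [← this]; group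
    have h2 : b ∈ Subgroup.centralizer {b} := by
      rw [Subgroup.mem_centralizer_singleton_iff]
    have h3 : 5 ∣ Nat.card ↥(Subgroup.centralizer {b}) := by
      rw [← ha]
      have := Subgroup.orderOf_dvd_natCard (Subgroup.centralizer {b}) h1
      exact this
    have h4 : 2 ∣ Nat.card ↥(Subgroup.centralizer {b}) := by
      rw [← hb]
      exact Subgroup.orderOf_dvd_natCard (Subgroup.centralizer {b}) h2
    have h5 : Nat.card ↥(Subgroup.centralizer {b}) ∣ 10 := by
      rw [← hK]; exact Subgroup.card_subgroup_dvd_card _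
    have h6 : 10 ∣ Nat.card ↥(Subgroup.centralizer {b}) :=
      Nat.Coprime.mul_dvd_of_dvd_of_dvd (by norm_num : Nat.Coprime 2 5) h4 h3
    rw [hK]
    exact Nat.dvd_antisymm h5 h6
  refine ⟨fun n hn g => ?_⟩
  have hg : g ∈ Subgroup.centralizer {b} := by rw [hC]; exact Subgroup.mem_top g
  have hgn : g ∈ Subgroup.centralizer {n} := by
    obtain ⟨k, rfl⟩ := Subgroup.mem_zpowers_iff.mp hn
    rw [Subgroup.mem_centralizer_singleton_iff] at hg ⊢
    exact ((Commute.zpow_right (show Commute g b from hg) k)).eq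
  rw [Subgroup.mem_centralizer_singleton_iff] at hgn
  rw [hgn, mul_inv_cancel_right]
  exact hn

/-- an element of order 5 is not in a 2-group -/
theorem not_mem_of_order5 {G : Type*} [Group G] (H : Subgroup G) (hH2 : IsPGroup 2 H) (f : G)
    (hf : orderOf f = 5) : f ∉ H := by
  intro hfH
  obtain ⟨k, hk⟩ := hH2 ⟨f, hfH⟩
  have h1 : f ^ 2 ^ k = 1 := by
    have := congrArg Subtype.val hk
    simpa using this
  have h2 : 5 ∣ 2 ^ k := by rw [← hf]; exact orderOf_dvd_of_pow_eq_one h1
  have h3 : 5 ∣ 2 := Nat.Prime.dvd_of_dvd_pow (by norm_num) h2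
  omega

/-- an element of order 5 does not centralize `O₂(G) = F(G)` when the index is 10 -/
theorem not_centralize {G : Type*} [Group G] [Finite G] (H : Subgroup G) [hHn : H.Normal]
    (hH2 : IsPGroup 2 H) (hidx : H.index = 10)
    (hFit : ∀ N : Subgroup G, N.Normal → Group.IsNilpotent N → N ≤ H) (f : G)
    (hf : orderOf f = 5) : ∃ h ∈ H, f * h * f⁻¹ ≠ h := by
  by_contra hcon
  push Not at hcon
  have hfH : f ∉ H := not_mem_of_order5 H hH2 f hf
  have hcardK : Nat.card (G ⧸ H) = 10 := by rw [← Subgroup.index_eq_card]; exact hidx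
  have hf5 : f ^ 5 = 1 := by rw [← hf]; exact pow_orderOf_eq_one f
  set a : G ⧸ H := QuotientGroup.mk' H f with ha
  have ha5 : orderOf a = 5 := by
    have h1 : a ^ 5 = 1 := by rw [ha, ← map_pow, hf5, map_one]
    have h2 : a ≠ 1 := by
      intro h
      exact hfH ((QuotientGroup.eq_one_iff f).mp h)
    have : Fact (Nat.Prime 5) := ⟨by norm_num⟩
    exact orderOf_eq_prime h1 h2
  have hidxa : (Subgroup.zpowers a).index = 2 := by
    have h1 := Subgroup.card_mul_index (Subgroup.zpowers a)
    rw [Nat.card_zpowers, ha5, hcardK] at h1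
    omega
  have hna : (Subgroup.zpowers a).Normal := Subgroup.normal_of_index_eq_two hidxa
  -- conjugates of f are powers of f
  have hconj : ∀ g : G, g * f * g⁻¹ ∈ Subgroup.zpowers f := by
    intro g
    have h1 : QuotientGroup.mk' H (g * f * g⁻¹) ∈ Subgroup.zpowers a := by
      rw [map_mul, map_mul, map_inv]
      exact hna.conj_mem a (Subgroup.mem_zpowers a) _
    obtain ⟨i, hi⟩ := Subgroup.mem_zpowers_iff.mp h1
    have h2 : (g * f * g⁻¹) * (f ^ i)⁻¹ ∈ H := by
      rw [← QuotientGroup.eq_one_iff, ← QuotientGroup.mk'_apply, map_mul, map_inv, map_zpow, ← ha, hi,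
        mul_inv_cancel]
    set h := (g * f * g⁻¹) * (f ^ i)⁻¹ with hh
    have hx : g * f * g⁻¹ = h * f ^ i := by rw [hh]; group
    have hcomm : Commute h (f ^ i) := by
      have h3 : f * h * f⁻¹ = h := hcon h h2
      have h4 : Commute f h := by
        show f * h = h * f
        have : f * h * f⁻¹ * f = h * f := by rw [h3]
        rw [← this]; group
      exact (h4.zpow_left i).symm
    have h5 : (g * f * g⁻¹) ^ 5 = 1 := by
      rw [conj_pow, hf5, mul_one, mul_inv_cancel]
    have e : (f ^ i) ^ 5 = 1 := by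
      have : (f ^ i) ^ (5 : ℕ) = (f ^ (5 : ℕ)) ^ i := by
        rw [← zpow_natCast (f ^ i), ← zpow_mul, mul_comm, zpow_mul, zpow_natCast]
      rw [this, hf5, one_zpow]
    rw [hx, hcomm.mul_pow, e, mul_one] at h5
    have h6 : h = 1 := by
      obtain ⟨k, hk⟩ := hH2 ⟨h, h2⟩
      have h7 : h ^ 2 ^ k = 1 := by
        have := congrArg Subtype.val hk
        simpa using this
      have h8 : orderOf h ∣ 5 := orderOf_dvd_of_pow_eq_one h5
      have h9 : orderOf h ∣ 2 ^ k := orderOf_dvd_of_pow_eq_one h7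
      have h10 : orderOf h ∣ Nat.gcd 5 (2 ^ k) := Nat.dvd_gcd h8 h9
      have h11 : Nat.gcd 5 (2 ^ k) = 1 := Nat.Coprime.pow_right k (by norm_num)
      rw [h11, Nat.dvd_one] at h10
      exact orderOf_eq_one_iff.mp h10
    rw [hx, h6, one_mul]
    exact Subgroup.zpow_mem_zpowers f i
  have hFn : (Subgroup.zpowers f).Normal := by
    refine ⟨fun n hn g => ?_⟩
    obtain ⟨j, rfl⟩ := Subgroup.mem_zpowers_iff.mp hn
    have : g * f ^ j * g⁻¹ = (g * f * g⁻¹) ^ j := by
      rw [conj_zpow]
    rw [this]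
    exact Subgroup.zpow_mem _ (hconj g) j
  have hFnil : Group.IsNilpotent ↥(Subgroup.zpowers f) := by
    have : Fact (Nat.Prime 5) := ⟨by norm_num⟩
    have hcard : Nat.card ↥(Subgroup.zpowers f) = 5 ^ 1 := by rw [Nat.card_zpowers, hf, pow_one]
    exact (IsPGroup.of_card hcard).isNilpotent
  exact hfH (hFit _ hFn hFnil (Subgroup.mem_zpowers f))

end Cfsg.Agent.Lib.helper17.E32W
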