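import Mathlib

set_option autoImplicit false

namespace Cfsg.Agent.Lib.helper17.Exp6

section ring
variable {R : Type*} [Ring R]

theorem key_zero (h3 : (3 : R) = 0) (u v x : R) (huu : u * u = 1) (hvv : v * v = 1)
    (huv : u * v = v * u) (hxv : x * v = u * v * x) (hxw : x * (u * v) = u * x)
    (hN : 1 + x + x * x = 0) : (1 - u) * (1 + v) = 0 := by
  obtain ⟨n, hn⟩ : ∃ n : R, n = (1 - u) * (1 + v) := ⟨_, rfl⟩
  rw [← hn]
  have hun : u * n = -n := by
    rw [hn, ← mul_assoc, mul_sub, mul_one, huu]; noncomm_ring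
  have hvn : v * n = n := by
    have h1 : v * (1 - u) = (1 - u) * v := by rw [mul_sub, sub_mul, mul_one, one_mul, huv]
    rw [hn, ← mul_assoc, h1, mul_assoc, mul_add, mul_one, hvv, add_comm]
  have hux : u * x = x * (u * v) := hxw.symm
  have huxx : u * (x * x) = x * x * v := by
    rw [← mul_assoc, hux, mul_assoc x (u * v) x, ← hxv, mul_assoc]
  have e1 : n + x * n + x * x * n = 0 := by
    have := congrArg (· * n) hN
    simpa [add_mul] using this
  have e2 : -n - x * n + x * x * n = 0 := by
    have h := congrArg (u * ·) e1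
    simp only [mul_add, mul_zero] at h
    rw [hun, ← mul_assoc u x n, hux, mul_assoc x (u * v) n, mul_assoc u v n, hvn, hun,
      ← mul_assoc u (x * x) n, huxx, mul_assoc (x * x) v n, hvn, mul_neg] at h
    rw [← h]; abel
  have e3 : x * x * n + x * x * n = 0 := by
    have := congrArg₂ (· + ·) e1 e2
    simp only [add_zero] at this
    rw [← this]; abel
  have e4 : x * x * n = 0 := by
    have h : (3 : R) * (x * x * n) = 0 := by rw [h3, zero_mul]
    have h' : (3 : R) * (x * x * n) = x * x * n + (x * x * n + x * x * n) := by noncomm_ring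
    rw [h', e3, add_zero] at h
    exact h
  have hx3 : x * x * x = 1 := by
    have h : (x - 1) * (1 + x + x * x) = 0 := by rw [hN, mul_zero]
    have h' : (x - 1) * (1 + x + x * x) = x * x * x - 1 := by noncomm_ring
    rw [h'] at h
    exact sub_eq_zero.mp h
  calc n = x * x * x * n := by rw [hx3, one_mul]
    _ = x * (x * x * n) := by noncomm_ring
    _ = 0 := by rw [e4, mul_zero]

theorem u_eq_one (h3 : (3 : R) = 0) (u v x : R) (huu : u * u = 1) (hvv : v * v = 1)
    (huv : u * v = v * u) (hxu : x * u = v * x) (hxv : x * v = u * v * x)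
    (hxw : x * (u * v) = u * x) (hN : 1 + x + x * x = 0) : u = 1 := by
  have k1 := key_zero h3 u v x huu hvv huv hxv hxw hN
  have hvuv : v * (u * v) = u := by rw [← mul_assoc, ← huv, mul_assoc, hvv, mul_one]
  have k2 := key_zero h3 v (u * v) x hvv
    (by rw [mul_assoc, hvuv, huu])
    (by rw [hvuv, mul_assoc, hvv, mul_one])
    (by rw [hvuv]; exact hxw) (by rw [hvuv]; exact hxu) hN
  have e : (1 - u) + (1 - u) = 0 := by
    have h : (1 - u) * (1 + v) + (1 - v) * (1 + u * v) = (1 - u) + (1 - u) := by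
      have : (1 - v) * (1 + u * v) = 1 + u * v - v - v * (u * v) := by noncomm_ring
      rw [this, hvuv]; noncomm_ring
    rw [← h, k1, k2, add_zero]
  have h : (3 : R) * (1 - u) = 0 := by rw [h3, zero_mul]
  have h' : (3 : R) * (1 - u) = (1 - u) + ((1 - u) + (1 - u)) := by noncomm_ring
  rw [h', e, add_zero] at h
  exact (sub_eq_zero.mp h).symm

theorem abc_eq_one (h3 : (3 : R) = 0) (a b c x : R) (haa : a * a = 1) (hbb : b * b = 1)
    (hcc : c * c = 1) (hab : a * b = b * a) (hbc : b * c = c * b) (hac : a * c = c * a)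
    (hxa : x * a = b * x) (hxb : x * b = c * x) (hxc : x * c = a * x)
    (hN : 1 + x + x * x = 0) : a * b = 1 := by
  have huv : a * b * (b * c) = a * c := by
    rw [mul_assoc, ← mul_assoc b b c, hbb, one_mul]
  apply u_eq_one h3 (a * b) (b * c) x
  · rw [mul_assoc, ← mul_assoc b a b, ← hab, mul_assoc a b b, hbb, mul_one, haa]
  · rw [mul_assoc, ← mul_assoc c b c, ← hbc, mul_assoc b c c, hcc, mul_one, hbb]
  · rw [huv]
    calc a * c = a * c * (b * b) := by rw [hbb, mul_one]
      _ = a * (c * b) * b := by noncomm_ring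
      _ = a * (b * c) * b := by rw [hbc]
      _ = (a * b) * c * b := by noncomm_ring
      _ = (b * a) * c * b := by rw [hab]
      _ = b * (a * c) * b := by noncomm_ring
      _ = b * (c * a) * b := by rw [hac]
      _ = b * c * (a * b) := by noncomm_ring
  · rw [← mul_assoc, hxa, mul_assoc, hxb, mul_assoc]
  · rw [huv, ← mul_assoc, hxb, mul_assoc, hxc, ← mul_assoc, ← hac]
  · rw [huv, ← mul_assoc, hxa, mul_assoc, hxc, ← mul_assoc, ← hab]
  · exact hN

end ring

end Cfsg.Agent.Lib.helper17.Exp6
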