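import Mathlib
import Cfsg.Agent.Lib.helper17.Exp6A

set_option autoImplicit false

namespace Cfsg.Agent.Lib.helper17.Exp6

section hom
variable {M : Type*} [Group M]

theorem hom_mul_eq_id (hcomm : ∀ a b : M, a * b = b * a) (h3 : ∀ m : M, m ^ 3 = 1)
    (A B C X : M →* M)
    (hAA : A.comp A = MonoidHom.id M) (hBB : B.comp B = MonoidHom.id M)
    (hCC : C.comp C = MonoidHom.id M)
    (hAB : A.comp B = B.comp A) (hBC : B.comp C = C.comp B) (hAC : A.comp C = C.comp A)
    (hXA : X.comp A = B.comp X) (hXB : X.comp B = C.comp X) (hXC : X.comp C = A.comp X)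
    (hN : ∀ m, m * X m * X (X m) = 1) : A.comp B = MonoidHom.id M := by
  let _ : CommGroup M := { (inferInstance : Group M) with mul_comm := hcomm }
  let T : (M →* M) → AddMonoid.End (Additive M) := fun f => MonoidHom.toAdditive f
  have hT : ∀ f g : M →* M, T (f.comp g) = T f * T g := fun f g => rfl
  have hT1 : T (MonoidHom.id M) = 1 := rfl
  have hTinj : Function.Injective T := fun f g h => MonoidHom.toAdditive.injective h
  apply hTinj
  rw [hT, hT1]
  have h3R : (3 : AddMonoid.End (Additive M)) = 0 := by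
    ext a
    have := h3 a.toMul
    simp only [AddMonoid.End.ofNat_apply, AddMonoid.End.zero_apply]
    rw [← ofMul_toMul a, ← ofMul_pow, this]; rfl
  apply abc_eq_one h3R (T A) (T B) (T C) (T X)
  · rw [← hT, hAA, hT1]
  · rw [← hT, hBB, hT1]
  · rw [← hT, hCC, hT1]
  · rw [← hT, hAB, hT]
  · rw [← hT, hBC, hT]
  · rw [← hT, hAC, hT]
  · rw [← hT, hXA, hT]
  · rw [← hT, hXB, hT]
  · rw [← hT, hXC, hT]
  · ext a
    have := hN a.toMul
    show a + Additive.ofMul (X a.toMul) + Additive.ofMul (X (X a.toMul)) = 0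
    rw [← ofMul_toMul a, ← ofMul_mul, ← ofMul_mul]
    simp only [toMul_ofMul]
    rw [this]; rfl

end hom

end Cfsg.Agent.Lib.helper17.Exp6
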