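import Mathlib
import Cfsg.Prelude.Def_Local
import Cfsg.Agent.Lib.Helper1.Frat
import Cfsg.Agent.Lib.Helper1.FrattiniFaithful
import Cfsg.Agent.Lib.helper17.Exp6B

set_option autoImplicit false

namespace Cfsg.Agent.Lib.helper17.Exp6

open scoped commutatorElement

section theta
variable {Y : Type*} [Group Y] (Q : Subgroup Y) [hQn : Q.Normal]

/-- conjugation by `g` induces an endomorphism of `Q/Φ(Q)` -/
noncomputable def th (g : Y) : (↥Q ⧸ frattini ↥Q) →* (↥Q ⧸ frattini ↥Q) :=
  QuotientGroup.map _ _ (MulAut.conjNormal g : ↥Q ≃* ↥Q).toMonoidHom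
    ((Subgroup.characteristic_iff_le_comap.mp inferInstance) _)

theorem th_mk (g : Y) (q : Q) :
    th Q g (QuotientGroup.mk q) = QuotientGroup.mk (MulAut.conjNormal g q : ↥Q) := rfl

theorem th_mul (g h : Y) : th Q (g * h) = (th Q g).comp (th Q h) := by
  refine MonoidHom.ext fun m => ?_
  induction m using QuotientGroup.induction_on with
  | H q =>
    rw [MonoidHom.comp_apply, th_mk, th_mk, th_mk, map_mul]
    rfl

theorem th_one : th Q (1 : Y) = MonoidHom.id _ := by
  refine MonoidHom.ext fun m => ?_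
  induction m using QuotientGroup.induction_on with
  | H q =>
    rw [th_mk, map_one]
    rfl

theorem th_of_mem [Finite Y] {p : ℕ} [Fact p.Prime] (hQ : IsPGroup p Q) {g : Y} (hg : g ∈ Q) :
    th Q g = MonoidHom.id _ := by
  refine MonoidHom.ext fun m => ?_
  induction m using QuotientGroup.induction_on with
  | H q =>
    rw [th_mk, MonoidHom.id_apply]
    rw [QuotientGroup.eq]
    have h1 : (MulAut.conjNormal g q : ↥Q)⁻¹ * q = ⁅(⟨g, hg⟩ : Q), q⁻¹⁆ := by
      apply Subtype.ext
      rw [commutatorElement_def]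
      simp only [Subgroup.coe_mul, Subgroup.coe_inv, MulAut.conjNormal_apply]
      group
    rw [h1]
    apply Cfsg.Agent.Lib.Helper1.pgroup_commutator_le_frattini hQ
    rw [commutator_def]
    exact Subgroup.commutator_mem_commutator (Subgroup.mem_top _) (Subgroup.mem_top _)

theorem th_eq_of [Finite Y] {p : ℕ} [Fact p.Prime] (hQ : IsPGroup p Q) {g h : Y}
    (hgh : g⁻¹ * h ∈ Q) : th Q g = th Q h := by
  have : h = g * (g⁻¹ * h) := by group
  rw [this, th_mul, th_of_mem Q hQ hgh, MonoidHom.comp_id]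

theorem mem_of_th_eq_id {g : Y} (h : th Q g = MonoidHom.id _) :
    ∀ x ∈ Q, g * x * g⁻¹ * x⁻¹ ∈ (frattini ↥Q).map Q.subtype := by
  intro x hx
  have h1 := DFunLike.congr_fun h (QuotientGroup.mk (⟨x, hx⟩ : Q))
  rw [th_mk, MonoidHom.id_apply, eq_comm, QuotientGroup.eq] at h1
  have hn : (frattini ↥Q).Normal := inferInstance
  have h2 := hn.conj_mem _ h1 ⟨x, hx⟩
  refine ⟨_, h2, ?_⟩
  simp only [Subgroup.coe_subtype, Subgroup.coe_mul, Subgroup.coe_inv, MulAut.conjNormal_apply]
  group

omit hQn in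
theorem quot_comm [Finite Y] {p : ℕ} [Fact p.Prime] (hQ : IsPGroup p Q)
    (a b : ↥Q ⧸ frattini ↥Q) : a * b = b * a := by
  induction a using QuotientGroup.induction_on with
  | H q =>
    induction b using QuotientGroup.induction_on with
    | H q' =>
      rw [← QuotientGroup.mk_mul, ← QuotientGroup.mk_mul, QuotientGroup.eq]
      have h1 : (q * q')⁻¹ * (q' * q) = ⁅q'⁻¹, q⁻¹⁆ := by
        rw [commutatorElement_def]; group
      rw [h1]
      apply Cfsg.Agent.Lib.Helper1.pgroup_commutator_le_frattini hQ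
      rw [commutator_def]
      exact Subgroup.commutator_mem_commutator (Subgroup.mem_top _) (Subgroup.mem_top _)

end theta

end Cfsg.Agent.Lib.helper17.Exp6
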