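import Mathlib
import Cfsg.Prelude.Def_Local
import Cfsg.Agent.S0144
import Cfsg.Agent.Lib.Helper1.CFitting
import Cfsg.Agent.Lib.Helper1.Fitting
import Cfsg.Agent.Lib.Helper1.FrattiniFaithful
import Cfsg.Agent.Lib.helper17.PClosed
import Cfsg.Agent.Lib.helper17.Exp6C

set_option autoImplicit false

namespace Cfsg.Agent.Lib.helper17.Exp6

open Cfsg.Agent.Lib.Helper1

section basic
variable {Y : Type*} [Group Y]

theorem pow_three_of {y : Y} (h6 : y ^ 6 = 1) {k : ℕ} (hk : y ^ (3 ^ k) = 1) : y ^ 3 = 1 := by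
  have h1 : orderOf y ∣ 2 * 3 := orderOf_dvd_of_pow_eq_one h6
  have h2 : orderOf y ∣ 3 ^ k := orderOf_dvd_of_pow_eq_one hk
  have h3 : (orderOf y).Coprime 2 :=
    Nat.Coprime.coprime_dvd_left h2 (Nat.Coprime.pow_left k (by norm_num))
  exact orderOf_dvd_iff_pow_eq_one.mp (h3.dvd_of_dvd_mul_left h1)

theorem pow_two_of {y : Y} (h6 : y ^ 6 = 1) {k : ℕ} (hk : y ^ (2 ^ k) = 1) : y ^ 2 = 1 := by
  have h1 : orderOf y ∣ 2 * 3 := orderOf_dvd_of_pow_eq_one h6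
  have h2 : orderOf y ∣ 2 ^ k := orderOf_dvd_of_pow_eq_one hk
  have h3 : (orderOf y).Coprime 3 :=
    Nat.Coprime.coprime_dvd_left h2 (Nat.Coprime.pow_left k (by norm_num))
  exact orderOf_dvd_iff_pow_eq_one.mp (h3.dvd_of_dvd_mul_right h1)

theorem eq_one_of_two_three {y : Y} (h2 : y ^ 2 = 1) (h3 : y ^ 3 = 1) : y = 1 := by
  have : y ^ 3 = y ^ 2 * y := pow_succ y 2
  rw [h3, h2, one_mul] at this
  exact this.symm

variable [Finite Y]

theorem card_eq (h6 : ∀ y : Y, y ^ 6 = 1) : ∃ a b : ℕ, Nat.card Y = 2 ^ a * 3 ^ b := by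
  have hpr : ∀ p : ℕ, p.Prime → p ∣ Nat.card Y → p = 2 ∨ p = 3 := by
    intro p hp hdvd
    have : Fact p.Prime := ⟨hp⟩
    obtain ⟨x, hx⟩ := exists_prime_orderOf_dvd_card' p hdvd
    have h1 : p ∣ 2 * 3 := hx ▸ orderOf_dvd_of_pow_eq_one (h6 x)
    rcases (Nat.Prime.dvd_mul hp).mp h1 with h | h
    · left; exact (Nat.prime_dvd_prime_iff_eq hp Nat.prime_two).mp h
    · right; exact (Nat.prime_dvd_prime_iff_eq hp Nat.prime_three).mp h
  obtain ⟨a, m, hm, hn⟩ := Nat.exists_eq_pow_mul_and_not_dvd (Nat.card_pos (α := Y)).ne' 2 (by norm_num)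
  have hm0 : m ≠ 0 := by
    rintro rfl
    exact hm (dvd_zero _)
  obtain ⟨b, m', hm', hn'⟩ := Nat.exists_eq_pow_mul_and_not_dvd hm0 3 (by norm_num)
  refine ⟨a, b, ?_⟩
  have hm1 : m' = 1 := by
    by_contra hne
    obtain ⟨p, hp, hpd⟩ := Nat.exists_prime_and_dvd hne
    have hpm : p ∣ m := hn' ▸ Dvd.dvd.mul_left hpd _
    have hpY : p ∣ Nat.card Y := hn ▸ Dvd.dvd.mul_left hpm _
    rcases hpr p hp hpY with rfl | rfl
    · exact hm hpm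
    · exact hm' hpd
  rw [hn, hn', hm1, mul_one]

theorem solvable (h6 : ∀ y : Y, y ^ 6 = 1) : Group.IsSolvable Y := by
  obtain ⟨a, b, hab⟩ := card_eq h6
  exact Cfsg.Agent.S0144.result 2 3 a b Nat.prime_two Nat.prime_three hab

theorem pPrimeCore_two_eq_bot (h6 : ∀ y : Y, y ^ 6 = 1) (h : Cfsg.pCore 3 Y = ⊥) :
    Cfsg.pPrimeCore 2 Y = ⊥ := by
  have : Fact (Nat.Prime 3) := ⟨Nat.prime_three⟩
  obtain ⟨a, b, hab⟩ := card_eq h6
  rw [eq_bot_iff, ← h]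
  apply Cfsg.Agent.Lib.Helper1.le_pCore (Cfsg.Agent.Lib.Helper1.pPrimeCore_normal (G := Y) 2)
  have h1 : Nat.card (Cfsg.pPrimeCore 2 Y) ∣ 2 ^ a * 3 ^ b := hab ▸ Subgroup.card_subgroup_dvd_card _
  have h2 : (Nat.card (Cfsg.pPrimeCore 2 Y)).Coprime (2 ^ a) :=
    Nat.Coprime.pow_right a (pPrimeCore_card_coprime 2)
  have h3 : Nat.card (Cfsg.pPrimeCore 2 Y) ∣ 3 ^ b := h2.dvd_of_dvd_mul_left h1
  obtain ⟨k, -, hk⟩ := (Nat.dvd_prime_pow Nat.prime_three).mp h3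
  exact IsPGroup.of_card hk

end basic

end Cfsg.Agent.Lib.helper17.Exp6
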