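import Mathlib
import Cfsg.Agent.Lib.helper17.Exp6D

set_option autoImplicit false

namespace Cfsg.Agent.Lib.helper17.Exp6

section main
variable {Y : Type*} [Group Y] [Finite Y]

theorem mem_pCore_three (h6 : ∀ y : Y, y ^ 6 = 1) (h0 : Cfsg.pPrimeCore 3 Y = ⊥)
    (y : Y) (hy : y ^ 3 = 1) : y ∈ Cfsg.pCore 3 Y := by
  have : Fact (Nat.Prime 3) := ⟨Nat.prime_three⟩
  have : Fact (Nat.Prime 2) := ⟨Nat.prime_two⟩
  have hsolv : Group.IsSolvable Y := solvable h6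
  obtain ⟨Q, hQ⟩ : ∃ Q : Subgroup Y, Q = Cfsg.pCore 3 Y := ⟨_, rfl⟩
  have hQn : Q.Normal := hQ ▸ Cfsg.Agent.Lib.Helper1.pCore_normal (G := Y) 3
  have hQp : IsPGroup 3 Q := hQ ▸ Cfsg.Agent.Lib.Helper1.pCore_isPGroup (G := Y) 3
  have hC : Subgroup.centralizer (Q : Set Y) ≤ Q :=
    hQ ▸ Cfsg.Agent.Lib.Helper1.centralizer_pCore_le (G := Y) 3 h0
  rw [← hQ]
  by_contra hyQ
  -- the quotient
  have h6' : ∀ z : Y ⧸ Q, z ^ 6 = 1 := by
    intro z
    induction z using QuotientGroup.induction_on with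
    | H g => rw [← QuotientGroup.mk_pow, h6 g]; rfl
  have hO3 : Cfsg.pCore 3 (Y ⧸ Q) = ⊥ := by
    rw [pCore_quotient Q hQp, ← hQ, QuotientGroup.map_mk'_self]
  have hO2' : Cfsg.pPrimeCore 2 (Y ⧸ Q) = ⊥ := pPrimeCore_two_eq_bot h6' hO3
  have hsolv' : Group.IsSolvable (Y ⧸ Q) := solvable h6'
  have hCA := Cfsg.Agent.Lib.Helper1.centralizer_pCore_le (G := Y ⧸ Q) 2 hO2'
  obtain ⟨A, hA⟩ : ∃ A : Subgroup (Y ⧸ Q), A = Cfsg.pCore 2 (Y ⧸ Q) := ⟨_, rfl⟩
  rw [← hA] at hCA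
  have hAn : A.Normal := hA ▸ Cfsg.Agent.Lib.Helper1.pCore_normal (G := Y ⧸ Q) 2
  have hAp : IsPGroup 2 A := hA ▸ Cfsg.Agent.Lib.Helper1.pCore_isPGroup (G := Y ⧸ Q) 2
  have hA2 : ∀ a ∈ A, a ^ 2 = 1 := by
    intro a ha
    obtain ⟨k, hk⟩ := hAp ⟨a, ha⟩
    have hk' : a ^ (2 ^ k) = 1 := by
      have := congrArg Subtype.val hk
      simpa using this
    exact pow_two_of (h6' a) hk'
  have hAc : ∀ a ∈ A, ∀ b ∈ A, a * b = b * a := by
    intro a ha b hb
    have h1 := hA2 a ha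
    have h2 := hA2 b hb
    have h3 := hA2 (a * b) (A.mul_mem ha hb)
    rw [pow_two] at h1 h2 h3
    have ia : a⁻¹ = a := inv_eq_of_mul_eq_one_left h1
    have ib : b⁻¹ = b := inv_eq_of_mul_eq_one_left h2
    have iab : (a * b)⁻¹ = a * b := inv_eq_of_mul_eq_one_left h3
    rw [← iab, mul_inv_rev, ia, ib]
  -- the image of y is not in A
  have hyA : (QuotientGroup.mk y : Y ⧸ Q) ∉ A := by
    intro h
    have h2 := hA2 _ h
    have h3 : (QuotientGroup.mk y : Y ⧸ Q) ^ 3 = 1 := by rw [← QuotientGroup.mk_pow, hy]; rfl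
    have := eq_one_of_two_three h2 h3
    exact hyQ ((QuotientGroup.eq_one_iff y).mp this)
  have hyC : (QuotientGroup.mk y : Y ⧸ Q) ∉ Subgroup.centralizer (A : Set (Y ⧸ Q)) :=
    fun h => hyA (hCA h)
  rw [Subgroup.mem_centralizer_iff] at hyC
  push Not at hyC
  obtain ⟨a', ha'A, ha'⟩ := hyC
  obtain ⟨b₀, hb₀⟩ := QuotientGroup.mk_surjective a'
  obtain ⟨b, hb⟩ : ∃ b : Y, b = b₀ ^ 3 := ⟨_, rfl⟩
  have hπb : (QuotientGroup.mk b : Y ⧸ Q) = a' := by
    rw [hb, QuotientGroup.mk_pow, hb₀]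
    have := hA2 a' ha'A
    rw [pow_succ, this, one_mul]
  have hbb : b * b = 1 := by rw [hb, ← pow_add]; exact h6 b₀
  obtain ⟨b1, hb1⟩ : ∃ b1 : Y, b1 = y * b * y⁻¹ := ⟨_, rfl⟩
  obtain ⟨b2, hb2⟩ : ∃ b2 : Y, b2 = y * b1 * y⁻¹ := ⟨_, rfl⟩
  have hy3 : y * y * y = 1 := by rw [← hy, pow_succ, pow_succ, pow_one]
  have hb0 : b = y * b2 * y⁻¹ := by
    have e : y * (y * (y * b * y⁻¹) * y⁻¹) * y⁻¹ = (y * y * y) * b * (y * y * y)⁻¹ := by group
    rw [hb2, hb1, e, hy3]; group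
  have hb1b1 : b1 * b1 = 1 := by
    have e : y * b * y⁻¹ * (y * b * y⁻¹) = y * (b * b) * y⁻¹ := by group
    rw [hb1, e, hbb]; group
  have hb2b2 : b2 * b2 = 1 := by
    have e : y * b1 * y⁻¹ * (y * b1 * y⁻¹) = y * (b1 * b1) * y⁻¹ := by group
    rw [hb2, e, hb1b1]; group
  have hmA : (QuotientGroup.mk b : Y ⧸ Q) ∈ A := hπb ▸ ha'A
  have hm1A : (QuotientGroup.mk b1 : Y ⧸ Q) ∈ A := by
    rw [hb1, QuotientGroup.mk_mul, QuotientGroup.mk_mul, QuotientGroup.mk_inv]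
    exact hAn.conj_mem _ hmA _
  have hm2A : (QuotientGroup.mk b2 : Y ⧸ Q) ∈ A := by
    rw [hb2, QuotientGroup.mk_mul, QuotientGroup.mk_mul, QuotientGroup.mk_inv]
    exact hAn.conj_mem _ hm1A _
  have hcomm : ∀ g h : Y, (QuotientGroup.mk g : Y ⧸ Q) ∈ A → (QuotientGroup.mk h : Y ⧸ Q) ∈ A →
      (th Q g).comp (th Q h) = (th Q h).comp (th Q g) := by
    intro g h hg hh
    rw [← th_mul, ← th_mul]
    apply th_eq_of Q hQp
    rw [← QuotientGroup.eq, QuotientGroup.mk_mul, QuotientGroup.mk_mul]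
    exact hAc _ hg _ hh
  have hq3 : ∀ q : Q, q ^ 3 = 1 := by
    intro q
    obtain ⟨k, hk⟩ := hQp q
    apply Subtype.ext
    have hk' : (q : Y) ^ (3 ^ k) = 1 := by
      have := congrArg Subtype.val hk
      simpa using this
    simpa using pow_three_of (h6 q) hk'
  have key := hom_mul_eq_id (quot_comm Q hQp)
    (by
      intro m
      induction m using QuotientGroup.induction_on with
      | H q => rw [← QuotientGroup.mk_pow, hq3 q]; rfl)
    (th Q b) (th Q b1) (th Q b2) (th Q y)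
    (by rw [← th_mul, hbb, th_one]) (by rw [← th_mul, hb1b1, th_one])
    (by rw [← th_mul, hb2b2, th_one])
    (hcomm b b1 hmA hm1A) (hcomm b1 b2 hm1A hm2A) (hcomm b b2 hmA hm2A)
    (by rw [← th_mul, ← th_mul]; congr 1; rw [hb1]; group)
    (by rw [← th_mul, ← th_mul]; congr 1; rw [hb2]; group)
    (by rw [← th_mul, ← th_mul]; congr 1; rw [hb0]; group)
    (by
      intro m
      induction m using QuotientGroup.induction_on with
      | H q =>
        rw [th_mk, th_mk, ← QuotientGroup.mk_mul, ← QuotientGroup.mk_mul]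
        have ht : q * (MulAut.conjNormal y q : ↥Q) * (MulAut.conjNormal y (MulAut.conjNormal y q : ↥Q) : ↥Q) = 1 := by
          apply Subtype.ext
          simp only [Subgroup.coe_mul, MulAut.conjNormal_apply, Subgroup.coe_one]
          obtain ⟨t, ht⟩ : ∃ t : Y, t = (q : Y) * (y * q * y⁻¹) * (y * (y * q * y⁻¹) * y⁻¹) := ⟨_, rfl⟩
          rw [← ht]
          have h1 : ((q : Y) * y) ^ 3 = t * (y * y * y) := by
            rw [ht, pow_succ, pow_succ, pow_one]; group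
          rw [hy3, mul_one] at h1
          have h2 : t ^ 2 = 1 := by rw [← h1, ← pow_mul]; exact h6 _
          have htQ : t ∈ Q := by
            rw [ht]
            exact Q.mul_mem (Q.mul_mem q.2 (hQn.conj_mem _ q.2 _))
              (hQn.conj_mem _ (hQn.conj_mem _ q.2 _) _)
          have h3 : t ^ 3 = 1 := by
            have := hq3 ⟨t, htQ⟩
            have := congrArg Subtype.val this
            simpa using this
          exact eq_one_of_two_three h2 h3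
        rw [ht]; rfl)
  rw [← th_mul] at key
  have hmem : b * b1 ∈ Cfsg.pCore 3 Y :=
    Cfsg.Agent.Lib.Helper1.mem_pCore_of_trivial_on_frattini_quotient Q hQp hC (b * b1)
      (mem_of_th_eq_id Q key)
  rw [← hQ] at hmem
  have h1 : (QuotientGroup.mk (b * b1) : Y ⧸ Q) = 1 := (QuotientGroup.eq_one_iff _).mpr hmem
  rw [QuotientGroup.mk_mul, hb1, QuotientGroup.mk_mul, QuotientGroup.mk_mul, QuotientGroup.mk_inv,
    hπb] at h1
  apply ha'
  have h2 := hA2 a' ha'A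
  rw [pow_two] at h2
  have ia : a'⁻¹ = a' := inv_eq_of_mul_eq_one_left h2
  have h3 : (QuotientGroup.mk y : Y ⧸ Q) * a' * (QuotientGroup.mk y : Y ⧸ Q)⁻¹ = a' := by
    exact (inv_eq_of_mul_eq_one_right h1).symm.trans ia
  calc a' * (QuotientGroup.mk y : Y ⧸ Q)
      = ((QuotientGroup.mk y : Y ⧸ Q) * a' * (QuotientGroup.mk y : Y ⧸ Q)⁻¹) * (QuotientGroup.mk y : Y ⧸ Q) := by
        rw [h3]
    _ = (QuotientGroup.mk y : Y ⧸ Q) * a' := by group

end main

end Cfsg.Agent.Lib.helper17.Exp6
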