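import Mathlib
import Cfsg.Agent.Lib.Helper1.PLength
import Cfsg.Agent.Lib.Helper21.PSeries
import Cfsg.Agent.Lib.helper17.Exp6E

set_option autoImplicit false

namespace Cfsg.Agent.Lib.helper17.Exp6

open Cfsg.Agent.Lib.Helper21

section fin
variable {X : Type*} [Group X] [Finite X]

theorem plength_one_of_chain {p : ℕ} [Fact p.Prime] (N M : Subgroup X) [hNn : N.Normal]
    [hMn : M.Normal] (hNM : N ≤ M) (hN : (Nat.card N).Coprime p)
    (hM : ∀ m ∈ M, ∃ k : ℕ, m ^ (p ^ k) ∈ N) (hX : (M.index).Coprime p) :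
    Cfsg.PLengthLE p 1 X := by
  have h1 : Cfsg.PLengthLE p 0 ↥(N.subgroupOf M) := by
    apply plength_zero_of_coprime
    rw [Nat.card_congr (Subgroup.subgroupOfEquivOfLe hNM).toEquiv]
    exact hN
  have h2 : Cfsg.PLengthLE p 1 (↥M ⧸ N.subgroupOf M) := by
    apply plength_one_of_isPGroup
    intro z
    induction z using QuotientGroup.induction_on with
    | H m =>
      obtain ⟨k, hk⟩ := hM m m.2
      refine ⟨k, ?_⟩
      rw [← QuotientGroup.mk_pow, QuotientGroup.eq_one_iff, Subgroup.mem_subgroupOf]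
      simpa using hk
  have h3 : Cfsg.PLengthLE p (0 + 1) ↥M := plength_add (N.subgroupOf M) h1 h2
  have h4 : Cfsg.PLengthLE p 0 (X ⧸ M) := by
    apply plength_zero_of_coprime
    rw [← Subgroup.index_eq_card]
    exact hX
  have h5 : Cfsg.PLengthLE p (0 + 1 + 0) X := plength_add M h3 h4
  simpa using h5

theorem plength_two (h6 : ∀ y : X, y ^ 6 = 1) : Cfsg.PLengthLE 2 1 X := by
  have : Fact (Nat.Prime 2) := ⟨Nat.prime_two⟩
  have hsolv : Group.IsSolvable X := solvable h6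
  obtain ⟨P⟩ : Nonempty (Sylow 2 X) := inferInstance
  have hP2 : ∀ x ∈ P, x ^ 2 = 1 := by
    intro x hx
    obtain ⟨k, hk⟩ := P.isPGroup' ⟨x, hx⟩
    have hk' : x ^ (2 ^ k) = 1 := by
      have := congrArg Subtype.val hk
      simpa using this
    exact pow_two_of (h6 x) hk'
  have hPc : IsMulCommutative P := by
    refine ⟨⟨?_⟩⟩
    rintro ⟨a, ha⟩ ⟨b, hb⟩
    apply Subtype.ext
    show a * b = b * a
    have h1 := hP2 a ha
    have h2 := hP2 b hb
    have h3 := hP2 (a * b) (P.mul_mem ha hb)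
    rw [pow_two] at h1 h2 h3
    have ia : a⁻¹ = a := inv_eq_of_mul_eq_one_left h1
    have ib : b⁻¹ = b := inv_eq_of_mul_eq_one_left h2
    have iab : (a * b)⁻¹ = a * b := inv_eq_of_mul_eq_one_left h3
    rw [← iab, mul_inv_rev, ia, ib]
  have hMn := Cfsg.Agent.Lib.Helper1.sylow_sup_pPrimeCore_normal 2 P hPc
  have hNn := Cfsg.Agent.Lib.Helper1.pPrimeCore_normal (G := X) 2
  apply plength_one_of_chain (Cfsg.pPrimeCore 2 X) ((P : Subgroup X) ⊔ Cfsg.pPrimeCore 2 X) le_sup_right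
    (Cfsg.Agent.Lib.Helper1.pPrimeCore_card_coprime 2)
  · intro m hm
    obtain ⟨x, hx, n, hn, rfl⟩ := Subgroup.mem_sup_of_normal_right.mp hm
    refine ⟨1, ?_⟩
    have h1 := hP2 x hx
    rw [pow_two] at h1
    have e : (x * n) ^ (2 ^ 1) = (x * x) * (x⁻¹ * n * x⁻¹⁻¹) * n := by
      rw [pow_one, pow_two]; group
    rw [e, h1, one_mul]
    exact Subgroup.mul_mem _ (hNn.conj_mem n hn x⁻¹) hn
  · have h1 : ((P : Subgroup X) ⊔ Cfsg.pPrimeCore 2 X).index ∣ (P : Subgroup X).index :=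
      Subgroup.index_dvd_of_le le_sup_left
    have h2 : ¬ 2 ∣ (P : Subgroup X).index := P.not_dvd_index
    exact Nat.Coprime.coprime_dvd_left h1 ((Nat.Prime.coprime_iff_not_dvd Nat.prime_two).mpr h2).symm

theorem plength_three (h6 : ∀ y : X, y ^ 6 = 1) : Cfsg.PLengthLE 3 1 X := by
  have : Fact (Nat.Prime 3) := ⟨Nat.prime_three⟩
  obtain ⟨N, hN⟩ : ∃ N : Subgroup X, N = Cfsg.pPrimeCore 3 X := ⟨_, rfl⟩
  have hNn : N.Normal := hN ▸ Cfsg.Agent.Lib.Helper1.pPrimeCore_normal (G := X) 3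
  have h6' : ∀ z : X ⧸ N, z ^ 6 = 1 := by
    intro z
    induction z using QuotientGroup.induction_on with
    | H g => rw [← QuotientGroup.mk_pow, h6 g]; rfl
  have h0 : Cfsg.pPrimeCore 3 (X ⧸ N) = ⊥ := by
    subst hN
    exact Cfsg.Agent.Lib.Helper1.pPrimeCore_quotient_eq_bot 3
  have key := mem_pCore_three h6' h0
  have hQn := Cfsg.Agent.Lib.Helper1.pCore_normal (G := X ⧸ N) 3
  have hQp := Cfsg.Agent.Lib.Helper1.pCore_isPGroup (G := X ⧸ N) 3
  obtain ⟨M, hM⟩ : ∃ M : Subgroup X, M = (Cfsg.pCore 3 (X ⧸ N)).comap (QuotientGroup.mk' N) := ⟨_, rfl⟩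
  have hMn : M.Normal := hM ▸ hQn.comap _
  have hNM : N ≤ M := by
    intro x hx
    rw [hM, Subgroup.mem_comap, QuotientGroup.mk'_apply, (QuotientGroup.eq_one_iff x).mpr hx]
    exact Subgroup.one_mem _
  apply plength_one_of_chain N M hNM (hN ▸ Cfsg.Agent.Lib.Helper1.pPrimeCore_card_coprime 3)
  · intro m hm
    rw [hM, Subgroup.mem_comap] at hm
    obtain ⟨k, hk⟩ := hQp ⟨_, hm⟩
    refine ⟨k, ?_⟩
    have hk' : (QuotientGroup.mk' N m) ^ (3 ^ k) = 1 := by
      have := congrArg Subtype.val hk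
      simpa using this
    rw [← map_pow, QuotientGroup.mk'_apply, QuotientGroup.eq_one_iff] at hk'
    exact hk'
  · rw [Nat.coprime_comm, Nat.Prime.coprime_iff_not_dvd Nat.prime_three]
    intro hdvd
    rw [Subgroup.index_eq_card] at hdvd
    obtain ⟨g', hg'⟩ := exists_prime_orderOf_dvd_card' 3 hdvd
    obtain ⟨g, rfl⟩ := QuotientGroup.mk_surjective g'
    have hg1 : (QuotientGroup.mk g : X ⧸ M) ≠ 1 := by
      intro h
      rw [h, orderOf_one] at hg'
      norm_num at hg'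
    have hg3 : (QuotientGroup.mk g : X ⧸ M) ^ 3 = 1 := by rw [← hg', pow_orderOf_eq_one]
    apply hg1
    have e : (QuotientGroup.mk g : X ⧸ M) = QuotientGroup.mk (g ^ 4) := by
      rw [QuotientGroup.mk_pow, pow_succ, hg3, one_mul]
    rw [e, QuotientGroup.eq_one_iff, hM, Subgroup.mem_comap]
    apply key
    rw [← map_pow, ← pow_mul]
    have : g ^ (4 * 3) = (g ^ 6) ^ 2 := by rw [← pow_mul]
    rw [this, h6 g, one_pow, map_one]

end fin

end Cfsg.Agent.Lib.helper17.Exp6
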