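import Mathlib

set_option autoImplicit false

namespace Cfsg.Agent.Lib.helper17

open scoped commutatorElement

/-! ### Counting tools -/

theorem card_subtype_add_card_not {α : Type*} [Finite α] (P : α → Prop) :
    Nat.card {a // P a} + Nat.card {a // ¬ P a} = Nat.card α := by
  classical
  have := Fintype.ofFinite α
  rw [Nat.card_eq_fintype_card, Nat.card_eq_fintype_card, Nat.card_eq_fintype_card,
    Fintype.card_subtype_compl]
  have := Fintype.card_subtype_le P
  omega

theorem sum_two_valued {α : Type*} [Fintype α] (P : α → Prop) (f : α → ℕ) (u v : ℕ)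
    (hu : ∀ a, P a → f a = u) (hv : ∀ a, ¬ P a → f a = v) :
    ∑ a, f a + v * Nat.card {a // P a} = u * Nat.card {a // P a} + v * Nat.card α := by
  classical
  have h1 : ∀ a, f a = if P a then u else v := by
    intro a
    split_ifs with h
    · exact hu a h
    · exact hv a h
  simp_rw [h1]
  rw [Finset.sum_ite, Finset.sum_const, Finset.sum_const]
  have h2 := card_subtype_add_card_not P
  have h3 : Nat.card {a // P a} = (Finset.univ.filter P).card := by
    rw [Nat.card_eq_fintype_card, Fintype.card_subtype]
  have h4 : Nat.card {a // ¬ P a} = (Finset.univ.filter (fun a => ¬ P a)).card := by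
    rw [Nat.card_eq_fintype_card, Fintype.card_subtype]
  rw [← h3, ← h4, ← h2]
  simp only [smul_eq_mul]
  ring

theorem sum_card_comm {α β : Type*} [Fintype α] [Fintype β] (r : α → β → Prop) :
    ∑ a, Nat.card {b : β // r a b} = ∑ b, Nat.card {a : α // r a b} := by
  rw [← Nat.card_sigma, ← Nat.card_sigma]
  refine Nat.card_congr ((Equiv.subtypeProdEquivSigmaSubtype r).symm.trans
    (Equiv.trans ?_ (Equiv.subtypeProdEquivSigmaSubtype (fun b a => r a b))))
  exact (Equiv.prodComm α β).subtypeEquiv (fun _ => Iff.rfl)

end Cfsg.Agent.Lib.helper17
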