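import Mathlib
import Cfsg.Agent.Lib.helper17.Extra

set_option autoImplicit false

namespace Cfsg.Agent.Lib.helper17

open scoped commutatorElement

variable {E : Type*} [Group E]

/-- In a group whose commutators are central, `y ↦ [x, y]` is a homomorphism. -/
def commHom' (hc : ∀ a b : E, ⁅a, b⁆ ∈ Subgroup.center E) (x : E) : E →* E where
  toFun y := ⁅x, y⁆
  map_one' := by simp
  map_mul' y z := by
    have h1 : ⁅x, y * z⁆ = ⁅x, y⁆ * (y * ⁅x, z⁆ * y⁻¹) := by
      simp only [commutatorElement_def]; group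
    have h2 : y * ⁅x, z⁆ = ⁅x, z⁆ * y := (Subgroup.mem_center_iff.mp (hc x z) y)
    rw [h1, h2]
    group

theorem commHom'_apply (hc : ∀ a b : E, ⁅a, b⁆ ∈ Subgroup.center E) (x y : E) :
    commHom' hc x y = ⁅x, y⁆ := rfl

/-- A nontrivial hom with central image, the centre having order 2, has a kernel of index 2. -/
theorem two_mul_card_ker {H : Type*} [Group H] [Finite H] (hZ : Nat.card (Subgroup.center E) = 2)
    (f : H →* E) (hr : ∀ h, f h ∈ Subgroup.center E) (hne : ∃ h, f h ≠ 1) :
    2 * Nat.card f.ker = Nat.card H := by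
  have h1 : f.range ≤ Subgroup.center E := by
    rintro _ ⟨h, rfl⟩
    exact hr h
  have h2 : Nat.card f.range ∣ 2 := hZ ▸ Subgroup.card_dvd_of_le h1
  have h3 : Nat.card f.range ≠ 1 := by
    intro h
    obtain ⟨h0, hh⟩ := hne
    have hfin : Finite (Subgroup.center E) := Nat.finite_of_card_ne_zero (by rw [hZ]; norm_num)
    have : Finite f.range := Finite.of_injective (Subgroup.inclusion h1) (Subgroup.inclusion_injective h1)
    rw [Subgroup.card_eq_one] at h
    have : f h0 ∈ f.range := ⟨h0, rfl⟩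
    rw [h, Subgroup.mem_bot] at this
    exact hh this
  have h4 : Nat.card f.range = 2 := by
    rcases (Nat.dvd_prime Nat.prime_two).mp h2 with h | h
    · exact absurd h h3
    · exact h
  have h5 := Subgroup.card_mul_index f.ker
  rw [Subgroup.index_ker, h4] at h5
  omega

/-- Elements of a centre of order 2. -/
theorem exists_center_gen (hZ : Nat.card (Subgroup.center E) = 2) :
    ∃ z : E, z ∈ Subgroup.center E ∧ z ≠ 1 ∧ z * z = 1 ∧ ∀ c ∈ Subgroup.center E, c = 1 ∨ c = z := by
  obtain ⟨z, hz1, hz2⟩ := (Nat.card_eq_two_iff' (1 : Subgroup.center E)).mp hZ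
  have hfin : Finite (Subgroup.center E) := Nat.finite_of_card_ne_zero (by rw [hZ]; norm_num)
  refine ⟨z, z.2, fun h => hz1 (Subtype.ext h), ?_, ?_⟩
  · have : z ^ 2 = 1 := by
      have := pow_card_eq_one' (G := Subgroup.center E) (x := z)
      rwa [hZ] at this
    have h2 : ((z ^ 2 : Subgroup.center E) : E) = 1 := by rw [this]; rfl
    simpa [pow_two] using h2
  · intro c hc
    by_cases h : c = 1
    · exact Or.inl h
    · right
      have := hz2 ⟨c, hc⟩ (fun h' => h (congrArg Subtype.val h'))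
      exact congrArg Subtype.val this

theorem sq_mem_center (hc : ∀ a b : E, ⁅a, b⁆ ∈ Subgroup.center E)
    (hZ : Nat.card (Subgroup.center E) = 2) (x : E) : x * x ∈ Subgroup.center E := by
  obtain ⟨z, hz, hz1, hzz, hall⟩ := exists_center_gen hZ
  rw [Subgroup.mem_center_iff]
  intro y
  have h1 : ⁅y, x * x⁆ = ⁅y, x⁆ * ⁅y, x⁆ := (commHom' hc y).map_mul x x
  have h2 : ⁅y, x⁆ * ⁅y, x⁆ = 1 := by
    rcases hall _ (hc y x) with h | h
    · rw [h, one_mul]
    · rw [h, hzz]
  rw [h2, commutatorElement_eq_one_iff_mul_comm] at h1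
  exact h1

end Cfsg.Agent.Lib.helper17
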