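import Mathlib
import Cfsg.Agent.Lib.helper17.Extra2

set_option autoImplicit false

namespace Cfsg.Agent.Lib.helper17

open scoped commutatorElement

variable {E : Type*} [Group E]

/-- `|B| * |C_E(B)| = 2 |E|` for a subgroup `B` containing the centre, in a finite group with
central commutators and centre of order 2. -/
theorem card_mul_card_centralizer [Finite E] (hc : ∀ a b : E, ⁅a, b⁆ ∈ Subgroup.center E)
    (hZ : Nat.card (Subgroup.center E) = 2) (B : Subgroup E) (hB : Subgroup.center E ≤ B) :
    Nat.card B * Nat.card (Subgroup.centralizer (B : Set E)) = 2 * Nat.card E := by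
  classical
  have := Fintype.ofFinite E
  have := Fintype.ofFinite B
  -- left count
  have hL : ∀ x : E, (x ∈ Subgroup.centralizer (B : Set E) →
        2 * Nat.card {b : B // x * (b : E) = (b : E) * x} = 2 * Nat.card B) ∧
      (x ∉ Subgroup.centralizer (B : Set E) →
        2 * Nat.card {b : B // x * (b : E) = (b : E) * x} = Nat.card B) := by
    intro x
    have hker : Nat.card {b : B // x * (b : E) = (b : E) * x} =
        Nat.card ((commHom' hc x).comp B.subtype).ker := by
      apply Nat.card_congr
      apply Equiv.subtypeEquivRight
      intro b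
      rw [MonoidHom.mem_ker, MonoidHom.comp_apply, commHom'_apply,
        commutatorElement_eq_one_iff_mul_comm]
      rfl
    constructor
    · intro hx
      congr 1
      rw [← Nat.card_congr (Equiv.subtypeUnivEquiv (p := fun b : B => x * (b : E) = (b : E) * x) ?_)]
      intro b
      exact ((Subgroup.mem_centralizer_iff.mp hx) b b.2).symm
    · intro hx
      rw [hker]
      apply two_mul_card_ker hZ
      · intro b
        exact hc x b
      · rw [Subgroup.mem_centralizer_iff] at hx
        push Not at hx
        obtain ⟨b, hb, hne⟩ := hx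
        refine ⟨⟨b, hb⟩, ?_⟩
        rw [MonoidHom.comp_apply, commHom'_apply, Ne, commutatorElement_eq_one_iff_mul_comm]
        exact fun h => hne h.symm
  have hR : ∀ b : B, ((b : E) ∈ Subgroup.center E →
        2 * Nat.card {x : E // x * (b : E) = (b : E) * x} = 2 * Nat.card E) ∧
      ((b : E) ∉ Subgroup.center E →
        2 * Nat.card {x : E // x * (b : E) = (b : E) * x} = Nat.card E) := by
    intro b
    have hker : Nat.card {x : E // x * (b : E) = (b : E) * x} =
        Nat.card (commHom' hc (b : E)).ker := by
      apply Nat.card_congr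
      apply Equiv.subtypeEquivRight
      intro x
      rw [MonoidHom.mem_ker, commHom'_apply, commutatorElement_eq_one_iff_mul_comm]
      exact eq_comm
    constructor
    · intro hb
      congr 1
      rw [← Nat.card_congr (Equiv.subtypeUnivEquiv (p := fun x : E => x * (b : E) = (b : E) * x) ?_)]
      intro x
      exact (Subgroup.mem_center_iff.mp hb x)
    · intro hb
      rw [hker]
      apply two_mul_card_ker hZ
      · intro x
        exact hc _ x
      · rw [Subgroup.mem_center_iff] at hb
        push Not at hb
        obtain ⟨x, hne⟩ := hb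
        refine ⟨x, ?_⟩
        rw [commHom'_apply, Ne, commutatorElement_eq_one_iff_mul_comm]
        exact fun h => hne h.symm
  have h1 := sum_two_valued (fun x : E => x ∈ Subgroup.centralizer (B : Set E))
    (fun x => 2 * Nat.card {b : B // x * (b : E) = (b : E) * x}) (2 * Nat.card B) (Nat.card B)
    (fun x hx => (hL x).1 hx) (fun x hx => (hL x).2 hx)
  have h2 := sum_two_valued (fun b : B => (b : E) ∈ Subgroup.center E)
    (fun b => 2 * Nat.card {x : E // x * (b : E) = (b : E) * x}) (2 * Nat.card E) (Nat.card E)
    (fun b hb => (hR b).1 hb) (fun b hb => (hR b).2 hb)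
  have h3 : ∑ x : E, 2 * Nat.card {b : B // x * (b : E) = (b : E) * x} =
      ∑ b : B, 2 * Nat.card {x : E // x * (b : E) = (b : E) * x} := by
    rw [← Finset.mul_sum, ← Finset.mul_sum, sum_card_comm]
  have h4 : Nat.card {b : B // (b : E) ∈ Subgroup.center E} = 2 := by
    rw [← hZ]
    exact Nat.card_congr (Subgroup.subgroupOfEquivOfLe hB).toEquiv
  have h5 : Nat.card {x : E // x ∈ Subgroup.centralizer (B : Set E)} =
      Nat.card (Subgroup.centralizer (B : Set E)) := rfl
  rw [h4] at h2
  rw [h5] at h1
  rw [h3] at h1
  nlinarith

end Cfsg.Agent.Lib.helper17
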