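import Mathlib
import Cfsg.Agent.Lib.helper17.Extra3

set_option autoImplicit false

namespace Cfsg.Agent.Lib.helper17

open scoped commutatorElement

variable {E : Type*} [Group E]

theorem center_le_and_centralizer_eq [Finite E] (hc : ∀ a b : E, ⁅a, b⁆ ∈ Subgroup.center E)
    (hZ : Nat.card (Subgroup.center E) = 2) (m : ℕ) (hcard : Nat.card E = 2 ^ (2 * m + 1))
    (A : Subgroup E) (hA : ∀ a ∈ A, ∀ b ∈ A, a * b = b * a) (hcA : Nat.card A = 2 ^ (m + 1)) :
    Subgroup.center E ≤ A ∧ Subgroup.centralizer (A : Set E) = A := by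
  have hAB : A ≤ A ⊔ Subgroup.center E := le_sup_left
  have hBab : A ⊔ Subgroup.center E ≤ Subgroup.centralizer ((A ⊔ Subgroup.center E : Subgroup E) : Set E) := by
    apply sup_le
    · intro a ha
      rw [Subgroup.mem_centralizer_iff]
      have : A ⊔ Subgroup.center E ≤ Subgroup.centralizer ({a} : Set E) := by
        apply sup_le
        · intro b hb
          rw [Subgroup.mem_centralizer_iff]
          intro y hy
          rw [Set.mem_singleton_iff] at hy
          rw [hy]
          exact hA a ha b hb
        · exact Subgroup.center_le_centralizer _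
      intro y hy
      have := Subgroup.mem_centralizer_iff.mp (this hy) a rfl
      exact this.symm
    · exact Subgroup.center_le_centralizer _
  have h1 := card_mul_card_centralizer hc hZ (A ⊔ Subgroup.center E) le_sup_right
  have h2 : Nat.card ↥(A ⊔ Subgroup.center E) ≤
      Nat.card (Subgroup.centralizer ((A ⊔ Subgroup.center E : Subgroup E) : Set E)) :=
    Subgroup.card_le_of_le hBab
  have h3 : Nat.card A ≤ Nat.card ↥(A ⊔ Subgroup.center E) := Subgroup.card_le_of_le hAB
  have hpow : 2 * Nat.card E = 2 ^ (m + 1) * 2 ^ (m + 1) := by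
    rw [hcard]; ring
  have h4 : Nat.card ↥(A ⊔ Subgroup.center E) ≤ 2 ^ (m + 1) := by
    by_contra hlt
    push Not at hlt
    have : 2 ^ (m + 1) * 2 ^ (m + 1) < Nat.card ↥(A ⊔ Subgroup.center E) *
        Nat.card (Subgroup.centralizer ((A ⊔ Subgroup.center E : Subgroup E) : Set E)) :=
      Nat.mul_lt_mul'' hlt (lt_of_lt_of_le hlt h2)
    omega
  have hAeq : A = A ⊔ Subgroup.center E :=
    Subgroup.eq_of_le_of_card_ge hAB (by omega)
  have hZA : Subgroup.center E ≤ A := by
    rw [hAeq]; exact le_sup_right
  refine ⟨hZA, ?_⟩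
  have h5 := card_mul_card_centralizer hc hZ A hZA
  have hAle : A ≤ Subgroup.centralizer (A : Set E) := by
    intro a ha
    rw [Subgroup.mem_centralizer_iff]
    intro b hb
    exact hA b hb a ha
  rw [hpow, hcA] at h5
  have h6 : Nat.card (Subgroup.centralizer (A : Set E)) = 2 ^ (m + 1) :=
    Nat.eq_of_mul_eq_mul_left (by positivity) h5
  exact (Subgroup.eq_of_le_of_card_ge hAle (by omega)).symm

end Cfsg.Agent.Lib.helper17
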