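import Mathlib
import Cfsg.Agent.Lib.helper17.Extra4

set_option autoImplicit false

namespace Cfsg.Agent.Lib.helper17

open scoped commutatorElement

variable {E : Type*} [Group E]

theorem orderOf_eq_four_iff {z : E} (hz1 : z ≠ 1) (hzz : z * z = 1) {y : E}
    (hy : y * y = 1 ∨ y * y = z) : orderOf y = 4 ↔ y * y = z := by
  constructor
  · intro h
    rcases hy with h1 | h1
    · have : orderOf y ∣ 2 := orderOf_dvd_of_pow_eq_one (by rw [pow_two]; exact h1)
      rw [h] at this
      norm_num at this
    · exact h1
  · intro h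
    have h2 : ¬ y ^ 2 ^ 1 = 1 := by
      rw [pow_one, pow_two, h]; exact hz1
    have h4 : y ^ 2 ^ (1 + 1) = 1 := by
      have : y ^ 2 ^ (1 + 1) = (y * y) * (y * y) := by
        norm_num
        rw [show (4 : ℕ) = 2 + 2 by norm_num, pow_add, pow_two]
      rw [this, h, hzz]
    have := orderOf_eq_prime_pow (p := 2) h2 h4
    simpa using this

theorem card_orderOf_four [Finite E] (hc : ∀ a b : E, ⁅a, b⁆ ∈ Subgroup.center E)
    (hZ : Nat.card (Subgroup.center E) = 2) (m : ℕ) (hcard : Nat.card E = 2 ^ (2 * m + 1))
    (A : Subgroup E) (hA : ∀ a ∈ A, ∀ b ∈ A, a * b = b * a) (hA2 : ∀ a ∈ A, a * a = 1)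
    (hcA : Nat.card A = 2 ^ (m + 1)) :
    Nat.card {x : E // orderOf x = 4} = 2 ^ (2 * m) - 2 ^ m := by
  classical
  have := Fintype.ofFinite E
  obtain ⟨z, hz, hz1, hzz, hall⟩ := exists_center_gen hZ
  obtain ⟨hZA, hCA⟩ := center_le_and_centralizer_eq hc hZ m hcard A hA hcA
  have hsq : ∀ y : E, y * y = 1 ∨ y * y = z := fun y => hall _ (sq_mem_center hc hZ y)
  have hord : ∀ y : E, orderOf y = 4 ↔ y * y = z := fun y => orderOf_eq_four_iff hz1 hzz (hsq y)
  have hzc : ∀ y : E, y * z = z * y := fun y => Subgroup.mem_center_iff.mp hz y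
  -- the count in a coset
  have hN1 : ∀ x : E, x ∈ A → Nat.card {a : A // orderOf (x * (a : E)) = 4} = 0 := by
    intro x hx
    rw [Nat.card_eq_zero]
    left
    refine ⟨fun ⟨a, ha⟩ => ?_⟩
    rw [hord, hA2 _ (A.mul_mem hx a.2)] at ha
    exact hz1 ha.symm
  have hN2 : ∀ x : E, x ∉ A → Nat.card {a : A // orderOf (x * (a : E)) = 4} = 2 ^ m := by
    intro x hx
    have hker2 : 2 * Nat.card ((commHom' hc x).comp A.subtype).ker = Nat.card A := by
      apply two_mul_card_ker hZ
      · intro a
        exact hc x a
      · rw [← hCA, Subgroup.mem_centralizer_iff] at hx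
        push Not at hx
        obtain ⟨a, ha, hne⟩ := hx
        refine ⟨⟨a, ha⟩, ?_⟩
        rw [MonoidHom.comp_apply, commHom'_apply, Ne, commutatorElement_eq_one_iff_mul_comm]
        exact fun h => hne h.symm
    have hker : Nat.card ((commHom' hc x).comp A.subtype).ker = 2 ^ m := by
      rw [hcA, pow_succ] at hker2
      omega
    have hmem : ∀ a : A, a ∈ ((commHom' hc x).comp A.subtype).ker ↔ x * (a : E) = (a : E) * x := by
      intro a
      rw [MonoidHom.mem_ker, MonoidHom.comp_apply, commHom'_apply,
        commutatorElement_eq_one_iff_mul_comm]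
      rfl
    have hxxc : ∀ y : E, y * (x * x) = (x * x) * y :=
      fun y => Subgroup.mem_center_iff.mp (sq_mem_center hc hZ x) y
    have key1 : ∀ a : A, x * (a : E) = (a : E) * x → (x * (a : E)) * (x * (a : E)) = x * x := by
      intro a h
      calc (x * (a : E)) * (x * (a : E)) = x * ((a : E) * x) * (a : E) := by group
        _ = x * (x * (a : E)) * (a : E) := by rw [h]
        _ = x * x * ((a : E) * (a : E)) := by group
        _ = x * x := by rw [hA2 _ a.2, mul_one]
    have key2 : ∀ a : A, x * (a : E) ≠ (a : E) * x →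
        (x * (a : E)) * (x * (a : E)) = z * (x * x) := by
      intro a h
      have hcz : ⁅x, (a : E)⁆ = z := by
        rcases hall _ (hc x a) with h1 | h1
        · rw [commutatorElement_eq_one_iff_mul_comm] at h1
          exact absurd h1 h
        · exact h1
      have hxa : x * (a : E) = z * ((a : E) * x) := by
        rw [← hcz, commutatorElement_def]; group
      calc (x * (a : E)) * (x * (a : E)) = z * ((a : E) * x) * (x * (a : E)) := by rw [← hxa]
        _ = z * ((a : E) * (x * x) * (a : E)) := by group
        _ = z * ((x * x) * (a : E) * (a : E)) := by rw [hxxc]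
        _ = z * ((x * x) * ((a : E) * (a : E))) := by group
        _ = z * (x * x) := by rw [hA2 _ a.2, mul_one]
    rcases hsq x with hxx | hxx
    · -- `x² = 1`
      have : Nat.card {a : A // orderOf (x * (a : E)) = 4} =
          Nat.card {a : A // ¬ a ∈ ((commHom' hc x).comp A.subtype).ker} := by
        apply Nat.card_congr
        apply Equiv.subtypeEquivRight
        intro a
        rw [hord, hmem]
        constructor
        · intro h1 h2
          rw [key1 a h2, hxx] at h1
          exact hz1 h1.symm
        · intro h2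
          rw [key2 a h2, hxx, mul_one]
      rw [this]
      have h3 := card_subtype_add_card_not (fun a : A => a ∈ ((commHom' hc x).comp A.subtype).ker)
      have h4 : Nat.card {a : A // a ∈ ((commHom' hc x).comp A.subtype).ker} = 2 ^ m := hker
      rw [h4, hcA, pow_succ] at h3
      omega
    · -- `x² = z`
      have : Nat.card {a : A // orderOf (x * (a : E)) = 4} =
          Nat.card {a : A // a ∈ ((commHom' hc x).comp A.subtype).ker} := by
        apply Nat.card_congr
        apply Equiv.subtypeEquivRight
        intro a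
        rw [hord, hmem]
        constructor
        · intro h1
          by_contra h2
          rw [key2 a h2, hxx, hzz] at h1
          exact hz1 h1.symm
        · intro h2
          rw [key1 a h2, hxx]
      rw [this]
      exact hker
  have h5 := sum_two_valued (fun x : E => x ∈ A)
    (fun x => Nat.card {a : A // orderOf (x * (a : E)) = 4}) 0 (2 ^ m) hN1 hN2
  have h6 : ∑ x : E, Nat.card {a : A // orderOf (x * (a : E)) = 4} =
      Nat.card {x : E // orderOf x = 4} * Nat.card A := by
    rw [← Nat.card_sigma, ← Nat.card_prod]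
    refine Nat.card_congr ((Equiv.subtypeProdEquivSigmaSubtype
      (fun (x : E) (a : A) => orderOf (x * (a : E)) = 4)).symm.trans
      (Equiv.trans ?_ (Equiv.prodSubtypeFstEquivSubtypeProd (p := fun x : E => orderOf x = 4))))
    refine Equiv.subtypeEquiv ⟨fun p => (p.1 * (p.2 : E), p.2), fun p => (p.1 * ((p.2 : E))⁻¹, p.2),
      fun p => by simp, fun p => by simp⟩ ?_
    intro p
    rfl
  have h7 : Nat.card {x : E // x ∈ A} = Nat.card A := rfl
  rw [h6, h7, hcA, hcard] at h5
  have e1 : (2 : ℕ) ^ (m + 1) = 2 * 2 ^ m := by ring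
  have e2 : (2 : ℕ) ^ (2 * m + 1) = 2 * 2 ^ m * 2 ^ m := by ring
  have e3 : (2 : ℕ) ^ (2 * m) = 2 ^ m * 2 ^ m := by ring
  rw [e1, e2] at h5
  rw [e3]
  have hpos : 0 < 2 ^ m := by positivity
  have h8 : (Nat.card {x : E // orderOf x = 4} + 2 ^ m) * (2 * 2 ^ m) = (2 ^ m * 2 ^ m) * (2 * 2 ^ m) := by
    nlinarith
  have h9 := Nat.eq_of_mul_eq_mul_right (by positivity) h8
  omega

end Cfsg.Agent.Lib.helper17
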