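import Mathlib

/-!
# Norm maps for commuting automorphisms of order `p` on an abelian group (helper17)

Abstract decomposition theorem used for the order bound of a faithful module of an
extraspecial group (S2912).
-/

set_option autoImplicit false
open scoped BigOperators

namespace Cfsg.Agent.Lib.helper17.ExtraNorm

variable {M : Type*} [CommGroup M] {p : ℕ} [hp : Fact p.Prime]

/-- the norm map of an automorphism (`p` terms). -/
noncomputable def Nm (p : ℕ) [NeZero p] (φ : MulAut M) : M →* M :=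
  ∏ k : ZMod p, (φ ^ k.val).toMonoidHom

omit hp in
theorem Nm_apply [NeZero p] (φ : MulAut M) (a : M) :
    Nm p φ a = ∏ k : ZMod p, (φ ^ k.val) a := by
  simp [Nm, MonoidHom.finsetProd_apply]

/-- the subgroup of fixed points of an automorphism. -/
def fixSub (φ : MulAut M) : Subgroup M where
  carrier := {a | φ a = a}
  one_mem' := map_one φ
  mul_mem' := by
    intro a b ha hb
    simp only [Set.mem_ofPred_eq] at ha hb ⊢
    rw [map_mul, ha, hb]
  inv_mem' := by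
    intro a ha
    simp only [Set.mem_ofPred_eq] at ha ⊢
    rw [map_inv, ha]

theorem mem_fixSub {φ : MulAut M} {a : M} : a ∈ fixSub φ ↔ φ a = a := Iff.rfl

/-- the submonoid of automorphisms mapping `A` into itself. -/
def presSub (A : Subgroup M) : Submonoid (MulAut M) where
  carrier := {φ | ∀ a ∈ A, φ a ∈ A}
  one_mem' := by intro a ha; simpa using ha
  mul_mem' := by
    intro φ ψ hφ hψ a ha
    rw [MulAut.mul_apply]
    exact hφ _ (hψ _ ha)

theorem mem_presSub {A : Subgroup M} {φ : MulAut M} : φ ∈ presSub A ↔ ∀ a ∈ A, φ a ∈ A := Iff.rfl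

theorem pow_val_eq (φ : MulAut M) (hφ : φ ^ p = 1) (m : ℕ) :
    φ ^ ((m : ZMod p).val) = φ ^ m := by
  rw [ZMod.val_natCast, ← pow_eq_pow_mod m hφ]

theorem prod_pow_mul (φ : MulAut M) (hφ : φ ^ p = 1) (c : ZMod p) (hc : c ≠ 0) (a : M) :
    ∏ k : ZMod p, (φ ^ (c.val * k.val)) a = Nm p φ a := by
  rw [Nm_apply]
  refine Fintype.prod_equiv (Equiv.mulLeft₀ c hc) _ _ (fun k => ?_)
  have h1 : φ ^ (c.val * k.val) = φ ^ ((c * k).val) := by
    rw [← pow_val_eq φ hφ (c.val * k.val)]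
    congr 2
    push_cast
    simp
  rw [h1]
  rfl

theorem map_Nm_self (φ : MulAut M) (hφ : φ ^ p = 1) (a : M) : φ (Nm p φ a) = Nm p φ a := by
  rw [Nm_apply, map_prod]
  refine Fintype.prod_equiv (Equiv.addRight (1 : ZMod p)) _ _ (fun k => ?_)
  have h1 : φ ^ ((k + 1).val) = φ ^ (k.val + 1) := by
    rw [← pow_val_eq φ hφ (k.val + 1)]
    congr 2
    push_cast
    simp
  show φ ((φ ^ k.val) a) = (φ ^ ((k + 1).val)) a
  rw [h1, pow_succ', MulAut.mul_apply]

omit hp in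
theorem pow_apply_of_fixed (φ : MulAut M) (a : M) (h : φ a = a) (k : ℕ) : (φ ^ k) a = a := by
  induction k with
  | zero => simp
  | succ k ih => rw [pow_succ, MulAut.mul_apply, h, ih]

theorem Nm_of_fixed (φ : MulAut M) (a : M) (h : φ a = a) : Nm p φ a = a ^ p := by
  rw [Nm_apply]
  simp_rw [pow_apply_of_fixed φ a h]
  rw [Finset.prod_const, Finset.card_univ, ZMod.card]

theorem map_Nm_comm (φ ψ : MulAut M) (h : Commute ψ φ) (a : M) :
    ψ (Nm p φ a) = Nm p φ (ψ a) := by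
  rw [Nm_apply, Nm_apply, map_prod]
  refine Finset.prod_congr rfl (fun k _ => ?_)
  rw [← MulAut.mul_apply, ← MulAut.mul_apply, (h.pow_right k.val).eq]

theorem Nm_mem {A : Subgroup M} (φ : MulAut M) (hφ : φ ∈ presSub A) (a : M) (ha : a ∈ A) :
    Nm p φ a ∈ A := by
  rw [Nm_apply]
  exact Subgroup.prod_mem _ (fun k _ => (pow_mem hφ k.val) a ha)

/-- Claim (1). -/
theorem prod_Nm_eq_pow (σ τ : MulAut M) (hc : Commute σ τ) (hτ : τ ^ p = 1) (a : M)
    (ha : Nm p τ a = 1) :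
    ∏ i : ZMod p, Nm p (σ * τ ^ i.val) a = a ^ p := by
  simp_rw [Nm_apply]
  rw [Finset.prod_comm]
  have key : ∀ k : ZMod p, ∏ i : ZMod p, ((σ * τ ^ i.val) ^ k.val) a
      = (σ ^ k.val) (∏ i : ZMod p, (τ ^ (k.val * i.val)) a) := by
    intro k
    rw [map_prod]
    refine Finset.prod_congr rfl (fun i _ => ?_)
    rw [(hc.pow_right _).mul_pow, ← pow_mul, mul_comm i.val, MulAut.mul_apply]
  simp_rw [key]
  rw [Finset.prod_eq_single (0 : ZMod p)]
  · simp [ZMod.val_zero, Finset.prod_const, ZMod.card]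
  · intro k _ hk
    rw [prod_pow_mul τ hτ k hk, ha, map_one]
  · simp

/-- Claim (2): directness. -/
theorem eq_one_of_prod_eq_one {r : ℕ} (hpr : Nat.Coprime p r) (σ τ : MulAut M)
    (hc : Commute σ τ) (hτ : τ ^ p = 1)
    (b : ZMod p → M) (hfix : ∀ i, (σ * τ ^ i.val) (b i) = b i) (hN : ∀ i, Nm p τ (b i) = 1)
    (hr : ∀ i, b i ^ r = 1) (hprod : ∏ i : ZMod p, b i = 1) (j : ZMod p) : b j = 1 := by
  have h1 : ∏ i : ZMod p, Nm p (σ * τ ^ j.val) (b i) = 1 := by
    rw [← map_prod, hprod, map_one]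
  have h2 : ∀ i : ZMod p, i ≠ j → Nm p (σ * τ ^ j.val) (b i) = 1 := by
    intro i hij
    have hc0 : j - i ≠ 0 := sub_ne_zero.mpr (Ne.symm hij)
    have h3 : σ * τ ^ j.val = τ ^ (j - i).val * (σ * τ ^ i.val) := by
      have h4 : τ ^ j.val = τ ^ ((j - i).val + i.val) := by
        rw [← pow_val_eq τ hτ ((j - i).val + i.val)]
        congr 2
        push_cast
        simp
      rw [h4, pow_add, ← mul_assoc, ← mul_assoc, (hc.pow_right _).eq]
    have hcomm : Commute (τ ^ (j - i).val) (σ * τ ^ i.val) :=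
      ((hc.symm.mul_right (Commute.refl τ |>.pow_right _))).pow_left _
    rw [Nm_apply, ← hN i, ← prod_pow_mul τ hτ (j - i) hc0 (b i)]
    refine Finset.prod_congr rfl (fun k _ => ?_)
    rw [h3, hcomm.mul_pow, ← pow_mul, MulAut.mul_apply, pow_apply_of_fixed _ _ (hfix i)]
  rw [Finset.prod_eq_single j (fun i _ hi => h2 i hi) (by simp)] at h1
  rw [Nm_of_fixed _ _ (hfix j)] at h1
  have h5 : b j ^ Nat.gcd p r = 1 := pow_gcd_eq_one.mpr ⟨h1, hr j⟩
  rwa [hpr, pow_one] at h5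

/-- the `i`-th "eigen-subgroup". -/
def Bsub (A : Subgroup M) (σ τ : MulAut M) (i : ZMod p) : Subgroup M :=
  A ⊓ fixSub (σ * τ ^ i.val)

theorem card_Bsub_le_succ (A : Subgroup M) [Finite A] (σ τ ξ : MulAut M)
    (hτ : τ ^ p = 1) (hξσ : ξ * σ = τ * σ * ξ) (hξτ : Commute ξ τ) (hστ : Commute σ τ)
    (hξA : ξ ∈ presSub A) (i : ZMod p) :
    Nat.card ↥(Bsub A σ τ i) ≤ Nat.card ↥(Bsub A σ τ (i + 1)) := by
  have hmap : ∀ a ∈ Bsub A σ τ i, ξ a ∈ Bsub A σ τ (i + 1) := by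
    intro a ha
    obtain ⟨haA, hafix⟩ := ha
    refine ⟨hξA a haA, ?_⟩
    change (σ * τ ^ i.val) a = a at hafix
    change (σ * τ ^ (i + 1).val) (ξ a) = ξ a
    have h1 : τ ^ ((i + 1).val) = τ ^ (i.val + 1) := by
      rw [← pow_val_eq τ hτ (i.val + 1)]
      congr 2
      push_cast
      simp
    have h2 : σ * τ ^ (i + 1).val * ξ = ξ * (σ * τ ^ i.val) := by
      rw [h1, pow_succ']
      calc σ * (τ * τ ^ i.val) * ξ = σ * τ * (τ ^ i.val * ξ) := by group
        _ = σ * τ * (ξ * τ ^ i.val) := by rw [(hξτ.pow_right _).eq]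
        _ = (τ * σ * ξ) * τ ^ i.val := by rw [hστ.eq]; group
        _ = ξ * (σ * τ ^ i.val) := by rw [← hξσ]; group
    rw [← MulAut.mul_apply, h2, MulAut.mul_apply, hafix]
  have : Finite ↥(Bsub A σ τ (i + 1)) :=
    Finite.of_injective (fun b => (⟨b.1, b.2.1⟩ : ↥A)) (fun b c h => Subtype.ext (by
      have := congrArg Subtype.val h; exact this))
  refine Nat.card_le_card_of_injective (fun a => ⟨ξ a.1, hmap a.1 a.2⟩) ?_
  intro a b h
  have := congrArg Subtype.val h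
  exact Subtype.ext (ξ.injective this)

theorem card_Bsub_le (A : Subgroup M) [Finite A] (σ τ ξ : MulAut M)
    (hτ : τ ^ p = 1) (hξσ : ξ * σ = τ * σ * ξ) (hξτ : Commute ξ τ) (hστ : Commute σ τ)
    (hξA : ξ ∈ presSub A) (i j : ZMod p) :
    Nat.card ↥(Bsub A σ τ i) ≤ Nat.card ↥(Bsub A σ τ j) := by
  have h1 : ∀ k : ℕ, Nat.card ↥(Bsub A σ τ i) ≤ Nat.card ↥(Bsub A σ τ (i + (k : ZMod p))) := by
    intro k
    induction k with
    | zero => simp
    | succ k ih =>
      refine ih.trans ?_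
      have := card_Bsub_le_succ A σ τ ξ hτ hξσ hξτ hστ hξA (i + (k : ZMod p))
      rw [add_assoc] at this
      push_cast
      exact this
  have h2 := h1 (j - i).val
  rwa [ZMod.natCast_zmod_val, add_sub_cancel] at h2

/-- The abstract decomposition theorem. -/
theorem main {r : ℕ} (hpr : Nat.Coprime p r) (A : Subgroup M) [Finite A] (σ τ ξ : MulAut M)
    (hστ : Commute σ τ) (hσ : σ ^ p = 1) (hτ : τ ^ p = 1) (hξσ : ξ * σ = τ * σ * ξ)
    (hξτ : Commute ξ τ)
    (hσA : σ ∈ presSub A) (hτA : τ ∈ presSub A) (hξA : ξ ∈ presSub A)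
    (hN : ∀ a ∈ A, Nm p τ a = 1) (hr : ∀ a ∈ A, a ^ r = 1) (hA : A ≠ ⊥) :
    A ⊓ fixSub σ ≠ ⊥ ∧ Nat.card ↥(A ⊓ fixSub σ) ^ p ≤ Nat.card ↥A := by
  have hB0 : Bsub A σ τ (0 : ZMod p) = A ⊓ fixSub σ := by
    simp [Bsub, ZMod.val_zero]
  have hfinB : ∀ i : ZMod p, Finite ↥(Bsub A σ τ i) := fun i =>
    Finite.of_injective (fun b => (⟨b.1, b.2.1⟩ : ↥A)) (fun b c h => Subtype.ext (by
      have := congrArg Subtype.val h; exact this))
  have hle := card_Bsub_le A σ τ ξ hτ hξσ hξτ hστ hξA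
  rw [← hB0]
  constructor
  · -- non-triviality
    obtain ⟨a, haA, ha1⟩ : ∃ a ∈ A, a ≠ 1 := by
      obtain ⟨a, h⟩ := (Subgroup.ne_bot_iff_exists_ne_one).mp hA
      exact ⟨a.1, a.2, fun h1 => h (Subtype.ext h1)⟩
    have hap : a ^ p ≠ 1 := by
      intro h
      have h5 : a ^ Nat.gcd p r = 1 := pow_gcd_eq_one.mpr ⟨h, hr a haA⟩
      rw [hpr, pow_one] at h5
      exact ha1 h5
    have hprod := prod_Nm_eq_pow σ τ hστ hτ a (hN a haA)
    obtain ⟨i, hi⟩ : ∃ i : ZMod p, Nm p (σ * τ ^ i.val) a ≠ 1 := by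
      by_contra hcon
      push Not at hcon
      rw [Finset.prod_eq_one (fun i _ => hcon i)] at hprod
      exact hap hprod.symm
    have hpres : σ * τ ^ i.val ∈ presSub A := mul_mem hσA (pow_mem hτA _)
    have hpow : (σ * τ ^ i.val) ^ p = 1 := by
      rw [(hστ.pow_right _).mul_pow, hσ, ← pow_mul, mul_comm, pow_mul, hτ, one_pow, one_mul]
    have hmem : Nm p (σ * τ ^ i.val) a ∈ Bsub A σ τ i :=
      ⟨Nm_mem _ hpres a haA, map_Nm_self _ hpow a⟩
    have hcard : 1 < Nat.card ↥(Bsub A σ τ i) := by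
      have := hfinB i
      rw [Finite.one_lt_card_iff_nontrivial]
      exact ⟨⟨⟨_, hmem⟩, 1, fun h => hi (congrArg Subtype.val h)⟩⟩
    have h0 : 1 < Nat.card ↥(Bsub A σ τ (0 : ZMod p)) := lt_of_lt_of_le hcard (hle i 0)
    intro hbot
    rw [hbot] at h0
    simp at h0
  · -- the injection
    have hinj : Function.Injective (fun b : (∀ i : ZMod p, ↥(Bsub A σ τ i)) =>
        (⟨∏ i, (b i).1, Subgroup.prod_mem _ (fun i _ => (b i).2.1)⟩ : ↥A)) := by
      intro b c hbc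
      have hbc' : ∏ i, (b i).1 = ∏ i, (c i).1 := congrArg Subtype.val hbc
      have h1 : ∏ i, ((b i).1 * ((c i).1)⁻¹) = 1 := by
        rw [Finset.prod_mul_distrib, Finset.prod_inv_distrib, hbc', mul_inv_cancel]
      funext j
      have hmemj : ∀ i, (b i).1 * ((c i).1)⁻¹ ∈ Bsub A σ τ i :=
        fun i => mul_mem (b i).2 (inv_mem (c i).2)
      have := eq_one_of_prod_eq_one hpr σ τ hστ hτ (fun i => (b i).1 * ((c i).1)⁻¹)
        (fun i => (hmemj i).2) (fun i => hN _ (hmemj i).1) (fun i => hr _ (hmemj i).1) h1 j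
      exact Subtype.ext (mul_inv_eq_one.mp this)
    have h2 := Nat.card_le_card_of_injective _ hinj
    rw [Nat.card_pi] at h2
    refine le_trans ?_ h2
    have h3 := Finset.pow_card_le_prod (Finset.univ : Finset (ZMod p))
      (fun i => Nat.card ↥(Bsub A σ τ i)) (Nat.card ↥(Bsub A σ τ (0 : ZMod p))) (fun i _ => hle 0 i)
    rwa [Finset.card_univ, ZMod.card] at h3

end Cfsg.Agent.Lib.helper17.ExtraNorm
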