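import Mathlib
import Cfsg.Agent.Lib.helper17.ExtraNorm
import Cfsg.Agent.Lib.helper17.ExtraGroup

/-!
# Order bound for faithful modules of extraspecial-like groups (helper17)
-/

set_option autoImplicit false

namespace Cfsg.Agent.Lib.helper17.ExtraBound

open Cfsg.Agent.Lib.helper17.ExtraNorm Cfsg.Agent.Lib.helper17.ExtraGroup

variable {Γ : Type*} [Group Γ] {M : Type*} [CommGroup M] {p r : ℕ} [hp : Fact p.Prime]

/-- module-side conditions -/
structure MCond (p r : ℕ) [NeZero p] (ρ : Γ →* MulAut M) (E : Subgroup Γ) (A : Subgroup M)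
    (z : Γ) : Prop where
  pres : ∀ g ∈ E, ∀ a ∈ A, ρ g a ∈ A
  nm : ∀ a ∈ A, Nm p (ρ z) a = 1
  exp : ∀ a ∈ A, a ^ r = 1
  ne : A ≠ ⊥

namespace MCond

variable {ρ : Γ →* MulAut M} {E : Subgroup Γ} {A : Subgroup M} {z : Γ}

theorem eq_one_of_pow (hm : MCond p r ρ E A z) (hpr : Nat.Coprime p r) {a : M} (ha : a ∈ A)
    (hap : a ^ p = 1) : a = 1 := by
  have h5 : a ^ Nat.gcd p r = 1 := pow_gcd_eq_one.mpr ⟨hap, hm.exp a ha⟩
  rwa [hpr, pow_one] at h5

theorem fix_eq_one (hm : MCond p r ρ E A z) (hpr : Nat.Coprime p r) {a : M} (ha : a ∈ A)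
    (hfix : ρ z a = a) : a = 1 := by
  refine hm.eq_one_of_pow hpr ha ?_
  rw [← Nm_of_fixed (ρ z) a hfix]
  exact hm.nm a ha

theorem z_ne_one (hm : MCond p r ρ E A z) (hpr : Nat.Coprime p r) : z ≠ 1 := by
  intro hz
  apply hm.ne
  rw [Subgroup.eq_bot_iff_forall]
  intro a ha
  refine hm.fix_eq_one hpr ha ?_
  rw [hz, map_one, MulAut.one_apply]

theorem card_eq_pow [Finite A] [hr : Fact r.Prime] (hm : MCond p r ρ E A z) :
    ∃ k, 1 ≤ k ∧ Nat.card ↥A = r ^ k := by
  have hpg : IsPGroup r ↥A := by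
    intro a
    refine ⟨1, ?_⟩
    rw [pow_one]
    exact Subtype.ext (hm.exp a.1 a.2)
  obtain ⟨k, hk⟩ := hpg.exists_card_eq
  refine ⟨k, ?_, hk⟩
  by_contra hk0
  have : k = 0 := by omega
  rw [this, pow_zero] at hk
  exact hm.ne (Subgroup.eq_bot_of_card_eq A hk)

/-- base case -/
theorem base [Finite A] [hr : Fact r.Prime] (hc : XCond p E z) (hm : MCond p r ρ E A z)
    (hpr : Nat.Coprime p r) :
    ∃ k, 1 ≤ k ∧ Nat.card ↥A = r ^ k ∧ p ∣ r ^ k - 1 := by
  obtain ⟨k, hk1, hk⟩ := hm.card_eq_pow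
  refine ⟨k, hk1, hk, ?_⟩
  -- the action of ⟨z⟩ on A
  let _ : MulAction ↥(Subgroup.zpowers z) ↥A :=
    { smul := fun g a => ⟨ρ g.1 a.1, hm.pres g.1 (hc.zp_mem g.2) a.1 a.2⟩
      one_smul := by
        intro a
        apply Subtype.ext
        show ρ (1 : Γ) a.1 = a.1
        rw [map_one, MulAut.one_apply]
      mul_smul := by
        intro g h a
        apply Subtype.ext
        show ρ (g.1 * h.1) a.1 = ρ g.1 (ρ h.1 a.1)
        rw [map_mul, MulAut.mul_apply] }
  have hsmul : ∀ (g : ↥(Subgroup.zpowers z)) (a : ↥A), ((g • a : ↥A) : M) = ρ g.1 a.1 :=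
    fun g a => rfl
  have hpg : IsPGroup p ↥(Subgroup.zpowers z) := by
    intro g
    refine ⟨1, ?_⟩
    rw [pow_one]
    exact Subtype.ext (hc.zp_pow g.2)
  have h1 := hpg.card_modEq_card_fixedPoints ↥A
  have h2 : Nat.card ↑(MulAction.fixedPoints ↥(Subgroup.zpowers z) ↥A) = 1 := by
    rw [Nat.card_eq_one_iff_unique]
    refine ⟨⟨?_⟩, ⟨⟨1, fun g => ?_⟩⟩⟩
    · intro a b
      have ha : (a.1 : M) = 1 := by
        refine hm.fix_eq_one hpr a.1.2 ?_
        have := a.2 ⟨z, Subgroup.mem_zpowers z⟩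
        exact congrArg Subtype.val this
      have hb : (b.1 : M) = 1 := by
        refine hm.fix_eq_one hpr b.1.2 ?_
        have := b.2 ⟨z, Subgroup.mem_zpowers z⟩
        exact congrArg Subtype.val this
      exact Subtype.ext (Subtype.ext (ha.trans hb.symm))
    · apply Subtype.ext
      rw [hsmul]
      exact map_one _
  rw [h2, hk] at h1
  exact (Nat.modEq_iff_dvd' (Nat.one_le_pow _ _ hr.out.pos)).mp h1.symm

/-- the Case B: a nonabelian `E` forces `r ^ 2 ≤ |A|`. -/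
theorem caseB [Finite A] [hr : Fact r.Prime] (hm : MCond p r ρ E A z)
    (hpr : Nat.Coprime p r) {g x : Γ} (hg : g ∈ E) (hx : x ∈ E) (hxg : x * g = z * g * x) :
    r ^ 2 ≤ Nat.card ↥A := by
  obtain ⟨k, hk1, hk⟩ := hm.card_eq_pow
  rw [hk]
  refine Nat.pow_le_pow_right hr.out.pos ?_
  by_contra hk2
  have hk' : k = 1 := by omega
  rw [hk', pow_one] at hk
  have hcyc : IsCyclic ↥A := isCyclic_of_prime_card hk
  obtain ⟨a₀, ha₀⟩ := hcyc.exists_generator
  obtain ⟨s, hs⟩ := Subgroup.mem_zpowers_iff.mp (ha₀ ⟨ρ g a₀.1, hm.pres g hg a₀.1 a₀.2⟩)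
  obtain ⟨t, ht⟩ := Subgroup.mem_zpowers_iff.mp (ha₀ ⟨ρ x a₀.1, hm.pres x hx a₀.1 a₀.2⟩)
  have hs' : a₀.1 ^ s = ρ g a₀.1 := by
    have := congrArg Subtype.val hs; simpa using this
  have ht' : a₀.1 ^ t = ρ x a₀.1 := by
    have := congrArg Subtype.val ht; simpa using this
  have h1 : ρ (x * g) a₀.1 = ρ (g * x) a₀.1 := by
    rw [map_mul, map_mul, MulAut.mul_apply, MulAut.mul_apply, ← hs', ← ht', map_zpow, map_zpow,
      ← hs', ← ht', ← zpow_mul, ← zpow_mul, mul_comm]
  have h2 : ρ z (ρ (g * x) a₀.1) = ρ (g * x) a₀.1 := by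
    rw [← MulAut.mul_apply, ← map_mul, ← mul_assoc, ← hxg, h1]
  have h3 : ρ (g * x) a₀.1 = 1 :=
    hm.fix_eq_one hpr (hm.pres _ (mul_mem hg hx) a₀.1 a₀.2) h2
  have h4 : a₀.1 = 1 := by
    have := (ρ (g * x)).injective (h3.trans (map_one _).symm)
    exact this
  have h5 : a₀ = 1 := Subtype.ext h4
  have h6 : ∀ a : ↥A, a = 1 := by
    intro a
    have := ha₀ a
    rw [h5, Subgroup.zpowers_one_eq_bot, Subgroup.mem_bot] at this
    exact this
  apply hm.ne
  rw [Subgroup.eq_bot_iff_forall]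
  intro a ha
  exact congrArg Subtype.val (h6 ⟨a, ha⟩)

end MCond

/-- The main bound, by induction on the width. -/
theorem bound [Finite Γ] [Finite M] [hr : Fact r.Prime] (hpr : p ≠ r) (ρ : Γ →* MulAut M)
    (n : ℕ) (hn : 1 ≤ n) (hmin : ∀ k : ℕ, 1 ≤ k → p ∣ r ^ k - 1 → n ≤ k) :
    ∀ (w : ℕ) (E : Subgroup Γ) (A : Subgroup M) (z : Γ), XCond p E z → MCond p r ρ E A z →
      p ^ (2 * w + 1) ≤ Nat.card ↥E → r ^ (n * p ^ w) ≤ Nat.card ↥A := by
  have hcop : Nat.Coprime p r := (Nat.coprime_primes hp.out hr.out).mpr hpr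
  intro w
  induction w with
  | zero =>
    intro E A z hc hm _
    obtain ⟨k, hk1, hk, hdvd⟩ := hm.base hc hcop
    rw [hk, pow_zero, mul_one]
    exact Nat.pow_le_pow_right hr.out.pos (hmin k hk1 hdvd)
  | succ w ih =>
    intro E A z hc hm hcard
    have hz : z ≠ 1 := hm.z_ne_one hcop
    have hp1 : 1 < p := hp.out.one_lt
    have hpE : p < Nat.card ↥E := by
      refine lt_of_lt_of_le ?_ hcard
      calc p = p ^ 1 := (pow_one p).symm
        _ < p ^ (2 * (w + 1) + 1) := Nat.pow_lt_pow_right hp1 (by omega)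
    by_cases hB : p = 2 ∧ Nat.card ↥E ≤ 8
    · -- Case B
      obtain ⟨hp2, hE8⟩ := hB
      have hw : w = 0 := by
        by_contra hw
        have : 2 ^ 5 ≤ 2 ^ (2 * (w + 1) + 1) := Nat.pow_le_pow_right (by norm_num) (by omega)
        rw [hp2] at hcard
        omega
      have hn1 : n = 1 := by
        have hrodd : r ≠ 2 := fun h => hpr (hp2.trans h.symm)
        have h2 : p ∣ r ^ 1 - 1 := by
          rw [hp2, pow_one]
          rcases Nat.Prime.eq_two_or_odd hr.out with h | h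
          · exact absurd h hrodd
          · omega
        have := hmin 1 le_rfl h2
        omega
      -- a noncentral element
      obtain ⟨g, hgE, hgz⟩ : ∃ g ∈ E, g ∉ Subgroup.zpowers z := by
        by_contra hcon
        push Not at hcon
        have hle : E ≤ Subgroup.zpowers z := hcon
        have hfz := hc.finite_zp
        have := Subgroup.card_le_of_le hle
        rw [hc.card_zp hz] at this
        omega
      obtain ⟨x, hxE, hxg⟩ := hc.exists_pair hz hgE hgz
      have := hm.caseB hcop hgE hxE hxg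
      rw [hn1, hw, hp2]
      simpa using this
    · -- Case A
      have h8 : p = 2 → 8 < Nat.card ↥E := by
        intro hp2
        by_contra h
        exact hB ⟨hp2, by omega⟩
      obtain ⟨y, hyE, hyz, hy1⟩ := hc.exists_good_y hz hpE h8
      obtain ⟨x, hxE, hxy⟩ := hc.exists_pair hz hyE hyz
      have hyzc : Commute y z := hc.zcent y hyE
      have hxzc : Commute x z := hc.zcent x hxE
      have hT := ExtraNorm.main (p := p) (r := r) hcop A (ρ y) (ρ z) (ρ x)
        (hyzc.map ρ) (by rw [← map_pow, hy1, map_one]) (by rw [← map_pow, hc.zpow, map_one])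
        (by rw [← map_mul, hxy, map_mul, map_mul]) (hxzc.map ρ)
        (hm.pres y hyE) (hm.pres z hc.zmem) (hm.pres x hxE) hm.nm hm.exp hm.ne
      obtain ⟨hB0ne, hB0card⟩ := hT
      have hc1 := hc.xcond_E1 x y hxE hyE hxy
      have hm1 : MCond p r ρ (XCond.E1 E x y) (A ⊓ fixSub (ρ y)) z := by
        refine ⟨?_, fun a ha => hm.nm a ha.1, fun a ha => hm.exp a ha.1, hB0ne⟩
        intro e he a ha
        obtain ⟨heE, hey, _⟩ := XCond.mem_E1.mp he
        refine ⟨hm.pres e heE a ha.1, ?_⟩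
        have hafix : ρ y a = a := ha.2
        show ρ y (ρ e a) = ρ e a
        rw [← MulAut.mul_apply, ← map_mul, ← hey, map_mul, MulAut.mul_apply, hafix]
      have hcard1 : p ^ (2 * w + 1) ≤ Nat.card ↥(XCond.E1 E x y) := by
        have h1 := hc.card_E1 x y hxE hyE
        have h2 : p ^ (2 * (w + 1) + 1) = p * (p * p ^ (2 * w + 1)) := by ring
        rw [h2] at hcard
        have h3 := hcard.trans h1
        have hp0 : 0 < p := hp.out.pos
        exact Nat.le_of_mul_le_mul_left (Nat.le_of_mul_le_mul_left h3 hp0) hp0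
      have h4 := ih (XCond.E1 E x y) (A ⊓ fixSub (ρ y)) z hc1 hm1 hcard1
      calc r ^ (n * p ^ (w + 1)) = (r ^ (n * p ^ w)) ^ p := by rw [← pow_mul]; ring_nf
        _ ≤ Nat.card ↥(A ⊓ fixSub (ρ y)) ^ p := Nat.pow_le_pow_left h4 p
        _ ≤ Nat.card ↥A := hB0card

end Cfsg.Agent.Lib.helper17.ExtraBound
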