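import Mathlib

set_option autoImplicit false

namespace Cfsg.Agent.Lib.helper17.GES0

theorem pow_apply_mul {M : Type*} [CommGroup M] (v : MulAut M) (m y : M) (c : ℕ)
    (hvy : v y = y) (hvm : v m = m * y ^ c) (k : ℕ) : (v ^ k) m = m * y ^ (c * k) := by
  induction k with
  | zero => simp
  | succ k ih =>
    rw [pow_succ', MulAut.mul_apply, ih, map_mul, map_pow, hvy, hvm, mul_assoc, ← pow_add,
      Nat.mul_succ, add_comm]

theorem pow_apply_fix {M : Type*} [Group M] (v : MulAut M) (m : M) (hvm : v m = m) (k : ℕ) :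
    (v ^ k) m = m := by
  induction k with
  | zero => simp
  | succ k ih => rw [pow_succ', MulAut.mul_apply, ih, hvm]

theorem pow_mul_emod {M : Type*} [Group M] {p : ℕ} (y : M) (hy : y ^ p = 1) (a : ℕ) :
    y ^ a = y ^ (a % p) := by
  conv_lhs => rw [← Nat.div_add_mod a p]
  rw [pow_add, pow_mul, hy, one_pow, one_mul]

theorem sl2_inv {M : Type*} [CommGroup M] {p : ℕ} [hp : Fact p.Prime] (hexp : ∀ m : M, m ^ p = 1)
    (u v : MulAut M) (z y : M)
    (hu : ∀ m, ∃ k : ℕ, u m = m * z ^ k) (huz : u z = z) (huy : u y = y * z)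
    (hv : ∀ m, ∃ k : ℕ, v m = m * y ^ k) (hvy : v y = y) (c : ℕ) (hc : ¬ p ∣ c)
    (hvz : v z = z * y ^ c) :
    ∃ ι ∈ Subgroup.closure ({u, v} : Set (MulAut M)), ι * u = u * ι ∧ ι z = z⁻¹ ∧ ι y = y⁻¹ := by
  have hcop : Nat.Coprime c p := ((Nat.Prime.coprime_iff_not_dvd hp.out).mpr hc).symm
  obtain ⟨m', -, hm'⟩ := Nat.exists_mul_mod_eq_one_of_coprime hcop hp.out.one_lt
  have hycm : y ^ (c * m') = y := by
    rw [pow_mul_emod y (hexp y), hm', pow_one]
  have hyinv : y ^ (p - 1) = y⁻¹ := by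
    apply eq_inv_of_mul_eq_one_left
    rw [← pow_succ, Nat.sub_add_cancel hp.out.one_le, hexp]
  set b := m' * (p - 1) with hb
  have hycb : y ^ (c * b) = y⁻¹ := by
    rw [hb, ← mul_assoc, pow_mul, hycm, hyinv]
  set w := v ^ b with hw
  have hwy : w y = y := pow_apply_fix v y hvy b
  have hwz : w z = z * y⁻¹ := by
    rw [hw, pow_apply_mul v z y c hvy hvz b, hycb]
  have hum : u ∈ Subgroup.closure ({u, v} : Set (MulAut M)) :=
    Subgroup.subset_closure (by simp)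
  have hvm : v ∈ Subgroup.closure ({u, v} : Set (MulAut M)) :=
    Subgroup.subset_closure (by simp)
  have hwm : w ∈ Subgroup.closure ({u, v} : Set (MulAut M)) := Subgroup.pow_mem _ hvm b
  set n := u * w * u with hn
  have hnm : n ∈ Subgroup.closure ({u, v} : Set (MulAut M)) :=
    Subgroup.mul_mem _ (Subgroup.mul_mem _ hum hwm) hum
  have hnz : n z = y⁻¹ := by
    rw [hn, MulAut.mul_apply, MulAut.mul_apply, huz, hwz, map_mul, map_inv, huz, huy]
    rw [mul_inv, mul_comm y⁻¹, ← mul_assoc, mul_inv_cancel, one_mul]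
  have hny : n y = z := by
    rw [hn, MulAut.mul_apply, MulAut.mul_apply, huy, map_mul, hwy, hwz, map_mul, map_mul, map_inv,
      huy, huz]
    rw [mul_comm z, mul_inv_cancel_left]
  obtain ⟨ι, hι⟩ : ∃ ι : MulAut M, ι = n * n := ⟨_, rfl⟩
  have hιz : ι z = z⁻¹ := by
    rw [hι, MulAut.mul_apply, hnz, map_inv, hny]
  have hιy : ι y = y⁻¹ := by
    rw [hι, MulAut.mul_apply, hny, hnz]
  refine ⟨ι, hι ▸ Subgroup.mul_mem _ hnm hnm, ?_, hιz, hιy⟩
  have hιD : ∀ i j : ℕ, ι (z ^ i * y ^ j) = (z ^ i * y ^ j)⁻¹ := by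
    intro i j
    rw [map_mul, map_pow, map_pow, hιz, hιy, mul_inv, inv_pow, inv_pow]
  have huD : ∀ i j : ℕ, u (z ^ i * y ^ j) = z ^ (i + j) * y ^ j := by
    intro i j
    rw [map_mul, map_pow, map_pow, huz, huy, mul_pow, pow_add, mul_assoc,
      mul_comm (y ^ j)]
  have hfix : ∀ k : M, u k = k → v k = k → ι k = k := by
    intro k h1 h2
    have h3 : w k = k := pow_apply_fix v k h2 b
    have h4 : n k = k := by
      rw [hn, MulAut.mul_apply, MulAut.mul_apply, h1, h3, h1]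
    rw [hι, MulAut.mul_apply, h4, h4]
  have hdec : ∀ m : M, ∃ i j : ℕ, ∃ k : M, m = z ^ i * y ^ j * k ∧ u k = k ∧ v k = k := by
    intro m
    obtain ⟨a, ha⟩ := hu m
    obtain ⟨b', hb'⟩ := hv m
    refine ⟨b' * m', a, m * (z ^ (b' * m') * y ^ a)⁻¹, ?_, ?_, ?_⟩
    · rw [mul_comm m, ← mul_assoc, mul_inv_cancel, one_mul]
    · rw [map_mul, map_inv, huD, ha, pow_add]
      rw [mul_inv, mul_inv, mul_inv]
      have e : m * z ^ a * ((z ^ (b' * m'))⁻¹ * (z ^ a)⁻¹ * (y ^ a)⁻¹)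
          = m * ((z ^ (b' * m'))⁻¹ * (y ^ a)⁻¹) * (z ^ a * (z ^ a)⁻¹) := by
        simp only [mul_assoc, mul_comm, mul_left_comm]
      rw [e, mul_inv_cancel, mul_one]
    · rw [map_mul, map_inv, map_mul, map_pow, map_pow, hvz, hvy, hb', mul_pow, ← pow_mul]
      have e1 : y ^ (c * (b' * m')) = y ^ b' := by
        rw [mul_comm b' m', ← mul_assoc, pow_mul, hycm]
      rw [e1]
      rw [mul_inv, mul_inv, mul_inv]
      have e : m * y ^ b' * ((z ^ (b' * m'))⁻¹ * (y ^ b')⁻¹ * (y ^ a)⁻¹)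
          = m * ((z ^ (b' * m'))⁻¹ * (y ^ a)⁻¹) * (y ^ b' * (y ^ b')⁻¹) := by
        simp only [mul_assoc, mul_comm, mul_left_comm]
      rw [e, mul_inv_cancel, mul_one]
  ext m
  obtain ⟨i, j, k, rfl, hk1, hk2⟩ := hdec m
  rw [MulAut.mul_apply, MulAut.mul_apply, map_mul u, hk1, map_mul ι, map_mul ι,
    hfix k hk1 hk2, huD, hιD, hιD, map_mul u, hk1, map_inv, huD]

end Cfsg.Agent.Lib.helper17.GES0
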