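import Cfsg.Agent.Lib.Helper26.FusionSat2
import Cfsg.Agent.Lib.Helper26.DirFactor
import Cfsg.Agent.Lib.helper17.GES0
import Cfsg.Agent.Lib.helper17.BGH1

set_option autoImplicit false

namespace Cfsg.Agent.Lib.helper17.GES2

open Cfsg Cfsg.FusionSystem Cfsg.Agent.Lib.Helper26

variable {Ω : Type*} [Group Ω] {S : Subgroup Ω}

structure GES (p : ℕ) (P Z : Subgroup Ω) : Prop where
  le : Z ≤ P
  card : Nat.card Z = p
  comm : ∀ a ∈ P, ∀ b ∈ P, a * b * a⁻¹ * b⁻¹ ∈ Z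
  pow : ∀ a ∈ P, a ^ p ∈ Z
  central : ∀ z ∈ Z, ∀ a ∈ P, a * z = z * a
  nab : ∃ a ∈ P, ∃ b ∈ P, a * b * a⁻¹ * b⁻¹ ≠ 1

theorem exists_pow_of_prime_card {p : ℕ} [Fact p.Prime] {Z : Subgroup Ω}
    (hcard : Nat.card Z = p) {c : Ω} (hc : c ∈ Z) (hc1 : c ≠ 1) {z : Ω} (hz : z ∈ Z) :
    ∃ k : ℕ, z = c ^ k := by
  have hc1' : (⟨c, hc⟩ : Z) ≠ 1 := fun h => hc1 (congrArg Subtype.val h)
  obtain ⟨k, hk⟩ := mem_powers_of_prime_card hcard hc1' (g' := (⟨z, hz⟩ : Z))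
  exact ⟨k, (congrArg Subtype.val hk).symm⟩

theorem pow_prime_eq_one {p : ℕ} {Z : Subgroup Ω} (hcard : Nat.card Z = p) {z : Ω} (hz : z ∈ Z) :
    z ^ p = 1 := by
  have h := _root_.pow_card_eq_one' (G := Z) (x := ⟨z, hz⟩)
  rw [hcard] at h
  exact congrArg Subtype.val h

/-- characteristic property of `Z` -/
theorem GES.char {p : ℕ} [Fact p.Prime] {P Z : Subgroup Ω} (h : GES p P Z) (ψ : P →* Ω)
    (hψ : ∀ x, ψ x ∈ P) {z : Ω} (hz : z ∈ Z) : ψ ⟨z, h.le hz⟩ ∈ Z := by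
  obtain ⟨a, ha, b, hb, hab⟩ := h.nab
  obtain ⟨k, hk⟩ := exists_pow_of_prime_card h.card (h.comm a ha b hb) hab hz
  have e : (⟨z, h.le hz⟩ : P) = (⟨a, ha⟩ * ⟨b, hb⟩ * ⟨a, ha⟩⁻¹ * ⟨b, hb⟩⁻¹) ^ k :=
    Subtype.ext hk
  rw [e, map_pow, map_mul, map_mul, map_mul, map_inv, map_inv]
  exact Subgroup.pow_mem _ (h.comm _ (hψ _) _ (hψ _)) k


theorem GES.conj_mem {p : ℕ} [Fact p.Prime] (F : FusionSystem S) {P Z : Subgroup Ω}
    (hP : F.StronglyClosed P) (h : GES p P Z) {s : Ω} (hs : s ∈ S) {z : Ω} (hz : z ∈ Z) :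
    s * z * s⁻¹ ∈ Z :=
  h.char (conjHom P s) (fun x => conj_mem_of_stronglyClosed F hP hs x.2) hz

theorem GES.receptive [Finite S] {p : ℕ} [Fact p.Prime] (hS : IsPGroup p S) (F : FusionSystem S)
    (hF : F.IsSaturated p) {P Z : Subgroup Ω} (hP : F.StronglyClosed P) (h : GES p P Z) :
    F.IsReceptive Z := by
  have hZS : Z ≤ S := h.le.trans hP.1
  have hnorm : ∀ s ∈ S, s ∈ Subgroup.normalizer (Z : Set Ω) := fun s hs =>
    mem_normalizer_of_forall (fun z hz => h.conj_mem F hP hs hz) (fun z hz => by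
      have := h.conj_mem F hP (S.inv_mem hs) hz
      rwa [inv_inv] at this)
  have hfn : F.IsFullyNormalized Z := by
    refine ⟨hZS, fun Q' _ => ?_⟩
    have h1 : normalizerIn S Z = S := le_antisymm inf_le_left (fun s hs => ⟨hs, hnorm s hs⟩)
    rw [h1]
    exact card_le_card_of_le_of_finite inf_le_left
  exact (saturated_fullyNormalized hS F hF hfn).2.2

/-- Step 1: an `F`-conjugate of `Z` that is central in `P` equals `Z`. -/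
theorem GES.central_conj [Finite S] {p : ℕ} [Fact p.Prime] (hS : IsPGroup p S)
    (F : FusionSystem S) (hF : F.IsSaturated p) {P Z : Subgroup Ω} (hP : F.StronglyClosed P)
    (h : GES p P Z) {ρ : Z →* Ω} (hρ : ρ ∈ F.Hom Z)
    (hcen : ∀ z : Z, ∀ a ∈ P, a * ρ z = ρ z * a) : ∀ z : Z, ρ z ∈ Z := by
  have hZS : Z ≤ S := h.le.trans hP.1
  have hfinZ : Finite Z := finite_of_le hZS
  obtain ⟨ψ, hψ, hψr, hψ1, -⟩ := exists_inv F hρ rfl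
  obtain ⟨ψ', hψ', hext⟩ := (h.receptive hS F hF hP).2 ρ.range ψ hψ hψr
  have hPle : P ≤ extender S ρ.range ψ := by
    refine le_trans ?_ (centralizerIn_le_extender S ρ.range ψ)
    intro a ha
    refine ⟨hP.1 ha, ?_⟩
    change a ∈ Subgroup.centralizer (ρ.range : Set Ω)
    rw [Subgroup.mem_centralizer_iff]
    rintro _ ⟨z, rfl⟩
    exact (hcen z a ha).symm
  have hθm : ψ'.comp (Subgroup.inclusion hPle) ∈ F.Hom P := restrict_mem F hψ' hPle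
  have hθP : ∀ x, (ψ'.comp (Subgroup.inclusion hPle)) x ∈ P :=
    fun x => hP.2 P le_rfl _ hθm x
  have hρP : ∀ z : Z, ρ z ∈ P := fun z => hP.2 Z h.le ρ hρ z
  have hθρ : ∀ z : Z, (ψ'.comp (Subgroup.inclusion hPle)) ⟨ρ z, hρP z⟩ = z := by
    intro z
    have h1 := hext (ρ z) ⟨z, rfl⟩ (hPle (hρP z))
    have h2 := hψ1 z ⟨z, rfl⟩
    rw [← h2, ← h1]
    rfl
  let f : Z → Z := fun z => ⟨(ψ'.comp (Subgroup.inclusion hPle)) ⟨z, h.le z.2⟩,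
    h.char _ hθP z.2⟩
  have hfinj : Function.Injective f := by
    intro a b hab
    have h1 : (ψ'.comp (Subgroup.inclusion hPle)) ⟨a, h.le a.2⟩ =
        (ψ'.comp (Subgroup.inclusion hPle)) ⟨b, h.le b.2⟩ := congrArg Subtype.val hab
    have h2 := F.injective_of_mem hθm h1
    exact Subtype.ext (congrArg (fun x : P => (x : Ω)) h2)
  have hfsurj : Function.Surjective f := Finite.surjective_of_injective hfinj
  intro z
  obtain ⟨z', hz'⟩ := hfsurj z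
  have h1 : (ψ'.comp (Subgroup.inclusion hPle)) ⟨z', h.le z'.2⟩ = z := congrArg Subtype.val hz'
  have h2 := F.injective_of_mem hθm (h1.trans (hθρ z).symm)
  have h3 : (z' : Ω) = ρ z := congrArg (fun x : P => (x : Ω)) h2
  rw [← h3]
  exact z'.2


theorem mem_cent {a y : Ω} : a ∈ Subgroup.centralizer ({y} : Set Ω) ↔ a * y = y * a := by
  rw [Subgroup.mem_centralizer_iff]
  constructor
  · intro h
    exact (h y rfl).symm
  · rintro h _ rfl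
    exact h.symm

theorem mem_M {P : Subgroup Ω} {a y : Ω} :
    a ∈ P ⊓ Subgroup.centralizer ({y} : Set Ω) ↔ a ∈ P ∧ a * y = y * a := by
  rw [Subgroup.mem_inf, mem_cent]

theorem comm_pow_of_comm {a y : Ω} (h : a * y = y * a) (k : ℕ) : a * y ^ k = y ^ k * a :=
  (Commute.pow_right (show Commute a y from h) k)

/-- Step 2: a non-trivial conjugate of `Z` gives a non-central `y` and a map on `C_P(y)`. -/
theorem GES.exists_beta [Finite S] {p : ℕ} [Fact p.Prime] (hS : IsPGroup p S)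
    (F : FusionSystem S) (hF : F.IsSaturated p) {P Z : Subgroup Ω} (hP : F.StronglyClosed P)
    (h : GES p P Z) {φ : Z →* Ω} (hφ : φ ∈ F.Hom Z) (hne : φ.range ≠ Z) :
    ∃ y ∈ P, y ^ p = 1 ∧ (∀ k : ℕ, y ^ k ∈ Z → y ^ k = 1) ∧ (∃ g ∈ P, g * y ≠ y * g) ∧
      ∃ (β₀ : ↥(P ⊓ Subgroup.centralizer ({y} : Set Ω)) →* Ω),
        β₀ ∈ F.Hom (P ⊓ Subgroup.centralizer ({y} : Set Ω)) ∧
        ∃ hy : y ∈ P ⊓ Subgroup.centralizer ({y} : Set Ω), β₀ ⟨y, hy⟩ ∈ Z ∧ β₀ ⟨y, hy⟩ ≠ 1 := by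
  have hZS : Z ≤ S := h.le.trans hP.1
  have hfinZ : Finite Z := finite_of_le hZS
  have hφP : ∀ z : Z, φ z ∈ P := fun z => hP.2 Z h.le φ hφ z
  have hcardr : Nat.card φ.range = Nat.card Z :=
    (Nat.card_congr (MonoidHom.ofInjective (F.injective_of_mem hφ)).toEquiv).symm
  have hfinr : Finite φ.range := finite_of_le (range_le F hφ)
  -- some φ z₀ is not central
  have hex : ∃ z₀ : Z, ∃ g ∈ P, g * φ z₀ ≠ φ z₀ * g := by
    by_contra hcon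
    push Not at hcon
    have h1 := h.central_conj hS F hF hP hφ hcon
    apply hne
    apply Subgroup.eq_of_le_of_card_ge
    · rintro _ ⟨z, rfl⟩
      exact h1 z
    · exact hcardr.ge
  obtain ⟨z₀, g, hg, hgy⟩ := hex
  have hz₀1 : (z₀ : Ω) ≠ 1 := by
    intro h1
    have : z₀ = 1 := Subtype.ext h1
    rw [this, map_one] at hgy
    exact hgy (by rw [mul_one, one_mul])
  have hgen : ∀ z : Z, ∃ k : ℕ, z = z₀ ^ k := by
    intro z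
    obtain ⟨k, hk⟩ := exists_pow_of_prime_card h.card z₀.2 hz₀1 z.2
    exact ⟨k, Subtype.ext hk⟩
  have hyp : (φ z₀) ^ p = 1 := by
    rw [← map_pow]
    have : z₀ ^ p = 1 := Subtype.ext (pow_prime_eq_one h.card z₀.2)
    rw [this, map_one]
  have hyZ : ∀ k : ℕ, (φ z₀) ^ k ∈ Z → (φ z₀) ^ k = 1 := by
    intro k hk
    by_contra hk1
    apply hne
    symm
    apply Subgroup.eq_of_le_of_card_ge
    · intro z hz
      obtain ⟨j, hj⟩ := exists_pow_of_prime_card h.card hk hk1 hz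
      refine ⟨z₀ ^ (k * j), ?_⟩
      rw [map_pow, pow_mul, hj]
    · exact hcardr.le
  refine ⟨φ z₀, hφP z₀, hyp, hyZ, ⟨g, hg, hgy⟩, ?_⟩
  obtain ⟨ψ, hψ, hψr, hψ1, -⟩ := exists_inv F hφ rfl
  obtain ⟨ψ', hψ', hext⟩ := (h.receptive hS F hF hP).2 φ.range ψ hψ hψr
  have hMle : P ⊓ Subgroup.centralizer ({φ z₀} : Set Ω) ≤ extender S φ.range ψ := by
    refine le_trans ?_ (centralizerIn_le_extender S φ.range ψ)
    intro a ha
    rw [mem_M] at ha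
    refine ⟨hP.1 ha.1, ?_⟩
    change a ∈ Subgroup.centralizer (φ.range : Set Ω)
    rw [Subgroup.mem_centralizer_iff]
    rintro _ ⟨z, rfl⟩
    obtain ⟨k, rfl⟩ := hgen z
    rw [map_pow]
    exact (comm_pow_of_comm ha.2 k).symm
  have hyM : φ z₀ ∈ P ⊓ Subgroup.centralizer ({φ z₀} : Set Ω) := mem_M.mpr ⟨hφP z₀, rfl⟩
  refine ⟨ψ'.comp (Subgroup.inclusion hMle), restrict_mem F hψ' hMle, hyM, ?_⟩
  have h1 : (ψ'.comp (Subgroup.inclusion hMle)) ⟨φ z₀, hyM⟩ = z₀ := by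
    have h1 := hext (φ z₀) ⟨z₀, rfl⟩ (hMle hyM)
    have h2 := hψ1 z₀ ⟨z₀, rfl⟩
    rw [← h2, ← h1]
    rfl
  rw [h1]
  exact ⟨z₀.2, hz₀1⟩


theorem GES.le_M {p : ℕ} {P Z : Subgroup Ω} (h : GES p P Z) {y : Ω} (hy : y ∈ P) :
    Z ≤ P ⊓ Subgroup.centralizer ({y} : Set Ω) := fun z hz =>
  mem_M.mpr ⟨h.le hz, (h.central z hz y hy).symm⟩

theorem GES.beta_key {p : ℕ} [Fact p.Prime] (F : FusionSystem S) {P Z : Subgroup Ω}
    (h : GES p P Z) {y : Ω} (hyZ : ∀ k : ℕ, y ^ k ∈ Z → y ^ k = 1)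
    {β₀ : ↥(P ⊓ Subgroup.centralizer ({y} : Set Ω)) →* Ω}
    (hβ₀ : β₀ ∈ F.Hom (P ⊓ Subgroup.centralizer ({y} : Set Ω)))
    (hy : y ∈ P ⊓ Subgroup.centralizer ({y} : Set Ω)) (hβy : β₀ ⟨y, hy⟩ ∈ Z)
    (hβy1 : β₀ ⟨y, hy⟩ ≠ 1) {z : Ω} (hz : z ∈ Z) (hz1 : z ≠ 1)
    (hzM : z ∈ P ⊓ Subgroup.centralizer ({y} : Set Ω)) : β₀ ⟨z, hzM⟩ ∉ Z := by
  intro hcon
  obtain ⟨k, hk⟩ := exists_pow_of_prime_card h.card hβy hβy1 hcon
  rw [← map_pow] at hk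
  have h1 := F.injective_of_mem hβ₀ hk
  have h2 : z = y ^ k := congrArg Subtype.val h1
  apply hz1
  rw [h2]
  apply hyZ
  rw [← h2]
  exact hz

theorem GES.M_abelian {p : ℕ} [Fact p.Prime] (F : FusionSystem S) {P Z : Subgroup Ω}
    (hP : F.StronglyClosed P)
    (h : GES p P Z) {y : Ω} (hyZ : ∀ k : ℕ, y ^ k ∈ Z → y ^ k = 1)
    {β₀ : ↥(P ⊓ Subgroup.centralizer ({y} : Set Ω)) →* Ω}
    (hβ₀ : β₀ ∈ F.Hom (P ⊓ Subgroup.centralizer ({y} : Set Ω)))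
    (hy : y ∈ P ⊓ Subgroup.centralizer ({y} : Set Ω)) (hβy : β₀ ⟨y, hy⟩ ∈ Z)
    (hβy1 : β₀ ⟨y, hy⟩ ≠ 1) :
    ∀ a ∈ P ⊓ Subgroup.centralizer ({y} : Set Ω), ∀ b ∈ P ⊓ Subgroup.centralizer ({y} : Set Ω),
      a * b = b * a := by
  intro a ha b hb
  by_contra hab
  have hc1 : a * b * a⁻¹ * b⁻¹ ≠ 1 := by
    intro h1
    apply hab
    have : a * b = (a * b * a⁻¹ * b⁻¹) * (b * a) := by group
    rw [this, h1, one_mul]
  have hcZ : a * b * a⁻¹ * b⁻¹ ∈ Z := h.comm a ha.1 b hb.1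
  have hβP : ∀ x, β₀ x ∈ P := fun x => hP.2 _ inf_le_left β₀ hβ₀ x
  refine h.beta_key F hyZ hβ₀ hy hβy hβy1 hcZ hc1 (h.le_M hy.1 hcZ) ?_
  have e : (⟨a * b * a⁻¹ * b⁻¹, h.le_M hy.1 hcZ⟩ : ↥(P ⊓ Subgroup.centralizer ({y} : Set Ω))) =
      ⟨a, ha⟩ * ⟨b, hb⟩ * ⟨a, ha⟩⁻¹ * ⟨b, hb⟩⁻¹ := rfl
  rw [e, map_mul, map_mul, map_mul, map_inv, map_inv]
  exact h.comm _ (hβP _) _ (hβP _)

theorem GES.M_exp {p : ℕ} [Fact p.Prime] (F : FusionSystem S) {P Z : Subgroup Ω}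
    (hP : F.StronglyClosed P)
    (h : GES p P Z) {y : Ω} (hyZ : ∀ k : ℕ, y ^ k ∈ Z → y ^ k = 1)
    {β₀ : ↥(P ⊓ Subgroup.centralizer ({y} : Set Ω)) →* Ω}
    (hβ₀ : β₀ ∈ F.Hom (P ⊓ Subgroup.centralizer ({y} : Set Ω)))
    (hy : y ∈ P ⊓ Subgroup.centralizer ({y} : Set Ω)) (hβy : β₀ ⟨y, hy⟩ ∈ Z)
    (hβy1 : β₀ ⟨y, hy⟩ ≠ 1) :
    ∀ a ∈ P ⊓ Subgroup.centralizer ({y} : Set Ω), a ^ p = 1 := by
  intro a ha
  by_contra hc1
  have hcZ : a ^ p ∈ Z := h.pow a ha.1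
  have hβP : ∀ x, β₀ x ∈ P := fun x => hP.2 _ inf_le_left β₀ hβ₀ x
  refine h.beta_key F hyZ hβ₀ hy hβy hβy1 hcZ hc1 (h.le_M hy.1 hcZ) ?_
  have e : (⟨a ^ p, h.le_M hy.1 hcZ⟩ : ↥(P ⊓ Subgroup.centralizer ({y} : Set Ω))) =
      ⟨a, ha⟩ ^ p := rfl
  rw [e, map_pow]
  exact h.pow _ (hβP _)

end Cfsg.Agent.Lib.helper17.GES2
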