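import Cfsg.Agent.Lib.helper17.GES2

set_option autoImplicit false

namespace Cfsg.Agent.Lib.helper17.GES3

open Cfsg Cfsg.FusionSystem Cfsg.Agent.Lib.Helper26 Cfsg.Agent.Lib.helper17.GES2

variable {Ω : Type*} [Group Ω] {S : Subgroup Ω}

theorem conj_pow_eq (g y z : Ω) (h : g * y * g⁻¹ = z * y) (hzg : g * z = z * g) (k : ℕ) :
    g ^ k * y * (g ^ k)⁻¹ = z ^ k * y := by
  induction k with
  | zero => simp
  | succ k ih =>
    have hc : g * z ^ k = z ^ k * g := comm_pow_of_comm hzg k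
    calc g ^ (k+1) * y * (g ^ (k+1))⁻¹ = g * (g ^ k * y * (g ^ k)⁻¹) * g⁻¹ := by
          rw [pow_succ']; group
      _ = g * (z ^ k * y) * g⁻¹ := by rw [ih]
      _ = (g * z ^ k) * y * g⁻¹ := by group
      _ = z ^ k * (g * y * g⁻¹) := by rw [hc]; group
      _ = z ^ (k+1) * y := by rw [h, pow_succ]; group

theorem comm_ne_one {g y : Ω} (hgy : g * y ≠ y * g) : g * y * g⁻¹ * y⁻¹ ≠ 1 := by
  intro h1
  apply hgy
  have : g * y = (g * y * g⁻¹ * y⁻¹) * (y * g) := by group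
  rw [this, h1, one_mul]

theorem ges_decomp {p : ℕ} [Fact p.Prime] {P Z : Subgroup Ω} (h : GES p P Z) {g y : Ω}
    (hg : g ∈ P) (hy : y ∈ P) (hgy : g * y ≠ y * g) {a : Ω} (ha : a ∈ P) :
    ∃ k : ℕ, ∃ m ∈ P, m * y = y * m ∧ a = g ^ k * m := by
  have hz1 : g * y * g⁻¹ * y⁻¹ ∈ Z := h.comm g hg y hy
  obtain ⟨k, hk⟩ := exists_pow_of_prime_card h.card hz1 (comm_ne_one hgy) (h.comm a ha y hy)
  have hconj : g * y * g⁻¹ = (g * y * g⁻¹ * y⁻¹) * y := by group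
  have h1 := conj_pow_eq g y _ hconj (h.central _ hz1 g hg) k
  rw [← hk] at h1
  have h2 : g ^ k * y * (g ^ k)⁻¹ = a * y * a⁻¹ := by rw [h1]; group
  refine ⟨k, (g ^ k)⁻¹ * a, Subgroup.mul_mem _ (Subgroup.inv_mem _ (Subgroup.pow_mem _ hg k)) ha,
    ?_, by group⟩
  calc (g ^ k)⁻¹ * a * y = (g ^ k)⁻¹ * (a * y * a⁻¹) * a := by group
    _ = (g ^ k)⁻¹ * (g ^ k * y * (g ^ k)⁻¹) * a := by rw [h2]
    _ = y * ((g ^ k)⁻¹ * a) := by group

theorem sl2_inv' {M : Type*} [Group M] (hcomm : ∀ a b : M, a * b = b * a) {p : ℕ}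
    [hp : Fact p.Prime] (hexp : ∀ m : M, m ^ p = 1)
    (u v : MulAut M) (z y : M)
    (hu : ∀ m, ∃ k : ℕ, u m = m * z ^ k) (huz : u z = z) (huy : u y = y * z)
    (hv : ∀ m, ∃ k : ℕ, v m = m * y ^ k) (hvy : v y = y) (c : ℕ) (hc : ¬ p ∣ c)
    (hvz : v z = z * y ^ c) :
    ∃ ι ∈ Subgroup.closure ({u, v} : Set (MulAut M)), ι * u = u * ι ∧ ι z = z⁻¹ ∧ ι y = y⁻¹ := by
  let _ : CommGroup M := { (inferInstance : Group M) with mul_comm := hcomm }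
  exact GES0.sl2_inv hexp u v z y hu huz huy hv hvy c hc hvz


theorem eq_one_of_sq_of_odd {w : Ω} {p : ℕ} (hp : p.Prime) (hp2 : p ≠ 2) (h2 : w ^ 2 = 1)
    (hpw : w ^ p = 1) : w = 1 := by
  have hodd : p % 2 = 1 := by
    rcases hp.eq_two_or_odd with h | h
    · exact absurd h hp2
    · exact h
  have h1 : w ^ p = w := by
    conv_lhs => rw [← Nat.div_add_mod p 2, hodd, pow_add, pow_mul, h2, one_pow, one_mul, pow_one]
  rw [← h1, hpw]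

/-- the second case leads to a contradiction -/
theorem ges_case_two [Finite S] {p : ℕ} [hpf : Fact p.Prime] (hS : IsPGroup p S)
    (F : FusionSystem S) (hF : F.IsSaturated p) {P Z : Subgroup Ω} (hP : F.StronglyClosed P)
    (h : GES p P Z) {M : Subgroup Ω} {y : Ω} (hM : ∀ a, a ∈ M ↔ a ∈ P ∧ a * y = y * a)
    (hyP : y ∈ P) (hyZ : ∀ k : ℕ, y ^ k ∈ Z → y ^ k = 1)
    {g : Ω} (hg : g ∈ P) (hgy : g * y ≠ y * g)
    {β₀ : M →* Ω} (hβ₀ : β₀ ∈ F.Hom M) (hy : y ∈ M) (hβy : β₀ ⟨y, hy⟩ ∈ Z)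
    (hβy1 : β₀ ⟨y, hy⟩ ≠ 1)
    (hab : ∀ a ∈ M, ∀ b ∈ M, a * b = b * a) (hexp : ∀ a ∈ M, a ^ p = 1)
    (hp2 : p ≠ 2) (hno : ∀ t ∈ P, t * y ≠ y * t → t ^ p ≠ 1) : False := by
  classical
  have hMP : M ≤ P := fun a ha => ((hM a).mp ha).1
  have hMS : M ≤ S := hMP.trans hP.1
  have hfinM : Finite M := finite_of_le hMS
  have hZM : Z ≤ M := fun z hz => (hM z).mpr ⟨h.le hz, (h.central z hz y hyP).symm⟩
  -- M strongly closed
  have hMsc : F.StronglyClosed M := by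
    refine ⟨hMS, fun R hR ψ hψ x => ?_⟩
    have h1 : ψ x ∈ P := hP.2 R (hR.trans hMP) ψ hψ x
    refine (hM _).mpr ⟨h1, ?_⟩
    by_contra hc
    apply hno _ h1 hc
    rw [← map_pow]
    have : x ^ p = 1 := Subtype.ext (hexp x (hR x.2))
    rw [this, map_one]
  have hMrec : F.IsReceptive M :=
    (saturated_fullyNormalized hS F hF (fullyNormalized_of_stronglyClosed F hMsc)).2.2
  have hβr : β₀.range = M := range_eq_of_hom_stronglyClosed F hMsc hβ₀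
  obtain ⟨β, hβdef⟩ : ∃ β : MulAut M, β = autOfHom F hβ₀ hβr := ⟨_, rfl⟩
  have hβm : β ∈ F.autGroup M := hβdef ▸ autOfHom_mem F hβ₀ hβr
  have hβa : ∀ x : M, ((β x : M) : Ω) = β₀ x := fun x => by
    rw [hβdef]; exact autOfHom_apply F hβ₀ hβr x
  -- g normalizes M
  have hgS : g ∈ S := hP.1 hg
  have hgN : g ∈ Subgroup.normalizer (M : Set Ω) := le_normalizer_of_sc F hMsc hgS
  obtain ⟨u, hudef⟩ : ∃ u : MulAut M, u = conjAut M g hgN := ⟨_, rfl⟩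
  have hua : ∀ x : M, ((u x : M) : Ω) = g * x * g⁻¹ := fun x => by
    rw [hudef]; exact conjAut_apply M g hgN x
  have hum : u ∈ F.autGroup M := hudef ▸
    autInducedBy_le_autGroup F hMS (conjAut_mem_autInducedBy hgS hgN)
  -- the elements z₁, y of M
  have hz1Z : g * y * g⁻¹ * y⁻¹ ∈ Z := h.comm g hg y hyP
  have hz11 : g * y * g⁻¹ * y⁻¹ ≠ 1 := comm_ne_one hgy
  obtain ⟨z₁, hz₁def⟩ : ∃ z₁ : Ω, z₁ = g * y * g⁻¹ * y⁻¹ := ⟨_, rfl⟩
  rw [← hz₁def] at hz1Z hz11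
  have hzc : ∀ a ∈ P, a * z₁ = z₁ * a := h.central z₁ hz1Z
  obtain ⟨zM, hzMdef⟩ : ∃ zM : M, zM = ⟨z₁, hZM hz1Z⟩ := ⟨_, rfl⟩
  obtain ⟨yM, hyMdef⟩ : ∃ yM : M, yM = ⟨y, hy⟩ := ⟨_, rfl⟩
  have hzMv : (zM : Ω) = z₁ := by rw [hzMdef]
  have hyMv : (yM : Ω) = y := by rw [hyMdef]
  have hcommM : ∀ a b : M, a * b = b * a := fun a b => Subtype.ext (hab a a.2 b b.2)
  have hexpM : ∀ m : M, m ^ p = 1 := fun m => Subtype.ext (hexp m m.2)
  -- u is a transvection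
  have hu' : ∀ m : M, ∃ k : ℕ, u m = m * zM ^ k := by
    intro m
    have hc : g * m * g⁻¹ * (m : Ω)⁻¹ ∈ Z := h.comm g hg m (hMP m.2)
    obtain ⟨k, hk⟩ := exists_pow_of_prime_card h.card hz1Z hz11 hc
    refine ⟨k, Subtype.ext ?_⟩
    rw [hua, Subgroup.coe_mul, Subgroup.coe_pow, hzMv, ← hk,
      h.central _ hc m (hMP m.2)]
    group
  have huz : u zM = zM := by
    apply Subtype.ext
    rw [hua, hzMv, hzc g hg, mul_inv_cancel_right]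
  have huy : u yM = yM * zM := by
    apply Subtype.ext
    rw [hua, Subgroup.coe_mul, hzMv, hyMv, hzc y hyP, hz₁def]
    group
  -- v
  obtain ⟨v, hvdef⟩ : ∃ v : MulAut M, v = β⁻¹ * u * β := ⟨_, rfl⟩
  have hvm : v ∈ F.autGroup M := hvdef ▸
    Subgroup.mul_mem _ (Subgroup.mul_mem _ (Subgroup.inv_mem _ hβm) hum) hβm
  have hva : ∀ m : M, v m = β⁻¹ (u (β m)) := fun m => by rw [hvdef]; rfl
  have hβyv : ((β yM : M) : Ω) = β₀ ⟨y, hy⟩ := by rw [hβa, hyMdef]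
  have hcZ : ((β yM : M) : Ω) ∈ Z := by rw [hβyv]; exact hβy
  have hc1 : ((β yM : M) : Ω) ≠ 1 := by rw [hβyv]; exact hβy1
  obtain ⟨j, hj⟩ := exists_pow_of_prime_card h.card hcZ hc1 hz1Z
  have hzMj : zM = (β yM) ^ j := Subtype.ext (by rw [hzMv, hj]; rfl)
  have hβinvz : β⁻¹ zM = yM ^ j := by
    rw [hzMj, map_pow]
    congr 1
    exact β.symm_apply_apply yM
  have hv' : ∀ m : M, ∃ k : ℕ, v m = m * yM ^ k := by
    intro m
    obtain ⟨k, hk⟩ := hu' (β m)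
    refine ⟨j * k, ?_⟩
    rw [hva, hk, map_mul, map_pow, hβinvz, ← pow_mul]
    congr 1
    exact β.symm_apply_apply m
  have huc : u (β yM) = β yM := by
    apply Subtype.ext
    rw [hua, h.central _ hcZ g hg, mul_inv_cancel_right]
  have hvy : v yM = yM := by
    rw [hva, huc]
    exact β.symm_apply_apply yM
  obtain ⟨c, hc⟩ := hv' zM
  have hyMp : yM ^ p = 1 := hexpM yM
  have hcnd : ¬ p ∣ c := by
    rintro ⟨q, rfl⟩
    rw [pow_mul, hyMp, one_pow, mul_one, hva] at hc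
    have h1 : u (β zM) = β zM := by
      have := congrArg β hc
      rwa [MulAut.apply_inv_self] at this
    -- x := β zM commutes with g
    have hxg : g * ((β zM : M) : Ω) = ((β zM : M) : Ω) * g := by
      have h2 := congrArg Subtype.val h1
      rw [hua] at h2
      calc g * ((β zM : M) : Ω) = g * ((β zM : M) : Ω) * g⁻¹ * g := by group
        _ = ((β zM : M) : Ω) * g := by rw [h2]
    -- ρ
    have hρ : β₀.comp (Subgroup.inclusion hZM) ∈ F.Hom Z := restrict_mem F hβ₀ hZM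
    have hρv : ∀ z : Z, ∃ k : ℕ, (β₀.comp (Subgroup.inclusion hZM)) z = ((β zM : M) : Ω) ^ k := by
      intro z
      obtain ⟨k, hk⟩ := exists_pow_of_prime_card h.card hz1Z hz11 z.2
      refine ⟨k, ?_⟩
      have e : Subgroup.inclusion hZM z = zM ^ k := Subtype.ext (by
        rw [Subgroup.coe_pow, hzMv, ← hk]; rfl)
      rw [MonoidHom.comp_apply, e, map_pow, hβa]
    have hcen : ∀ z : Z, ∀ a ∈ P, a * (β₀.comp (Subgroup.inclusion hZM)) z =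
        (β₀.comp (Subgroup.inclusion hZM)) z * a := by
      intro z a ha
      obtain ⟨k, hk⟩ := hρv z
      rw [hk]
      apply comm_pow_of_comm
      obtain ⟨k', m, hmP, hmy, rfl⟩ := ges_decomp h hg hyP hgy ha
      have hmM : m ∈ M := (hM m).mpr ⟨hmP, hmy⟩
      have h3 : m * ((β zM : M) : Ω) = ((β zM : M) : Ω) * m := hab m hmM _ (β zM).2
      have h4 : g ^ k' * ((β zM : M) : Ω) = ((β zM : M) : Ω) * g ^ k' :=
        (Commute.pow_left (show Commute g _ from hxg) k')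
      rw [mul_assoc, h3, ← mul_assoc, h4, mul_assoc]
    have h5 := h.central_conj hS F hF hP hρ hcen ⟨z₁, hz1Z⟩
    have hMeq : P ⊓ Subgroup.centralizer ({y} : Set Ω) = M := by
      ext a
      rw [mem_M, hM]
    subst hMeq
    exact h.beta_key F hyZ hβ₀ hy hβy hβy1 hz1Z hz11 (hZM hz1Z) h5
  -- the involution
  obtain ⟨ι, hιcl, hιu, hιz, hιy⟩ :=
    sl2_inv' hcommM hexpM u v zM yM hu' huz huy hv' hvy c hcnd hc
  have hιm : ι ∈ F.autGroup M := by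
    have hle : Subgroup.closure ({u, v} : Set (MulAut M)) ≤ F.autGroup M := by
      rw [Subgroup.closure_le]
      rintro w (rfl | rfl)
      · exact hum
      · exact hvm
    exact hle hιcl
  have hι₀ : M.subtype.comp ι.toMonoidHom ∈ F.Hom M := (mem_autGroup_iff F hMS).mp hιm
  have hι₀r : (M.subtype.comp ι.toMonoidHom).range = M :=
    range_eq_of_hom_stronglyClosed F hMsc hι₀
  obtain ⟨θ', hθ', hθext⟩ := hMrec.2 M _ hι₀ hι₀r
  have hPle : P ≤ extender S M (M.subtype.comp ι.toMonoidHom) := by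
    have hMle : M ≤ extender S M (M.subtype.comp ι.toMonoidHom) := le_extender F hι₀
    have hgext : g ∈ extender S M (M.subtype.comp ι.toMonoidHom) := by
      refine mem_extender_iff.mpr ⟨hgS, hgN, g, hgS, fun x => ?_⟩
      have e : (⟨g * x * g⁻¹, conj_mem_of_mem_normalizer hgN x⟩ : M) = u x :=
        Subtype.ext (hua x).symm
      rw [e]
      change ((ι (u x) : M) : Ω) = g * ((ι x : M) : Ω) * g⁻¹
      rw [← hua, ← MulAut.mul_apply, ← MulAut.mul_apply, hιu]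
    intro a ha
    obtain ⟨k', m, hmP, hmy, rfl⟩ := ges_decomp h hg hyP hgy ha
    exact Subgroup.mul_mem _ (Subgroup.pow_mem _ hgext k') (hMle ((hM m).mpr ⟨hmP, hmy⟩))
  have hθm : θ'.comp (Subgroup.inclusion hPle) ∈ F.Hom P := restrict_mem F hθ' hPle
  obtain ⟨θ, hθdef⟩ : ∃ θ : P →* Ω, θ = θ'.comp (Subgroup.inclusion hPle) := ⟨_, rfl⟩
  rw [← hθdef] at hθm
  have hθP : ∀ x, θ x ∈ P := fun x => hP.2 P le_rfl θ hθm x
  have hθM : ∀ (m : Ω) (hm : m ∈ M), θ ⟨m, hMP hm⟩ = ((ι ⟨m, hm⟩ : M) : Ω) := by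
    intro m hm
    rw [hθdef]
    exact hθext m hm (hPle (hMP hm))
  -- final computation
  have hθz : θ ⟨z₁, h.le hz1Z⟩ = z₁⁻¹ := by
    rw [hθM z₁ (hZM hz1Z), ← hzMdef, hιz, Subgroup.coe_inv, hzMv]
  have hθy : θ ⟨y, hyP⟩ = y⁻¹ := by
    rw [hθM y hy, ← hyMdef, hιy, Subgroup.coe_inv, hyMv]
  have hE1 : θ ⟨g, hg⟩ * y⁻¹ * (θ ⟨g, hg⟩)⁻¹ * y = z₁⁻¹ := by
    have e : (⟨z₁, h.le hz1Z⟩ : P) = ⟨g, hg⟩ * ⟨y, hyP⟩ * ⟨g, hg⟩⁻¹ * ⟨y, hyP⟩⁻¹ :=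
      Subtype.ext hz₁def
    rw [e, map_mul, map_mul, map_mul, map_inv, map_inv, hθy, inv_inv] at hθz
    exact hθz
  have hE2 : g * y⁻¹ * g⁻¹ * y = z₁⁻¹ := by
    have h1 : y⁻¹ * z₁⁻¹ * y = z₁⁻¹ := by
      have hc := hzc y hyP
      have h0 : y⁻¹ * z₁⁻¹ = z₁⁻¹ * y⁻¹ := by
        rw [← mul_inv_rev, ← mul_inv_rev, hc]
      rw [h0, inv_mul_cancel_right]
    rw [← h1, hz₁def]
    group
  have hmy : (g⁻¹ * θ ⟨g, hg⟩) * y = y * (g⁻¹ * θ ⟨g, hg⟩) := by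
    have h1 : g * y⁻¹ * g⁻¹ = θ ⟨g, hg⟩ * y⁻¹ * (θ ⟨g, hg⟩)⁻¹ := by
      have := hE2.trans hE1.symm
      exact mul_right_cancel this
    have h2 : (g⁻¹ * θ ⟨g, hg⟩) * y⁻¹ = y⁻¹ * (g⁻¹ * θ ⟨g, hg⟩) := by
      calc (g⁻¹ * θ ⟨g, hg⟩) * y⁻¹ = g⁻¹ * (θ ⟨g, hg⟩ * y⁻¹ * (θ ⟨g, hg⟩)⁻¹) * θ ⟨g, hg⟩ := by
            group
        _ = g⁻¹ * (g * y⁻¹ * g⁻¹) * θ ⟨g, hg⟩ := by rw [h1]
        _ = y⁻¹ * (g⁻¹ * θ ⟨g, hg⟩) := by group
    have h3 : Commute (g⁻¹ * θ ⟨g, hg⟩) y⁻¹ := h2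
    exact (Commute.inv_right_iff.mp h3)
  obtain ⟨m, hmdef⟩ : ∃ m : Ω, m = g⁻¹ * θ ⟨g, hg⟩ := ⟨_, rfl⟩
  rw [← hmdef] at hmy
  have hmP : m ∈ P := by
    rw [hmdef]; exact Subgroup.mul_mem _ (Subgroup.inv_mem _ hg) (hθP _)
  have hmM : m ∈ M := (hM m).mpr ⟨hmP, hmy⟩
  have hθg : θ ⟨g, hg⟩ = g * m := by rw [hmdef]; group
  -- (g * m)^p = g^p
  have hcz : m⁻¹ * g⁻¹ * m * g ∈ Z := by
    have := h.comm m⁻¹ (Subgroup.inv_mem _ hmP) g⁻¹ (Subgroup.inv_mem _ hg)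
    rwa [inv_inv, inv_inv] at this
  have hpow : (g * m) ^ p = g ^ p := by
    have h1 := BGH1.pow_mul_class2 g m (m⁻¹ * g⁻¹ * m * g) (by group)
      (h.central _ hcz g hg).symm (h.central _ hcz m hmP).symm p
    have h2 : (m⁻¹ * g⁻¹ * m * g) ^ (p.choose 2) = 1 := by
      have hdvd : p ∣ p.choose 2 := by
        apply hpf.out.dvd_choose_self (by norm_num)
        have := hpf.out.two_le
        omega
      obtain ⟨q, hq⟩ := hdvd
      rw [hq, pow_mul, pow_prime_eq_one h.card hcz, one_pow]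
    rw [h1, h2, hexp m hmM, mul_one, mul_one]
  have hgpZ : g ^ p ∈ Z := h.pow g hg
  have h6 : θ ⟨g ^ p, h.le hgpZ⟩ = g ^ p := by
    have e : (⟨g ^ p, h.le hgpZ⟩ : P) = ⟨g, hg⟩ ^ p := rfl
    rw [e, map_pow, hθg, hpow]
  have h7 : θ ⟨g ^ p, h.le hgpZ⟩ = (g ^ p)⁻¹ := by
    obtain ⟨k, hk⟩ := exists_pow_of_prime_card h.card hz1Z hz11 hgpZ
    rw [hθM _ (hZM hgpZ)]
    have e : (⟨g ^ p, hZM hgpZ⟩ : M) = zM ^ k := Subtype.ext (by
      rw [Subgroup.coe_pow, hzMv, ← hk])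
    rw [e, map_pow, hιz, Subgroup.coe_pow, Subgroup.coe_inv, hzMv, inv_pow, ← hk]
  have h8 : (g ^ p) ^ 2 = 1 := by
    have := h6.symm.trans h7
    rw [pow_two]
    nth_rewrite 1 [this]
    exact inv_mul_cancel _
  exact hno g hg hgy (eq_one_of_sq_of_odd hpf.out hp2 h8 (pow_prime_eq_one h.card hgpZ))


/-- the non-exceptionality hypothesis, phrased inside `Ω` -/
def NoExc (p : ℕ) (P : Subgroup Ω) : Prop :=
  ∀ y ∈ P, (∃ g ∈ P, g * y ≠ y * g) →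
    (∀ a ∈ P, ∀ b ∈ P, a * y = y * a → b * y = y * b → a * b = b * a) →
    (∀ a ∈ P, a * y = y * a → a ^ p = 1) →
    p ≠ 2 ∧ ∀ t ∈ P, t * y ≠ y * t → t ^ p ≠ 1

theorem weaklyClosed_Z [Finite S] {p : ℕ} [Fact p.Prime] (hS : IsPGroup p S)
    (F : FusionSystem S) (hF : F.IsSaturated p) {P Z : Subgroup Ω} (hP : F.StronglyClosed P)
    (h : GES p P Z) (hne : NoExc p P) : F.WeaklyClosed Z := by
  refine ⟨h.le.trans hP.1, fun φ hφ => ?_⟩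
  by_contra hr
  obtain ⟨y, hyP, -, hyZ, ⟨g, hg, hgy⟩, β₀, hβ₀, hy, hβy, hβy1⟩ :=
    h.exists_beta hS F hF hP hφ hr
  have hab := h.M_abelian F hP hyZ hβ₀ hy hβy hβy1
  have hexp := h.M_exp F hP hyZ hβ₀ hy hβy hβy1
  obtain ⟨hp2, hno⟩ := hne y hyP ⟨g, hg, hgy⟩
    (fun a ha b hb hay hby => hab a (mem_M.mpr ⟨ha, hay⟩) b (mem_M.mpr ⟨hb, hby⟩))
    (fun a ha hay => hexp a (mem_M.mpr ⟨ha, hay⟩))
  exact ges_case_two hS F hF hP h (fun a => mem_M) hyP hyZ hg hgy hβ₀ hy hβy hβy1 hab hexp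
    hp2 hno

end Cfsg.Agent.Lib.helper17.GES3
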