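import Cfsg.Agent.Lib.helper17.GES3
import Cfsg.Agent.Lib.helper23.MaschkeGrp
import Cfsg.Agent.Lib.Helper24.POrderFourClass
import Cfsg.Agent.Lib.Helper1.Frat

set_option autoImplicit false

namespace Cfsg.Agent.Lib.helper17.GES4

open Cfsg.Agent.Lib.helper17.GES2 Cfsg.Agent.Lib.helper17.GES3

variable {G : Type*} [Group G]

/-- internal direct product with a central factor -/
theorem prodEquiv_of_central (E A : Subgroup G) (hA : A ≤ Subgroup.center G)
    (hdisj : ∀ x, x ∈ E → x ∈ A → x = 1) (hgen : ∀ g : G, ∃ e ∈ E, ∃ a ∈ A, g = e * a) :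
    Nonempty (G ≃* E × A) := by
  have hc : ∀ (e : E) (a : A), Commute (E.subtype e) (A.subtype a) := fun e a =>
    ((Subgroup.mem_center_iff.mp (hA a.2)) e)
  let f : E × A →* G := E.subtype.noncommCoprod A.subtype hc
  have hf : ∀ x : E × A, f x = x.1 * x.2 := fun x => rfl
  have hinj : Function.Injective f := by
    rw [injective_iff_map_eq_one]
    rintro ⟨e, a⟩ h1
    rw [hf] at h1
    have he : (e : G) = (a : G)⁻¹ := eq_inv_of_mul_eq_one_left h1
    have he1 : (e : G) = 1 := hdisj _ e.2 (he ▸ A.inv_mem a.2)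
    have ha1 : (a : G) = 1 := by
      change (e : G) * (a : G) = 1 at h1
      rw [he1, one_mul] at h1; exact h1
    exact Prod.ext (Subtype.ext he1) (Subtype.ext ha1)
  have hsurj : Function.Surjective f := by
    intro g
    obtain ⟨e, he, a, ha, rfl⟩ := hgen g
    exact ⟨(⟨e, he⟩, ⟨a, ha⟩), rfl⟩
  exact ⟨(MulEquiv.ofBijective f ⟨hinj, hsurj⟩).symm⟩

/-- `a ↦ a y a⁻¹ y⁻¹` as a hom into a central subgroup `C` containing these commutators -/
def commHom (C : Subgroup G) (hC : C ≤ Subgroup.center G) (y : G)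
    (hy : ∀ a, a * y * a⁻¹ * y⁻¹ ∈ C) : G →* C where
  toFun a := ⟨a * y * a⁻¹ * y⁻¹, hy a⟩
  map_one' := Subtype.ext (by simp)
  map_mul' a b := Subtype.ext (by
    have h1 : a * (b * y * b⁻¹ * y⁻¹) = (b * y * b⁻¹ * y⁻¹) * a :=
      (Subgroup.mem_center_iff.mp (hC (hy b)) a)
    have h2 : (a * y * a⁻¹ * y⁻¹) * (b * y * b⁻¹ * y⁻¹) =
        (b * y * b⁻¹ * y⁻¹) * (a * y * a⁻¹ * y⁻¹) :=
      (Subgroup.mem_center_iff.mp (hC (hy b)) _)
    change (a * b) * y * (a * b)⁻¹ * y⁻¹ = (a * y * a⁻¹ * y⁻¹) * (b * y * b⁻¹ * y⁻¹)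
    calc (a * b) * y * (a * b)⁻¹ * y⁻¹ = a * (b * y * b⁻¹ * y⁻¹) * y * a⁻¹ * y⁻¹ := by group
      _ = (b * y * b⁻¹ * y⁻¹) * a * y * a⁻¹ * y⁻¹ := by rw [h1]
      _ = (b * y * b⁻¹ * y⁻¹) * (a * y * a⁻¹ * y⁻¹) := by group
      _ = _ := h2.symm)

theorem commHom_apply (C : Subgroup G) (hC : C ≤ Subgroup.center G) (y : G)
    (hy : ∀ a, a * y * a⁻¹ * y⁻¹ ∈ C) (a : G) :
    ((commHom C hC y hy a : C) : G) = a * y * a⁻¹ * y⁻¹ := rfl

theorem mem_ker_commHom (C : Subgroup G) (hC : C ≤ Subgroup.center G) (y : G)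
    (hy : ∀ a, a * y * a⁻¹ * y⁻¹ ∈ C) (a : G) :
    a ∈ (commHom C hC y hy).ker ↔ a * y = y * a := by
  rw [MonoidHom.mem_ker]
  constructor
  · intro h
    have h1 : a * y * a⁻¹ * y⁻¹ = 1 := congrArg Subtype.val h
    calc a * y = (a * y * a⁻¹ * y⁻¹) * (y * a) := by group
      _ = y * a := by rw [h1, one_mul]
  · intro h
    apply Subtype.ext
    change a * y * a⁻¹ * y⁻¹ = 1
    rw [h]; group


theorem card_eq_of_hom [Finite G] {p : ℕ} [hp : Fact p.Prime] {C : Type*} [Group C]
    (hC : Nat.card C = p) (f : G →* C) (hf : ∃ a, f a ≠ 1) :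
    Nat.card G = p * Nat.card f.ker := by
  have h1 := Subgroup.card_mul_index f.ker
  rw [Subgroup.index_ker] at h1
  have h2 : Nat.card f.range = p := by
    have hfin : Finite C := Nat.finite_of_card_ne_zero (by rw [hC]; exact hp.out.ne_zero)
    have hdvd : Nat.card f.range ∣ p := hC ▸ Subgroup.card_subgroup_dvd_card f.range
    rcases (Nat.dvd_prime hp.out).mp hdvd with h | h
    · exfalso
      obtain ⟨a, ha⟩ := hf
      have h3 := Subgroup.card_eq_one.mp h
      have h4 : f a ∈ f.range := ⟨a, rfl⟩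
      rw [h3, Subgroup.mem_bot] at h4
      exact ha h4
    · exact h
  rw [h2] at h1
  rw [← h1, mul_comm]

structure Hyp (p : ℕ) (G : Type*) [Group G] (y t : G) : Prop where
  pgroup : IsPGroup p G
  card : Nat.card (commutator G) = p
  pow : ∀ a : G, a ^ p ∈ commutator G
  hty : t * y ≠ y * t
  htp : t ^ p = 1
  hab : ∀ a b : G, a * y = y * a → b * y = y * b → a * b = b * a
  hexp : ∀ a : G, a * y = y * a → a ^ p = 1

theorem Hyp.comm_mem {p : ℕ} {y t : G} (_H : Hyp p G y t) (a b : G) :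
    a * b * a⁻¹ * b⁻¹ ∈ commutator G :=
  Subgroup.commutator_mem_commutator (Subgroup.mem_top a) (Subgroup.mem_top b)

theorem Hyp.le_center [Finite G] {p : ℕ} [Fact p.Prime] {y t : G} (H : Hyp p G y t) :
    commutator G ≤ Subgroup.center G :=
  Cfsg.Agent.Lib.Helper24.pf_le_center_of_card_prime H.pgroup (commutator G) H.card

theorem Hyp.ges [Finite G] {p : ℕ} [Fact p.Prime] {y t : G} (H : Hyp p G y t) :
    GES p (⊤ : Subgroup G) (commutator G) where
  le := le_top
  card := H.card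
  comm := fun a _ b _ => H.comm_mem a b
  pow := fun a _ => H.pow a
  central := fun _ hz a _ => (Subgroup.mem_center_iff.mp (H.le_center hz) a)
  nab := ⟨t, Subgroup.mem_top t, y, Subgroup.mem_top y, comm_ne_one H.hty⟩

theorem Hyp.decomp1 [Finite G] {p : ℕ} [Fact p.Prime] {y t : G} (H : Hyp p G y t) (g : G) :
    ∃ k : ℕ, ∃ m : G, m * y = y * m ∧ g = t ^ k * m := by
  obtain ⟨k, m, -, hm, hg⟩ := ges_decomp H.ges (Subgroup.mem_top t) (Subgroup.mem_top y) H.hty
    (Subgroup.mem_top g)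
  exact ⟨k, m, hm, hg⟩

theorem Hyp.mem_center [Finite G] {p : ℕ} [Fact p.Prime] {y t : G} (H : Hyp p G y t) {m : G}
    (hmy : m * y = y * m) (hmt : m * t = t * m) : m ∈ Subgroup.center G := by
  rw [Subgroup.mem_center_iff]
  intro g
  obtain ⟨k, m', hm', rfl⟩ := H.decomp1 g
  have h1 : m' * m = m * m' := H.hab m' m hm' hmy
  have h2 : t ^ k * m = m * t ^ k := ((show Commute m t from hmt).pow_right k).symm
  rw [mul_assoc, h1, ← mul_assoc, h2, mul_assoc]

theorem Hyp.decomp2 [Finite G] {p : ℕ} [Fact p.Prime] {y t : G} (H : Hyp p G y t) {m : G}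
    (hmy : m * y = y * m) : ∃ j : ℕ, ∃ z ∈ Subgroup.center G, m = y ^ j * z := by
  obtain ⟨j, m', -, hm', hg⟩ := ges_decomp H.ges (Subgroup.mem_top y) (Subgroup.mem_top t)
    (Ne.symm H.hty) (Subgroup.mem_top m)
  refine ⟨j, m', H.mem_center ?_ hm', hg⟩
  have e : m' = (y ^ j)⁻¹ * m := by rw [hg]; group
  have h1 : Commute ((y ^ j)⁻¹) y := ((Commute.refl y).pow_left j).inv_left
  have h2 : Commute m y := hmy
  rw [e]
  exact (h1.mul_left h2)


open Cfsg.Agent.Lib.helper23 in
/-- the internal decomposition `G = E × A` -/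
theorem Hyp.exists_decomp [Finite G] {p : ℕ} [hp : Fact p.Prime] {y t : G} (H : Hyp p G y t) :
    ∃ E A : Subgroup G, A ≤ Subgroup.center G ∧ (∀ a ∈ A, a ^ p = 1) ∧ Nat.card E = p ^ 3 ∧
      (∀ x, x ∈ E → x ∈ A → x = 1) ∧ (∀ g : G, ∃ e ∈ E, ∃ a ∈ A, g = e * a) := by
  classical
  have hCZ := H.le_center
  have hZexp : ∀ z ∈ Subgroup.center G, z ^ p = 1 := fun z hz =>
    H.hexp z (Subgroup.mem_center_iff.mp hz y).symm
  -- complement of C in Z
  have hZexp' : ∀ z : Subgroup.center G, z ^ p = 1 := fun z => Subtype.ext (hZexp z z.2)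
  have hcop : (Nat.card Unit).Coprime p := by
    rw [Nat.card_unique]; exact Nat.coprime_one_left p
  have hZcomm : ∀ a b : Subgroup.center G, a * b = b * a := fun a b =>
    Subtype.ext (Subgroup.mem_center_iff.mp b.2 a)
  obtain ⟨W, -, hUW1, hUW2⟩ := exists_invariant_complement' (A := Unit)
    (Q := Subgroup.center G) hZcomm 1 p hZexp' hcop
    ((commutator G).subgroupOf (Subgroup.center G)) (fun _ u hu => hu)
  have hcompl : Subgroup.IsComplement' ((commutator G).subgroupOf (Subgroup.center G)) W := by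
    have hWn : W.Normal := ⟨fun n hn g => by
      rw [hZcomm g n, mul_inv_cancel_right]; exact hn⟩
    apply Subgroup.isComplement'_of_disjoint_and_mul_eq_univ (disjoint_iff.mpr hUW1)
    rw [← Subgroup.mul_normal, hUW2, Subgroup.coe_top]
  have hcardZ : Nat.card (Subgroup.center G) = p * Nat.card W := by
    rw [← hcompl.card_mul_card]
    congr 1
    rw [← H.card]
    exact Nat.card_congr (Subgroup.subgroupOfEquivOfLe hCZ).toEquiv
  obtain ⟨A, hAdef⟩ : ∃ A : Subgroup G, A = W.map (Subgroup.center G).subtype := ⟨_, rfl⟩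
  have hAZ : A ≤ Subgroup.center G := by
    rw [hAdef]; exact Subgroup.map_subtype_le W
  have hcardA : Nat.card A = Nat.card W := by
    rw [hAdef]
    exact Subgroup.card_map_of_injective (Subgroup.subtype_injective _)
  have hAC : ∀ x ∈ A, x ∈ commutator G → x = 1 := by
    intro x hxA hxC
    rw [hAdef] at hxA
    obtain ⟨w, hw, rfl⟩ := hxA
    have h1 : w ∈ (commutator G).subgroupOf (Subgroup.center G) ⊓ W :=
      ⟨Subgroup.mem_subgroupOf.mpr hxC, hw⟩
    rw [hUW1, Subgroup.mem_bot] at h1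
    rw [h1]; rfl
  -- complement of the image of A in the abelianization
  have hVexp : ∀ v : Abelianization G, v ^ p = 1 := by
    intro v
    obtain ⟨g, rfl⟩ := QuotientGroup.mk_surjective v
    change (Abelianization.of g) ^ p = 1
    rw [← map_pow, ← MonoidHom.mem_ker, Abelianization.ker_of]
    exact H.pow g
  obtain ⟨W', -, hUW1', hUW2'⟩ := exists_invariant_complement (A := Unit)
    (V := Abelianization G) 1 p hVexp hcop (A.map Abelianization.of) (fun _ u hu => hu)
  obtain ⟨E, hEdef⟩ : ∃ E : Subgroup G, E = W'.comap Abelianization.of := ⟨_, rfl⟩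
  have hdisj : ∀ x, x ∈ E → x ∈ A → x = 1 := by
    intro x hxE hxA
    apply hAC x hxA
    rw [← Abelianization.ker_of, MonoidHom.mem_ker]
    have h1 : Abelianization.of x ∈ A.map Abelianization.of ⊓ W' := by
      refine ⟨Subgroup.mem_map_of_mem _ hxA, ?_⟩
      rw [hEdef] at hxE
      exact hxE
    rw [hUW1', Subgroup.mem_bot] at h1
    exact h1
  have hgen : ∀ g : G, ∃ e ∈ E, ∃ a ∈ A, g = e * a := by
    intro g
    have h1 : Abelianization.of g ∈ A.map Abelianization.of ⊔ W' := by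
      rw [hUW2']; exact Subgroup.mem_top _
    rw [Subgroup.mem_sup] at h1
    obtain ⟨u, ⟨a, ha, rfl⟩, w, hw, huw⟩ := h1
    refine ⟨g * a⁻¹, ?_, a, ha, by group⟩
    rw [hEdef, Subgroup.mem_comap, map_mul, map_inv, ← huw]
    rw [mul_comm (Abelianization.of a), mul_inv_cancel_right]
    exact hw
  refine ⟨E, A, hAZ, fun a ha => hZexp a (hAZ ha), ?_, hdisj, hgen⟩
  -- the order of E
  obtain ⟨e⟩ := prodEquiv_of_central E A hAZ hdisj hgen
  have hc1 : Nat.card G = Nat.card E * Nat.card A := by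
    rw [Nat.card_congr e.toEquiv, Nat.card_prod]
  -- |G| = p |M|
  have hc2 := card_eq_of_hom H.card (commHom (commutator G) hCZ y (fun a => H.comm_mem a y))
    ⟨t, fun h1 => comm_ne_one H.hty (congrArg Subtype.val h1)⟩
  -- |M| = p |Z|
  have hc3 := card_eq_of_hom H.card
    ((commHom (commutator G) hCZ t (fun a => H.comm_mem a t)).comp
      (commHom (commutator G) hCZ y (fun a => H.comm_mem a y)).ker.subtype)
    ⟨⟨y, (mem_ker_commHom _ _ _ _ _).mpr rfl⟩,
      fun h1 => comm_ne_one (Ne.symm H.hty) (congrArg Subtype.val h1)⟩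
  have hZM : Subgroup.center G ≤ (commHom (commutator G) hCZ y (fun a => H.comm_mem a y)).ker :=
    fun z hz => (mem_ker_commHom _ _ _ _ _).mpr (Subgroup.mem_center_iff.mp hz y).symm
  have hker : ((commHom (commutator G) hCZ t (fun a => H.comm_mem a t)).comp
      (commHom (commutator G) hCZ y (fun a => H.comm_mem a y)).ker.subtype).ker =
      (Subgroup.center G).subgroupOf
        (commHom (commutator G) hCZ y (fun a => H.comm_mem a y)).ker := by
    ext m
    rw [MonoidHom.mem_ker, MonoidHom.comp_apply, ← MonoidHom.mem_ker, mem_ker_commHom,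
      Subgroup.mem_subgroupOf]
    constructor
    · intro h1
      exact H.mem_center ((mem_ker_commHom _ _ _ _ _).mp m.2) h1
    · intro h1
      exact (Subgroup.mem_center_iff.mp h1 t).symm
  rw [hker, Nat.card_congr (Subgroup.subgroupOfEquivOfLe hZM).toEquiv, hcardZ, ← hcardA] at hc3
  rw [hc3, hc1] at hc2
  have hApos : 0 < Nat.card A := Nat.card_pos
  have : Nat.card E * Nat.card A = p ^ 3 * Nat.card A := by rw [hc2]; ring
  exact Nat.eq_of_mul_eq_mul_right hApos this

end Cfsg.Agent.Lib.helper17.GES4
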