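import Cfsg.Agent.Lib.helper17.GES4
import Cfsg.Agent.Lib.Helper27.OrderPCube2
import Cfsg.Agent.Lib.Helper18.Dihedral8

set_option autoImplicit false

namespace Cfsg.Agent.Lib.helper17.GES5

open Cfsg.Agent.Lib.helper17.GES2 Cfsg.Agent.Lib.helper17.GES3 Cfsg.Agent.Lib.helper17.GES4

variable {G : Type*} [Group G]

theorem noncomm_of_decomp {y t : G} (hty : t * y ≠ y * t) {A : Subgroup G}
    (hA : A ≤ Subgroup.center G) {e₁ a₁ e₂ a₂ : G} (ha₁ : a₁ ∈ A) (ha₂ : a₂ ∈ A)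
    (hy : y = e₁ * a₁) (ht : t = e₂ * a₂) : e₁ * e₂ ≠ e₂ * e₁ := by
  intro hcomm
  apply hty
  have c1 : ∀ g, g * a₁ = a₁ * g := Subgroup.mem_center_iff.mp (hA ha₁)
  have c2 : ∀ g, g * a₂ = a₂ * g := Subgroup.mem_center_iff.mp (hA ha₂)
  rw [hy, ht]
  calc e₂ * a₂ * (e₁ * a₁) = e₂ * (a₂ * e₁) * a₁ := by group
    _ = e₂ * (e₁ * a₂) * a₁ := by rw [← c2 e₁]
    _ = (e₂ * e₁) * (a₂ * a₁) := by group
    _ = (e₁ * e₂) * (a₁ * a₂) := by rw [hcomm, c1 a₂]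
    _ = e₁ * (e₂ * a₁) * a₂ := by group
    _ = e₁ * (a₁ * e₂) * a₂ := by rw [c1 e₂]
    _ = e₁ * a₁ * (e₂ * a₂) := by group

/-- `E` is nonabelian -/
theorem exists_noncomm {y t : G} (hty : t * y ≠ y * t) {E A : Subgroup G}
    (hA : A ≤ Subgroup.center G) (hgen : ∀ g : G, ∃ e ∈ E, ∃ a ∈ A, g = e * a) :
    ∃ e₁ ∈ E, ∃ e₂ ∈ E, e₁ * e₂ ≠ e₂ * e₁ := by
  obtain ⟨e₁, he₁, a₁, ha₁, hy⟩ := hgen y
  obtain ⟨e₂, he₂, a₂, ha₂, ht⟩ := hgen t
  exact ⟨e₁, he₁, e₂, he₂, noncomm_of_decomp hty hA ha₁ ha₂ hy ht⟩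

theorem hyp_pow_eq_one [Finite G] {p : ℕ} [hp : Fact p.Prime] {y t : G} (H : Hyp p G y t)
    (hp2 : p ≠ 2) (x : G) : x ^ p = 1 := by
  obtain ⟨k, m, hm, rfl⟩ := H.decomp1 x
  have hcz : m⁻¹ * (t ^ k)⁻¹ * m * t ^ k ∈ commutator G := by
    have := H.comm_mem m⁻¹ (t ^ k)⁻¹
    rwa [inv_inv, inv_inv] at this
  have hc := Subgroup.mem_center_iff.mp (H.le_center hcz)
  have h1 := BGH1.pow_mul_class2 (t ^ k) m (m⁻¹ * (t ^ k)⁻¹ * m * t ^ k) (by group)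
    (hc (t ^ k)).symm (hc m).symm p
  have h2 : (m⁻¹ * (t ^ k)⁻¹ * m * t ^ k) ^ (p.choose 2) = 1 := by
    have hdvd : p ∣ p.choose 2 := by
      apply hp.out.dvd_choose_self (by norm_num)
      have := hp.out.two_le
      omega
    obtain ⟨q, hq⟩ := hdvd
    rw [hq, pow_mul, pow_prime_eq_one H.card hcz, one_pow]
  rw [h1, h2, H.hexp m hm, ← pow_mul, mul_comm k p, pow_mul, H.htp, one_pow, mul_one, mul_one]

theorem hyp_odd_case [Finite G] {p : ℕ} [hp : Fact p.Prime] {y t : G} (H : Hyp p G y t)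
    (hp2 : p ≠ 2) :
    ∃ (E : Type) (_ : Group E) (A : Type) (_ : CommGroup A), Cfsg.IsExtraspecial p E ∧
      Nat.card E = p ^ 3 ∧ Monoid.exponent E = p ∧ (∀ a : A, a ^ p = 1) ∧
      Nonempty (G ≃* E × A) := by
  obtain ⟨E, A, hAZ, hAexp, hEcard, hdisj, hgen⟩ := H.exists_decomp
  obtain ⟨e⟩ := prodEquiv_of_central E A hAZ hdisj hgen
  obtain ⟨e₁, he₁, e₂, he₂, hne⟩ := exists_noncomm H.hty hAZ hgen
  have eE : Shrink.{0} E ≃* E := Shrink.mulEquiv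
  have eA : Shrink.{0} A ≃* A := Shrink.mulEquiv
  let instA : CommGroup (Shrink.{0} A) :=
    { (inferInstance : Group (Shrink.{0} A)) with
      mul_comm := fun a b => by
        apply eA.injective
        rw [map_mul, map_mul]
        exact Subtype.ext (Subgroup.mem_center_iff.mp (hAZ (eA b).2) _) }
  have hcard' : Nat.card (Shrink.{0} E) = p ^ 3 := by
    rw [Nat.card_congr eE.toEquiv, hEcard]
  refine ⟨Shrink.{0} E, inferInstance, Shrink.{0} A, instA, ?_, hcard', ?_, ?_, ?_⟩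
  · apply Cfsg.Agent.Lib.Helper27.isExtraspecial_of_nonabelian hcard'
    intro hcomm
    apply hne
    have h1 := hcomm (eE.symm ⟨e₁, he₁⟩)
      (eE.symm ⟨e₂, he₂⟩)
    rw [← map_mul, ← map_mul] at h1
    exact congrArg Subtype.val (eE.symm.injective h1)
  · rw [Monoid.exponent_eq_of_mulEquiv eE]
    have hdvd : Monoid.exponent E ∣ p :=
      Monoid.exponent_dvd_of_forall_pow_eq_one (fun x => Subtype.ext (hyp_pow_eq_one H hp2 x))
    rcases (Nat.dvd_prime hp.out).mp hdvd with h1 | h1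
    · exfalso
      rw [Monoid.exp_eq_one_iff] at h1
      apply hne
      exact congrArg Subtype.val (Subsingleton.elim ((⟨e₁, he₁⟩ : E) * ⟨e₂, he₂⟩) (⟨e₂, he₂⟩ * ⟨e₁, he₁⟩))
    · exact h1
  · intro a
    apply eA.injective
    rw [map_pow, map_one]
    exact Subtype.ext (hAexp _ (eA a).2)
  · exact ⟨e.trans (MulEquiv.prodCongr eE.symm
      eA.symm)⟩


theorem hyp_two_case [Finite G] {y t : G} (H : Hyp 2 G y t) :
    ∃ (A : Type) (_ : CommGroup A), (∀ a : A, a ^ 2 = 1) ∧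
      Nonempty (G ≃* DihedralGroup 4 × A) := by
  obtain ⟨E, A, hAZ, hAexp, hEcard, hdisj, hgen⟩ := H.exists_decomp
  obtain ⟨e⟩ := prodEquiv_of_central E A hAZ hdisj hgen
  obtain ⟨e₁, he₁, e₂, he₂, hne⟩ := exists_noncomm H.hty hAZ hgen
  have eA : Shrink.{0} A ≃* A := Shrink.mulEquiv
  let instA : CommGroup (Shrink.{0} A) :=
    { (inferInstance : Group (Shrink.{0} A)) with
      mul_comm := fun a b => by
        apply eA.injective
        rw [map_mul, map_mul]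
        exact Subtype.ext (Subgroup.mem_center_iff.mp (hAZ (eA b).2) _) }
  have hE8 : Nat.card E = 8 := by rw [hEcard]; norm_num
  have hna : ∃ a b : E, a * b ≠ b * a :=
    ⟨⟨e₁, he₁⟩, ⟨e₂, he₂⟩, fun h => hne (congrArg Subtype.val h)⟩
  have hnu : ¬ ∃ z : E, ∀ a : E, orderOf a = 2 → a = z := by
    rintro ⟨z, hz⟩
    obtain ⟨f, hf, a, ha, hy⟩ := hgen y
    obtain ⟨f₂, hf₂, a₂, ha₂, ht⟩ := hgen t
    have c1 : ∀ g, g * a = a * g := Subgroup.mem_center_iff.mp (hAZ ha)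
    have hy2 : y ^ 2 = 1 := H.hexp y rfl
    have ha2 : a ^ 2 = 1 := hAexp a ha
    have hf2 : f ^ 2 = 1 := by
      have h1 : (f * a) ^ 2 = f ^ 2 * a ^ 2 := (show Commute f a from c1 f).mul_pow 2
      rw [← hy, hy2, ha2, mul_one] at h1
      exact h1.symm
    have hf1 : f ≠ 1 := by
      rintro rfl
      apply H.hty
      rw [hy, one_mul]
      exact c1 t
    have hord : ∀ x : E, (x : G) ^ 2 = 1 → (x : G) ≠ 1 → x = z := by
      intro x hx2 hx1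
      apply hz
      have : Fact (Nat.Prime 2) := ⟨Nat.prime_two⟩
      exact orderOf_eq_prime (Subtype.ext hx2) (fun h => hx1 (congrArg Subtype.val h))
    have hfz : (⟨f, hf⟩ : E) = z := hord ⟨f, hf⟩ hf2 hf1
    have hcz : (⟨f₂ * f * f₂⁻¹, E.mul_mem (E.mul_mem hf₂ hf) (E.inv_mem hf₂)⟩ : E) = z := by
      apply hord
      · change (f₂ * f * f₂⁻¹) ^ 2 = 1
        rw [conj_pow, hf2, mul_one, mul_inv_cancel]
      · change f₂ * f * f₂⁻¹ ≠ 1
        intro h1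
        apply hf1
        calc f = f₂⁻¹ * (f₂ * f * f₂⁻¹) * f₂ := by group
          _ = 1 := by rw [h1]; group
    have h3 : f₂ * f * f₂⁻¹ = f := congrArg Subtype.val (hcz.trans hfz.symm)
    have h4 : f * f₂ = f₂ * f := by
      calc f * f₂ = (f₂ * f * f₂⁻¹) * f₂ := by rw [h3]
        _ = f₂ * f := by group
    exact noncomm_of_decomp H.hty hAZ ha ha₂ hy ht h4
  obtain ⟨-, -, -, -, -, -, ⟨d⟩⟩ := Cfsg.Agent.Lib.Helper18.dihedral_of_card_eight hE8 hna hnu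
  refine ⟨Shrink.{0} A, instA, ?_, ?_⟩
  · intro a
    apply eA.injective
    rw [map_pow, map_one]
    exact Subtype.ext (hAexp _ (eA a).2)
  · exact ⟨e.trans (MulEquiv.prodCongr d eA.symm)⟩

end Cfsg.Agent.Lib.helper17.GES5
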