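import Mathlib
import Cfsg.Agent.Lib.Helper27.SzField2
import Cfsg.Agent.Lib.helper17.GSzF3
import Cfsg.Agent.Lib.Helper26.GSzA
import Cfsg.Agent.Lib.helper3.GSzF1
import Cfsg.Agent.Lib.helper3.GSzF2
set_option autoImplicit false
set_option linter.style.haveILetI false

/-! `fieldThm` of helper10's plan for S3776 (`Lib/Helper10/GSz/PLAN.md`), assembled from pieces
A (helper26), B (helper17), F1, F2 (helper3) and `GSzF3.core`. -/
open Cfsg.Agent.Lib.Helper27.SzF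
open Cfsg.Agent.Lib.Helper26.GSzA Cfsg.Agent.Lib.helper3

namespace Cfsg.Agent.Lib.helper17.GSzField

theorem fieldThm {K : Type*} [Group K] (hsol : Group.IsSolvable K) {W : Type*} [AddCommGroup W]
    [Finite W] (h2 : ∀ w : W, w + w = 0) (a : K →* AddMonoid.End W)
    (htr : ∀ w w' : W, w ≠ 0 → w' ≠ 0 → ∃ k : K, a k w = w')
    (hbig : ∃ w w' : W, w ≠ 0 ∧ w' ≠ 0 ∧ w ≠ w') :
    (∃ k : K, ∀ w : W, a k w = w → w = 0) ∧
    ∀ D : AddSubgroup (AddMonoid.End W),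
      (∀ k : K, ∀ T ∈ D, cj a k T ∈ D) →
      (∀ k : K, (∀ w : W, a k w = w → w = 0) → ∀ T ∈ D, cj a k T = T → T = 0) →
      ∃ (m : ℕ) (Di : Fin m → AddSubgroup (AddMonoid.End W)),
        (∀ i, Di i ≤ D) ∧ (∀ i, ∀ k : K, ∀ T ∈ Di i, cj a k T ∈ Di i) ∧
        (∀ T ∈ D, ∃ f : Fin m → AddMonoid.End W, (∀ i, f i ∈ Di i) ∧ T = ∑ i, f i) ∧
        (∀ i, ∀ T ∈ Di i, T ≠ 0 → (∀ w : W, T w = 0 → w = 0) ∧
          ∀ w w' : W, T w = w → T w' = w' → w ≠ 0 → w' ≠ 0 → w = w') := by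
  obtain ⟨w, w', hw, hw', hww'⟩ := hbig
  obtain ⟨F, iF, iFt, e, hchar, hsl⟩ := gszF1 hsol h2 a htr ⟨w, hw⟩
  haveI := hchar
  obtain ⟨N, -, hN⟩ := FiniteField.card F 2
  have hn : Nat.card F = 2 ^ (N : ℕ) := by rw [Nat.card_eq_fintype_card]; exact hN
  have hn2 : 2 ≤ (N : ℕ) := by
    by_contra h
    have h1 : (N : ℕ) = 1 := by have := N.pos; omega
    have hcard : Fintype.card F = 2 := by rw [hN, h1]; rfl
    have h3 : 2 < Fintype.card F := by
      rw [Fintype.two_lt_card_iff]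
      refine ⟨e 0, e w, e w', ?_, ?_, ?_⟩
      · exact fun h => hw (e.injective h).symm
      · exact fun h => hw' (e.injective h).symm
      · exact fun h => hww' (e.injective h)
    omega
  obtain ⟨k₀, l, e', c, hk₀, he', hec, hl⟩ := gszF2 e a htr hsl hn
  exact GSzF3.core e a hn k₀ l c hk₀ hl hsl (A1' hn2 he' hec)
    (fun i j k hi hj h => A2 hn2 he' hec hi hj h)
    (fun i hi0 hin h => A3 hn2 he' hec hi0 hin h)

end Cfsg.Agent.Lib.helper17.GSzField
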