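import Mathlib
import Cfsg.Agent.Lib.Helper1.Hig.Basic
import Cfsg.Agent.Lib.Helper11.CNQuot
import Cfsg.Agent.Lib.Helper1.Hig.Main
import Cfsg.Agent.Lib.Helper19.HigO3
import Cfsg.Agent.Lib.Helper19.HigComm
import Cfsg.Agent.Lib.Helper21.HigAct

set_option autoImplicit false
set_option linter.style.haveILetI false

/-! Piece Grp of project Hig (S3050): `Q` is abelian. -/

namespace Cfsg.Agent.Lib.helper17.Hig

universe u v

open Matrix Cfsg.Agent.Lib.helper15.NatMod Cfsg.Agent.Lib.helper15.QS Cfsg.Agent.Lib.Helper1.Hig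
open Cfsg.Agent.Lib.Helper19.Hig Cfsg.Agent.Lib.Helper21.Hig

/-- the commutative group structure on an abelian subgroup -/
@[reducible] def cgOf {G : Type*} [Group G] (Z : Subgroup G)
    (hZ : ∀ a ∈ Z, ∀ b ∈ Z, a * b = b * a) : CommGroup Z :=
  { (inferInstance : Group Z) with mul_comm := fun a b => Subtype.ext (hZ a a.2 b b.2) }

/-- the additive commutative group structure on `Additive Z` for an abelian subgroup `Z` -/
@[reducible] def acgOf {G : Type*} [Group G] (Z : Subgroup G)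
    (hZ : ∀ a ∈ Z, ∀ b ∈ Z, a * b = b * a) : AddCommGroup (Additive Z) :=
  @Additive.addCommGroup Z (cgOf Z hZ)

theorem good_of_act {K : Type u} [Field K] [Fintype K] [CharP K 2] (hF : 4 ≤ Fintype.card K)
    {G : Type v} [Group G] [Finite G] (Q Z : Subgroup G) [Q.Normal] [hZn : Z.Normal]
    (e : G ⧸ Q ≃* SpecialLinearGroup (Fin 2) K) (hZ2 : IsPGroup 2 Z)
    (hZ : ∀ a ∈ Z, ∀ b ∈ Z, a * b = b * a)
    (x : G) (c : SpecialLinearGroup (Fin 2) K) (hc : c * g1 K * c⁻¹ = e (x : G ⧸ Q))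
    (hfpf : ∀ z ∈ Z, x * z * x⁻¹ = z → z = 1)
    (inst : DistribMulAction (SpecialLinearGroup (Fin 2) K) (Additive Z))
    (hinst : ∀ (g : G) (z : Z), inst.smul (e (g : G ⧸ Q)) (Additive.ofMul z) =
        Additive.ofMul (⟨g * z * g⁻¹, hZn.conj_mem _ z.2 g⟩ : Z)) :
    @Good K _ (Additive Z) (acgOf Z hZ) inst := by
  letI := acgOf Z hZ
  have h2 : ∀ a : Additive Z, ∃ k : ℕ, 2 ^ k • a = 0 := by
    intro a
    obtain ⟨k, hk⟩ := hZ2 (Additive.toMul a)
    refine ⟨k, ?_⟩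
    have : 2 ^ k • a = Additive.ofMul ((Additive.toMul a) ^ 2 ^ k) := rfl
    rw [this, hk]
    rfl
  have hfpf' : FPF K (Additive Z) := by
    intro a ha
    have h1 : (e (x : G ⧸ Q)) • (c • a) = c • a := by
      rw [← hc, ← mul_smul, inv_mul_cancel_right, mul_smul, ha]
    have h3 : (e (x : G ⧸ Q)) • (c • a) =
        Additive.ofMul (⟨x * (Additive.toMul (c • a) : Z) * x⁻¹,
          hZn.conj_mem _ (Additive.toMul (c • a) : Z).2 x⟩ : Z) :=
      hinst x (Additive.toMul (c • a))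
    rw [h3] at h1
    have h4 : x * ((Additive.toMul (c • a) : Z) : G) * x⁻¹ = ((Additive.toMul (c • a) : Z) : G) :=
      congrArg (fun w : Additive Z => ((Additive.toMul w : Z) : G)) h1
    have h5 := hfpf _ (Additive.toMul (c • a) : Z).2 h4
    have h6 : c • a = 0 := by
      have : (Additive.toMul (c • a) : Z) = 1 := Subtype.ext h5
      exact this
    have h7 := congrArg (fun w => c⁻¹ • w) h6
    simpa using h7
  exact module_main hF (Additive Z) h2 hfpf'

/-! ### generic group lemmas -/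

/-- the commutator is unchanged when both arguments are multiplied by suitably central elements -/
theorem comm_mul_central {Γ : Type*} [Group Γ] (a b z z' : Γ) (h1 : z * b = b * z)
    (h2 : z * z' = z' * z) (h3 : a * z' = z' * a) :
    (a * z) * (b * z') * (a * z)⁻¹ * (b * z')⁻¹ = a * b * a⁻¹ * b⁻¹ := by
  have hc1 : Commute z (b * z') := Commute.mul_right h1 h2
  have hc2 : Commute a z' := h3
  have e1 : z * (b * z') * z⁻¹ = b * z' := hc1.mul_inv_cancel
  have e2 : a * z' * a⁻¹ = z' := hc2.mul_inv_cancel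
  calc (a * z) * (b * z') * (a * z)⁻¹ * (b * z')⁻¹
      = a * (z * (b * z') * z⁻¹) * a⁻¹ * (b * z')⁻¹ := by group
    _ = a * (b * z') * a⁻¹ * (b * z')⁻¹ := by rw [e1]
    _ = (a * b * a⁻¹) * (a * z' * a⁻¹) * (b * z')⁻¹ := by group
    _ = (a * b * a⁻¹) * z' * (b * z')⁻¹ := by rw [e2]
    _ = a * b * a⁻¹ * b⁻¹ := by group

theorem comm_mul_left_id {Γ : Type*} [Group Γ] (a a' b : Γ) :
    (a * a') * b * (a * a')⁻¹ * b⁻¹ = a * (a' * b * a'⁻¹ * b⁻¹) * a⁻¹ * (a * b * a⁻¹ * b⁻¹) := by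
  group

theorem comm_mul_right_id {Γ : Type*} [Group Γ] (a b b' : Γ) :
    a * (b * b') * a⁻¹ * (b * b')⁻¹ = (a * b * a⁻¹ * b⁻¹) * (b * (a * b' * a⁻¹ * b'⁻¹) * b⁻¹) := by
  group

theorem comm_conj_id {Γ : Type*} [Group Γ] (g a b : Γ) :
    (g * a * g⁻¹) * (g * b * g⁻¹) * (g * a * g⁻¹)⁻¹ * (g * b * g⁻¹)⁻¹ =
      g * (a * b * a⁻¹ * b⁻¹) * g⁻¹ := by
  group

/-- an element of order dividing `3` acting fixed-point-freely on `Q` acts fixed-point-freely on
`Q / Z` for a normal `2`-subgroup `Z ≤ Q` -/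
theorem fpf_quot {G : Type*} [Group G] [Finite G] (Q Z : Subgroup G) [hZn : Z.Normal] (hZQ : Z ≤ Q)
    (hZ2 : IsPGroup 2 Z) (x : G) (hx3 : x ^ 3 = 1) (hfpf : ∀ q ∈ Q, x * q * x⁻¹ = q → q = 1) :
    ∀ q ∈ Q.map (QuotientGroup.mk' Z),
      (QuotientGroup.mk' Z x) * q * (QuotientGroup.mk' Z x)⁻¹ = q → q = 1 := by
  rintro _ ⟨q, hq, rfl⟩ h
  haveI : Fact (Nat.Prime 3) := ⟨Nat.prime_three⟩
  have h3 : ¬ 3 ∣ Nat.card Z := by
    obtain ⟨j, hj⟩ := IsPGroup.iff_card.1 hZ2
    rw [hj]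
    intro hd
    have := Nat.Prime.dvd_of_dvd_pow Nat.prime_three hd
    omega
  have hab : q⁻¹ * (x * q * x⁻¹) ∈ Z := by
    rw [← QuotientGroup.eq]
    have : QuotientGroup.mk' Z (x * q * x⁻¹) = QuotientGroup.mk' Z q := by
      rw [map_mul, map_mul, map_inv]; exact h
    exact this.symm
  have hxN : x ∈ Subgroup.normalizer (Z : Set G) := by
    rw [Subgroup.normalizer_eq_top]; exact Subgroup.mem_top x
  obtain ⟨v, hv, hfix⟩ := Cfsg.Agent.Lib.Helper11.exists_fixed_in_coset Z 3 h3 x q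
    ⟨1, by simpa using hx3⟩ hxN hab
  have h1 : q * v = 1 := hfpf _ (Q.mul_mem hq (hZQ hv)) hfix
  have h2 : QuotientGroup.mk' Z v = 1 := (QuotientGroup.eq_one_iff v).2 hv
  have h4 : QuotientGroup.mk' Z (q * v) = 1 := by rw [h1, map_one]
  rw [map_mul, h2, mul_one] at h4
  exact h4

set_option maxHeartbeats 1600000 in
/-- the induction step -/
theorem step {K : Type u} [Field K] [Fintype K] [CharP K 2] (hF : 4 ≤ Fintype.card K)
    (G : Type v) [Group G] [Finite G] (Q : Subgroup G) [hQn : Q.Normal] (hQ2 : IsPGroup 2 ↥Q)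
    (e : G ⧸ Q ≃* SpecialLinearGroup (Fin 2) K) (x : G) (hx3 : orderOf x = 3)
    (hfpf : ∀ q ∈ Q, x * q * x⁻¹ = q → q = 1)
    (ih : ∀ (G' : Type v) [Group G'] [Finite G'] (Q' : Subgroup G') [Q'.Normal], IsPGroup 2 ↥Q' →
      ∀ (e' : G' ⧸ Q' ≃* SpecialLinearGroup (Fin 2) K) (x' : G'), orderOf x' = 3 →
        (∀ q ∈ Q', x' * q * x'⁻¹ = q → q = 1) → Nat.card Q' < Nat.card Q →
        ∀ a ∈ Q', ∀ b ∈ Q', a * b = b * a) :
    ∀ a ∈ Q, ∀ b ∈ Q, a * b = b * a := by
  haveI : Fact (Nat.Prime 2) := ⟨Nat.prime_two⟩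
  by_cases hQbot : Q = ⊥
  · intro a ha b hb
    rw [hQbot, Subgroup.mem_bot] at ha hb
    rw [ha, hb]
  -- the center
  have hZcn : ((Subgroup.center Q).map Q.subtype).Normal := inferInstance
  obtain ⟨Zc, hZcdef⟩ : ∃ Zc : Subgroup G, Zc = (Subgroup.center Q).map Q.subtype := ⟨_, rfl⟩
  have hZn : Zc.Normal := hZcdef ▸ hZcn
  have hZQ : Zc ≤ Q := by rw [hZcdef]; exact Subgroup.map_subtype_le _
  have hcentral : ∀ q ∈ Q, ∀ z ∈ Zc, q * z = z * q := by
    intro q hq z hz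
    rw [hZcdef] at hz
    obtain ⟨z', hz', rfl⟩ := hz
    have := Subgroup.mem_center_iff.1 hz' ⟨q, hq⟩
    exact congrArg Subtype.val this
  have hZab : ∀ a ∈ Zc, ∀ b ∈ Zc, a * b = b * a := fun a ha b hb => hcentral a (hZQ ha) b hb
  have hZ2 : IsPGroup 2 Zc := hQ2.to_le hZQ
  have hZne : ∃ z ∈ Zc, z ≠ 1 := by
    haveI : Nontrivial Q := (Subgroup.nontrivial_iff_ne_bot Q).2 hQbot
    haveI : Nontrivial (Subgroup.center Q) := hQ2.center_nontrivial
    obtain ⟨z, hz⟩ := exists_ne (1 : Subgroup.center Q)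
    refine ⟨((z : Q) : G), ?_, ?_⟩
    · rw [hZcdef]; exact ⟨z.1, z.2, rfl⟩
    · intro h; apply hz; apply Subtype.ext; apply Subtype.ext; exact h
  -- x
  have hx3' : x ^ 3 = 1 := by rw [← hx3]; exact pow_orderOf_eq_one x
  have hx1 : x ≠ 1 := by intro h; rw [h, orderOf_one] at hx3; omega
  have hxQ : x ∉ Q := by
    intro h
    exact hx1 (hfpf x h (by group))
  -- the quotient
  have hπ : Function.Surjective (QuotientGroup.mk' Zc) := QuotientGroup.mk'_surjective Zc
  have hQbn : (Q.map (QuotientGroup.mk' Zc)).Normal := Subgroup.Normal.map hQn _ hπ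
  have hQb2 : IsPGroup 2 (Q.map (QuotientGroup.mk' Zc)) := hQ2.map _
  have hxb3 : orderOf (QuotientGroup.mk' Zc x) = 3 := by
    apply orderOf_eq_prime
    · rw [← map_pow, hx3', map_one]
    · intro h
      exact hxQ (hZQ ((QuotientGroup.eq_one_iff x).1 h))
  have hfpfb := fpf_quot Q Zc hZQ hZ2 x hx3' hfpf
  have hcardlt : Nat.card (Q.map (QuotientGroup.mk' Zc)) < Nat.card Q := by
    haveI : Fintype Q := Fintype.ofFinite _
    haveI : Fintype (Q.map (QuotientGroup.mk' Zc)) := Fintype.ofFinite _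
    rw [Nat.card_eq_fintype_card, Nat.card_eq_fintype_card]
    apply Fintype.card_lt_of_surjective_not_injective ((QuotientGroup.mk' Zc).subgroupMap Q)
      ((QuotientGroup.mk' Zc).subgroupMap_surjective Q)
    intro hinj
    obtain ⟨z, hz, hz1⟩ := hZne
    have h1 : (QuotientGroup.mk' Zc).subgroupMap Q ⟨z, hZQ hz⟩ =
        (QuotientGroup.mk' Zc).subgroupMap Q 1 := by
      apply Subtype.ext
      show QuotientGroup.mk' Zc z = QuotientGroup.mk' Zc 1
      rw [map_one]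
      exact (QuotientGroup.eq_one_iff z).2 hz
    exact hz1 (congrArg Subtype.val (hinj h1))
  have hQbab := ih (G ⧸ Zc) (Q.map (QuotientGroup.mk' Zc)) hQb2
    ((QuotientGroup.quotientQuotientEquivQuotient Zc Q hZQ).trans e) (QuotientGroup.mk' Zc x)
    hxb3 hfpfb hcardlt
  have hebar : ∀ γ : G, ((QuotientGroup.quotientQuotientEquivQuotient Zc Q hZQ).trans e)
      (((QuotientGroup.mk' Zc γ : G ⧸ Zc)) : (G ⧸ Zc) ⧸ Q.map (QuotientGroup.mk' Zc)) =
      e (γ : G ⧸ Q) := fun γ => rfl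
  -- commutators lie in Zc
  have hκ : ∀ a ∈ Q, ∀ b ∈ Q, a * b * a⁻¹ * b⁻¹ ∈ Zc := by
    intro a ha b hb
    rw [← QuotientGroup.eq_one_iff]
    have h := hQbab _ (Subgroup.mem_map_of_mem _ ha) _ (Subgroup.mem_map_of_mem _ hb)
    have h' : (QuotientGroup.mk' Zc a) * (QuotientGroup.mk' Zc b) * (QuotientGroup.mk' Zc a)⁻¹ *
        (QuotientGroup.mk' Zc b)⁻¹ = 1 := by rw [h]; group
    rw [← h']
    simp only [QuotientGroup.mk'_apply, QuotientGroup.mk_mul, QuotientGroup.mk_inv]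
  -- the element of order 3 of SL2
  have hy3 : orderOf (e (x : G ⧸ Q)) = 3 := by
    rw [MulEquiv.orderOf_eq]
    apply orderOf_eq_prime
    · rw [← QuotientGroup.mk_pow, hx3']; rfl
    · intro h; exact hxQ ((QuotientGroup.eq_one_iff x).1 h)
  obtain ⟨c, hc⟩ := order_three_conj (e (x : G ⧸ Q)) hy3
  -- the module Zc
  obtain ⟨inst1, hinst1⟩ := zAct_aux Q Zc e hZab hcentral
  have good1 := good_of_act hF Q Zc e hZ2 hZab x c hc (fun z hz h => hfpf z (hZQ hz) h) inst1 hinst1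
  -- the module Qbar
  obtain ⟨inst2, hinst2⟩ := zAct_aux (Q.map (QuotientGroup.mk' Zc)) (Q.map (QuotientGroup.mk' Zc))
    ((QuotientGroup.quotientQuotientEquivQuotient Zc Q hZQ).trans e) hQbab hQbab
  have good2 := good_of_act hF (Q.map (QuotientGroup.mk' Zc)) (Q.map (QuotientGroup.mk' Zc))
    ((QuotientGroup.quotientQuotientEquivQuotient Zc Q hZQ).trans e) hQb2 hQbab
    (QuotientGroup.mk' Zc x) c (by rw [hc]; exact (hebar x).symm) hfpfb inst2 hinst2
  -- lifts
  have hlift : ∀ q : Q.map (QuotientGroup.mk' Zc), ∃ a : G, a ∈ Q ∧ QuotientGroup.mk' Zc a = q.1 :=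
    fun q => q.2
  choose lift hliftQ hliftπ using hlift
  have hwd : ∀ (a b : G), a ∈ Q → b ∈ Q → ∀ (qa qb : Q.map (QuotientGroup.mk' Zc)),
      QuotientGroup.mk' Zc a = qa.1 → QuotientGroup.mk' Zc b = qb.1 →
      lift qa * lift qb * (lift qa)⁻¹ * (lift qb)⁻¹ = a * b * a⁻¹ * b⁻¹ := by
    intro a b ha hb qa qb hqa hqb
    have hz : a⁻¹ * lift qa ∈ Zc := by
      rw [← QuotientGroup.eq]; exact hqa.trans (hliftπ qa).symm
    have hz' : b⁻¹ * lift qb ∈ Zc := by
      rw [← QuotientGroup.eq]; exact hqb.trans (hliftπ qb).symm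
    have e1 : lift qa = a * (a⁻¹ * lift qa) := by group
    have e2 : lift qb = b * (b⁻¹ * lift qb) := by group
    have key := comm_mul_central a b (a⁻¹ * lift qa) (b⁻¹ * lift qb)
      (hcentral b hb _ hz).symm (hZab _ hz _ hz') (hcentral a ha _ hz')
    rw [← e1, ← e2] at key
    exact key
  letI acg1 := acgOf Zc hZab
  letI acg2 := acgOf (Q.map (QuotientGroup.mk' Zc)) hQbab
  let cm : Additive (Q.map (QuotientGroup.mk' Zc)) → Additive (Q.map (QuotientGroup.mk' Zc)) →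
      Additive Zc := fun a b =>
    Additive.ofMul ⟨lift (Additive.toMul a) * lift (Additive.toMul b) *
      (lift (Additive.toMul a))⁻¹ * (lift (Additive.toMul b))⁻¹,
      hκ _ (hliftQ _) _ (hliftQ _)⟩
  have hcm : ∀ a b, ((Additive.toMul (cm a b) : Zc) : G) =
      lift (Additive.toMul a) * lift (Additive.toMul b) *
      (lift (Additive.toMul a))⁻¹ * (lift (Additive.toMul b))⁻¹ := fun a b => rfl
  have hext : ∀ w w' : Additive Zc, ((Additive.toMul w : Zc) : G) = ((Additive.toMul w' : Zc) : G) →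
      w = w' := fun w w' h => Subtype.ext h
  have hadd1 : ∀ a a' b, cm (a + a') b = cm a b + cm a' b := by
    intro a a' b
    apply hext
    have h1 := hwd (lift (Additive.toMul a) * lift (Additive.toMul a')) (lift (Additive.toMul b))
      (Q.mul_mem (hliftQ _) (hliftQ _)) (hliftQ _) (Additive.toMul a * Additive.toMul a')
      (Additive.toMul b) (by rw [map_mul, hliftπ, hliftπ]; rfl) (hliftπ _)
    have h2 : ((Additive.toMul (cm a b + cm a' b) : Zc) : G) =
        ((Additive.toMul (cm a b) : Zc) : G) * ((Additive.toMul (cm a' b) : Zc) : G) := rfl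
    rw [h2, hcm, hcm, hcm]
    have h3 : Additive.toMul (a + a') = Additive.toMul a * Additive.toMul a' := rfl
    rw [h3, h1, comm_mul_left_id]
    have hk' := hκ _ (hliftQ (Additive.toMul a')) _ (hliftQ (Additive.toMul b))
    have hk := hκ _ (hliftQ (Additive.toMul a)) _ (hliftQ (Additive.toMul b))
    have h4 : Commute (lift (Additive.toMul a)) (lift (Additive.toMul a') * lift (Additive.toMul b) *
        (lift (Additive.toMul a'))⁻¹ * (lift (Additive.toMul b))⁻¹) :=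
      hcentral _ (hliftQ _) _ hk'
    rw [h4.mul_inv_cancel]
    exact hZab _ hk' _ hk
  have hadd2 : ∀ a b b', cm a (b + b') = cm a b + cm a b' := by
    intro a b b'
    apply hext
    have h1 := hwd (lift (Additive.toMul a)) (lift (Additive.toMul b) * lift (Additive.toMul b'))
      (hliftQ _) (Q.mul_mem (hliftQ _) (hliftQ _)) (Additive.toMul a)
      (Additive.toMul b * Additive.toMul b') (hliftπ _) (by rw [map_mul, hliftπ, hliftπ]; rfl)
    have h2 : ((Additive.toMul (cm a b + cm a b') : Zc) : G) =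
        ((Additive.toMul (cm a b) : Zc) : G) * ((Additive.toMul (cm a b') : Zc) : G) := rfl
    rw [h2, hcm, hcm, hcm]
    have h3 : Additive.toMul (b + b') = Additive.toMul b * Additive.toMul b' := rfl
    rw [h3, h1, comm_mul_right_id]
    have hk' := hκ _ (hliftQ (Additive.toMul a)) _ (hliftQ (Additive.toMul b'))
    have h4 : Commute (lift (Additive.toMul b)) (lift (Additive.toMul a) * lift (Additive.toMul b') *
        (lift (Additive.toMul a))⁻¹ * (lift (Additive.toMul b'))⁻¹) :=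
      hcentral _ (hliftQ _) _ hk'
    rw [h4.mul_inv_cancel]
  have heq : ∀ (g : SpecialLinearGroup (Fin 2) K) (a b : Additive (Q.map (QuotientGroup.mk' Zc))),
      cm (g • a) (g • b) = g • cm a b := by
    intro g a b
    obtain ⟨q, rfl⟩ := e.surjective g
    obtain ⟨γ, rfl⟩ := QuotientGroup.mk_surjective q
    have hsm : ∀ a : Additive (Q.map (QuotientGroup.mk' Zc)),
        ((Additive.toMul ((e (γ : G ⧸ Q)) • a) : Q.map (QuotientGroup.mk' Zc)) : G ⧸ Zc) =
        QuotientGroup.mk' Zc γ * ((Additive.toMul a : Q.map (QuotientGroup.mk' Zc)) : G ⧸ Zc) *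
          (QuotientGroup.mk' Zc γ)⁻¹ := by
      intro a
      have := hinst2 (QuotientGroup.mk' Zc γ) (Additive.toMul a)
      rw [hebar γ] at this
      exact congrArg (fun w : Additive (Q.map (QuotientGroup.mk' Zc)) =>
        ((Additive.toMul w : Q.map (QuotientGroup.mk' Zc)) : G ⧸ Zc)) this
    have hr : ((Additive.toMul ((e (γ : G ⧸ Q)) • cm a b) : Zc) : G) =
        γ * ((Additive.toMul (cm a b) : Zc) : G) * γ⁻¹ :=
      congrArg (fun w : Additive Zc => ((Additive.toMul w : Zc) : G))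
        (hinst1 γ (Additive.toMul (cm a b)))
    apply hext
    rw [hr, hcm, hcm, ← comm_conj_id]
    apply hwd
    · exact hQn.conj_mem _ (hliftQ _) γ
    · exact hQn.conj_mem _ (hliftQ _) γ
    · rw [hsm, map_mul, map_mul, map_inv, hliftπ]
    · rw [hsm, map_mul, map_mul, map_inv, hliftπ]
  have hF3 : 3 ≤ Fintype.card K := by omega
  have hzero := @bilin_zero K _ _ _ hF3 (Additive (Q.map (QuotientGroup.mk' Zc))) acg2 inst2
    (Additive Zc) acg1 inst1 good2 good1 cm hadd1 hadd2 heq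
  intro a ha b hb
  have h1 := hwd a b ha hb ⟨QuotientGroup.mk' Zc a, Subgroup.mem_map_of_mem _ ha⟩
    ⟨QuotientGroup.mk' Zc b, Subgroup.mem_map_of_mem _ hb⟩ rfl rfl
  have h2 := hzero (Additive.ofMul ⟨QuotientGroup.mk' Zc a, Subgroup.mem_map_of_mem _ ha⟩)
    (Additive.ofMul ⟨QuotientGroup.mk' Zc b, Subgroup.mem_map_of_mem _ hb⟩)
  have h3 := congrArg (fun w : Additive Zc => ((Additive.toMul w : Zc) : G)) h2
  simp only [hcm] at h3
  have h4 : a * b * a⁻¹ * b⁻¹ = 1 := by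
    rw [← h1]; exact h3
  calc a * b = (a * b * a⁻¹ * b⁻¹) * (b * a) := by group
    _ = b * a := by rw [h4, one_mul]

theorem Q_comm {K : Type u} [Field K] [Fintype K] (n : ℕ) (hn : 2 ≤ n) (hK : Fintype.card K = 2 ^ n) :
    ∀ (m : ℕ) (G : Type v) [Group G] [Finite G] (Q : Subgroup G) [Q.Normal], IsPGroup 2 ↥Q →
      ∀ (e : G ⧸ Q ≃* SpecialLinearGroup (Fin 2) K) (x : G), orderOf x = 3 →
        (∀ q ∈ Q, x * q * x⁻¹ = q → q = 1) → Nat.card Q = m → ∀ a ∈ Q, ∀ b ∈ Q, a * b = b * a := by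
  haveI : Fact (Nat.Prime 2) := ⟨Nat.prime_two⟩
  haveI : CharP K 2 := charP_of_card_eq_prime_pow hK
  have hF4 : 4 ≤ Fintype.card K := by
    rw [hK]
    calc 4 = 2 ^ 2 := rfl
      _ ≤ 2 ^ n := Nat.pow_le_pow_right (by norm_num) hn
  intro m
  induction m using Nat.strong_induction_on with
  | _ m ih =>
    intro G _ _ Q _ hQ2 e x hx3 hfpf hcard
    apply step hF4 G Q hQ2 e x hx3 hfpf
    intro G' _ _ Q' _ hQ2' e' x' hx3' hfpf' hlt
    exact ih (Nat.card Q') (hcard ▸ hlt) G' Q' hQ2' e' x' hx3' hfpf' rfl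

end Cfsg.Agent.Lib.helper17.Hig
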