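import Mathlib
import Cfsg.Prelude.Def_Transfer
import Cfsg.Prelude.Def_BaumannBlocks
import Cfsg.Agent.Lib.helper17.HigGrp
import Cfsg.Agent.Lib.Helper13.HigDecomp

set_option autoImplicit false
set_option linter.style.haveILetI false

/-! Final assembly of project Hig (S3050). -/

namespace Cfsg.Agent.Lib.helper17.Hig

universe u v

open Matrix Cfsg.Agent.Lib.helper15.NatMod Cfsg.Agent.Lib.helper15.QS Cfsg.Agent.Lib.Helper1.Hig
open Cfsg.Agent.Lib.Helper19.Hig Cfsg.Agent.Lib.Helper21.Hig Cfsg.Agent.Lib.Helper13.Hig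

section Mod

variable {F : Type u} [Field F] {A : Type v} [AddCommGroup A]
  [DistribMulAction (SpecialLinearGroup (Fin 2) F) A]

theorem iota_zero_vec (h : QHyp F A) (x : A) : iota (F := F) x 0 = 0 := by
  have e := h.iota_add x 0 0
  rw [add_zero] at e
  exact (add_eq_right.mp e.symm)

theorem iota_zero_pt (v : Fin 2 → F) : iota (F := F) (0 : A) v = 0 := by
  unfold iota
  rw [star_zero_right, star_zero_right, MM_zero, add_zero]

/-- the sum map -/
def sumIota {k : ℕ} (xs : Fin k → A) (w : Fin k → (Fin 2 → F)) : A := ∑ i, iota (xs i) (w i)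

theorem sumIota_add (h : QHyp F A) {k : ℕ} (xs : Fin k → A) (w w' : Fin k → (Fin 2 → F)) :
    sumIota xs (w + w') = sumIota xs w + sumIota xs w' := by
  unfold sumIota
  rw [← Finset.sum_add_distrib]
  apply Finset.sum_congr rfl
  intro i _
  rw [Pi.add_apply, h.iota_add]

theorem sumIota_zero (h : QHyp F A) {k : ℕ} (xs : Fin k → A) :
    sumIota (F := F) xs 0 = 0 := by
  unfold sumIota
  apply Finset.sum_eq_zero
  intro i _
  rw [Pi.zero_apply, iota_zero_vec h]

theorem sumIota_single (h : QHyp F A) {k : ℕ} (xs : Fin k → A) (i : Fin k) (v : Fin 2 → F) :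
    sumIota xs (Pi.single i v) = iota (xs i) v := by
  unfold sumIota
  rw [Finset.sum_eq_single i]
  · rw [Pi.single_eq_same]
  · intro j _ hj
    rw [Pi.single_eq_of_ne hj, iota_zero_vec h]
  · intro hi; exact absurd (Finset.mem_univ i) hi

theorem xs_ne_zero (h : QHyp F A) {k : ℕ} (xs : Fin k → A)
    (hinj : Function.Injective (sumIota (F := F) xs)) (i : Fin k) : xs i ≠ 0 := by
  intro h0
  have h1 : sumIota xs (Pi.single i ![(1 : F), 0]) = sumIota (F := F) xs 0 := by
    rw [sumIota_single h, sumIota_zero h, h0, iota_zero_pt]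
  have h2 := congrFun (congrFun (hinj h1) i) 0
  simp at h2

end Mod

set_option maxHeartbeats 1600000 in
theorem hig_final {G : Type v} [Group G] [Finite G]
    (Q : Subgroup G) [hQn : Q.Normal] (hQ : IsPGroup 2 ↥Q) (n : ℕ) (hn : 2 ≤ n)
    (K : Type u) [Field K] [Fintype K] (hK : Fintype.card K = 2 ^ n)
    (e : G ⧸ Q ≃* Matrix.SpecialLinearGroup (Fin 2) K)
    (x : G) (hx : orderOf x = 3) (hfpf : ∀ q ∈ Q, x * q * x⁻¹ = q → q = 1) :
    Cfsg.IsElementaryAbelian 2 Q ∧
      ∃ (k : ℕ) (V : Fin k → Subgroup G), (∀ i, V i ≤ Q ∧ (V i).Normal ∧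
        Cfsg.ActsAsSL2OnSection K ⊤ ⊤ (V i) ⊥) ∧ iSupIndep V ∧ ⨆ i, V i = Q := by
  haveI : Fact (Nat.Prime 2) := ⟨Nat.prime_two⟩
  haveI : CharP K 2 := charP_of_card_eq_prime_pow hK
  have hF4 : 4 ≤ Fintype.card K := by
    rw [hK]
    calc 4 = 2 ^ 2 := rfl
      _ ≤ 2 ^ n := Nat.pow_le_pow_right (by norm_num) hn
  have hab := Q_comm n hn hK (Nat.card Q) G Q hQ e x hx hfpf rfl
  have hx3' : x ^ 3 = 1 := by rw [← hx]; exact pow_orderOf_eq_one x
  have hx1 : x ≠ 1 := by intro h; rw [h, orderOf_one] at hx; omega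
  have hxQ : x ∉ Q := fun h => hx1 (hfpf x h (by group))
  have hy3 : orderOf (e (x : G ⧸ Q)) = 3 := by
    rw [MulEquiv.orderOf_eq]
    apply orderOf_eq_prime
    · rw [← QuotientGroup.mk_pow, hx3']; rfl
    · intro h; exact hxQ ((QuotientGroup.eq_one_iff x).1 h)
  obtain ⟨c, hc⟩ := order_three_conj (e (x : G ⧸ Q)) hy3
  obtain ⟨inst, hinst⟩ := zAct_aux Q Q e hab hab
  have good := good_of_act hF4 Q Q e hQ hab x c hc hfpf inst hinst
  letI acg := acgOf Q hab
  have hq : QHyp K (Additive Q) := good.qhyp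
  obtain ⟨k, xs, hxs, hbij⟩ := good_decomp good
  have hbij' : Function.Bijective (sumIota (F := K) xs) := hbij
  have hxs0 : ∀ i, xs i ≠ 0 := xs_ne_zero hq xs hbij'.1
  have hιinj : ∀ i, Function.Injective (iota (F := K) (xs i)) := fun i =>
    hq.iota_injective (hxs i) (hxs0 i)
  -- the action formula
  have hact : ∀ (γ : G) (a : Additive Q), ((Additive.toMul ((e (γ : G ⧸ Q)) • a) : Q) : G) =
      γ * ((Additive.toMul a : Q) : G) * γ⁻¹ := fun γ a =>
    congrArg (fun w : Additive Q => ((Additive.toMul w : Q) : G)) (hinst γ (Additive.toMul a))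
  have hext : ∀ w w' : Additive Q, ((Additive.toMul w : Q) : G) = ((Additive.toMul w' : Q) : G) →
      w = w' := fun w w' h => Subtype.ext h
  refine ⟨⟨⟨⟨fun a b => Subtype.ext (hab a a.2 b b.2)⟩⟩, ?_⟩, ?_⟩
  · intro a ha
    have h2 := good.two (Additive.ofMul (⟨a, ha⟩ : Q))
    have h3 := congrArg (fun w : Additive Q => ((Additive.toMul w : Q) : G)) h2
    rw [pow_two]
    exact h3
  -- the subgroups
  let V : Fin k → Subgroup G := fun i =>
    { carrier := {g | ∃ (v : Fin 2 → K) (h : g ∈ Q),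
        (Additive.ofMul (⟨g, h⟩ : Q) : Additive Q) = iota (xs i) v}
      one_mem' := ⟨0, Q.one_mem, (iota_zero_vec hq (xs i)).symm⟩
      mul_mem' := by
        rintro a b ⟨v, ha, hv⟩ ⟨w, hb, hw⟩
        refine ⟨v + w, Q.mul_mem ha hb, ?_⟩
        rw [hq.iota_add, ← hv, ← hw]
        rfl
      inv_mem' := by
        rintro a ⟨v, ha, hv⟩
        refine ⟨v, Q.inv_mem ha, ?_⟩
        rw [← hv]
        have h2 := good.two (Additive.ofMul (⟨a, ha⟩ : Q))
        have : (Additive.ofMul (⟨a⁻¹, Q.inv_mem ha⟩ : Q) : Additive Q) =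
            -(Additive.ofMul (⟨a, ha⟩ : Q) : Additive Q) := rfl
        rw [this]
        exact neg_eq_of_add_eq_zero_left h2 }
  have hmemV : ∀ i g, g ∈ V i ↔ ∃ (v : Fin 2 → K) (h : g ∈ Q),
      (Additive.ofMul (⟨g, h⟩ : Q) : Additive Q) = iota (xs i) v := fun i g => Iff.rfl
  have hVQ : ∀ i, V i ≤ Q := fun i g hg => by
    obtain ⟨v, h, -⟩ := (hmemV i g).1 hg
    exact h
  have hVn : ∀ i, (V i).Normal := by
    intro i
    refine ⟨fun g hg γ => ?_⟩
    obtain ⟨v, h, hv⟩ := (hmemV i g).1 hg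
    refine (hmemV i _).2 ⟨((e (γ : G ⧸ Q) : SpecialLinearGroup (Fin 2) K) :
      Matrix (Fin 2) (Fin 2) K).mulVec v, hQn.conj_mem _ h γ, ?_⟩
    rw [← hq.iota_equiv (hxs i), ← hv]
    apply hext
    rw [hact]
    rfl
  refine ⟨k, V, fun i => ⟨hVQ i, hVn i, ?_⟩, ?_, ?_⟩
  · -- the action on `V i`
    haveI := hVn i
    refine ⟨by rw [Subgroup.normalizer_eq_top], bot_le, ?_⟩
    -- the inverse of `iota`
    have hex : ∀ u : V i, ∃ v : Fin 2 → K,
        (Additive.ofMul (⟨(u : G), hVQ i u.2⟩ : Q) : Additive Q) = iota (xs i) v := by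
      intro u
      obtain ⟨v, h, hv⟩ := (hmemV i _).1 u.2
      exact ⟨v, hv⟩
    choose ψ₀ hψ₀ using hex
    have hψmul : ∀ a b : V i, ψ₀ (a * b) = ψ₀ a + ψ₀ b := by
      intro a b
      apply hιinj i
      rw [hq.iota_add, ← hψ₀, ← hψ₀, ← hψ₀]
      rfl
    refine ⟨(e.toMonoidHom.comp (QuotientGroup.mk' Q)).comp (⊤ : Subgroup G).subtype,
      MonoidHom.mk' (fun u => Multiplicative.ofAdd (ψ₀ u)) (fun a b => by
        show Multiplicative.ofAdd (ψ₀ (a * b)) = Multiplicative.ofAdd (ψ₀ a) * Multiplicative.ofAdd (ψ₀ b)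
        rw [hψmul]; rfl), ?_, ?_, ?_, ?_⟩
    · rw [MonoidHom.range_eq_top]
      intro s
      obtain ⟨q, rfl⟩ := e.surjective s
      obtain ⟨γ, rfl⟩ := QuotientGroup.mk_surjective q
      exact ⟨⟨γ, Subgroup.mem_top γ⟩, rfl⟩
    · intro w
      have hmem : ((Additive.toMul (iota (xs i) (Multiplicative.toAdd w)) : Q) : G) ∈ V i :=
        (hmemV i _).2 ⟨Multiplicative.toAdd w, (Additive.toMul (iota (xs i) (Multiplicative.toAdd w)) : Q).2, rfl⟩
      refine ⟨⟨_, hmem⟩, ?_⟩
      show Multiplicative.ofAdd (ψ₀ ⟨_, hmem⟩) = w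
      have h1 := hψ₀ ⟨_, hmem⟩
      have h2 : ψ₀ ⟨_, hmem⟩ = Multiplicative.toAdd w := by
        apply hιinj i
        rw [← h1]
        rfl
      rw [h2]
      rfl
    · intro u
      show Multiplicative.ofAdd (ψ₀ u) = 1 ↔ (u : G) ∈ (⊥ : Subgroup G)
      rw [Subgroup.mem_bot]
      constructor
      · intro h
        have h0 : ψ₀ u = 0 := h
        have h1 := hψ₀ u
        rw [h0, iota_zero_vec hq] at h1
        exact congrArg (fun w : Additive Q => ((Additive.toMul w : Q) : G)) h1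
      · intro h
        have h1 := hψ₀ u
        have h2 : (Additive.ofMul (⟨(u : G), hVQ i u.2⟩ : Q) : Additive Q) = 0 := by
          apply hext
          exact h
        rw [h2, ← iota_zero_vec hq (xs i)] at h1
        have h3 := hιinj i h1
        show Multiplicative.ofAdd (ψ₀ u) = 1
        rw [← h3]
        rfl
    · intro γ u
      have hmem : (γ : G) * (u : G) * (γ : G)⁻¹ ∈ V i := (hVn i).conj_mem _ u.2 _
      refine ⟨⟨_, hmem⟩, rfl, ?_⟩
      show ψ₀ ⟨_, hmem⟩ = ((e ((γ : G) : G ⧸ Q) : SpecialLinearGroup (Fin 2) K) :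
        Matrix (Fin 2) (Fin 2) K).mulVec (ψ₀ u)
      apply hιinj i
      rw [← hψ₀, ← hq.iota_equiv (hxs i), ← hψ₀]
      apply hext
      rw [hact]
      rfl
  · -- independence
    rw [iSupIndep_def]
    intro i
    rw [Subgroup.disjoint_def]
    let S : Subgroup G :=
      { carrier := {g | ∃ (w : Fin k → (Fin 2 → K)) (h : g ∈ Q), w i = 0 ∧
          (Additive.ofMul (⟨g, h⟩ : Q) : Additive Q) = sumIota xs w}
        one_mem' := ⟨0, Q.one_mem, rfl, (sumIota_zero hq xs).symm⟩
        mul_mem' := by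
          rintro a b ⟨v, ha, hv0, hv⟩ ⟨w, hb, hw0, hw⟩
          refine ⟨v + w, Q.mul_mem ha hb, by rw [Pi.add_apply, hv0, hw0, add_zero], ?_⟩
          rw [sumIota_add hq, ← hv, ← hw]
          rfl
        inv_mem' := by
          rintro a ⟨v, ha, hv0, hv⟩
          refine ⟨v, Q.inv_mem ha, hv0, ?_⟩
          rw [← hv]
          have h2 := good.two (Additive.ofMul (⟨a, ha⟩ : Q))
          have : (Additive.ofMul (⟨a⁻¹, Q.inv_mem ha⟩ : Q) : Additive Q) =
              -(Additive.ofMul (⟨a, ha⟩ : Q) : Additive Q) := rfl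
          rw [this]
          exact neg_eq_of_add_eq_zero_left h2 }
    have hS : (⨆ (j) (_ : j ≠ i), V j) ≤ S := by
      apply iSup₂_le
      intro j hj g hg
      obtain ⟨v, h, hv⟩ := (hmemV j g).1 hg
      exact ⟨Pi.single j v, h, by rw [Pi.single_apply, if_neg hj.symm], by rw [sumIota_single hq]; exact hv⟩
    intro g hg1 hg2
    obtain ⟨v, h, hv⟩ := (hmemV i g).1 hg1
    obtain ⟨w, h', hw0, hw⟩ := hS hg2
    have h1 : sumIota xs (Pi.single i v) = sumIota xs w := by
      rw [sumIota_single hq, ← hv, ← hw]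
    have h2 := hbij'.1 h1
    have h3 : v = 0 := by
      have := congrFun h2 i
      rw [Pi.single_eq_same, hw0] at this
      exact this
    rw [h3, iota_zero_vec hq] at hv
    exact congrArg (fun w : Additive Q => ((Additive.toMul w : Q) : G)) hv
  · -- the supremum
    apply le_antisymm (iSup_le hVQ)
    intro g hg
    obtain ⟨w, hw⟩ := hbij'.2 (Additive.ofMul (⟨g, hg⟩ : Q))
    have key : ∀ s : Finset (Fin k),
        ((Additive.toMul (∑ j ∈ s, iota (xs j) (w j)) : Q) : G) ∈ ⨆ j, V j := by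
      intro s
      induction s using Finset.induction_on with
      | empty => rw [Finset.sum_empty]; exact Subgroup.one_mem _
      | insert j s hj ih =>
        rw [Finset.sum_insert hj]
        have hmem : ((Additive.toMul (iota (xs j) (w j)) : Q) : G) ∈ V j :=
          (hmemV j _).2 ⟨w j, (Additive.toMul (iota (xs j) (w j)) : Q).2, rfl⟩
        exact Subgroup.mul_mem _ (Subgroup.mem_iSup_of_mem j hmem) ih
    have := key Finset.univ
    have h2 : ((Additive.toMul (∑ j, iota (xs j) (w j)) : Q) : G) = g := by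
      have : (∑ j, iota (xs j) (w j)) = Additive.ofMul (⟨g, hg⟩ : Q) := hw
      exact congrArg (fun w : Additive Q => ((Additive.toMul w : Q) : G)) this
    rw [h2] at this
    exact this

end Cfsg.Agent.Lib.helper17.Hig
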