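import Mathlib
import Cfsg.Agent.Lib.helper17.MinPar
import Cfsg.Agent.Lib.helper17.Amalgam4
import Cfsg.Agent.Lib.helper17.WC2

set_option autoImplicit false

namespace Cfsg.Agent.Lib.helper17.MinPar2

open Cfsg.Agent.Lib.helper17
open Cfsg.Agent.Lib.helper17.MinPar
open scoped commutatorElement

variable {G : Type*} [Group G]

theorem le_normalizer_conjClosure_of {B H Q : Subgroup G}
    (h : ∀ k ∈ H, B ≤ Subgroup.normalizer ((cj k Q : Subgroup G) : Set G)) :
    B ≤ Subgroup.normalizer ((conjClosure H Q : Subgroup G) : Set G) := by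
  apply le_normalizer_of_cj_le'
  intro b hb
  unfold conjClosure cj
  rw [Subgroup.map_iSup]
  apply iSup_le
  intro k
  have h1 : cj b (cj (k : G) Q) = cj (k : G) Q := cj_eq_self_iff.mpr (h k k.2 hb)
  unfold cj at h1
  rw [h1]
  exact le_iSup (fun k : ↥H => Subgroup.map (MulAut.conj (k : G)).toMonoidHom Q) k

/-- A subgroup of a group `L` of characteristic `p` that is minimal over a weakly closed `Q`
(with respect to `Y ≰ O_p`) has characteristic `p`. -/
theorem charPSub_of_isMinOver [Finite G] {p : ℕ} [Fact p.Prime] {Q Y H L : Subgroup G}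
    (hm : IsMinOver p Q Y H) (hHL : H ≤ L) (hL : CharPSub p L) (hw : WCStrong p Q)
    (hQp : IsPGroup p Q) : CharPSub p H := by
  set B := Cfsg.pCoreOf p L with hB
  have hBp : IsPGroup p B := pCoreOf_isPGroup p L
  have hLB : L ≤ Subgroup.normalizer (B : Set G) := le_normalizer_pCoreOf p L
  have hQL : Q ≤ L := hm.le.trans hHL
  -- `B` normalises `Q`
  have hBQ : B ≤ Subgroup.normalizer (Q : Set G) := by
    have h1 : IsPGroup p (B ⊔ Q : Subgroup G) := hBp.to_sup_of_normal_left' hQp (hQL.trans hLB)
    exact (le_sup_left.trans Subgroup.le_normalizer).trans (hw.normalizer_le h1 le_sup_right)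
  -- `B` normalises `H`
  have hBH : B ≤ Subgroup.normalizer (H : Set G) := by
    have h1 : B ≤ Subgroup.normalizer ((conjClosure H Q : Subgroup G) : Set G) := by
      apply le_normalizer_conjClosure_of
      intro k hk
      rw [normalizer_cj]
      have h2 := cj_mono (g := k) hBQ
      rwa [cj_eq_self_iff.mpr (hLB (hHL hk))] at h2
    rwa [hm.conjClosure_eq] at h1
  have hHB : H ≤ Subgroup.normalizer (B : Set G) := hHL.trans hLB
  have hcomm : ⁅H, B⁆ ≤ Cfsg.pCoreOf p H := by
    have h1 : ⁅H, B⁆ ≤ B ⊓ H := by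
      apply le_inf
      · exact Subgroup.le_normalizer_iff_commutator_le_right.mp hHB
      · exact Subgroup.le_normalizer_iff_commutator_le_left.mp hBH
    refine h1.trans ?_
    apply le_pCoreOf inf_le_right (hBp.to_le inf_le_left)
    exact le_normalizer_inf' hHB Subgroup.le_normalizer
  apply charPSub_core_le_pCoreOf
  apply isPGroup_of_forall_coprime_eq_one
  intro a ha hcop
  have haH : a ∈ H := ha.1
  have haC : a ∈ Subgroup.centralizer ((Cfsg.pCoreOf p H : Subgroup G) : Set G) := ha.2
  have h1 : ∀ b ∈ B, ⁅a, b⁆ ∈ Cfsg.pCoreOf p H := fun b hb =>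
    hcomm (Subgroup.commutator_mem_commutator haH hb)
  have h2 : ∀ z ∈ Cfsg.pCoreOf p H, a * z = z * a := by
    intro z hz
    rw [Subgroup.mem_centralizer_iff] at haC
    exact (haC z hz).symm
  have h3 := centralizes_of_stabilizes_chain hcop (pCoreOf_isPGroup p H) h1 h2
  have h4 : a ∈ L ⊓ Subgroup.centralizer ((B : Subgroup G) : Set G) := by
    have h6 : a ∈ Subgroup.centralizer ((B : Subgroup G) : Set G) := by
      rw [Subgroup.mem_centralizer_iff]
      intro b hb
      exact (h3 b hb).symm
    exact ⟨hHL haH, h6⟩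
  have h5 : a ∈ B := hL h4
  exact eq_one_of_isPElt_of_coprime (isPElt_of_mem hBp h5) hcop

end Cfsg.Agent.Lib.helper17.MinPar2
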