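import Mathlib
import Cfsg.Agent.Lib.helper17.MinPar2

set_option autoImplicit false

namespace Cfsg.Agent.Lib.helper17.MinPar3

open Cfsg.Agent.Lib.helper17
open Cfsg.Agent.Lib.helper17.MinPar
open scoped commutatorElement

variable {G : Type*} [Group G]

theorem commutator_iSup_le {ι : Sort*} (N T : Subgroup G) (A : ι → Subgroup G)
    (h1 : ∀ i, ⁅N, A i⁆ ≤ T) (h2 : ∀ i, A i ≤ Subgroup.normalizer (T : Set G)) :
    ⁅N, ⨆ i, A i⁆ ≤ T := by
  rw [Subgroup.commutator_le]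
  intro n hn x hx
  have key : x ∈ Subgroup.normalizer (T : Set G) ∧ ⁅n, x⁆ ∈ T := by
    refine Subgroup.iSup_induction A (C := fun x => x ∈ Subgroup.normalizer (T : Set G) ∧ ⁅n, x⁆ ∈ T)
      hx ?_ ?_ ?_
    · intro i y hy
      exact ⟨h2 i hy, h1 i (Subgroup.commutator_mem_commutator hn hy)⟩
    · refine ⟨Subgroup.one_mem _, ?_⟩
      rw [commutatorElement_one_right]
      exact T.one_mem
    · intro y z hy hz
      refine ⟨Subgroup.mul_mem _ hy.1 hz.1, ?_⟩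
      have e : ⁅n, y * z⁆ = ⁅n, y⁆ * (y * ⁅n, z⁆ * y⁻¹) := by
        simp only [commutatorElement_def]; group
      rw [e]
      exact T.mul_mem hy.2 ((Subgroup.mem_normalizer_iff.mp hy.1 _).mp hz.2)
  exact key.2

theorem isPClosed_mono [Finite G] {p : ℕ} [Fact p.Prime] {N K : Subgroup G} (hNK : N ≤ K)
    (hK : Cfsg.IsPClosed p ↥K) : Cfsg.IsPClosed p ↥N := by
  rw [isPClosed_subgroup_iff] at hK ⊢
  intro x hx y hy hxp hyp
  exact hK x (hNK hx) y (hNK hy) hxp hyp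

theorem le_pCoreOf_of_isPClosed [Finite G] {p : ℕ} [Fact p.Prime] {H P : Subgroup G}
    (hH : Cfsg.IsPClosed p ↥H) (hPH : P ≤ H) (hP : IsPGroup p P) : P ≤ Cfsg.pCoreOf p H := by
  obtain ⟨T, hT⟩ := (hP.comap_subtype (K := H) : IsPGroup p (P.subgroupOf H)).exists_le_sylow
  have hTn : (T : Subgroup ↥H).Normal := hH T
  have h1 : (T : Subgroup ↥H) ≤ Cfsg.pCore p ↥H := le_pCore hTn T.isPGroup'
  intro x hx
  exact ⟨⟨x, hPH hx⟩, h1 (hT (Subgroup.mem_subgroupOf.mpr hx)), rfl⟩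

/-- `H` minimal over `Q` is `p`-irreducible: normal subgroups that are not `p`-closed contain `O^p(H)`. -/
theorem opOf_le_of_not_isPClosed [Finite G] {p : ℕ} [Fact p.Prime] {Q Y H N₁ : Subgroup G}
    (hm : IsMinOver p Q Y H) (hQp : IsPGroup p Q) (hYQ : Y ≤ Q)
    (hQY : Q ≤ Subgroup.normalizer (Y : Set G)) (hN₁H : N₁ ≤ H)
    (hHN₁ : H ≤ Subgroup.normalizer (N₁ : Set G)) (hnc : ¬ Cfsg.IsPClosed p ↥N₁) :
    opOf p H ≤ N₁ := by
  by_cases hP : N₁ ⊔ Q = H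
  · exact opOf_le_of_le_sup hN₁H hHN₁ hQp hm.le hP.ge
  · exfalso
    apply hnc
    have hlt : N₁ ⊔ Q < H := lt_of_le_of_ne (sup_le hN₁H hm.le) hP
    have hYO := hm.min _ le_sup_right hlt
    have hYH : Y ≤ H := hYQ.trans hm.le
    have hHT₀ : H ≤ Subgroup.normalizer ((Cfsg.pCoreOf p N₁ : Subgroup G) : Set G) :=
      hHN₁.trans (normalizer_le_normalizer_pCoreOf p N₁)
    have h1 : ⁅N₁, Y⁆ ≤ Cfsg.pCoreOf p N₁ := by
      have ha : ⁅N₁, Y⁆ ≤ N₁ := Subgroup.le_normalizer_iff_commutator_le_left.mp (hYH.trans hHN₁)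
      have hb : ⁅N₁, Y⁆ ≤ Cfsg.pCoreOf p (N₁ ⊔ Q) :=
        (Subgroup.commutator_mono (le_sup_left.trans (le_normalizer_pCoreOf p (N₁ ⊔ Q))) hYO).trans
          (Subgroup.le_normalizer_iff_commutator_le_right.mp le_rfl)
      refine (le_inf ha hb).trans ?_
      apply le_pCoreOf inf_le_left ((pCoreOf_isPGroup p _).to_le inf_le_right)
      exact le_normalizer_inf' Subgroup.le_normalizer (le_sup_left.trans (le_normalizer_pCoreOf p (N₁ ⊔ Q)))
    have h2 : ⁅N₁, conjClosure H Y⁆ ≤ Cfsg.pCoreOf p N₁ := by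
      apply commutator_iSup_le
      · intro k
        have h3 : cj (k : G) ⁅N₁, Y⁆ = ⁅N₁, cj (k : G) Y⁆ := by
          have : cj (k : G) N₁ = N₁ := cj_eq_self_iff.mpr (hHN₁ k.2)
          conv_rhs => rw [← this]
          unfold cj
          rw [Subgroup.map_commutator]
        rw [← h3]
        have h4 := cj_mono (g := (k : G)) h1
        rwa [cj_eq_self_iff.mpr (hHT₀ k.2)] at h4
      · intro k
        exact (cj_le_of_mem hYH k.2).trans hHT₀
    have h3 : ⁅N₁, opOf p H⁆ ≤ Cfsg.pCoreOf p N₁ := by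
      refine (Subgroup.commutator_mono le_rfl ?_).trans h2
      rw [← hm.opOf_sup_Y hQp hYQ hQY]
      exact le_sup_left
    obtain ⟨T₁⟩ : Nonempty (Sylow p ↥N₁) := inferInstance
    have hT₀T₁ : Cfsg.pCoreOf p N₁ ≤ (T₁ : Subgroup ↥N₁).map N₁.subtype :=
      le_sylowSub_of_normal T₁ (pCoreOf_le p N₁) (pCoreOf_isPGroup p N₁) (le_normalizer_pCoreOf p N₁)
    have h4 : (T₁ : Subgroup ↥N₁).map N₁.subtype ≤ Cfsg.pCoreOf p N₁ := by
      apply sylowSub_le_pCoreOf T₁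
      intro a haN hcop
      have haR : a ∈ opOf p H := mem_opOf (hN₁H haN) hcop
      rw [← cj_eq_self_iff]
      apply cj_eq_of_cj_le'
      intro t ht
      rw [mem_cj] at ht
      have h5 : ⁅a⁻¹ * t * a, a⁆ ∈ Cfsg.pCoreOf p N₁ :=
        h3 (Subgroup.commutator_mem_commutator
          (Subgroup.map_subtype_le _ ht) haR)
      have e : t = (⁅a⁻¹ * t * a, a⁆)⁻¹ * (a⁻¹ * t * a) := by
        simp only [commutatorElement_def]; group
      rw [e]
      exact Subgroup.mul_mem _ (Subgroup.inv_mem _ (hT₀T₁ h5)) ht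
    apply isPClosed_of_sylow_le_pCore T₁
    unfold Cfsg.pCoreOf at h4
    exact (Subgroup.map_le_map_iff_of_injective (Subgroup.subtype_injective _)).mp h4

/-- `H Q'` is `p`-irreducible when the `p`-group `Q'` and `H` normalise each other. -/
theorem opOf_le_of_not_isPClosed_sup [Finite G] {p : ℕ} [Fact p.Prime] {Q Y H Q' N : Subgroup G}
    (hm : IsMinOver p Q Y H) (hQp : IsPGroup p Q) (hYQ : Y ≤ Q)
    (hQY : Q ≤ Subgroup.normalizer (Y : Set G)) (hQ'p : IsPGroup p Q')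
    (hHQ' : H ≤ Subgroup.normalizer (Q' : Set G)) (hQ'H : Q' ≤ Subgroup.normalizer (H : Set G))
    (hNle : N ≤ H ⊔ Q') (hNn : H ⊔ Q' ≤ Subgroup.normalizer (N : Set G))
    (hnc : ¬ Cfsg.IsPClosed p ↥N) : opOf p H ≤ N := by
  have hHN : H ≤ Subgroup.normalizer (N : Set G) := le_sup_left.trans hNn
  have hQ'N : Q' ≤ Subgroup.normalizer (N : Set G) := le_sup_right.trans hNn
  have hNH : N ≤ Subgroup.normalizer (H : Set G) := hNle.trans (sup_le Subgroup.le_normalizer hQ'H)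
  set N₁ := (N ⊔ Q') ⊓ H with hN₁
  have hHK : H ≤ Subgroup.normalizer ((N ⊔ Q' : Subgroup G) : Set G) := le_normalizer_sup hHN hHQ'
  have hHN₁ : H ≤ Subgroup.normalizer (N₁ : Set G) := le_normalizer_inf' hHK Subgroup.le_normalizer
  have hQ'N₁ : Q' ≤ Subgroup.normalizer (N₁ : Set G) :=
    le_normalizer_inf' (le_sup_right.trans Subgroup.le_normalizer) hQ'H
  -- `N₁` is not `p`-closed
  have hnc₁ : ¬ Cfsg.IsPClosed p ↥N₁ := by
    intro hcl
    apply hnc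
    have hUp : IsPGroup p (Cfsg.pCoreOf p N₁ ⊔ Q' : Subgroup G) :=
      (pCoreOf_isPGroup p N₁).to_sup_of_normal_left' hQ'p
        (hQ'N₁.trans (normalizer_le_normalizer_pCoreOf p N₁))
    have hN₁U : N₁ ≤ Subgroup.normalizer ((Cfsg.pCoreOf p N₁ ⊔ Q' : Subgroup G) : Set G) :=
      le_normalizer_sup (le_normalizer_pCoreOf p N₁) (inf_le_right.trans hHQ')
    have key : ∀ x ∈ N, IsPElt p x → x ∈ Cfsg.pCoreOf p N₁ ⊔ Q' := by
      intro x hx hxp
      obtain ⟨h, hh, q, hq, hxhq⟩ := exists_mul_of_mem_sup_left hHQ' (hNle hx)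
      have hhN₁ : h ∈ N₁ := by
        have : h = x * q⁻¹ := by rw [hxhq]; group
        refine ⟨?_, hh⟩
        rw [this]
        exact Subgroup.mul_mem _ (le_sup_left (a := N) hx) (Subgroup.inv_mem _ (le_sup_right (a := N) hq))
      have hxn : x ∈ Subgroup.normalizer ((Cfsg.pCoreOf p N₁ ⊔ Q' : Subgroup G) : Set G) := by
        rw [hxhq]
        exact Subgroup.mul_mem _ (hN₁U hhN₁)
          (Subgroup.le_normalizer (le_sup_right (a := Cfsg.pCoreOf p N₁) hq))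
      have hUx : IsPGroup p (Subgroup.zpowers x ⊔ (Cfsg.pCoreOf p N₁ ⊔ Q') : Subgroup G) :=
        hxp.isPGroup_zpowers.to_sup_of_normal_right' hUp
          ((Subgroup.zpowers_le).mpr hxn)
      have h1 : (Subgroup.zpowers x ⊔ (Cfsg.pCoreOf p N₁ ⊔ Q')) ⊓ N₁ ≤ Cfsg.pCoreOf p N₁ :=
        le_pCoreOf_of_isPClosed hcl inf_le_right (hUx.to_le inf_le_left)
      have h2 : h ∈ Subgroup.zpowers x ⊔ (Cfsg.pCoreOf p N₁ ⊔ Q') := by
        have : h = x * q⁻¹ := by rw [hxhq]; group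
        rw [this]
        exact Subgroup.mul_mem _ (le_sup_left (a := Subgroup.zpowers x) (Subgroup.mem_zpowers x))
          (Subgroup.inv_mem _ (le_sup_right (a := Subgroup.zpowers x) (le_sup_right (a := Cfsg.pCoreOf p N₁) hq)))
      rw [hxhq]
      exact Subgroup.mul_mem _ (le_sup_left (a := Cfsg.pCoreOf p N₁) (h1 ⟨h2, hhN₁⟩))
        (le_sup_right (a := Cfsg.pCoreOf p N₁) hq)
    rw [isPClosed_subgroup_iff]
    intro x hx y hy hxp hyp
    exact isPElt_of_mem hUp (Subgroup.mul_mem _ (key x hx hxp) (key y hy hyp))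
  have hR := opOf_le_of_not_isPClosed hm hQp hYQ hQY inf_le_right hHN₁ hnc₁
  -- `[N₁, H] ≤ (N ⊓ H) ⊔ (H ⊓ Q')`
  have hWn : H ≤ Subgroup.normalizer ((H ⊓ Q' : Subgroup G) : Set G) :=
    le_normalizer_inf' Subgroup.le_normalizer hHQ'
  have hcomm : ⁅N₁, H⁆ ≤ (N ⊓ H) ⊔ (H ⊓ Q') := by
    rw [Subgroup.commutator_le]
    intro n₁ hn₁ h hh
    obtain ⟨n, hn, q, hq, hnq⟩ := exists_mul_of_mem_sup_right hQ'N (show n₁ ∈ N ⊔ Q' from hn₁.1)
    -- n₁ = n * q
    have h1 : ⁅n, h⁆ ∈ N ⊓ H := by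
      constructor
      · have : ⁅n, h⁆ = n * (h * n⁻¹ * h⁻¹) := by simp only [commutatorElement_def]; group
        rw [this]
        exact N.mul_mem hn ((Subgroup.mem_normalizer_iff.mp (hHN hh) _).mp (N.inv_mem hn))
      · have : ⁅n, h⁆ = (n * h * n⁻¹) * h⁻¹ := by simp only [commutatorElement_def]
        rw [this]
        exact H.mul_mem ((Subgroup.mem_normalizer_iff.mp (hNH hn) _).mp hh) (H.inv_mem hh)
    have h2 : ⁅q⁻¹, h⁆ ∈ H ⊓ Q' := by
      constructor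
      · have : ⁅q⁻¹, h⁆ = (q⁻¹ * h * q⁻¹⁻¹) * h⁻¹ := by simp only [commutatorElement_def]
        rw [this]
        exact H.mul_mem ((Subgroup.mem_normalizer_iff.mp (hQ'H (Q'.inv_mem hq)) _).mp hh) (H.inv_mem hh)
      · have : ⁅q⁻¹, h⁆ = q⁻¹ * (h * q⁻¹⁻¹ * h⁻¹) := by simp only [commutatorElement_def]; group
        rw [this]
        exact Q'.mul_mem (Q'.inv_mem hq)
          ((Subgroup.mem_normalizer_iff.mp (hHQ' hh) _).mp (Q'.inv_mem (Q'.inv_mem hq)))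
    have h3 : n₁ * ⁅q⁻¹, h⁆ * n₁⁻¹ ∈ H ⊓ Q' :=
      (Subgroup.mem_normalizer_iff.mp (hWn hn₁.2) _).mp h2
    have e : ⁅n₁, h⁆ = (n₁ * ⁅q⁻¹, h⁆ * n₁⁻¹)⁻¹ * ⁅n, h⁆ := by
      have hn' : n = n₁ * q⁻¹ := by rw [hnq]; group
      rw [hn']
      simp only [commutatorElement_def]; group
    rw [e]
    exact Subgroup.mul_mem _ (Subgroup.inv_mem _ (le_sup_right (a := N ⊓ H) h3))
      (le_sup_left (a := N ⊓ H) h1)
  have hRR : opOf p H ≤ (N ⊓ H) ⊔ (H ⊓ Q') := by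
    have h1 := hm.commutator_eq hQp hYQ hQY
    rw [← h1]
    exact (Subgroup.commutator_mono hR (hYQ.trans hm.le)).trans hcomm
  have h5 : opOf p ((N ⊓ H) ⊔ (H ⊓ Q')) ≤ N ⊓ H := by
    apply opOf_le_of_le_sup le_sup_left _ (hQ'p.to_le inf_le_right) le_sup_right le_rfl
    apply sup_le Subgroup.le_normalizer
    exact le_normalizer_inf' (inf_le_left.trans hHN) (inf_le_left.trans Subgroup.le_normalizer)
  calc opOf p H = opOf p (opOf p H) := (opOf_opOf p H).symm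
    _ ≤ opOf p ((N ⊓ H) ⊔ (H ⊓ Q')) := opOf_mono hRR
    _ ≤ N ⊓ H := h5
    _ ≤ N := inf_le_left

end Cfsg.Agent.Lib.helper17.MinPar3
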