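import Mathlib
import Cfsg.Agent.Lib.helper7.NCV.Defs

/-!
# NCV row C13A (`sq_mem`), helper17.  Verbatim statement of `helper7/NCV/Skel.lean.txt`.
-/

set_option autoImplicit false

namespace Cfsg.Agent.Lib.helper7.NCV

open Matrix

universe u

variable {F : Type u} [Field F] {n : ℕ}

/-- **C13a (SQMEM).** -/
theorem sq_mem (G : Subgroup (GL (Fin 2) F ⧸ Subgroup.center (GL (Fin 2) F)))
    (hG : ((Matrix.SpecialLinearGroup.toGL :
      Matrix.SpecialLinearGroup (Fin 2) F →* GL (Fin 2) F).range).map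
      (QuotientGroup.mk' (Subgroup.center (GL (Fin 2) F))) ≤ G)
    (k : GL (Fin 2) F) : prj 2 F (k * k) ∈ G := by
  set d : Fˣ := Matrix.GeneralLinearGroup.det k with hd
  have hdv : (d : F) = (k : Matrix (Fin 2) (Fin 2) F).det := rfl
  have hdet : (((d⁻¹ : Fˣ) : F) • ((k : Matrix (Fin 2) (Fin 2) F) *
      (k : Matrix (Fin 2) (Fin 2) F))).det = 1 := by
    rw [Matrix.det_smul, Matrix.det_mul, Fintype.card_fin, ← hdv]
    have : ((d⁻¹ : Fˣ) : F) * (d : F) = 1 := by rw [← Units.val_mul, inv_mul_cancel, Units.val_one]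
    calc ((d⁻¹ : Fˣ) : F) ^ 2 * ((d : F) * (d : F))
        = (((d⁻¹ : Fˣ) : F) * (d : F)) * (((d⁻¹ : Fˣ) : F) * (d : F)) := by ring
      _ = 1 := by rw [this, one_mul]
  let s : SpecialLinearGroup (Fin 2) F :=
    ⟨((d⁻¹ : Fˣ) : F) • ((k : Matrix (Fin 2) (Fin 2) F) * (k : Matrix (Fin 2) (Fin 2) F)), hdet⟩
  have hkk : k * k = Matrix.SpecialLinearGroup.toGL s * Matrix.GeneralLinearGroup.scalar (Fin 2) d := by
    apply Units.ext
    rw [Units.val_mul, Units.val_mul, Matrix.GeneralLinearGroup.coe_scalar]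
    show (k : Matrix (Fin 2) (Fin 2) F) * (k : Matrix (Fin 2) (Fin 2) F) =
      (((d⁻¹ : Fˣ) : F) • ((k : Matrix (Fin 2) (Fin 2) F) * (k : Matrix (Fin 2) (Fin 2) F))) *
        Matrix.scalar (Fin 2) (d : F)
    have h1 : (d : F) * ((d⁻¹ : Fˣ) : F) = 1 := by
      rw [← Units.val_mul, mul_inv_cancel, Units.val_one]
    rw [Matrix.scalar_apply, ← Matrix.smul_one_eq_diagonal, Matrix.mul_smul, Matrix.mul_one,
      smul_smul, h1, one_smul]
  have hz : prj 2 F (Matrix.GeneralLinearGroup.scalar (Fin 2) d) = 1 := by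
    rw [QuotientGroup.mk'_apply, QuotientGroup.eq_one_iff,
      Matrix.GeneralLinearGroup.center_eq_range_scalar]
    exact ⟨d, rfl⟩
  rw [hkk, map_mul, hz, mul_one]
  apply hG
  exact Subgroup.mem_map_of_mem _ ⟨s, rfl⟩

end Cfsg.Agent.Lib.helper7.NCV
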