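import Mathlib
import Cfsg.Agent.Lib.helper7.NCV.Defs

/-!
# NCV row C13B (`irr_tr0_two_ne`), helper17.  Verbatim statement of `helper7/NCV/Skel.lean.txt`.
Own extras are prefixed `ncvc13b_`.
-/

set_option autoImplicit false

namespace Cfsg.Agent.Lib.helper7.NCV

open Matrix

universe u

variable {F : Type u} [Field F] {n : ℕ}

/-- own copy of C3': a root of the characteristic polynomial gives an eigenvector. -/
theorem ncvc13b_charpoly_ne (g : Matrix (Fin 2) (Fin 2) F) (h : Irr g) (c : F) :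
    c ^ 2 - g.trace * c + g.det ≠ 0 := by
  intro h0
  have hdet : (g - c • (1 : Matrix (Fin 2) (Fin 2) F)).det = 0 := by
    rw [Matrix.det_fin_two]
    simp only [Matrix.sub_apply, Matrix.smul_apply, Matrix.one_apply_eq, smul_eq_mul, mul_one,
      Matrix.one_apply_ne (show (0 : Fin 2) ≠ 1 by decide),
      Matrix.one_apply_ne (show (1 : Fin 2) ≠ 0 by decide), mul_zero, sub_zero]
    rw [Matrix.trace_fin_two, Matrix.det_fin_two] at h0
    linear_combination h0
  obtain ⟨v, hv, hv0⟩ := Matrix.exists_mulVec_eq_zero_iff.mpr hdet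
  apply h v hv c
  rw [Matrix.sub_mulVec, Matrix.smul_mulVec, Matrix.one_mulVec, sub_eq_zero] at hv0
  exact hv0

/-- **C13b (CHAR2).** -/
theorem irr_tr0_two_ne [Finite F] (x : Matrix (Fin 2) (Fin 2) F) (hi : Irr x)
    (ht : x.trace = 0) : (2 : F) ≠ 0 := by
  intro h2
  haveI : CharP F 2 := CharTwo.of_one_ne_zero_of_two_eq_zero one_ne_zero h2
  have hr : ringChar F = 2 := ringChar.eq F 2
  obtain ⟨r, hr2⟩ := FiniteField.isSquare_of_char_two hr x.det
  apply ncvc13b_charpoly_ne x hi r
  rw [ht, hr2, zero_mul, sub_zero, pow_two, ← two_mul, h2, zero_mul]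

end Cfsg.Agent.Lib.helper7.NCV
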