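import Mathlib
import Cfsg.Agent.Lib.helper7.NCV.Defs

/-!
# NCV row C13C (`exists_a`), helper17.  Verbatim statement of `helper7/NCV/Skel.lean.txt`.
-/

set_option autoImplicit false

namespace Cfsg.Agent.Lib.helper7.NCV

open Matrix

universe u

variable {F : Type u} [Field F] {n : ℕ}

/-- **C13c (EXA).** -/
theorem exists_a [Fintype F] (hq : 4 ≤ Fintype.card F) (δ : F) : ∃ a : F, a ≠ 0 ∧ a ^ 2 ≠ δ := by
  classical
  by_contra hcon
  push_neg at hcon
  have hδ : δ = 1 := by rw [← hcon 1 one_ne_zero, one_pow]
  have hsub : (Finset.univ : Finset F) ⊆ {0, 1, -1} := by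
    intro a _
    simp only [Finset.mem_insert, Finset.mem_singleton]
    by_cases ha : a = 0
    · exact Or.inl ha
    · have h := hcon a ha
      rw [hδ] at h
      have h' : (a - 1) * (a + 1) = 0 := by linear_combination h
      rcases mul_eq_zero.mp h' with h1 | h1
      · exact Or.inr (Or.inl (sub_eq_zero.mp h1))
      · exact Or.inr (Or.inr (eq_neg_of_add_eq_zero_left h1))
  have hcard := Finset.card_le_card hsub
  rw [Finset.card_univ] at hcard
  have h3 : ({0, 1, -1} : Finset F).card ≤ 3 := Finset.card_le_three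
  omega

end Cfsg.Agent.Lib.helper7.NCV
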