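import Mathlib
import Cfsg.Agent.Lib.helper7.NCV.Defs
import Cfsg.Agent.Lib.helper17.NCVC13A
import Cfsg.Agent.Lib.helper17.NCVC13B
import Cfsg.Agent.Lib.helper17.NCVC13C

/-!
# NCV row C13 (`cover2`), helper17: the core, with the statement of C13D (`tr0_companion`) as a
hypothesis.  Own names are prefixed `ncvc13_`.
-/

set_option autoImplicit false

namespace Cfsg.Agent.Lib.helper7.NCV

open Matrix

universe u

variable {F : Type u} [Field F] {n : ℕ}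

/-- **C13 (COVER2)**, core: `hC13D` is the statement of `tr0_companion`. -/
theorem ncvc13_core [Fintype F]
    (hC13D : ∀ (x : Matrix (Fin 2) (Fin 2) F) (hi : Irr x) (ht : x.trace = 0)
      (h2 : (2 : F) ≠ 0) (a : F) (ha : a ≠ 0) (ha2 : a ^ 2 ≠ x.det),
      ∃ k : GL (Fin 2) F, Irr ((k * k : GL (Fin 2) F) : Matrix (Fin 2) (Fin 2) F) ∧
        ((k * k : GL (Fin 2) F) : Matrix (Fin 2) (Fin 2) F).trace ≠ 0 ∧
        x * ((k * k : GL (Fin 2) F) : Matrix (Fin 2) (Fin 2) F)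
          = ((k * k : GL (Fin 2) F) : Matrix (Fin 2) (Fin 2) F) * x)
    (hq : 4 ≤ Fintype.card F)
    (G : Subgroup (GL (Fin 2) F ⧸ Subgroup.center (GL (Fin 2) F)))
    (hG : ((Matrix.SpecialLinearGroup.toGL :
      Matrix.SpecialLinearGroup (Fin 2) F →* GL (Fin 2) F).range).map
      (QuotientGroup.mk' (Subgroup.center (GL (Fin 2) F))) ≤ G)
    (x : GL (Fin 2) F) (hx : prj 2 F x ∈ G) :
    (∃ v : Fin 2 → F, v ≠ 0 ∧ x ∈ stab v) ∨
    (∃ g : GL (Fin 2) F, prj 2 F g ∈ G ∧ Irr (g : Matrix (Fin 2) (Fin 2) F) ∧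
      (g : Matrix (Fin 2) (Fin 2) F).trace ≠ 0 ∧ x ∈ cen (g : Matrix (Fin 2) (Fin 2) F)) := by
  by_cases hev : ∃ v : Fin 2 → F, v ≠ 0 ∧ x ∈ stab v
  · exact Or.inl hev
  · right
    have hi : Irr (x : Matrix (Fin 2) (Fin 2) F) := by
      intro v hv c hc
      exact hev ⟨v, hv, mem_stab.mpr ⟨c, hc⟩⟩
    by_cases ht : (x : Matrix (Fin 2) (Fin 2) F).trace = 0
    · have h2 := irr_tr0_two_ne (x : Matrix (Fin 2) (Fin 2) F) hi ht
      obtain ⟨a, ha, ha2⟩ := exists_a hq (x : Matrix (Fin 2) (Fin 2) F).det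
      obtain ⟨k, hk1, hk2, hk3⟩ := hC13D (x : Matrix (Fin 2) (Fin 2) F) hi ht h2 a ha ha2
      exact ⟨k * k, sq_mem G hG k, hk1, hk2, mem_cen.mpr hk3⟩
    · exact ⟨x, hx, hi, ht, mem_cen.mpr rfl⟩

end Cfsg.Agent.Lib.helper7.NCV
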