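import Mathlib
import Cfsg.Agent.Lib.helper7.NCV.Defs
import Cfsg.Agent.Lib.Helper13.NCVC13D
import Cfsg.Agent.Lib.helper17.NCVC13core

/-!
# NCV row C13 (`cover2`), helper17.  Verbatim statement of `helper7/NCV/Skel.lean.txt`.
-/

set_option autoImplicit false

namespace Cfsg.Agent.Lib.helper7.NCV

open Matrix

universe u

variable {F : Type u} [Field F] {n : ℕ}

/-- **C13 (COVER2).** -/
theorem cover2 [Fintype F] (hq : 4 ≤ Fintype.card F)
    (G : Subgroup (GL (Fin 2) F ⧸ Subgroup.center (GL (Fin 2) F)))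
    (hG : ((Matrix.SpecialLinearGroup.toGL :
      Matrix.SpecialLinearGroup (Fin 2) F →* GL (Fin 2) F).range).map
      (QuotientGroup.mk' (Subgroup.center (GL (Fin 2) F))) ≤ G)
    (x : GL (Fin 2) F) (hx : prj 2 F x ∈ G) :
    (∃ v : Fin 2 → F, v ≠ 0 ∧ x ∈ stab v) ∨
    (∃ g : GL (Fin 2) F, prj 2 F g ∈ G ∧ Irr (g : Matrix (Fin 2) (Fin 2) F) ∧
      (g : Matrix (Fin 2) (Fin 2) F).trace ≠ 0 ∧ x ∈ cen (g : Matrix (Fin 2) (Fin 2) F)) :=
  ncvc13_core (fun x hi ht h2 a ha ha2 => tr0_companion x hi ht h2 a ha ha2) hq G hG x hx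

end Cfsg.Agent.Lib.helper7.NCV
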