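import Mathlib

set_option autoImplicit false

namespace Cfsg.Agent.Lib.helper17.NQ

/-- Key step: from the braid relation and `ω² = 1` (ω = αβα), with `A² = B² = 0`, get `2AB = 0`. -/
theorem braid_two_mul {R : Type*} [Ring R] (A B : R)
    (hA : A * A = 0) (hB : B * B = 0)
    (hbr : (1 + A) * (1 + B) * (1 + A) = (1 + B) * (1 + A) * (1 + B))
    (hw : ((1 + A) * (1 + B) * (1 + A)) * ((1 + A) * (1 + B) * (1 + A)) = 1) :
    2 * (A * B) = 0 := by
  have hA' : ∀ X : R, A * (A * X) = 0 := fun X => by rw [← mul_assoc, hA, zero_mul]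
  have hB' : ∀ X : R, B * (B * X) = 0 := fun X => by rw [← mul_assoc, hB, zero_mul]
  have e1 : (1 + A) * (1 + B) * (1 + A) = 1 + A + B + A * B + B * A + (A + A * B * A) := by
    simp only [mul_add, add_mul, mul_one, one_mul, mul_assoc, hA, hA']
    abel
  have e2 : (1 + B) * (1 + A) * (1 + B) = 1 + A + B + A * B + B * A + (B + B * A * B) := by
    simp only [mul_add, add_mul, mul_one, one_mul, mul_assoc, hB, hB']
    abel
  -- N-equation
  have hN : A + A * B * A = B + B * A * B := by
    rw [e1, e2] at hbr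
    exact add_left_cancel hbr
  obtain ⟨ω, hω⟩ : ∃ ω : R, ω = (1 + A) * (1 + B) * (1 + A) := ⟨_, rfl⟩
  rw [← hω] at hw hbr e1
  -- ω A = B ω
  have h1 : ω * A = B * ω := by
    have : ω * (1 + A) = (1 + B) * ω := by
      nth_rewrite 1 [hbr]
      rw [hω]
      simp only [mul_assoc]
    rw [mul_add, add_mul, mul_one, one_mul] at this
    exact add_left_cancel this
  -- A ω A = A B A
  have h2 : A * ω * A = A * B * A := by
    rw [e1]
    simp only [mul_add, add_mul, mul_one, mul_assoc, hA, hA', mul_zero,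
      zero_mul, add_zero, zero_add]
  -- A B A = A B ω
  have h3 : A * B * A = A * B * ω := by
    rw [← h2, mul_assoc, h1, ← mul_assoc]
  -- A B A ω = A B
  have h4 : A * B * A * ω = A * B := by
    rw [h3, mul_assoc, hw, mul_one]
  -- expand A B A ω using ABA = N - A
  have h5 : (A + A * B * A) * ω = A + A * B * A := by
    obtain ⟨N, hNdef⟩ : ∃ N : R, N = A + A * B * A := ⟨_, rfl⟩
    have hNA : N * A = 0 := by
      rw [hNdef]
      simp only [add_mul, mul_assoc, hA, mul_zero, add_zero]
    have hNB : N * B = 0 := by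
      rw [hNdef, hN]
      simp only [add_mul, mul_assoc, hB, mul_zero, add_zero]
    have hNA' : ∀ X : R, N * (A * X) = 0 := fun X => by
      rw [← mul_assoc, hNA, zero_mul]
    have hNB' : ∀ X : R, N * (B * X) = 0 := fun X => by
      rw [← mul_assoc, hNB, zero_mul]
    have hNN : N * N = 0 := by
      nth_rewrite 2 [hNdef]
      rw [mul_add, hNA, mul_assoc, hNA', add_zero]
    rw [e1, ← hNdef]
    simp only [mul_add, mul_one, hNA, hNB, hNA', hNB', hNN, add_zero]
  have h6 : A * ω = A + A * B + A * B * A := by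
    rw [e1]
    simp only [mul_add, mul_one, mul_assoc, hA, hA', mul_zero, add_zero, zero_add]
  have h7 : A * B * A * ω = (A + A * B * A) * ω - A * ω := by
    rw [add_mul]; abel
  rw [h7, h5, h6] at h4
  -- h4 : A + ABA - (A + AB + ABA) = AB
  rw [two_mul]
  linear_combination (norm := abel) -h4

theorem braid_eq {R : Type*} [Ring R] (h2 : ∀ x : R, 2 * x = 0 → x = 0) (A B : R)
    (hA : A * A = 0) (hB : B * B = 0)
    (hbr : (1 + A) * (1 + B) * (1 + A) = (1 + B) * (1 + A) * (1 + B))
    (hw : ((1 + A) * (1 + B) * (1 + A)) * ((1 + A) * (1 + B) * (1 + A)) = 1) : A = B := by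
  have hAB : A * B = 0 := h2 _ (braid_two_mul A B hA hB hbr hw)
  have hBA : B * A = 0 := by
    apply h2
    apply braid_two_mul B A hB hA hbr.symm
    rw [← hbr]; exact hw
  have hA' : ∀ X : R, A * (A * X) = 0 := fun X => by rw [← mul_assoc, hA, zero_mul]
  have hB' : ∀ X : R, B * (B * X) = 0 := fun X => by rw [← mul_assoc, hB, zero_mul]
  have e1 : (1 + A) * (1 + B) * (1 + A) = 1 + A + B + A := by
    simp only [mul_add, add_mul, mul_one, one_mul, mul_assoc, hA, hA', hAB, hBA,
      mul_zero, add_zero] <;> abel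
  have e2 : (1 + B) * (1 + A) * (1 + B) = 1 + A + B + B := by
    simp only [mul_add, add_mul, mul_one, one_mul, mul_assoc, hB, hB', hAB, hBA,
      mul_zero, add_zero] <;> abel
  rw [e1, e2] at hbr
  exact add_left_cancel hbr

end Cfsg.Agent.Lib.helper17.NQ
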