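import Mathlib
import Cfsg.Agent.Lib.helper15.QS1
import Cfsg.Agent.S0593
import Cfsg.Agent.Lib.helper17.NQx1

set_option autoImplicit false

namespace Cfsg.Agent.Lib.helper17.NQ

open Matrix Cfsg.Agent.Lib.helper15.NatMod Cfsg.Agent.Lib.helper15.QS

variable {F : Type*} [Field F]

theorem center_scalar (c : SpecialLinearGroup (Fin 2) F)
    (hc : c ∈ Subgroup.center (SpecialLinearGroup (Fin 2) F)) :
    ∃ r : F, r ^ 2 = 1 ∧ (c : Matrix (Fin 2) (Fin 2) F) = !![r, 0; 0, r] := by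
  rw [Matrix.SpecialLinearGroup.mem_center_iff] at hc
  obtain ⟨r, hr, hrc⟩ := hc
  refine ⟨r, by simpa using hr, ?_⟩
  rw [← hrc]
  ext i j
  fin_cases i <;> fin_cases j <;> simp [Matrix.scalar_apply]

theorem center_mul_self (c : SpecialLinearGroup (Fin 2) F)
    (hc : c ∈ Subgroup.center (SpecialLinearGroup (Fin 2) F)) : c * c = 1 := by
  obtain ⟨r, hr, hrc⟩ := center_scalar c hc
  have hr' : r * r = 1 := by rw [← sq]; exact hr
  apply sl_ext <;> simp [mul_coe, hrc, Matrix.mul_apply, Fin.sum_univ_two, hr']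

theorem ww_sq_mem_center (c : F) (hc : c ≠ 0) :
    ww c hc * ww c hc ∈ Subgroup.center (SpecialLinearGroup (Fin 2) F) := by
  rw [Matrix.SpecialLinearGroup.mem_center_iff]
  refine ⟨-1, by simp, ?_⟩
  ext i j
  fin_cases i <;> fin_cases j <;>
    simp [mul_coe, ww_coe, Matrix.mul_apply, Fin.sum_univ_two, Matrix.scalar_apply, hc]


theorem two_cancel_of_odd_char {R : Type*} [Ring R] {p : ℕ} (hp : Odd p) (hpR : ((p : ℕ) : R) = 0)
    (x : R) (h : 2 * x = 0) : x = 0 := by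
  obtain ⟨k, hk⟩ := hp
  have h1 : ((p : ℕ) : R) * x = 0 := by rw [hpR, zero_mul]
  rw [hk] at h1
  push_cast at h1
  have h3 : (2 * (k : R)) * x = (k : R) * (2 * x) := by
    rw [← mul_assoc, (Nat.cast_commute k (2 : R)).eq]
  rw [add_mul, one_mul, h3, h, mul_zero, zero_add] at h1
  exact h1

theorem conj_sq_zero {Γ : Type*} [Group Γ] {R : Type*} [Ring R] (ρ : Γ →* R) (g y : Γ)
    (h : (ρ y - 1) * (ρ y - 1) = 0) :
    (ρ (g * y * g⁻¹) - 1) * (ρ (g * y * g⁻¹) - 1) = 0 := by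
  have h1 : ρ g⁻¹ * ρ g = 1 := by rw [← map_mul, inv_mul_cancel, map_one]
  have h2 : ρ g * ρ g⁻¹ = 1 := by rw [← map_mul, mul_inv_cancel, map_one]
  have h3 : ρ (g * y * g⁻¹) - 1 = ρ g * (ρ y - 1) * ρ g⁻¹ := by
    rw [map_mul, map_mul, mul_sub, sub_mul, mul_one, h2]
  rw [h3]
  calc ρ g * (ρ y - 1) * ρ g⁻¹ * (ρ g * (ρ y - 1) * ρ g⁻¹)
      = ρ g * (ρ y - 1) * (ρ g⁻¹ * ρ g) * (ρ y - 1) * ρ g⁻¹ := by simp only [mul_assoc]
    _ = ρ g * ((ρ y - 1) * (ρ y - 1)) * ρ g⁻¹ := by rw [h1, mul_one]; simp only [mul_assoc]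
    _ = 0 := by rw [h, mul_zero, zero_mul]

/-- An element of `SL₂(F)` (`F` finite of odd characteristic `p`) acting quadratically in a
representation `ρ` into a ring of characteristic `p` whose kernel is the centre acts trivially. -/
theorem sl2_quad_trivial [Fintype F] {p n : ℕ} [Fact p.Prime] (hF : Fintype.card F = p ^ n)
    (hp : p ≠ 2) {R : Type*} [Ring R] (hpR : ((p : ℕ) : R) = 0)
    (ρ : SpecialLinearGroup (Fin 2) F →* R)
    (hker : ∀ g, ρ g = 1 ↔ g ∈ Subgroup.center (SpecialLinearGroup (Fin 2) F))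
    (x : SpecialLinearGroup (Fin 2) F) (hx : (ρ x - 1) * (ρ x - 1) = 0) : ρ x = 1 := by
  have hpp : p.Prime := Fact.out
  have hodd : Odd p := hpp.odd_of_ne_two hp
  have h2 : ∀ y : R, 2 * y = 0 → y = 0 := two_cancel_of_odd_char hodd hpR
  -- x^p is central
  have hxp : ρ (x ^ p) = 1 := by
    rw [map_pow]
    exact Cfsg.Agent.S0593.pow_p_eq_one_of_sq_zero hpR _ hx
  have hc : x ^ p ∈ Subgroup.center (SpecialLinearGroup (Fin 2) F) := (hker _).1 hxp
  have hcc : x ^ p * x ^ p = 1 := center_mul_self _ hc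
  -- replace x by x' = x * x^p
  obtain ⟨x', hx'⟩ : ∃ x' : SpecialLinearGroup (Fin 2) F, x' = x * x ^ p := ⟨_, rfl⟩
  have hρx' : ρ x' = ρ x := by rw [hx', map_mul, hxp, mul_one]
  have hx'p : x' ^ p = 1 := by
    have hcomm : Commute x (x ^ p) := (Commute.refl x).pow_right p
    rw [hx', hcomm.mul_pow]
    obtain ⟨k, hk⟩ := hodd
    have : x ^ p * (x ^ p) ^ p = (x ^ p * x ^ p) ^ (k + 1) := by
      rw [(Commute.refl (x ^ p)).mul_pow, ← pow_add, ← pow_succ']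
      congr 1
      omega
    rw [this, hcc, one_pow]
  -- conjugate into Uu
  have hpg : IsPGroup p (Subgroup.zpowers x') := by
    rintro ⟨y, hy⟩
    obtain ⟨k, rfl⟩ := Subgroup.mem_zpowers_iff.1 hy
    refine ⟨1, ?_⟩
    apply Subtype.ext
    rw [Subgroup.coe_pow, Subgroup.coe_one, pow_one]
    show (x' ^ k) ^ p = 1
    rw [← zpow_natCast, ← _root_.zpow_mul, mul_comm, _root_.zpow_mul, zpow_natCast, hx'p, _root_.one_zpow]
  obtain ⟨P, hP⟩ := hpg.exists_le_sylow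
  obtain ⟨g, hg⟩ := exists_conj_Uu hF P
  have hmem : g⁻¹ * x' * g ∈ (Uu : Subgroup (SpecialLinearGroup (Fin 2) F)) :=
    (hg x').1 (hP (Subgroup.mem_zpowers x'))
  obtain ⟨t, ht⟩ := hmem
  have hx'q : (ρ x' - 1) * (ρ x' - 1) = 0 := by rw [hρx']; exact hx
  have hA : (ρ (uu t) - 1) * (ρ (uu t) - 1) = 0 := by
    rw [ht]
    have := conj_sq_zero ρ g⁻¹ x' hx'q
    rwa [inv_inv] at this
  rw [← hρx']
  by_cases ht0 : t = 0
  · rw [ht0, uu_zero] at ht
    have : x' = 1 := by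
      have h1 : x' = g * (g⁻¹ * x' * g) * g⁻¹ := by group
      rw [h1, ← ht]; group
    rw [this, map_one]
  exfalso
  -- the braid relation
  have hwa : ww t ht0 * uu t = ll (-t⁻¹) * ww t ht0 := by
    rw [ww_mul_uu]
    congr 2
    field_simp
  have hb : ll (-t⁻¹) = ww t ht0 * uu t * (ww t ht0)⁻¹ := by
    rw [hwa]; group
  have hB : (ρ (ll (-t⁻¹)) - 1) * (ρ (ll (-t⁻¹)) - 1) = 0 := by
    rw [hb]
    exact conj_sq_zero ρ _ _ hA
  have hw1 : ww t ht0 = uu t * ll (-t⁻¹) * uu t := ww_eq t ht0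
  have hw2 : ww t ht0 = ll (-t⁻¹) * uu t * ll (-t⁻¹) := by
    have h1 : uu t * ll (-t⁻¹) * uu t * uu t = ll (-t⁻¹) * (uu t * ll (-t⁻¹) * uu t) := by
      rw [← hw1]; exact hwa
    have h2 : uu t * ll (-t⁻¹) * uu t = ll (-t⁻¹) * uu t * ll (-t⁻¹) := by
      have := congrArg (fun z => z * (uu t)⁻¹) h1
      simp only [mul_assoc, mul_inv_cancel, mul_one] at this
      simp only [mul_assoc]
      exact this
    rw [hw1, h2]
  have hww : ρ (ww t ht0) * ρ (ww t ht0) = 1 := by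
    rw [← map_mul]
    exact (hker _).2 (ww_sq_mem_center t ht0)
  have hbrR : (1 + (ρ (uu t) - 1)) * (1 + (ρ (ll (-t⁻¹)) - 1)) * (1 + (ρ (uu t) - 1)) =
      (1 + (ρ (ll (-t⁻¹)) - 1)) * (1 + (ρ (uu t) - 1)) * (1 + (ρ (ll (-t⁻¹)) - 1)) := by
    rw [add_sub_cancel, add_sub_cancel, ← map_mul, ← map_mul, ← map_mul, ← map_mul, ← hw1, ← hw2]
  have hwR : ((1 + (ρ (uu t) - 1)) * (1 + (ρ (ll (-t⁻¹)) - 1)) * (1 + (ρ (uu t) - 1))) *
      ((1 + (ρ (uu t) - 1)) * (1 + (ρ (ll (-t⁻¹)) - 1)) * (1 + (ρ (uu t) - 1))) = 1 := by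
    rw [add_sub_cancel, add_sub_cancel, ← map_mul, ← map_mul, ← hw1]
    exact hww
  have heq := braid_eq h2 _ _ hA hB hbrR hwR
  have heq' : ρ (uu t) = ρ (ll (-t⁻¹)) := sub_left_injective heq
  have hk : ρ ((uu t)⁻¹ * ll (-t⁻¹)) = 1 := by
    rw [map_mul, ← heq', ← map_mul, inv_mul_cancel, map_one]
  obtain ⟨r, -, hr⟩ := center_scalar _ ((hker _).1 hk)
  have h01 := congrFun (congrFun hr 0) 1
  rw [uu_inv, mul_coe, uu_coe, ll_coe] at h01
  simp [Matrix.mul_apply, Fin.sum_univ_two] at h01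
  exact ht0 h01

end Cfsg.Agent.Lib.helper17.NQ
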