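import Mathlib
import Cfsg.Agent.Lib.helper17.NQx2
import Cfsg.Agent.Lib.Helper5.QuadAbs

set_option autoImplicit false

namespace Cfsg.Agent.Lib.helper17.NQ

open Matrix

section EndHom
variable {Γ : Type*} [Group Γ] {E : Type*} [CommGroup E]

/-- An action by automorphisms on a commutative group, as a monoid hom into the endomorphism
ring of the additive version. -/
def endHom (α : Γ →* MulAut E) : Γ →* AddMonoid.End (Additive E) where
  toFun g := MonoidHom.toAdditive (α g).toMonoidHom
  map_one' := by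
    apply AddMonoidHom.ext
    intro v
    show Additive.ofMul (α 1 v.toMul) = v
    rw [map_one]; rfl
  map_mul' := by
    intro g h
    apply AddMonoidHom.ext
    intro v
    show Additive.ofMul (α (g * h) v.toMul) = Additive.ofMul (α g (α h v.toMul))
    rw [map_mul]; rfl

theorem endHom_apply (α : Γ →* MulAut E) (g : Γ) (v : Additive E) :
    endHom α g v = Additive.ofMul (α g v.toMul) := rfl

theorem endHom_eq_one_iff (α : Γ →* MulAut E) (g : Γ) : endHom α g = 1 ↔ α g = 1 := by
  constructor
  · intro h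
    ext v
    have := congrArg (fun f : AddMonoid.End (Additive E) => (f (Additive.ofMul v)).toMul) h
    exact this
  · intro h
    refine DFunLike.ext _ _ (fun v => ?_)
    rw [endHom_apply, h]; rfl

theorem endHom_sq_zero_iff (α : Γ →* MulAut E) (g : Γ) :
    (endHom α g - 1) * (endHom α g - 1) = 0 ↔ ∀ v : E, α g (α g v / v) = α g v / v := by
  have key : ∀ v : Additive E, ((endHom α g - 1) * (endHom α g - 1)) v =
      Additive.ofMul (α g (α g v.toMul / v.toMul) / (α g v.toMul / v.toMul)) := by
    intro v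
    rfl
  constructor
  · intro h v
    have := key (Additive.ofMul v)
    rw [h] at this
    have h2 : α g (α g v / v) / (α g v / v) = 1 := by
      have h3 := congrArg Additive.toMul this
      exact h3.symm
    exact div_eq_one.1 h2
  · intro h
    refine DFunLike.ext _ _ (fun v => ?_)
    rw [key, h, div_self']
    rfl

theorem endHom_natCast {p : ℕ} (hE : ∀ v : E, v ^ p = 1) :
    ((p : ℕ) : AddMonoid.End (Additive E)) = 0 := by
  refine DFunLike.ext _ _ (fun v => ?_)
  rw [AddMonoid.End.natCast_apply]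
  show Additive.ofMul (v.toMul ^ p) = 0
  rw [hE]; rfl

end EndHom

/-- Abstract form: a faithful action of `PSL₂(F)` (`F` finite of odd characteristic `p`) on an
elementary abelian `p`-group admits no nontrivial quadratically acting element. -/
theorem psl2_quad_trivial {F : Type*} [Field F] [Fintype F] {p n : ℕ} [Fact p.Prime]
    (hF : Fintype.card F = p ^ n) (hp : p ≠ 2) {E : Type*} [CommGroup E]
    (hE : ∀ v : E, v ^ p = 1)
    (α : Matrix.ProjectiveSpecialLinearGroup (Fin 2) F →* MulAut E)
    (hα : Function.Injective α) (x : Matrix.ProjectiveSpecialLinearGroup (Fin 2) F)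
    (hx : ∀ v : E, α x (α x v / v) = α x v / v) : x = 1 := by
  obtain ⟨s, rfl⟩ := QuotientGroup.mk_surjective x
  let σ : SpecialLinearGroup (Fin 2) F →* MulAut E :=
    α.comp (QuotientGroup.mk' (Subgroup.center (SpecialLinearGroup (Fin 2) F)))
  have hσ : ∀ g, σ g = α (QuotientGroup.mk g) := fun g => rfl
  have hker : ∀ g, endHom σ g = 1 ↔ g ∈ Subgroup.center (SpecialLinearGroup (Fin 2) F) := by
    intro g
    rw [endHom_eq_one_iff, hσ, ← map_one α, hα.eq_iff, QuotientGroup.eq_one_iff]
  have h1 : (endHom σ s - 1) * (endHom σ s - 1) = 0 := by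
    rw [endHom_sq_zero_iff]
    exact hx
  have h2 := sl2_quad_trivial hF hp (endHom_natCast hE) (endHom σ) hker s h1
  exact (QuotientGroup.eq_one_iff s).2 ((hker s).1 h2)


theorem pCore_eq_bot_of_simple {Γ : Type*} [Group Γ] [Finite Γ] {p : ℕ} [Fact p.Prime]
    (hs : IsSimpleGroup Γ) (hna : ¬ IsMulCommutative Γ) : Cfsg.pCore p Γ = ⊥ := by
  unfold Cfsg.pCore
  rw [sSup_eq_bot]
  rintro N ⟨hN, hNp⟩
  rcases hN.eq_bot_or_eq_top with h | h
  · exact h
  · exfalso
    apply hna
    have hΓ : IsPGroup p Γ := by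
      intro g
      obtain ⟨k, hk⟩ := hNp ⟨g, by rw [h]; exact Subgroup.mem_top g⟩
      exact ⟨k, congrArg Subtype.val hk⟩
    haveI : Nontrivial Γ := hs.toNontrivial
    have hc := hΓ.center_nontrivial
    have hcn : (Subgroup.center Γ) ≠ ⊥ := by
      intro hb
      rw [hb] at hc
      exact not_nontrivial _ hc
    have hct : Subgroup.center Γ = ⊤ :=
      ((inferInstance : (Subgroup.center Γ).Normal).eq_bot_or_eq_top).resolve_left hcn
    refine ⟨⟨fun a b => ?_⟩⟩
    have : a ∈ Subgroup.center Γ := by rw [hct]; exact Subgroup.mem_top a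
    exact ((Subgroup.mem_center_iff.1 this) b).symm

/-- Abstract form: a faithful action of a nonabelian simple group with Sylow 2-subgroups of
exponent 2 on an elementary abelian `p`-group, `p` odd, admits no nontrivial quadratic element. -/
theorem simple_quad_trivial {Γ : Type*} [Group Γ] [Finite Γ] {p : ℕ} [Fact p.Prime] (hp : p ≠ 2)
    (hs : IsSimpleGroup Γ) (hna : ¬ IsMulCommutative Γ)
    (hS2 : ∀ S : Sylow 2 Γ, ∀ x ∈ S, x * x = 1) {E : Type*} [CommGroup E] [Finite E]
    (hE : ∀ v : E, v ^ p = 1) (α : Γ →* MulAut E) (hα : Function.Injective α) (x : Γ)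
    (hx : ∀ v : E, α x (α x v / v) = α x v / v) : x = 1 := by
  by_contra hx1
  letI : Module (ZMod p) (Additive E) := AddCommGroup.zmodModule (n := p) (by
    intro v
    show Additive.ofMul (v.toMul ^ p) = 0
    rw [hE]; rfl)
  have hxO : x ∉ Cfsg.pCore p Γ := by
    rw [pCore_eq_bot_of_simple hs hna, Subgroup.mem_bot]
    exact hx1
  have hT := Cfsg.Agent.Lib.Helper5.abs595 hp α hα x hx hxO default
  apply hT
  refine ⟨⟨fun a b => ?_⟩⟩
  have ha := hS2 default a.1 a.2
  have hb := hS2 default b.1 b.2
  have hab := hS2 default (a * b).1 (a * b).2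
  apply Subtype.ext
  rw [Subgroup.coe_mul] at hab ⊢
  rw [Subgroup.coe_mul]
  have h1 : (a : Γ)⁻¹ = a := inv_eq_of_mul_eq_one_left ha
  have h2 : (b : Γ)⁻¹ = b := inv_eq_of_mul_eq_one_left hb
  have h3 : ((a : Γ) * b)⁻¹ = a * b := inv_eq_of_mul_eq_one_left hab
  rw [← h3, _root_.mul_inv_rev, h1, h2]

end Cfsg.Agent.Lib.helper17.NQ
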