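import Mathlib
import Cfsg.Agent.Lib.helper17.NQx3
import Cfsg.Agent.S1073
import Cfsg.Agent.S1114

set_option autoImplicit false

namespace Cfsg.Agent.Lib.helper17.NQ

open Cfsg
open scoped commutatorElement

universe u

/-- The faithful quotient action of `H / C_H(V)` on `V`, packaged abstractly. -/
theorem exists_faithful_quot {G : Type u} [Group G] [Finite G] {p : ℕ} (V H : Subgroup G)
    (hV : Cfsg.IsElementaryAbelian p V) (hHV : H ≤ Subgroup.normalizer (V : Set G))
    [hn : ((Subgroup.centralizer (V : Set G)).subgroupOf H).Normal] :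
    ∃ (E : Type u) (_ : CommGroup E) (_ : Finite E)
      (β : ↥H ⧸ (Subgroup.centralizer (V : Set G)).subgroupOf H →* MulAut E),
      (∀ v : E, v ^ p = 1) ∧ Function.Injective β ∧
      (∀ (a : G) (ha : a ∈ H), ⁅⁅V, Subgroup.zpowers a⁆, Subgroup.zpowers a⁆ = ⊥ →
        ∀ v : E, β (QuotientGroup.mk ⟨a, ha⟩) (β (QuotientGroup.mk ⟨a, ha⟩) v / v) =
          β (QuotientGroup.mk ⟨a, ha⟩) v / v) := by
  obtain ⟨hVc, hVp⟩ := hV
  letI : CommGroup ↥V := { (inferInstance : Group ↥V) with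
    mul_comm := fun u v => hVc.is_comm.comm u v }
  have hE : ∀ v : V, v ^ p = 1 := by
    intro v
    apply Subtype.ext
    rw [Subgroup.coe_pow, Subgroup.coe_one]
    exact hVp v v.2
  have hker : ∀ g : ↥H, Cfsg.Agent.S0593.conjAut V H hHV g = 1 ↔
      g ∈ (Subgroup.centralizer (V : Set G)).subgroupOf H := by
    intro g
    rw [Subgroup.mem_subgroupOf, Subgroup.mem_centralizer_iff]
    constructor
    · intro hg v hv
      have h1 := congrArg (fun f : MulAut ↥V => ((f ⟨v, hv⟩ : V) : G)) hg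
      simp only [Cfsg.Agent.S0593.conjAut_apply, MulAut.one_apply] at h1
      calc v * (g : G) = ((g : G) * v * (g : G)⁻¹) * (g : G) := by rw [h1]
        _ = (g : G) * v := by group
    · intro hg
      ext v
      rw [Cfsg.Agent.S0593.conjAut_apply, MulAut.one_apply, ← hg v v.2]
      group
  have hle : (Subgroup.centralizer (V : Set G)).subgroupOf H ≤
      (Cfsg.Agent.S0593.conjAut V H hHV).ker := by
    intro g hg
    rw [MonoidHom.mem_ker]
    exact (hker g).2 hg
  refine ⟨↥V, inferInstance, inferInstance,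
    QuotientGroup.lift _ (Cfsg.Agent.S0593.conjAut V H hHV) hle, hE, ?_, ?_⟩
  · rw [injective_iff_map_eq_one]
    intro x hx
    obtain ⟨g, rfl⟩ := QuotientGroup.mk_surjective x
    rw [QuotientGroup.lift_mk] at hx
    exact (QuotientGroup.eq_one_iff g).2 ((hker g).1 hx)
  · intro c hc hq v
    rw [QuotientGroup.lift_mk]
    rw [Cfsg.Agent.S0623.quad_iff] at hq
    have h1 := hq v v.2 1
    rw [zpow_one] at h1
    apply Subtype.ext
    rw [Cfsg.Agent.S0593.conjAut_apply, Subgroup.coe_div, Cfsg.Agent.S0593.conjAut_apply]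
    show c * (c * v * c⁻¹ / v) * c⁻¹ = c * v * c⁻¹ / v
    have h2 : c * (v : G) * c⁻¹ / v = ⁅(v : G), c⁆⁻¹ := by
      rw [commutatorElement_def, div_eq_mul_inv]; group
    rw [h2]
    have h3 : Commute (⁅(v : G), c⁆⁻¹) c := h1.inv_left
    rw [← h3.eq]
    group


theorem ree_exists_involution {K : Type*} [Field K] [Fintype K] {m : ℕ}
    (hK : Fintype.card K = 3 ^ (2 * m + 1)) :
    ∃ a : ↥(Cfsg.Lie.twistedG2 K (3 ^ m)),
      (a : GL Cfsg.Lie.chevG2.Idx K) ∈ Cfsg.Lie.chevG2.diagonalSubgroup K ∧ a ≠ 1 ∧ a * a = 1 := by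
  have hcard := Cfsg.Agent.S1114.result (m := m) hK
  have h2 : 2 ∣ Nat.card ↥(Cfsg.Lie.chevG2.diagonalSubgroup K ⊓ Cfsg.Lie.twistedG2 K (3 ^ m)) := by
    rw [hcard]
    have hodd : Odd (3 ^ (2 * m + 1)) := Odd.pow (by decide)
    obtain ⟨k, hk⟩ := hodd
    exact ⟨k, by omega⟩
  haveI : Fact (Nat.Prime 2) := ⟨Nat.prime_two⟩
  obtain ⟨x, hx⟩ := exists_prime_orderOf_dvd_card' 2 h2
  refine ⟨⟨x.1, x.2.2⟩, x.2.1, ?_, ?_⟩
  · intro h
    have hx1 : x = 1 := by
      apply Subtype.ext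
      have h' := congrArg (fun a : ↥(Cfsg.Lie.twistedG2 K (3 ^ m)) => (a : GL Cfsg.Lie.chevG2.Idx K)) h
      exact h'
    rw [hx1, orderOf_one] at hx
    omega
  · have h3 : x ^ 2 = 1 := by rw [← hx]; exact pow_orderOf_eq_one x
    apply Subtype.ext
    have h4 := congrArg Subtype.val h3
    rw [sq] at h4
    exact h4

end Cfsg.Agent.Lib.helper17.NQ
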