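import Mathlib
import Cfsg.Agent.Lib.helper17.NR1

set_option autoImplicit false

/-! Transport of maps of a fusion system along a map of the system. -/

namespace Cfsg.Agent.Lib.helper17.NR2

open Cfsg Cfsg.FusionSystem Cfsg.Agent.Lib.Helper26 Subgroup

universe u

variable {Ω : Type u} [Group Ω] {S : Subgroup Ω}

/-- forward transport: `φ ψ φ⁻¹` on `φ(X)` -/
theorem transport (F : FusionSystem S) {N₀ : Subgroup Ω} {φ : N₀ →* Ω} (hφ : φ ∈ F.Hom N₀)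
    {X : Subgroup Ω} (hX : X ≤ N₀) {Y : Subgroup Ω}
    (hY : (φ.comp (Subgroup.inclusion hX)).range = Y)
    {ψ : X →* Ω} (hψ : ψ ∈ F.Hom X) (hψN : ∀ x : X, ψ x ∈ N₀) :
    ∃ ψ' ∈ F.Hom Y, ∀ (x : X) (h : φ ⟨x, hX x.2⟩ ∈ Y), ψ' ⟨φ ⟨x, hX x.2⟩, h⟩ = φ ⟨ψ x, hψN x⟩ := by
  have hφX : φ.comp (Subgroup.inclusion hX) ∈ F.Hom X := restrict_mem F hφ hX
  obtain ⟨χ, hχ, hχr, hχ1, -⟩ := exists_inv F hφX hY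
  have hχX : ∀ y : Y, χ y ∈ X := fun y => hχr.le ⟨y, rfl⟩
  have h1 := F.comp_mem hχ hψ hχX
  have h2 : ∀ y : Y, (ψ.comp (χ.codRestrict X hχX)) y ∈ N₀ := fun y => hψN _
  have h3 := F.comp_mem h1 hφ h2
  refine ⟨_, h3, fun x h => ?_⟩
  show φ ⟨ψ ⟨χ ⟨φ ⟨x, hX x.2⟩, h⟩, _⟩, _⟩ = φ ⟨ψ x, hψN x⟩
  have h4 : χ ⟨φ ⟨x, hX x.2⟩, h⟩ = x := hχ1 x h
  congr 1
  apply Subtype.ext
  show ψ ⟨χ ⟨φ ⟨x, hX x.2⟩, h⟩, _⟩ = ψ x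
  congr 1
  exact Subtype.ext h4

/-- backward transport: `φ⁻¹ ψ' φ` on `X` -/
theorem transport_inv (F : FusionSystem S) {N₀ : Subgroup Ω} {φ : N₀ →* Ω} (hφ : φ ∈ F.Hom N₀)
    {X : Subgroup Ω} (hX : X ≤ N₀) {Y : Subgroup Ω}
    (hY : ∀ x : X, φ ⟨x, hX x.2⟩ ∈ Y)
    {ψ' : Y →* Ω} (hψ' : ψ' ∈ F.Hom Y) (hr : ∀ y : Y, ψ' y ∈ φ.range) :
    ∃ ψ ∈ F.Hom X, ∃ hψN : ∀ x : X, ψ x ∈ N₀,
      ∀ x : X, φ ⟨ψ x, hψN x⟩ = ψ' ⟨φ ⟨x, hX x.2⟩, hY x⟩ := by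
  have hφX : φ.comp (Subgroup.inclusion hX) ∈ F.Hom X := restrict_mem F hφ hX
  obtain ⟨χ, hχ, hχr, -, hχ2⟩ := exists_inv F hφ rfl
  have hχN : ∀ y : φ.range, χ y ∈ N₀ := fun y => hχr.le ⟨y, rfl⟩
  have h1 := F.comp_mem hφX hψ' hY
  have h2 : ∀ x : X, (ψ'.comp ((φ.comp (Subgroup.inclusion hX)).codRestrict Y hY)) x ∈ φ.range :=
    fun x => hr _
  have h3 := F.comp_mem h1 hχ h2
  refine ⟨_, h3, fun x => hχN _, fun x => ?_⟩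
  exact hχ2 _ _

end Cfsg.Agent.Lib.helper17.NR2
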