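import Mathlib
import Cfsg.Agent.Lib.helper17.NR2

set_option autoImplicit false

/-! The normalizer of the image of `Q` inside a model of `N_F(R)` realizes `N_F(Q)`. -/

namespace Cfsg.Agent.Lib.helper17.NR3

open Cfsg Cfsg.FusionSystem Cfsg.Agent.Lib.Helper26 Subgroup

universe u

variable {Ω : Type u} [Group Ω] {S : Subgroup Ω}

section

variable (F : FusionSystem S) {Q R₀ R : Subgroup Ω} (hQS : Q ≤ S) (hRS : R ≤ S)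
  (hQR₀ : Q ≤ R₀) (hR₀T : R₀ ≤ normalizerIn S Q)
  (hR₀n : (normalizerSystem F Q hQS).IsNormal R₀)
  {N₀ : Subgroup Ω} (hTN₀ : normalizerIn S Q ≤ N₀)
  {φ : N₀ →* Ω} (hφ : φ ∈ F.Hom N₀) (hφT' : ∀ x, φ x ∈ normalizerIn S R)
  (hφR : (R₀.subgroupOf N₀).map φ = R)
  {L' : Type*} [Group L'] (ι' : ↥(normalizerIn S R) →* L')
  (hreal' : (normalizerSystem F R hRS).IsRealizedBy ι')
  (hRn : (imSub ι' R).Normal)

/-- the composite `N₀ → N_S(R) → L'` -/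
def kmap : ↥N₀ →* L' := ι'.comp (φ.codRestrict _ hφT')

omit hφ in
theorem kmap_apply (n : ↥N₀) : kmap hφT' ι' n = ι' ⟨φ n, hφT' n⟩ := rfl

include hφ hreal' in
theorem kmap_injective : Function.Injective (kmap hφT' ι') := by
  intro a b hab
  have h1 := hreal'.1 hab
  exact F.injective_of_mem hφ (congrArg Subtype.val h1)

include hQR₀ hR₀n hφ hφR hreal' in
/-- forward direction of the realization -/
theorem realize_forward {P : Subgroup Ω} {ψ : P →* Ω}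
    (hψ : ψ ∈ (normalizerSystem F Q hQS).Hom P) :
    ∃ h ∈ normalizer (((Q.subgroupOf N₀).map (kmap hφT' ι') : Subgroup L') : Set L'),
      ∀ x : P, kmap hφT' ι' ⟨ψ x, hTN₀ (((normalizerSystem F Q hQS).le_of_mem hψ).2 x)⟩ =
        h * kmap hφT' ι' ⟨x, hTN₀ (((normalizerSystem F Q hQS).le_of_mem hψ).1 x.2)⟩ * h⁻¹ := by
  have hPT : P ≤ normalizerIn S Q := ((normalizerSystem F Q hQS).le_of_mem hψ).1
  obtain ⟨ψ₁, hψ₁, hψ₁P, hψ₁R⟩ := hR₀n.2 P ψ hψ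
  obtain ⟨hψ₁F, hXT, hψ₁T, ψ₂, hψ₂, hψ₂ext, hψ₂Q⟩ := hψ₁
  have hQX : Q ≤ P ⊔ R₀ := hQR₀.trans le_sup_right
  have hψ₁inj : Function.Injective ψ₁ := F.injective_of_mem hψ₁F
  -- `ψ₁` preserves `Q`
  have hψ₁Q : ∀ q : Q, ψ₁ ⟨q, hQX q.2⟩ ∈ Q := by
    intro q
    have h1 := hψ₂ext ⟨q, hQX q.2⟩
    have h2 : Subgroup.inclusion (le_sup_left : P ⊔ R₀ ≤ (P ⊔ R₀) ⊔ Q) ⟨q, hQX q.2⟩ =
        Subgroup.inclusion le_sup_right q := Subtype.ext rfl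
    rw [h2] at h1
    rw [← h1]
    exact hψ₂Q.le ((map_subgroupOf_sup_eq ψ₂).mpr ⟨q, rfl⟩)
  have hψ₁Qs : ∀ y ∈ Q, ∃ q : Q, ψ₁ ⟨q, hQX q.2⟩ = y := by
    intro y hy
    obtain ⟨q, hq⟩ := (map_subgroupOf_sup_eq ψ₂).mp (hψ₂Q.ge hy)
    refine ⟨q, ?_⟩
    have h1 := hψ₂ext ⟨q, hQX q.2⟩
    have h2 : Subgroup.inclusion (le_sup_left : P ⊔ R₀ ≤ (P ⊔ R₀) ⊔ Q) ⟨q, hQX q.2⟩ =
        Subgroup.inclusion le_sup_right q := Subtype.ext rfl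
    rw [h2] at h1
    rw [← h1, hq]
  have hψ₁R₀ : ∀ r : R₀, ψ₁ (Subgroup.inclusion le_sup_right r) ∈ R₀ := fun r =>
    hψ₁R.le ((map_subgroupOf_sup_eq ψ₁).mpr ⟨r, rfl⟩)
  have hψ₁R₀s : ∀ y ∈ R₀, ∃ r : R₀, ψ₁ (Subgroup.inclusion le_sup_right r) = y := fun y hy =>
    (map_subgroupOf_sup_eq ψ₁).mp (hψ₁R.ge hy)
  -- transport
  have hXN₀ : P ⊔ R₀ ≤ N₀ := hXT.trans hTN₀
  obtain ⟨Y, hY⟩ : ∃ Y : Subgroup Ω, (φ.comp (Subgroup.inclusion hXN₀)).range = Y := ⟨_, rfl⟩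
  have hmemY : ∀ x : ↥(P ⊔ R₀), φ ⟨x, hXN₀ x.2⟩ ∈ Y := fun x => hY ▸ ⟨x, rfl⟩
  obtain ⟨ψ', hψ', hψ'φ⟩ := NR2.transport F hφ hXN₀ hY hψ₁F (fun x => hTN₀ (hψ₁T x))
  have hYT' : Y ≤ normalizerIn S R := by
    rw [← hY]
    rintro _ ⟨x, rfl⟩
    exact hφT' _
  have hRY : R ≤ Y := by
    intro r hr
    rw [← hφR] at hr
    obtain ⟨n, hn, rfl⟩ := hr
    have hnR₀ : (n : Ω) ∈ R₀ := mem_subgroupOf.mp hn
    exact hmemY ⟨n, le_sup_right (a := P) hnR₀⟩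
  have hψ'T' : ∀ y : Y, ψ' y ∈ normalizerIn S R := by
    intro y
    obtain ⟨y, hy⟩ := y
    have hy' := hy
    rw [← hY] at hy'
    obtain ⟨x, rfl⟩ := hy'
    have := hψ'φ x hy
    exact this ▸ hφT' _
  have hle : Y ⊔ R ≤ Y := sup_le le_rfl hRY
  have hψ'E : ψ' ∈ (normalizerSystem F R hRS).Hom Y := by
    refine ⟨hψ', hYT', hψ'T', ψ'.comp (Subgroup.inclusion hle), restrict_mem F hψ' hle,
      fun x => rfl, ?_⟩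
    ext z
    rw [map_subgroupOf_sup_eq]
    constructor
    · rintro ⟨r, rfl⟩
      obtain ⟨n, hn, hnr⟩ := hφR.ge r.2
      have hnR₀ : (n : Ω) ∈ R₀ := mem_subgroupOf.mp hn
      have h1 := hψ'φ ⟨n, le_sup_right (a := P) hnR₀⟩ (hmemY ⟨n, le_sup_right (a := P) hnR₀⟩)
      have h2 : (ψ'.comp (Subgroup.inclusion hle)) (Subgroup.inclusion le_sup_right r) =
          ψ' ⟨φ ⟨(n : Ω), hXN₀ (le_sup_right (a := P) hnR₀)⟩,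
            hmemY ⟨n, le_sup_right (a := P) hnR₀⟩⟩ := by
        show ψ' _ = ψ' _
        congr 1
        exact Subtype.ext hnr.symm
      rw [h2, h1, ← hφR]
      exact ⟨_, mem_subgroupOf.mpr (hψ₁R₀ ⟨n, hnR₀⟩), rfl⟩
    · intro hz
      rw [← hφR] at hz
      obtain ⟨n, hn, rfl⟩ := hz
      have hnR₀ : (n : Ω) ∈ R₀ := mem_subgroupOf.mp hn
      obtain ⟨r₀, hr₀⟩ := hψ₁R₀s _ hnR₀
      obtain ⟨x₀, hx₀⟩ : ∃ x₀ : ↥(P ⊔ R₀), x₀ = Subgroup.inclusion le_sup_right r₀ := ⟨_, rfl⟩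
      have hr₀R : φ ⟨x₀, hXN₀ x₀.2⟩ ∈ R := by
        rw [← hφR]
        refine ⟨_, mem_subgroupOf.mpr ?_, rfl⟩
        show (x₀ : Ω) ∈ R₀
        rw [hx₀]; exact r₀.2
      refine ⟨⟨_, hr₀R⟩, ?_⟩
      have h1 := hψ'φ x₀ (hmemY x₀)
      show ψ' _ = _
      have h2 : (Subgroup.inclusion hle (Subgroup.inclusion le_sup_right
          (⟨φ ⟨x₀, hXN₀ x₀.2⟩, hr₀R⟩ : R))) =
          ⟨φ ⟨x₀, hXN₀ x₀.2⟩, hmemY x₀⟩ := Subtype.ext rfl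
      rw [h2, h1]
      congr 1
      apply Subtype.ext
      show ψ₁ x₀ = n
      rw [hx₀]; exact hr₀
  obtain ⟨h, hh⟩ := exists_of_mem_hom _ hreal' hψ'E
  -- the formula on `X`
  have hform : ∀ x : ↥(P ⊔ R₀), kmap hφT' ι' ⟨ψ₁ x, hTN₀ (hψ₁T x)⟩ =
      h * kmap hφT' ι' ⟨x, hXN₀ x.2⟩ * h⁻¹ := by
    intro x
    have h1 := hh ⟨φ ⟨x, hXN₀ x.2⟩, hmemY x⟩
    rw [kmap_apply, kmap_apply, ← h1]
    congr 1
    exact Subtype.ext (hψ'φ x (hmemY x)).symm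
  refine ⟨h, ?_, fun x => ?_⟩
  · apply mem_normalizer_of_forall
    · rintro _ ⟨n, hn, rfl⟩
      have hnQ : (n : Ω) ∈ Q := mem_subgroupOf.mp hn
      have h1 := hform ⟨n, hQX hnQ⟩
      rw [← h1]
      exact ⟨_, mem_subgroupOf.mpr (hψ₁Q ⟨n, hnQ⟩), rfl⟩
    · rintro _ ⟨n, hn, rfl⟩
      have hnQ : (n : Ω) ∈ Q := mem_subgroupOf.mp hn
      obtain ⟨q₀, hq₀⟩ := hψ₁Qs _ hnQ
      have h1 := hform ⟨q₀, hQX q₀.2⟩
      have h2 : (⟨ψ₁ ⟨q₀, hQX q₀.2⟩, hTN₀ (hψ₁T _)⟩ : ↥N₀) = n := Subtype.ext hq₀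
      rw [h2] at h1
      rw [h1]
      refine ⟨⟨q₀, hXN₀ (hQX q₀.2)⟩, mem_subgroupOf.mpr q₀.2, ?_⟩
      group
  · have h1 := hform (Subgroup.inclusion le_sup_left x)
    have h3 : kmap hφT' ι' ⟨ψ x, hTN₀ (((normalizerSystem F Q hQS).le_of_mem hψ).2 x)⟩ =
        kmap hφT' ι' ⟨ψ₁ (Subgroup.inclusion le_sup_left x), hTN₀ (hψ₁T _)⟩ := by
      congr 1
      exact Subtype.ext (hψ₁P x).symm
    exact h3.trans h1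

include hQR₀ hR₀T hφ hφR hreal' hRn in
/-- backward direction of the realization -/
theorem realize_backward {P : Subgroup Ω} (hPT : P ≤ normalizerIn S Q) {ψ : P →* Ω}
    (hψT : ∀ x, ψ x ∈ normalizerIn S Q) {h : L'}
    (hh : h ∈ normalizer (((Q.subgroupOf N₀).map (kmap hφT' ι') : Subgroup L') : Set L'))
    (hform : ∀ x : P, kmap hφT' ι' ⟨ψ x, hTN₀ (hψT x)⟩ =
      h * kmap hφT' ι' ⟨x, hTN₀ (hPT x.2)⟩ * h⁻¹) :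
    ψ ∈ (normalizerSystem F Q hQS).Hom P := by
  have hkinj := kmap_injective F hRS hφ hφT' ι' hreal'
  have hφinj : Function.Injective φ := F.injective_of_mem hφ
  have hXT : P ⊔ R₀ ≤ normalizerIn S Q := sup_le hPT hR₀T
  have hXN₀ : P ⊔ R₀ ≤ N₀ := hXT.trans hTN₀
  have hQX : Q ≤ P ⊔ R₀ := hQR₀.trans le_sup_right
  obtain ⟨Y, hY⟩ : ∃ Y : Subgroup Ω, (φ.comp (Subgroup.inclusion hXN₀)).range = Y := ⟨_, rfl⟩
  have hmemY : ∀ x : ↥(P ⊔ R₀), φ ⟨x, hXN₀ x.2⟩ ∈ Y := fun x => hY ▸ ⟨x, rfl⟩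
  have hYT' : Y ≤ normalizerIn S R := by
    rw [← hY]
    rintro _ ⟨x, rfl⟩
    exact hφT' _
  -- `k` of `R₀` lies in the image of `R`
  have hkR₀ : ∀ n : ↥N₀, (n : Ω) ∈ R₀ → kmap hφT' ι' n ∈ imSub ι' R := by
    intro n hn
    rw [kmap_apply]
    refine apply_mem_imSub ι' _ ?_
    rw [← hφR]
    exact ⟨n, mem_subgroupOf.mpr hn, rfl⟩
  -- conjugation by `h` keeps the image of `X` inside the image of `ι'`
  have hconjX : ∀ x : ↥(P ⊔ R₀), h * kmap hφT' ι' ⟨x, hXN₀ x.2⟩ * h⁻¹ ∈ ι'.range := by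
    intro x
    have key := forall_mem_of_sup (P := P) (Q := R₀)
      ((ι'.range).comap ((MulAut.conj h).toMonoidHom.comp
        ((kmap hφT' ι').comp (Subgroup.inclusion hXN₀)))) (fun a => ?_) (fun r => ?_) x
    · exact key
    · show h * kmap hφT' ι' ⟨a, _⟩ * h⁻¹ ∈ ι'.range
      rw [← hform a]
      exact ⟨_, rfl⟩
    · show h * kmap hφT' ι' ⟨r, _⟩ * h⁻¹ ∈ ι'.range
      exact imSub_le_range ι' R (hRn.conj_mem _ (hkR₀ _ r.2) h)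
  have hmem : ∀ y : Y, h * ι' ⟨y, hYT' y.2⟩ * h⁻¹ ∈ ι'.range := by
    rintro ⟨y, hy⟩
    have hy' := hy
    rw [← hY] at hy'
    obtain ⟨x, rfl⟩ := hy'
    exact hconjX x
  obtain ⟨ψ', hψ'def⟩ : ∃ ψ' : Y →* Ω, ψ' = pullHom hreal'.1 Y hYT' h hmem := ⟨_, rfl⟩
  have hψ'E : ψ' ∈ (normalizerSystem F R hRS).Hom Y :=
    hψ'def ▸ pullHom_mem_hom _ hreal' Y hYT' h hmem
  have hψ'F : ψ' ∈ F.Hom Y := hψ'E.1
  have hψ'T' : ∀ y : Y, ψ' y ∈ normalizerIn S R := fun y => hψ'E.2.2.1 y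
  have hψ'ap : ∀ y : Y, ι' ⟨ψ' y, hψ'T' y⟩ = h * ι' ⟨y, hYT' y.2⟩ * h⁻¹ := by
    intro y
    have := apply_pullHom hreal'.1 Y hYT' h hmem y
    rw [← this]
    congr 1
    exact Subtype.ext (DFunLike.congr_fun hψ'def y)
  -- on `P`
  have hψ'P : ∀ x : P, ψ' ⟨φ ⟨x, hTN₀ (hPT x.2)⟩, hmemY (Subgroup.inclusion le_sup_left x)⟩ =
      φ ⟨ψ x, hTN₀ (hψT x)⟩ := by
    intro x
    have h1 := hψ'ap ⟨φ ⟨x, hTN₀ (hPT x.2)⟩, hmemY (Subgroup.inclusion le_sup_left x)⟩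
    have h2 := hform x
    rw [kmap_apply, kmap_apply] at h2
    have h3 : ι' ⟨ψ' ⟨φ ⟨x, hTN₀ (hPT x.2)⟩, hmemY (Subgroup.inclusion le_sup_left x)⟩, hψ'T' _⟩ =
        ι' ⟨φ ⟨ψ x, hTN₀ (hψT x)⟩, hφT' _⟩ := h1.trans h2.symm
    exact congrArg (fun s : ↥(normalizerIn S R) => (s : Ω)) (hreal'.1 h3)
  -- on `R₀`
  have hψ'R₀ : ∀ r : R₀, ψ' ⟨φ ⟨r, hTN₀ (hR₀T r.2)⟩, hmemY (Subgroup.inclusion le_sup_right r)⟩ ∈ R := by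
    intro r
    have h1 := hψ'ap ⟨φ ⟨r, hTN₀ (hR₀T r.2)⟩, hmemY (Subgroup.inclusion le_sup_right r)⟩
    have h2 : h * ι' ⟨φ ⟨r, hTN₀ (hR₀T r.2)⟩, hφT' _⟩ * h⁻¹ ∈ imSub ι' R :=
      hRn.conj_mem _ (hkR₀ ⟨r, hTN₀ (hR₀T r.2)⟩ r.2) h
    rw [← h1] at h2
    obtain ⟨z, hzT', hzR, hze⟩ := mem_imSub_iff.mp h2
    have h3 := congrArg (fun s : ↥(normalizerIn S R) => (s : Ω)) (hreal'.1 hze)
    simp only at h3
    rw [← h3]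
    exact hzR
  -- values of `ψ'` lie in the range of `φ`
  have hr : ∀ y : Y, ψ' y ∈ φ.range := by
    rintro ⟨y, hy⟩
    have hy' := hy
    rw [← hY] at hy'
    obtain ⟨x, rfl⟩ := hy'
    have key := forall_mem_of_sup (P := P) (Q := R₀)
      ((φ.range).comap (ψ'.comp ((φ.comp (Subgroup.inclusion hXN₀)).codRestrict Y
        (fun x => hmemY x)))) (fun a => ?_) (fun r => ?_) x
    · exact key
    · show ψ' ⟨φ ⟨a, _⟩, _⟩ ∈ φ.range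
      rw [hψ'P a]
      exact ⟨_, rfl⟩
    · show ψ' ⟨φ ⟨r, _⟩, _⟩ ∈ φ.range
      have h1 := hψ'R₀ r
      rw [← hφR] at h1
      obtain ⟨n, -, hn⟩ := h1
      exact ⟨n, hn⟩
  obtain ⟨ψ₁, hψ₁, hψ₁N, hψ₁φ⟩ := NR2.transport_inv F hφ hXN₀ hmemY hψ'F hr
  -- `ψ₁` restricts to `ψ`
  have hψ₁P : ∀ x : P, ψ₁ (Subgroup.inclusion le_sup_left x) = ψ x := by
    intro x
    have h1 := hψ₁φ (Subgroup.inclusion le_sup_left x)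
    have h2 := hψ'P x
    have h3 : φ ⟨ψ₁ (Subgroup.inclusion le_sup_left x), hψ₁N _⟩ = φ ⟨ψ x, hTN₀ (hψT x)⟩ :=
      h1.trans h2
    exact congrArg (fun s : ↥N₀ => (s : Ω)) (hφinj h3)
  -- `k ∘ ψ₁ = conj h ∘ k`
  have hψ₁k : ∀ x : ↥(P ⊔ R₀), kmap hφT' ι' ⟨ψ₁ x, hψ₁N x⟩ =
      h * kmap hφT' ι' ⟨x, hXN₀ x.2⟩ * h⁻¹ := by
    intro x
    have h1 := hψ'ap ⟨φ ⟨x, hXN₀ x.2⟩, hmemY x⟩
    rw [kmap_apply, kmap_apply, ← h1]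
    congr 1
    exact Subtype.ext (hψ₁φ x)
  -- `ψ₁` preserves `Q`
  have hQk : ∀ n : ↥N₀, kmap hφT' ι' n ∈ (Q.subgroupOf N₀).map (kmap hφT' ι') → (n : Ω) ∈ Q := by
    intro n hn
    obtain ⟨m, hm, hmn⟩ := hn
    have : m = n := hkinj hmn
    exact this ▸ mem_subgroupOf.mp hm
  have hψ₁Q : ∀ q : Q, ψ₁ ⟨q, hQX q.2⟩ ∈ Q := by
    intro q
    have h1 := hψ₁k ⟨q, hQX q.2⟩
    have h2 : h * kmap hφT' ι' ⟨q, hXN₀ (hQX q.2)⟩ * h⁻¹ ∈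
        (Q.subgroupOf N₀).map (kmap hφT' ι') :=
      (mem_normalizer_iff.mp hh _).mp ⟨_, mem_subgroupOf.mpr q.2, rfl⟩
    rw [← h1] at h2
    exact hQk _ h2
  have hψ₁Qs : ∀ y ∈ Q, ∃ q : Q, ψ₁ ⟨q, hQX q.2⟩ = y := by
    intro y hy
    have hyN₀ : y ∈ N₀ := hXN₀ (hQX hy)
    have h2 : h⁻¹ * kmap hφT' ι' ⟨y, hyN₀⟩ * h ∈ (Q.subgroupOf N₀).map (kmap hφT' ι') :=
      (mem_normalizer_iff''.mp hh _).mp ⟨_, mem_subgroupOf.mpr hy, rfl⟩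
    obtain ⟨m, hm, hme⟩ := h2
    have hmQ : (m : Ω) ∈ Q := mem_subgroupOf.mp hm
    refine ⟨⟨m, hmQ⟩, ?_⟩
    have h1 := hψ₁k ⟨m, hQX hmQ⟩
    have h3 : kmap hφT' ι' ⟨ψ₁ ⟨m, hQX hmQ⟩, hψ₁N _⟩ = kmap hφT' ι' ⟨y, hyN₀⟩ := by
      rw [h1]
      have h4 : (⟨((⟨(m : Ω), hQX hmQ⟩ : ↥(P ⊔ R₀)) : Ω), hXN₀ (hQX hmQ)⟩ : ↥N₀) = m :=
        Subtype.ext rfl
      rw [h4, hme]
      group
    exact congrArg (fun s : ↥N₀ => (s : Ω)) (hkinj h3)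
  -- conclusion
  have hle : P ⊔ Q ≤ P ⊔ R₀ := sup_le_sup_left hQR₀ P
  refine ⟨?_, hPT, hψT, ψ₁.comp (Subgroup.inclusion hle), restrict_mem F hψ₁ hle, fun x => ?_, ?_⟩
  · exact mem_of_forall_eq F (restrict_mem F hψ₁ (le_sup_left : P ≤ P ⊔ R₀))
      (fun x => (hψ₁P x).symm)
  · exact hψ₁P x
  · ext z
    rw [map_subgroupOf_sup_eq]
    constructor
    · rintro ⟨q, rfl⟩
      exact hψ₁Q q
    · intro hz
      obtain ⟨q, hq⟩ := hψ₁Qs z hz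
      exact ⟨q, hq⟩

end

end Cfsg.Agent.Lib.helper17.NR3
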