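import Mathlib
import Cfsg.Agent.Lib.helper17.NR3
import Cfsg.Agent.Lib.Helper26.Realize2
import Cfsg.Agent.Lib.Helper26.FusionGroup

set_option autoImplicit false

/-! The normalizer of the image of `Q` inside a model of `N_F(R)` is a model of `N_F(Q)`. -/

namespace Cfsg.Agent.Lib.helper17.NR4

open Cfsg Cfsg.FusionSystem Cfsg.Agent.Lib.Helper26 Subgroup
open Cfsg.Agent.Lib.helper17.NR3

universe u

variable {Ω : Type u} [Group Ω] {S : Subgroup Ω}

section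

variable [Finite S] {p : ℕ} [Fact p.Prime] (F : FusionSystem S) {Q R₀ R : Subgroup Ω}
  (hQfn : F.IsFullyNormalized Q) (hRS : R ≤ S)
  (hQR₀ : Q ≤ R₀) (hR₀T : R₀ ≤ normalizerIn S Q)
  {N₀ : Subgroup Ω} (hTN₀ : normalizerIn S Q ≤ N₀)
  {φ : N₀ →* Ω} (hφ : φ ∈ F.Hom N₀) (hφT' : ∀ x, φ x ∈ normalizerIn S R)
  (hφR : (R₀.subgroupOf N₀).map φ = R)
  {L' : Type*} [Group L'] [Finite L'] (ι' : ↥(normalizerIn S R) →* L')
  (hreal' : (normalizerSystem F R hRS).IsRealizedBy ι')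
  (hT' : ∃ T : Sylow p L', (T : Subgroup L') = ι'.range)
  (hRn : (imSub ι' R).Normal)

include hQfn hQR₀ hTN₀ hφ hφR hreal' hT' hRn in
/-- `p`-subgroups of the normalizer of the image of `Q` have order at most `|N_S(Q)|` -/
theorem card_bound {L₂ : Subgroup L'}
    (hL₂ : L₂ ≤ normalizer (((Q.subgroupOf N₀).map (kmap hφT' ι') : Subgroup L') : Set L'))
    (hL₂p : IsPGroup p L₂) : Nat.card L₂ ≤ Nat.card (normalizerIn S Q) := by
  obtain ⟨TL, hTL⟩ := hT'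
  obtain ⟨g, hg⟩ := exists_conj_le_sylow TL hL₂p
  have hgr : cj L₂ g ≤ ι'.range := hTL ▸ hg
  have hQS : Q ≤ S := hQfn.1
  have hQN₀ : Q ≤ N₀ := (le_normalizerIn_self hQS).trans hTN₀
  obtain ⟨Q₁, hQ₁⟩ : ∃ Q₁ : Subgroup Ω, Q₁ = (Q.subgroupOf N₀).map φ := ⟨_, rfl⟩
  have hQ₁T' : Q₁ ≤ normalizerIn S R := by
    rw [hQ₁]; rintro _ ⟨n, -, rfl⟩; exact hφT' n
  have hQ₁R : Q₁ ≤ R := by
    rw [hQ₁, ← hφR]
    rintro _ ⟨n, hn, rfl⟩
    exact ⟨n, mem_subgroupOf.mpr (hQR₀ (mem_subgroupOf.mp hn)), rfl⟩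
  have hQk : (Q.subgroupOf N₀).map (kmap hφT' ι') = imSub ι' Q₁ := by
    ext y
    rw [mem_imSub_iff]
    constructor
    · rintro ⟨n, hn, rfl⟩
      exact ⟨φ n, hφT' n, hQ₁ ▸ ⟨n, hn, rfl⟩, rfl⟩
    · rintro ⟨x, hxT', hx, rfl⟩
      rw [hQ₁] at hx
      obtain ⟨n, hn, rfl⟩ := hx
      exact ⟨n, hn, rfl⟩
  rw [hQk] at hL₂
  have hcjQ : cj (imSub ι' Q₁) g ≤ ι'.range := by
    intro z hz
    have h1 : g⁻¹ * z * g ∈ imSub ι' R := imSub_mono ι' hQ₁R (mem_cj_iff.mp hz)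
    have h2 := hRn.conj_mem _ h1 g
    have e : g * (g⁻¹ * z * g) * g⁻¹ = z := by group
    rw [e] at h2
    exact imSub_le_range ι' R h2
  have hE' := normalizerSystem_isNormalizerSystem F R hRS
  have hconj' := isConj_preSub _ hreal' hQ₁T' g hcjQ
  have hQQ₁ : F.IsConj Q Q₁ := by
    refine ⟨φ.comp (Subgroup.inclusion hQN₀), restrict_mem F hφ hQN₀, ?_⟩
    rw [hQ₁]
    ext y
    constructor
    · rintro ⟨q, rfl⟩
      exact ⟨_, mem_subgroupOf.mpr q.2, rfl⟩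
    · rintro ⟨n, hn, rfl⟩
      exact ⟨⟨n, mem_subgroupOf.mp hn⟩, rfl⟩
  have hQQ₂ := isConj_trans F hQQ₁ (normalizerSystem_isConj F _ hE' hconj')
  have hcard₁ := hQfn.2 _ hQQ₂
  refine le_trans ?_ hcard₁
  -- the preimage of the conjugate of `L₂`
  obtain ⟨Y₂, hY₂⟩ : ∃ Y₂ : Subgroup Ω, Y₂ = preSub ι' (cj L₂ g) := ⟨_, rfl⟩
  have hY₂T' : Y₂ ≤ normalizerIn S R := hY₂ ▸ preSub_le ι' _
  have him : imSub ι' Y₂ = cj L₂ g := hY₂ ▸ imSub_preSub hgr
  have hcardY : Nat.card Y₂ = Nat.card L₂ := by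
    rw [← card_cj L₂ g, ← him]
    exact Nat.card_congr (imEquiv hreal'.1 hY₂T').toEquiv
  rw [← hcardY]
  have hfinN : Finite ↥(normalizerIn S (preSub ι' (cj (imSub ι' Q₁) g))) :=
    finite_of_le inf_le_left
  have hle : Y₂ ≤ normalizerIn S (preSub ι' (cj (imSub ι' Q₁) g)) := by
    intro y hy
    have hyT' : y ∈ normalizerIn S R := hY₂T' hy
    have hyL : ι' ⟨y, hyT'⟩ ∈ cj L₂ g := by
      rw [hY₂] at hy
      exact (mem_preSub_iff.mp hy).2
    have hyN : ι' ⟨y, hyT'⟩ ∈ normalizer ((cj (imSub ι' Q₁) g : Subgroup L') : Set L') :=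
      mem_normalizer_cj_iff.mpr (hL₂ (mem_cj_iff.mp hyL))
    refine ⟨hyT'.1, ?_⟩
    apply mem_normalizer_of_forall
    · intro q hq
      obtain ⟨hqT', hq2⟩ := mem_preSub_iff.mp hq
      have hyq : y * q * y⁻¹ ∈ normalizerIn S R :=
        (normalizerIn S R).mul_mem ((normalizerIn S R).mul_mem hyT' hqT')
          ((normalizerIn S R).inv_mem hyT')
      refine mem_preSub_iff.mpr ⟨hyq, ?_⟩
      have h1 : ι' ⟨y * q * y⁻¹, hyq⟩ = ι' ⟨y, hyT'⟩ * ι' ⟨q, hqT'⟩ * (ι' ⟨y, hyT'⟩)⁻¹ := by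
        rw [← map_inv, ← map_mul, ← map_mul]; rfl
      rw [h1]
      exact (mem_normalizer_iff.mp hyN _).mp hq2
    · intro q hq
      obtain ⟨hqT', hq2⟩ := mem_preSub_iff.mp hq
      have hyq : y⁻¹ * q * y ∈ normalizerIn S R :=
        (normalizerIn S R).mul_mem ((normalizerIn S R).mul_mem
          ((normalizerIn S R).inv_mem hyT') hqT') hyT'
      refine mem_preSub_iff.mpr ⟨hyq, ?_⟩
      have h1 : ι' ⟨y⁻¹ * q * y, hyq⟩ = (ι' ⟨y, hyT'⟩)⁻¹ * ι' ⟨q, hqT'⟩ * ι' ⟨y, hyT'⟩ := by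
        rw [← map_inv, ← map_mul, ← map_mul]; rfl
      rw [h1]
      exact (mem_normalizer_iff''.mp hyN _).mp hq2
  exact Nat.card_le_card_of_injective (Subgroup.inclusion hle) (Subgroup.inclusion_injective hle)

include hQfn hQR₀ hR₀T hTN₀ hφ hφT' hφR hreal' hT' hRn in
/-- the sub-model -/
theorem submodel (hS : IsPGroup p S)
    (hR₀n : (normalizerSystem F Q hQfn.1).IsNormal R₀)
    (hRC : centralizer ((imSub ι' R : Subgroup L') : Set L') ≤ imSub ι' R) :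
    ∃ (H : Subgroup L') (j : ↥(normalizerIn S Q) →* ↥H),
      (normalizerSystem F Q hQfn.1).IsModel p ↥H j := by
  have hQS : Q ≤ S := hQfn.1
  have hkinj := kmap_injective F hRS hφ hφT' ι' hreal'
  obtain ⟨H, hH⟩ : ∃ H : Subgroup L',
      H = normalizer (((Q.subgroupOf N₀).map (kmap hφT' ι') : Subgroup L') : Set L') := ⟨_, rfl⟩
  -- the image of `N_S(Q)` normalizes the image of `Q`
  have hkTH : ∀ t : ↥(normalizerIn S Q),
      (kmap hφT' ι').comp (Subgroup.inclusion hTN₀) t ∈ H := by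
    intro t
    rw [hH]
    have key : ∀ t : ↥(normalizerIn S Q), ∀ y ∈ (Q.subgroupOf N₀).map (kmap hφT' ι'),
        (kmap hφT' ι').comp (Subgroup.inclusion hTN₀) t * y *
          ((kmap hφT' ι').comp (Subgroup.inclusion hTN₀) t)⁻¹ ∈
          (Q.subgroupOf N₀).map (kmap hφT' ι') := by
      rintro t _ ⟨n, hn, rfl⟩
      have hnQ : (n : Ω) ∈ Q := mem_subgroupOf.mp hn
      refine ⟨Subgroup.inclusion hTN₀ t * n * (Subgroup.inclusion hTN₀ t)⁻¹,
        mem_subgroupOf.mpr ?_, ?_⟩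
      · show (t : Ω) * n * (t : Ω)⁻¹ ∈ Q
        exact conj_mem_of_mem_normalizer t.2.2 ⟨n, hnQ⟩
      · rw [map_mul, map_mul, map_inv]; rfl
    refine mem_normalizer_of_forall (key t) (fun y hy => ?_)
    have := key t⁻¹ y hy
    rw [map_inv, inv_inv] at this
    exact this
  obtain ⟨j, hj⟩ : ∃ j : ↥(normalizerIn S Q) →* ↥H,
      j = ((kmap hφT' ι').comp (Subgroup.inclusion hTN₀)).codRestrict H hkTH := ⟨_, rfl⟩
  have hjap : ∀ t : ↥(normalizerIn S Q), ((j t : ↥H) : L') = kmap hφT' ι' ⟨t, hTN₀ t.2⟩ := by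
    intro t; rw [hj]; rfl
  have hjinj : Function.Injective j := by
    intro a b hab
    have h1 : ((j a : ↥H) : L') = j b := congrArg Subtype.val hab
    rw [hjap, hjap] at h1
    have h2 := hkinj h1
    exact Subtype.ext (congrArg (fun s : ↥N₀ => (s : Ω)) h2)
  refine ⟨H, j, inferInstance, ⟨hjinj, fun P hP ψ hψT => ?_⟩, ?_, ?_⟩
  · -- realization
    constructor
    · intro hψ
      obtain ⟨h, hh, hform⟩ := realize_forward F hQS hRS hQR₀ hR₀n hTN₀ hφ hφT' hφR ι' hreal' hψ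
      refine ⟨⟨h, (le_of_eq hH.symm) hh⟩, fun x => ?_⟩
      apply Subtype.ext
      show ((j _ : ↥H) : L') = h * ((j _ : ↥H) : L') * h⁻¹
      rw [hjap, hjap]
      exact hform x
    · rintro ⟨g, hg⟩
      refine realize_backward F hQS hRS hQR₀ hR₀T hTN₀ hφ hφT' hφR ι' hreal' hRn hP hψT
        ((le_of_eq hH) g.2) (fun x => ?_)
      have h1 : ((j ⟨ψ x, hψT x⟩ : ↥H) : L') = ((g * j ⟨x, hP x.2⟩ * g⁻¹ : ↥H) : L') :=
        congrArg (fun s : ↥H => (s : L')) (hg x)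
      have h2 : ((g * j ⟨x, hP x.2⟩ * g⁻¹ : ↥H) : L') =
          (g : L') * ((j ⟨x, hP x.2⟩ : ↥H) : L') * (g : L')⁻¹ := rfl
      rw [h2, hjap, hjap] at h1
      exact h1
  · -- Sylow
    obtain ⟨kT, hkT⟩ : ∃ kT : Subgroup L',
        kT = ((kmap hφT' ι').comp (Subgroup.inclusion hTN₀)).range := ⟨_, rfl⟩
    have hkTle : kT ≤ H := by
      rw [hkT]; rintro _ ⟨t, rfl⟩; exact hkTH t
    have hfinT : Finite ↥(normalizerIn S Q) := finite_of_le inf_le_left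
    have hcomp_inj : Function.Injective ((kmap hφT' ι').comp (Subgroup.inclusion hTN₀)) :=
      hkinj.comp (Subgroup.inclusion_injective hTN₀)
    have hkTcard : Nat.card kT = Nat.card (normalizerIn S Q) := by
      rw [hkT]
      exact (Nat.card_congr (MonoidHom.ofInjective hcomp_inj).toEquiv).symm
    have hkTp : IsPGroup p kT := by
      rw [hkT]
      exact (hS.to_le (normalizerIn_le S Q)).of_surjective _
        (MonoidHom.rangeRestrict_surjective _)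
    have hsyl : IsSylowIn p H kT := by
      refine isSylowIn_of_forall_card_le hkTle hkTp (fun L₂ hL₂H hL₂p _ => ?_)
      rw [hkTcard]
      exact card_bound F hQfn hRS hQR₀ hTN₀ hφ hφT' hφR ι' hreal' hT' hRn
        (hL₂H.trans (le_of_eq hH)) hL₂p
    obtain ⟨T₂, hT₂⟩ := hsyl
    refine ⟨T₂, ?_⟩
    rw [hT₂]
    ext g
    rw [mem_subgroupOf, hkT]
    constructor
    · rintro ⟨t, ht⟩
      refine ⟨t, Subtype.ext ?_⟩
      rw [hjap]
      exact ht
    · rintro ⟨t, rfl⟩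
      refine ⟨t, ?_⟩
      have := hjap t
      exact this.symm
  · -- centralizer of the `p`-core
    have hRp : IsPGroup p (imSub ι' R) := by
      obtain ⟨TL, hTL⟩ := hT'
      exact TL.isPGroup'.to_le (hTL ▸ imSub_le_range ι' R)
    have hRHn : ((imSub ι' R).subgroupOf H).Normal := hRn.subgroupOf H
    have hRHp : IsPGroup p ((imSub ι' R).subgroupOf H) :=
      hRp.comap_of_injective H.subtype H.subtype_injective
    have hRHle : (imSub ι' R).subgroupOf H ≤ pCore p ↥H := Helper1.le_pCore hRHn hRHp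
    have hRH : imSub ι' R ≤ H := by
      intro y hy
      obtain ⟨x, hxT', hxR, rfl⟩ := mem_imSub_iff.mp hy
      rw [← hφR] at hxR
      obtain ⟨n, hn, hnx⟩ := hxR
      have hnR₀ : (n : Ω) ∈ R₀ := mem_subgroupOf.mp hn
      have h1 := hkTH ⟨n, hR₀T hnR₀⟩
      have h2 : (kmap hφT' ι').comp (Subgroup.inclusion hTN₀) ⟨(n : Ω), hR₀T hnR₀⟩ =
          ι' ⟨x, hxT'⟩ := by
        show ι' ⟨φ ⟨(n : Ω), _⟩, _⟩ = ι' ⟨x, hxT'⟩
        congr 1
        exact Subtype.ext hnx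
      rw [h2] at h1
      exact h1
    intro c hc
    apply hRHle
    rw [mem_subgroupOf]
    apply hRC
    rw [mem_centralizer_iff]
    intro y hy
    have h1 := hc ⟨y, hRH hy⟩ (hRHle (mem_subgroupOf.mpr hy))
    exact congrArg (fun s : ↥H => (s : L')) h1

end

end Cfsg.Agent.Lib.helper17.NR4
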