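import Mathlib
import Cfsg.Agent.Lib.helper17.NR4
import Cfsg.Agent.Lib.Helper26.ModelUniq4
import Cfsg.Agent.Lib.Helper26.FusionSat3
import Cfsg.Agent.Lib.Helper27.FusCentric
import Cfsg.Agent.Lib.Helper27.SubFSTransport
import Cfsg.Agent.Lib.Helper27.ModelMain
import Cfsg.Agent.Lib.Helper1.GNPC2.TJA
import Cfsg.Agent.S5082
import Cfsg.Prelude.Def_FusionReduction

set_option autoImplicit false

/-! Section-freeness of a saturated fusion system may be tested at the centric radical subgroups. -/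

namespace Cfsg.Agent.Lib.helper17.NR5

open Cfsg Cfsg.FusionSystem Cfsg.Agent.Lib.Helper26 Subgroup

universe u

variable {Ω : Type u} [Group Ω] {S : Subgroup Ω}

/-- if `O_p` of a model of `N_F(Q)` is strictly bigger than `Q`, the model embeds in any model of
`N_F(R)` for a bigger fully normalized centric `R` -/
theorem exists_embedding [Finite S] {p : ℕ} [Fact p.Prime] (hS : IsPGroup p S) (F : FusionSystem S)
    (hF : F.IsSaturated p) {Q : Subgroup Ω} (hQfn : F.IsFullyNormalized Q) (hQc : F.IsCentric Q)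
    {L : Type*} [Group L] (ι : ↥(normalizerIn S Q) →* L)
    (hL : (normalizerSystem F Q hQfn.1).IsModel p L ι)
    (hnr : ¬ preSub ι (pCore p L) ≤ Q) :
    ∃ (R : Subgroup Ω) (hRfn : F.IsFullyNormalized R), F.IsCentric R ∧ Nat.card Q < Nat.card R ∧
      ∀ (L' : Type u) [Group L'] (ι' : ↥(normalizerIn S R) →* L'),
        (normalizerSystem F R hRfn.1).IsModel p L' ι' → ∃ f : L →* L', Function.Injective f := by
  have hQS : Q ≤ S := hQfn.1
  have hE := normalizerSystem_isNormalizerSystem F Q hQS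
  obtain ⟨hQn, hQC, hQR₀⟩ := NR1.model_facts F hQS hQc ι hL
  have hL' := hL
  obtain ⟨hfin, hreal, ⟨TL, hTL⟩, hcent⟩ := hL
  have hUn : (pCore p L).Normal := Helper1.pCore_normal p
  have hUT : pCore p L ≤ ι.range := hTL ▸ Helper1.pCore_le_sylow p TL
  obtain ⟨R₀, hR₀⟩ : ∃ R₀ : Subgroup Ω, R₀ = preSub ι (pCore p L) := ⟨_, rfl⟩
  rw [← hR₀] at hnr hQR₀
  have hR₀T : R₀ ≤ normalizerIn S Q := hR₀ ▸ preSub_le ι _
  have hR₀S : R₀ ≤ S := hR₀T.trans (normalizerIn_le S Q)
  have hR₀n : (normalizerSystem F Q hQS).IsNormal R₀ :=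
    hR₀ ▸ isNormal_preSub_of_normal _ hreal (pCore p L) hUT
  have hR₀c : F.IsCentric R₀ := Helper27.isCentric_of_le F hQc hQR₀ hR₀S
  have hfinR₀ : Finite R₀ := finite_of_le hR₀S
  have hlt : Nat.card Q < Nat.card R₀ := card_lt_card_of_lt (lt_of_le_not_ge hQR₀ hnr)
  -- `N_S(Q)` normalizes `R₀`
  have hTN₀ : normalizerIn S Q ≤ normalizerIn S R₀ := by
    intro t ht
    refine ⟨ht.1, ?_⟩
    have key : ∀ t : ↥(normalizerIn S Q), ∀ r ∈ R₀, (t : Ω) * r * (t : Ω)⁻¹ ∈ R₀ := by
      intro t r hr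
      rw [hR₀] at hr ⊢
      obtain ⟨hrT, hr2⟩ := mem_preSub_iff.mp hr
      have htr : (t : Ω) * r * (t : Ω)⁻¹ ∈ normalizerIn S Q :=
        (normalizerIn S Q).mul_mem ((normalizerIn S Q).mul_mem t.2 hrT)
          ((normalizerIn S Q).inv_mem t.2)
      refine mem_preSub_iff.mpr ⟨htr, ?_⟩
      have h1 : ι ⟨(t : Ω) * r * (t : Ω)⁻¹, htr⟩ = ι t * ι ⟨r, hrT⟩ * (ι t)⁻¹ := by
        rw [← map_inv, ← map_mul, ← map_mul]; rfl
      rw [h1]
      exact hUn.conj_mem _ hr2 _
    refine mem_normalizer_of_forall (key ⟨t, ht⟩) (fun r hr => ?_)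
    have := key ⟨t, ht⟩⁻¹ r hr
    simpa using this
  -- a fully normalized conjugate
  obtain ⟨R, hconj, hRfn⟩ := exists_fullyNormalized_conj F hR₀S
  obtain ⟨-, hRfa, hRrec⟩ := saturated_fullyNormalized hS F hF hRfn
  obtain ⟨N⟩ := nonempty_normalizerHom hS F hRfa hRrec hconj
  have hRc : F.IsCentric R := Helper27.isCentric_of_isConj F hR₀c hconj
  have hcardR : Nat.card R₀ = Nat.card R := Cfsg.Agent.S5082.card_eq_of_isConj F hconj
  refine ⟨R, hRfn, hRc, hcardR ▸ hlt, ?_⟩
  intro L' _ ι' hL'm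
  obtain ⟨hRn, hRC, -⟩ := NR1.model_facts F hRfn.1 hRc ι' hL'm
  obtain ⟨hfin', hreal', hT', -⟩ := hL'm
  obtain ⟨H, j, hHm⟩ := NR4.submodel F hQfn hRfn.1 hQR₀ hR₀T hTN₀ N.mem N.maps N.img ι' hreal' hT'
    hRn hS hR₀n hRC
  have hfinT : Finite ↥(normalizerIn S Q) := finite_of_le inf_le_left
  have hQnE := normalizerSystem_isNormal F hQS _ hE
  have hQcE := normalizerSystem_isCentric F hQc _ hE
  obtain ⟨ψ, hψinj, -⟩ := exists_model_hom (p := p) _ hQnE hQcE ι j hL' hHm
  exact ⟨H.subtype.comp ψ, H.subtype_injective.comp hψinj⟩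

/-- the induction -/
theorem section_free_aux [Finite S] {p : ℕ} [Fact p.Prime] (hS : IsPGroup p S)
    (F : FusionSystem S) (hF : F.IsSaturated p) (X : Type*) [Group X]
    (h : ∀ Q : Subgroup Ω, F.IsFullyNormalized Q → F.IsCentric Q → F.IsRadical p Q →
      ∀ N : FusionSystem (normalizerIn S Q), F.IsNormalizerSystem Q N →
        ∀ (L : Type u) [Group L] (ι : ↥(normalizerIn S Q) →* L), N.IsModel p L ι →
          ¬ Cfsg.Involves X L) :
    ∀ (n : ℕ) (Q : Subgroup Ω) (hQfn : F.IsFullyNormalized Q), F.IsCentric Q →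
      Nat.card S - Nat.card Q = n →
      ∀ (L : Type u) [Group L] (ι : ↥(normalizerIn S Q) →* L),
        (normalizerSystem F Q hQfn.1).IsModel p L ι → ¬ Cfsg.Involves X L := by
  intro n
  induction n using Nat.strong_induction_on with
  | _ n IH =>
    intro Q hQfn hQc hn L _ ι hL hinv
    by_cases hle : preSub ι (pCore p L) ≤ Q
    · have hrad := NR1.radical_of_pCore_le hS F hQfn.1 hQc ι hL hle
      exact h Q hQfn hQc hrad _ (normalizerSystem_isNormalizerSystem F Q hQfn.1) L ι hL hinv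
    · obtain ⟨R, hRfn, hRc, hlt, hemb⟩ := exists_embedding hS F hF hQfn hQc ι hL hle
      have hE' := normalizerSystem_isNormalizerSystem F R hRfn.1
      have hcon := normalizerSystem_constrained hS F hF hRfn hRc _ hE'
      have hfinN : Finite ↥(normalizerIn S R) := finite_of_le inf_le_left
      have hSN : IsPGroup p ↥(normalizerIn S R) := hS.to_le inf_le_left
      obtain ⟨L', hL'g, ι', hL'm⟩ := Cfsg.Agent.Lib.Helper27.Model.exists_model p hSN _ hcon
      obtain ⟨f, hf⟩ := hemb L' ι' hL'm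
      have hinv' : Cfsg.Involves X L' :=
        Cfsg.Agent.Lib.Helper1.GNPC2.involves_of_injective f hf hinv
      have hRle : Nat.card R ≤ Nat.card S := card_le_card_of_le_of_finite hRfn.1
      have hlt' : Nat.card S - Nat.card R < n := by omega
      exact IH _ hlt' R hRfn hRc rfl L' ι' hL'm hinv'

theorem section_free [Finite S] {p : ℕ} [Fact p.Prime] (hS : IsPGroup p S)
    (F : FusionSystem S) (hF : F.IsSaturated p) (X : Type*) [Group X]
    (h : ∀ Q : Subgroup Ω, F.IsFullyNormalized Q → F.IsCentric Q → F.IsRadical p Q →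
      ∀ N : FusionSystem (normalizerIn S Q), F.IsNormalizerSystem Q N →
        ∀ (L : Type u) [Group L] (ι : ↥(normalizerIn S Q) →* L), N.IsModel p L ι →
          ¬ Cfsg.Involves X L) : F.IsSectionFree p X := by
  intro Q hQfn hQc N hN L _ ι hL
  have hNeq : N = normalizerSystem F Q hQfn.1 :=
    Cfsg.Agent.Lib.Helper27.fusionSystem_ext (fun P => hN P)
  subst hNeq
  exact section_free_aux hS F hF X h _ Q hQfn hQc rfl L ι hL

end Cfsg.Agent.Lib.helper17.NR5
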