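import Mathlib

set_option autoImplicit false

namespace Cfsg.Agent.Lib.helper17.NilCover

open Subgroup

variable {G : Type*} [Group G]

/-- In a minimum-size cover, a proper subgroup contains at most one member. -/
theorem at_most_one (𝓐 : Finset (Subgroup G)) (hcov1 : ∀ A ∈ 𝓐, A ≠ ⊤)
    (hcov2 : ∀ g : G, ∃ A ∈ 𝓐, g ∈ A)
    (hmin : ∀ 𝓑 : Finset (Subgroup G), (∀ A ∈ 𝓑, A ≠ ⊤) ∧ (∀ g : G, ∃ A ∈ 𝓑, g ∈ A) →
      𝓐.card ≤ 𝓑.card)
    {H A B : Subgroup G} (hH : H ≠ ⊤) (hA : A ∈ 𝓐) (hB : B ∈ 𝓐) (hAH : A ≤ H) (hBH : B ≤ H) :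
    A = B := by
  classical
  by_contra hne
  have h1 := hmin (insert H ((𝓐.erase A).erase B)) ⟨?_, ?_⟩
  · have h2 : (insert H ((𝓐.erase A).erase B)).card ≤ ((𝓐.erase A).erase B).card + 1 :=
      Finset.card_insert_le _ _
    have hB' : B ∈ 𝓐.erase A := Finset.mem_erase.mpr ⟨Ne.symm hne, hB⟩
    have h3 : ((𝓐.erase A).erase B).card = (𝓐.erase A).card - 1 := Finset.card_erase_of_mem hB'
    have h4 : (𝓐.erase A).card = 𝓐.card - 1 := Finset.card_erase_of_mem hA
    have h5 : 1 < 𝓐.card := Finset.one_lt_card.mpr ⟨A, hA, B, hB, hne⟩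
    omega
  · intro C hC
    rcases Finset.mem_insert.mp hC with rfl | hC
    · exact hH
    · exact hcov1 C (Finset.mem_of_mem_erase (Finset.mem_of_mem_erase hC))
  · intro g
    obtain ⟨C, hC, hgC⟩ := hcov2 g
    by_cases hCA : C = A
    · exact ⟨H, Finset.mem_insert_self _ _, hAH (hCA ▸ hgC)⟩
    by_cases hCB : C = B
    · exact ⟨H, Finset.mem_insert_self _ _, hBH (hCB ▸ hgC)⟩
    exact ⟨C, Finset.mem_insert_of_mem
      (Finset.mem_erase.mpr ⟨hCB, Finset.mem_erase.mpr ⟨hCA, hC⟩⟩), hgC⟩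

/-- A subgroup containing a Sylow subgroup for every prime is everything. -/
theorem top_of_sylow_le {B : Type*} [Group B] [Finite B] (C : Subgroup B)
    (h : ∀ (q : ℕ) [Fact q.Prime], ∃ T : Sylow q B, (T : Subgroup B) ≤ C) : C = ⊤ := by
  rw [← Subgroup.index_eq_one]
  by_contra hne
  obtain ⟨q, hq, hqd⟩ := Nat.exists_prime_and_dvd hne
  have : Fact q.Prime := ⟨hq⟩
  obtain ⟨T, hT⟩ := h q
  exact T.not_dvd_index (dvd_trans hqd (Subgroup.index_dvd_of_le hT))

/-- A nilpotent subgroup containing a `p`-element `y`, when Sylow `p`-subgroups are abelian,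
centralizes `y`. -/
theorem nilpotent_le_centralizer [Finite G] {p : ℕ} [Fact p.Prime]
    (hab : ∀ Q : Sylow p G, ∀ a ∈ (Q : Subgroup G), ∀ b ∈ (Q : Subgroup G), a * b = b * a)
    (B : Subgroup G) [Group.IsNilpotent ↥B] {y : G} (hyB : y ∈ B)
    (hy : IsPGroup p (Subgroup.zpowers y)) :
    B ≤ Subgroup.centralizer {y} := by
  have hy' : IsPGroup p (Subgroup.zpowers (⟨y, hyB⟩ : ↥B)) := by
    have h1 := hy.comap_of_injective B.subtype B.subtype_injective
    refine h1.to_le ?_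
    rw [Subgroup.zpowers_le, Subgroup.mem_comap]
    exact Subgroup.mem_zpowers y
  have hyS : ∀ S : Sylow p ↥B, (⟨y, hyB⟩ : ↥B) ∈ (S : Subgroup ↥B) := by
    intro S
    obtain ⟨S', hS'⟩ := hy'.exists_le_sylow
    have := Sylow.unique_of_normal S inferInstance
    have : S' = S := Subsingleton.elim _ _
    rw [← this]
    exact hS' (Subgroup.mem_zpowers _)
  have key : Subgroup.centralizer ({(⟨y, hyB⟩ : ↥B)} : Set ↥B) = ⊤ := by
    apply top_of_sylow_le
    intro q _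
    by_cases hqp : q = p
    · subst hqp
      let S : Sylow q ↥B := default
      refine ⟨S, ?_⟩
      obtain ⟨Q, hQ⟩ := (S.isPGroup'.map B.subtype).exists_le_sylow
      intro s hs
      rw [Subgroup.mem_centralizer_iff]
      intro z hz
      rw [Set.mem_singleton_iff] at hz
      subst hz
      apply Subtype.ext
      have := hab Q y (hQ ⟨_, hyS S, rfl⟩) (s : G) (hQ ⟨s, hs, rfl⟩)
      simpa using this
    · let T : Sylow q ↥B := default
      let S : Sylow p ↥B := default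
      refine ⟨T, ?_⟩
      intro t ht
      rw [Subgroup.mem_centralizer_iff]
      intro z hz
      rw [Set.mem_singleton_iff] at hz
      subst hz
      have hTn : (T : Subgroup ↥B).Normal := inferInstance
      have hSn : (S : Subgroup ↥B).Normal := inferInstance
      have hyS' := hyS S
      set y' : ↥B := ⟨y, hyB⟩ with hy'def
      have hc1 : t * y' * t⁻¹ * y'⁻¹ ∈ (S : Subgroup ↥B) :=
        (S : Subgroup ↥B).mul_mem (hSn.conj_mem y' hyS' t) ((S : Subgroup ↥B).inv_mem hyS')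
      have hc2 : t * y' * t⁻¹ * y'⁻¹ ∈ (T : Subgroup ↥B) := by
        have h1 : y' * t⁻¹ * y'⁻¹ ∈ (T : Subgroup ↥B) :=
          hTn.conj_mem t⁻¹ ((T : Subgroup ↥B).inv_mem ht) y'
        have h2 : t * y' * t⁻¹ * y'⁻¹ = t * (y' * t⁻¹ * y'⁻¹) := by group
        rw [h2]
        exact (T : Subgroup ↥B).mul_mem ht h1
      have hdis := IsPGroup.disjoint_of_ne q p hqp (T : Subgroup ↥B) (S : Subgroup ↥B)
        T.isPGroup' S.isPGroup'
      have h1 : t * y' * t⁻¹ * y'⁻¹ = 1 := by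
        have := Subgroup.disjoint_def.mp hdis hc2 hc1
        exact this
      have h2 : t * y' = y' * t := by
        have : t * y' = (t * y' * t⁻¹ * y'⁻¹) * (y' * t) := by group
        rw [this, h1, one_mul]
      exact h2.symm
  intro b hb
  have hb' : (⟨b, hb⟩ : ↥B) ∈ Subgroup.centralizer ({(⟨y, hyB⟩ : ↥B)} : Set ↥B) := by
    rw [key]; exact Subgroup.mem_top _
  rw [Subgroup.mem_centralizer_iff] at hb' ⊢
  intro z hz
  rw [Set.mem_singleton_iff] at hz
  subst hz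
  have := hb' ⟨z, hyB⟩ rfl
  exact congrArg Subtype.val this


/-- The standing hypotheses. -/
structure Setting (G : Type*) [Group G] (𝓐 : Finset (Subgroup G)) (p : ℕ) : Prop where
  center : Subgroup.center G = ⊥
  ne_top : ∀ A ∈ 𝓐, A ≠ ⊤
  cover : ∀ g : G, ∃ A ∈ 𝓐, g ∈ A
  min : ∀ 𝓑 : Finset (Subgroup G), (∀ A ∈ 𝓑, A ≠ ⊤) ∧ (∀ g : G, ∃ A ∈ 𝓑, g ∈ A) →
      𝓐.card ≤ 𝓑.card
  nil : ∀ A ∈ 𝓐, Group.IsNilpotent ↥A
  comm : ∀ Q : Sylow p G, ∀ a ∈ (Q : Subgroup G), ∀ b ∈ (Q : Subgroup G), a * b = b * a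
  ne_bot : ∀ Q : Sylow p G, (Q : Subgroup G) ≠ ⊥
  shape : ∀ Q : Sylow p G,
    (∃ x ∈ (Q : Subgroup G), ∀ y ∈ (Q : Subgroup G), y ∈ Subgroup.zpowers x) ∨
    (∃ x ∈ (Q : Subgroup G), x ^ p ≠ 1)

variable {𝓐 : Finset (Subgroup G)} {p : ℕ}

theorem Setting.unique_member [Finite G] [Fact p.Prime] (h : Setting G 𝓐 p) {y : G}
    (hy1 : y ≠ 1) (hy : IsPGroup p (Subgroup.zpowers y)) {A B : Subgroup G} (hA : A ∈ 𝓐)
    (hB : B ∈ 𝓐) (hyA : y ∈ A) (hyB : y ∈ B) : A = B := by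
  have hH : Subgroup.centralizer {y} ≠ ⊤ := by
    intro hc
    apply hy1
    have : y ∈ Subgroup.center G := by
      rw [Subgroup.mem_center_iff]
      intro g
      have hg : g ∈ Subgroup.centralizer {y} := hc ▸ Subgroup.mem_top g
      rw [Subgroup.mem_centralizer_iff] at hg
      exact (hg y rfl).symm
    rw [h.center] at this
    exact Subgroup.mem_bot.mp this
  have := h.nil A hA
  have := h.nil B hB
  exact at_most_one 𝓐 h.ne_top h.cover h.min hH hA hB
    (nilpotent_le_centralizer h.comm A hyA hy) (nilpotent_le_centralizer h.comm B hyB hy)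

theorem isPGroup_zpowers_of_mem [Fact p.Prime] (Q : Sylow p G) {y : G}
    (hy : y ∈ (Q : Subgroup G)) : IsPGroup p (Subgroup.zpowers y) :=
  Q.isPGroup'.to_le (Subgroup.zpowers_le.mpr hy)

theorem exists_pow_order_p [Fact p.Prime] (Q : Sylow p G) {y : G}
    (hy : y ∈ (Q : Subgroup G)) (hy1 : y ≠ 1) : ∃ k : ℕ, y ^ k ≠ 1 ∧ (y ^ k) ^ p = 1 := by
  have hex : ∃ n : ℕ, y ^ (p ^ n) = 1 := by
    obtain ⟨n, hn⟩ := Q.isPGroup' ⟨y, hy⟩
    exact ⟨n, by simpa using congrArg Subtype.val hn⟩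
  classical
  have hn := Nat.find_spec hex
  have hn0 : Nat.find hex ≠ 0 := by
    intro h0
    rw [h0, pow_zero, pow_one] at hn
    exact hy1 hn
  obtain ⟨m, hm⟩ := Nat.exists_eq_succ_of_ne_zero hn0
  have hlt : m < Nat.find hex := by omega
  have hmin := Nat.find_min hex hlt
  refine ⟨p ^ m, hmin, ?_⟩
  rw [← pow_mul, ← pow_succ, ← Nat.succ_eq_add_one, ← hm]
  exact hn

theorem Setting.exists_le [Finite G] [Fact p.Prime] (h : Setting G 𝓐 p) (Q : Sylow p G) :
    ∃ A ∈ 𝓐, (Q : Subgroup G) ≤ A := by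
  rcases h.shape Q with ⟨x, hxQ, hgen⟩ | ⟨x, hxQ, hxp⟩
  · obtain ⟨A, hA, hxA⟩ := h.cover x
    exact ⟨A, hA, fun y hy => (Subgroup.zpowers_le.mpr hxA) (hgen y hy)⟩
  · obtain ⟨A, hA, hxA⟩ := h.cover x
    refine ⟨A, hA, ?_⟩
    have step1 : ∀ v ∈ (Q : Subgroup G), v ^ p = 1 → v ∈ A := by
      intro v hv hvp
      obtain ⟨B, hB, hxvB⟩ := h.cover (x * v)
      have hcomm : Commute x v := h.comm Q x hxQ v hv
      have e1 : (x * v) ^ p = x ^ p := by rw [hcomm.mul_pow, hvp, mul_one]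
      have hxpB : x ^ p ∈ B := e1 ▸ B.pow_mem hxvB p
      have hBA : B = A := h.unique_member hxp
        (isPGroup_zpowers_of_mem Q ((Q : Subgroup G).pow_mem hxQ p)) hB hA hxpB (A.pow_mem hxA p)
      subst hBA
      have : v = x⁻¹ * (x * v) := by group
      rw [this]
      exact B.mul_mem (B.inv_mem hxA) hxvB
    intro y hy
    by_cases hy1 : y = 1
    · rw [hy1]; exact A.one_mem
    obtain ⟨k, hk1, hkp⟩ := exists_pow_order_p Q hy hy1
    obtain ⟨B, hB, hyB⟩ := h.cover y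
    have hvA := step1 (y ^ k) ((Q : Subgroup G).pow_mem hy k) hkp
    have hBA : B = A := h.unique_member hk1
      (isPGroup_zpowers_of_mem Q ((Q : Subgroup G).pow_mem hy k)) hB hA (B.pow_mem hyB k) hvA
    exact hBA ▸ hyB

/-- A `p`-element normalizing a Sylow `p`-subgroup lies in it. -/
theorem mem_sylow_of_mem_normalizer [Fact p.Prime] (Q : Sylow p G) {u : G}
    (hu : IsPGroup p (Subgroup.zpowers u)) (hn : u ∈ Subgroup.normalizer ((Q : Subgroup G) : Set G)) :
    u ∈ (Q : Subgroup G) := by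
  have h2 : Subgroup.zpowers u ≤ Subgroup.normalizer ((Q : Subgroup G) : Set G) := by
    rw [Subgroup.zpowers_le]; exact hn
  have h3 := IsPGroup.to_sup_of_normal_right' hu Q.2 h2
  have h4 := Q.is_maximal' h3 le_sup_right
  have : u ∈ Subgroup.zpowers u ⊔ (Q : Subgroup G) :=
    (le_sup_left : Subgroup.zpowers u ≤ _) (Subgroup.mem_zpowers u)
  rw [h4] at this
  exact this

theorem centralizer_le_normalizer' (H : Subgroup G) :
    Subgroup.centralizer (H : Set G) ≤ Subgroup.normalizer (H : Set G) :=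
  Subgroup.centralizer_le_normalizer _

theorem isPGroup_zpowers_of_pow_eq_one {u : G} {a : ℕ} (h : u ^ (p ^ a) = 1) :
    IsPGroup p (Subgroup.zpowers u) := by
  rintro ⟨g, hg⟩
  obtain ⟨n, rfl⟩ := Subgroup.mem_zpowers_iff.mp hg
  refine ⟨a, Subtype.ext ?_⟩
  simp only [Subgroup.coe_pow, Subgroup.coe_one]
  rw [← zpow_natCast, ← zpow_mul, mul_comm, zpow_mul, zpow_natCast, h, one_zpow]

theorem Setting.centralizer_mem [Finite G] [Fact p.Prime] (h : Setting G 𝓐 p) (Q : Sylow p G) :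
    ∃ A ∈ 𝓐, Subgroup.centralizer ((Q : Subgroup G) : Set G) = A := by
  obtain ⟨A, hA, hQA⟩ := h.exists_le Q
  refine ⟨A, hA, le_antisymm ?_ ?_⟩
  · intro g hg
    have hp : p.Prime := Fact.out
    obtain ⟨⟨x, hxQ⟩, hx1'⟩ := (Subgroup.ne_bot_iff_exists_ne_one.mp (h.ne_bot Q))
    have hx1 : x ≠ 1 := fun hx => hx1' (Subtype.ext hx)
    obtain ⟨a, m, hpm, hn⟩ := Nat.exists_eq_pow_mul_and_not_dvd (orderOf_pos g).ne' p hp.ne_one
    have hcop : Nat.Coprime (p ^ a) m :=
      Nat.Coprime.pow_left a ((Nat.Prime.coprime_iff_not_dvd hp).mpr hpm)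
    -- the p-part
    have hu : g ^ m ∈ A := by
      apply hQA
      apply mem_sylow_of_mem_normalizer Q
      · apply isPGroup_zpowers_of_pow_eq_one (a := a)
        rw [← pow_mul, mul_comm, ← hn, pow_orderOf_eq_one]
      · exact centralizer_le_normalizer' _ (Subgroup.pow_mem _ hg m)
    -- the p'-part
    have hh : g ^ (p ^ a) ∈ A := by
      obtain ⟨B, hB, hxhB⟩ := h.cover (x * g ^ (p ^ a))
      have hcomm : Commute x (g ^ (p ^ a)) := by
        have h1 := Subgroup.pow_mem _ hg (p ^ a)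
        rw [Subgroup.mem_centralizer_iff] at h1
        exact h1 x hxQ
      have e1 : (x * g ^ (p ^ a)) ^ m = x ^ m := by
        rw [hcomm.mul_pow, ← pow_mul, ← hn, pow_orderOf_eq_one, mul_one]
      have hxm1 : x ^ m ≠ 1 := by
        intro hxm
        obtain ⟨j, hj⟩ := Q.isPGroup' ⟨x, hxQ⟩
        have hj' : x ^ (p ^ j) = 1 := by simpa using congrArg Subtype.val hj
        have h2 : x ^ (Nat.gcd m (p ^ j)) = 1 := pow_gcd_eq_one.mpr ⟨hxm, hj'⟩
        have h3 : Nat.gcd m (p ^ j) = 1 :=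
          Nat.Coprime.pow_right j ((Nat.Prime.coprime_iff_not_dvd hp).mpr hpm).symm
        rw [h3, pow_one] at h2
        exact hx1 h2
      have hxmB : x ^ m ∈ B := e1 ▸ B.pow_mem hxhB m
      have hBA : B = A := h.unique_member hxm1
        (isPGroup_zpowers_of_mem Q ((Q : Subgroup G).pow_mem hxQ m)) hB hA hxmB
        (A.pow_mem (hQA hxQ) m)
      subst hBA
      have : g ^ (p ^ a) = x⁻¹ * (x * g ^ (p ^ a)) := by group
      rw [this]
      exact B.mul_mem (B.inv_mem (hQA hxQ)) hxhB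
    -- Bezout
    have hbez : (1 : ℤ) = ((p ^ a : ℕ) : ℤ) * Nat.gcdA (p ^ a) m + (m : ℤ) * Nat.gcdB (p ^ a) m := by
      have h1 := Nat.gcd_eq_gcd_ab (p ^ a) m
      rw [hcop.gcd_eq_one] at h1
      simpa using h1
    have hg' : g = (g ^ (p ^ a)) ^ (Nat.gcdA (p ^ a) m) * (g ^ m) ^ (Nat.gcdB (p ^ a) m) := by
      rw [← zpow_natCast, ← zpow_natCast, ← zpow_mul, ← zpow_mul, ← zpow_add, ← hbez, zpow_one]
    rw [hg']
    exact A.mul_mem (A.zpow_mem hh _) (A.zpow_mem hu _)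
  · intro a ha
    rw [Subgroup.mem_centralizer_iff]
    intro y hy
    have := h.nil A hA
    have h1 := nilpotent_le_centralizer h.comm A (hQA hy) (isPGroup_zpowers_of_mem Q hy) ha
    rw [Subgroup.mem_centralizer_iff] at h1
    exact h1 y rfl


theorem mem_smul_sylow_iff (P : Sylow p G) (g y : G) :
    y ∈ ((g • P : Sylow p G) : Subgroup G) ↔ g⁻¹ * y * g ∈ (P : Subgroup G) := by
  rw [Sylow.coe_subgroup_smul, Subgroup.mem_pointwise_smul_iff_inv_smul_mem]
  simp [MulAut.smul_def]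

/-- Abelian Sylow subgroups with equal centralizers are equal. -/
theorem sylow_eq_of_centralizer_eq [Fact p.Prime] (P Q : Sylow p G)
    (hab : ∀ a ∈ (Q : Subgroup G), ∀ b ∈ (Q : Subgroup G), a * b = b * a)
    (heq : Subgroup.centralizer ((Q : Subgroup G) : Set G) =
      Subgroup.centralizer ((P : Subgroup G) : Set G)) : Q = P := by
  have h1 : (Q : Subgroup G) ≤ Subgroup.normalizer ((P : Subgroup G) : Set G) := by
    intro y hy
    apply centralizer_le_normalizer'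
    rw [← heq, Subgroup.mem_centralizer_iff]
    intro z hz
    exact hab z hz y hy
  have h3 := IsPGroup.to_sup_of_normal_right' Q.2 P.2 h1
  have h4 := P.is_maximal' h3 le_sup_right
  have h5 : (Q : Subgroup G) ≤ P := by
    rw [← h4]; exact le_sup_left
  have h6 := Q.is_maximal' P.2 h5
  exact Sylow.ext h6.symm

theorem mem_centralizer_smul_sylow (P : Sylow p G) (g c : G)
    (hc : c ∈ Subgroup.centralizer (((g • P : Sylow p G) : Subgroup G) : Set G)) :
    g⁻¹ * c * g ∈ Subgroup.centralizer ((P : Subgroup G) : Set G) := by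
  rw [Subgroup.mem_centralizer_iff] at hc ⊢
  intro y hy
  have h1 : g * y * g⁻¹ ∈ ((g • P : Sylow p G) : Subgroup G) := by
    rw [mem_smul_sylow_iff]
    have : g⁻¹ * (g * y * g⁻¹) * g = y := by group
    rw [this]; exact hy
  have h2 := hc _ h1
  calc y * (g⁻¹ * c * g) = g⁻¹ * (g * y * g⁻¹ * c) * g := by group
    _ = g⁻¹ * (c * (g * y * g⁻¹)) * g := by rw [h2]
    _ = g⁻¹ * c * g * y := by group

/-- A proper subgroup containing `C_G(P)` lies in `N_G(P)`. -/
theorem Setting.le_normalizer [Finite G] [Fact p.Prime] (h : Setting G 𝓐 p) (P : Sylow p G)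
    {M : Subgroup G} (hM : M ≠ ⊤) (hCM : Subgroup.centralizer ((P : Subgroup G) : Set G) ≤ M) :
    M ≤ Subgroup.normalizer ((P : Subgroup G) : Set G) := by
  intro g hg
  obtain ⟨A, hA, hCA⟩ := h.centralizer_mem P
  obtain ⟨A', hA', hCA'⟩ := h.centralizer_mem (g • P)
  have h1 : A' ≤ M := by
    intro c hc
    rw [← hCA'] at hc
    have h2 := hCM (mem_centralizer_smul_sylow P g c hc)
    have : c = g * (g⁻¹ * c * g) * g⁻¹ := by group
    rw [this]
    exact M.mul_mem (M.mul_mem hg h2) (M.inv_mem hg)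
  have h2 : A ≤ M := hCA ▸ hCM
  have h3 : A' = A := at_most_one 𝓐 h.ne_top h.cover h.min hM hA' hA h1 h2
  have h4 : (g • P : Sylow p G) = P := by
    apply sylow_eq_of_centralizer_eq P (g • P) (h.comm (g • P))
    rw [hCA', hCA, h3]
  exact Sylow.smul_eq_iff_mem_normalizer.mp h4

theorem Setting.normalizer_isCoatom [Finite G] [Fact p.Prime] (h : Setting G 𝓐 p) (P : Sylow p G)
    (hnn : ¬ (P : Subgroup G).Normal) :
    IsCoatom (Subgroup.normalizer ((P : Subgroup G) : Set G)) := by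
  refine ⟨?_, ?_⟩
  · intro htop
    exact hnn (Subgroup.normalizer_eq_top_iff.mp htop)
  · intro M hM
    by_contra hMtop
    have := h.le_normalizer P hMtop (le_trans (centralizer_le_normalizer' _) hM.le)
    exact absurd hM (not_lt_of_ge this)

theorem Setting.coatom_unique [Finite G] [Fact p.Prime] (h : Setting G 𝓐 p) (P : Sylow p G)
    (hnn : ¬ (P : Subgroup G).Normal) {M : Subgroup G} (hM : IsCoatom M)
    (hCM : Subgroup.centralizer ((P : Subgroup G) : Set G) ≤ M) :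
    M = Subgroup.normalizer ((P : Subgroup G) : Set G) := by
  have h1 := h.le_normalizer P hM.1 hCM
  have h2 : Subgroup.normalizer ((P : Subgroup G) : Set G) ≠ ⊤ := fun htop =>
    hnn (Subgroup.normalizer_eq_top_iff.mp htop)
  by_contra hne
  exact h2 (hM.2 _ (lt_of_le_of_ne h1 hne))

/-- The normalizer meets its conjugates in `p'`-groups. -/
theorem Setting.ti [Finite G] [Fact p.Prime] (h : Setting G 𝓐 p) (P : Sylow p G) (g : G)
    (hg : g ∉ Subgroup.normalizer ((P : Subgroup G) : Set G)) :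
    ¬ p ∣ Nat.card ↥(Subgroup.normalizer ((P : Subgroup G) : Set G) ⊓
          (Subgroup.normalizer ((P : Subgroup G) : Set G)).map (MulAut.conj g).toMonoidHom) := by
  intro hdvd
  obtain ⟨⟨y, hy⟩, hyo⟩ := exists_prime_orderOf_dvd_card' p hdvd
  have hyo' : orderOf y = p := by
    rw [← hyo]; exact (Subgroup.orderOf_mk y hy).symm
  have hy1 : y ≠ 1 := by
    intro h1
    rw [h1, orderOf_one] at hyo'
    exact (Fact.out : p.Prime).ne_one hyo'.symm
  have hyp : IsPGroup p (Subgroup.zpowers y) := by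
    apply isPGroup_zpowers_of_pow_eq_one (a := 1)
    rw [pow_one, ← hyo', pow_orderOf_eq_one]
  have hyP : y ∈ (P : Subgroup G) := mem_sylow_of_mem_normalizer P hyp hy.1
  obtain ⟨n, hn, hny⟩ := hy.2
  have hny' : g⁻¹ * y * g = n := by
    rw [← hny]
    simp only [MulEquiv.coe_toMonoidHom, MulAut.conj_apply]
    group
  have hyp' : IsPGroup p (Subgroup.zpowers (g⁻¹ * y * g)) := by
    apply isPGroup_zpowers_of_pow_eq_one (a := 1)
    have : (g⁻¹ * y * g) ^ p = g⁻¹ * y ^ p * g := by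
      have := conj_pow (a := g⁻¹) (b := y) (i := p)
      simpa using this
    rw [pow_one, this, ← hyo', pow_orderOf_eq_one]
    group
  have hyQ : y ∈ ((g • P : Sylow p G) : Subgroup G) := by
    rw [mem_smul_sylow_iff]
    exact mem_sylow_of_mem_normalizer P hyp' (hny' ▸ hn)
  obtain ⟨A, hA, hCA⟩ := h.centralizer_mem P
  obtain ⟨A', hA', hCA'⟩ := h.centralizer_mem (g • P)
  have hyA : y ∈ A := by
    rw [← hCA, Subgroup.mem_centralizer_iff]
    intro z hz
    exact h.comm P z hz y hyP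
  have hyA' : y ∈ A' := by
    rw [← hCA', Subgroup.mem_centralizer_iff]
    intro z hz
    exact h.comm (g • P) z hz y hyQ
  have h3 : A' = A := h.unique_member hy1 hyp hA' hA hyA' hyA
  have h4 : (g • P : Sylow p G) = P := by
    apply sylow_eq_of_centralizer_eq P (g • P) (h.comm (g • P))
    rw [hCA', hCA, h3]
  exact hg (Sylow.smul_eq_iff_mem_normalizer.mp h4)


/-- Build the setting from hypotheses on one Sylow subgroup. -/
theorem Setting.of_sylow [Finite G] [Fact p.Prime] (hZ : Subgroup.center G = ⊥)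
    (𝓐 : Finset (Subgroup G))
    (h𝓐 : ((∀ A ∈ 𝓐, A ≠ ⊤) ∧ (∀ g : G, ∃ A ∈ 𝓐, g ∈ A)) ∧
      (∀ 𝓑 : Finset (Subgroup G), (∀ A ∈ 𝓑, A ≠ ⊤) ∧ (∀ g : G, ∃ A ∈ 𝓑, g ∈ A) →
        𝓐.card ≤ 𝓑.card) ∧ (∀ A ∈ 𝓐, Group.IsNilpotent ↥A))
    (P : Sylow p G)
    (hab : ∀ a ∈ (P : Subgroup G), ∀ b ∈ (P : Subgroup G), a * b = b * a)
    (hnn : ¬ (P : Subgroup G).Normal)
    (hshape : (∃ x ∈ (P : Subgroup G), ∀ y ∈ (P : Subgroup G), y ∈ Subgroup.zpowers x) ∨
      (∃ x ∈ (P : Subgroup G), x ^ p ≠ 1)) : Setting G 𝓐 p := by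
  have hconj : ∀ Q : Sylow p G, ∃ g : G, g • P = Q := fun Q => MulAction.exists_smul_eq G P Q
  have hPbot : (P : Subgroup G) ≠ ⊥ := by
    intro hb
    apply hnn
    rw [hb]
    infer_instance
  refine ⟨hZ, h𝓐.1.1, h𝓐.1.2, h𝓐.2.1, h𝓐.2.2, ?_, ?_, ?_⟩
  · intro Q a ha b hb
    obtain ⟨g, rfl⟩ := hconj Q
    rw [mem_smul_sylow_iff] at ha hb
    have h1 := hab _ ha _ hb
    calc a * b = g * ((g⁻¹ * a * g) * (g⁻¹ * b * g)) * g⁻¹ := by group
      _ = g * ((g⁻¹ * b * g) * (g⁻¹ * a * g)) * g⁻¹ := by rw [h1]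
      _ = b * a := by group
  · intro Q hQ
    obtain ⟨g, rfl⟩ := hconj Q
    apply hPbot
    rw [Subgroup.eq_bot_iff_forall]
    intro x hx
    have h1 : g * x * g⁻¹ ∈ ((g • P : Sylow p G) : Subgroup G) := by
      rw [mem_smul_sylow_iff]
      have : g⁻¹ * (g * x * g⁻¹) * g = x := by group
      rw [this]; exact hx
    rw [hQ, Subgroup.mem_bot] at h1
    have : x = g⁻¹ * (g * x * g⁻¹) * g := by group
    rw [this, h1]; group
  · intro Q
    obtain ⟨g, rfl⟩ := hconj Q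
    rcases hshape with ⟨x, hx, hgen⟩ | ⟨x, hx, hxp⟩
    · left
      refine ⟨g * x * g⁻¹, ?_, ?_⟩
      · rw [mem_smul_sylow_iff]
        have : g⁻¹ * (g * x * g⁻¹) * g = x := by group
        rw [this]; exact hx
      · intro y hy
        rw [mem_smul_sylow_iff] at hy
        obtain ⟨k, hk⟩ := Subgroup.mem_zpowers_iff.mp (hgen _ hy)
        rw [Subgroup.mem_zpowers_iff]
        refine ⟨k, ?_⟩
        rw [conj_zpow, hk]
        group
    · right
      refine ⟨g * x * g⁻¹, ?_, ?_⟩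
      · rw [mem_smul_sylow_iff]
        have : g⁻¹ * (g * x * g⁻¹) * g = x := by group
        rw [this]; exact hx
      · rw [conj_pow]
        intro h1
        apply hxp
        have : x ^ p = g⁻¹ * (g * x ^ p * g⁻¹) * g := by group
        rw [this, h1]; group

/-- Shape data from a cyclic Sylow subgroup. -/
theorem shape_of_isCyclic (H : Subgroup G) (hc : IsCyclic ↥H) :
    (∀ a ∈ H, ∀ b ∈ H, a * b = b * a) ∧
    (∃ x ∈ H, ∀ y ∈ H, y ∈ Subgroup.zpowers x) := by
  obtain ⟨⟨x, hx⟩, hgen⟩ := hc.exists_generator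
  have key : ∀ y ∈ H, y ∈ Subgroup.zpowers x := by
    intro y hy
    obtain ⟨k, hk⟩ := Subgroup.mem_zpowers_iff.mp (hgen ⟨y, hy⟩)
    rw [Subgroup.mem_zpowers_iff]
    refine ⟨k, ?_⟩
    have := congrArg Subtype.val hk
    simpa using this
  refine ⟨?_, x, hx, key⟩
  intro a ha b hb
  obtain ⟨k, rfl⟩ := Subgroup.mem_zpowers_iff.mp (key a ha)
  obtain ⟨l, rfl⟩ := Subgroup.mem_zpowers_iff.mp (key b hb)
  rw [← zpow_add, ← zpow_add, add_comm]

theorem comm_of_isMulCommutative (H : Subgroup G) (hc : IsMulCommutative ↥H) :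
    ∀ a ∈ H, ∀ b ∈ H, a * b = b * a := by
  intro a ha b hb
  have := hc.is_comm.comm ⟨a, ha⟩ ⟨b, hb⟩
  exact congrArg Subtype.val this

end Cfsg.Agent.Lib.helper17.NilCover
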