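import Mathlib
import Cfsg.Agent.Lib.helper17.NilCover

set_option autoImplicit false

namespace Cfsg.Agent.Lib.helper17.NilCover2

open Cfsg.Agent.Lib.helper17.NilCover Equiv

/-- If two non-commuting `p`-elements have their centralizers inside a common proper subgroup and
Sylow `p`-subgroups are abelian, there is no nilpotent minimal cover. -/
theorem no_nil_min_cover {G : Type*} [Group G] [Finite G] {p : ℕ} [Fact p.Prime]
    (hab : ∀ Q : Sylow p G, ∀ a ∈ (Q : Subgroup G), ∀ b ∈ (Q : Subgroup G), a * b = b * a)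
    (y y' : G) (hy : y ^ p = 1) (hy' : y' ^ p = 1) (H : Subgroup G) (hH : H ≠ ⊤)
    (hCy : Subgroup.centralizer {y} ≤ H) (hCy' : Subgroup.centralizer {y'} ≤ H)
    (hnc : y * y' ≠ y' * y) :
    ¬ ∃ 𝓐 : Finset (Subgroup G), ((∀ A ∈ 𝓐, A ≠ ⊤) ∧ (∀ g : G, ∃ A ∈ 𝓐, g ∈ A)) ∧
      (∀ 𝓑 : Finset (Subgroup G), (∀ A ∈ 𝓑, A ≠ ⊤) ∧ (∀ g : G, ∃ A ∈ 𝓑, g ∈ A) →
        𝓐.card ≤ 𝓑.card) ∧ (∀ A ∈ 𝓐, Group.IsNilpotent ↥A) := by
  rintro ⟨𝓐, ⟨hc1, hc2⟩, hmin, hnil⟩
  obtain ⟨A, hA, hyA⟩ := hc2 y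
  obtain ⟨A', hA', hyA'⟩ := hc2 y'
  have := hnil A hA
  have := hnil A' hA'
  have hpy : IsPGroup p (Subgroup.zpowers y) :=
    isPGroup_zpowers_of_pow_eq_one (a := 1) (by rw [pow_one]; exact hy)
  have hpy' : IsPGroup p (Subgroup.zpowers y') :=
    isPGroup_zpowers_of_pow_eq_one (a := 1) (by rw [pow_one]; exact hy')
  have h1 := nilpotent_le_centralizer hab A hyA hpy
  have h2 := nilpotent_le_centralizer hab A' hyA' hpy'
  have h3 : A = A' := at_most_one 𝓐 hc1 hc2 hmin hH hA hA' (h1.trans hCy) (h2.trans hCy')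
  have h4 : y' ∈ Subgroup.centralizer {y} := h1 (h3 ▸ hyA')
  rw [Subgroup.mem_centralizer_iff] at h4
  exact hnc (h4 y rfl)

/-- If `p²` does not divide the group order, Sylow `p`-subgroups are abelian. -/
theorem sylow_comm_of_not_sq_dvd {G : Type*} [Group G] [Finite G] {p : ℕ} [Fact p.Prime]
    (hp2 : ¬ p ^ 2 ∣ Nat.card G) :
    ∀ Q : Sylow p G, ∀ a ∈ (Q : Subgroup G), ∀ b ∈ (Q : Subgroup G), a * b = b * a := by
  intro Q
  have hp : p.Prime := Fact.out
  obtain ⟨k, hk⟩ := IsPGroup.iff_card.mp Q.isPGroup'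
  have hdvd : p ^ k ∣ Nat.card G := hk ▸ Subgroup.card_subgroup_dvd_card (Q : Subgroup G)
  have hk1 : k ≤ 1 := by
    by_contra hk2
    exact hp2 (dvd_trans (pow_dvd_pow p (by omega)) hdvd)
  interval_cases k
  · rw [pow_zero] at hk
    have hb : (Q : Subgroup G) = ⊥ := Subgroup.card_eq_one.mp hk
    intro a ha b hb'
    rw [hb, Subgroup.mem_bot] at ha hb'
    rw [ha, hb']
  · rw [pow_one] at hk
    have hcyc : IsCyclic ↥(Q : Subgroup G) := isCyclic_of_prime_card hk
    exact (shape_of_isCyclic (Q : Subgroup G) hcyc).1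

theorem not_sq_dvd_factorial {p n : ℕ} (hp : p.Prime) (hn : n < 2 * p) :
    ¬ p ^ 2 ∣ n.factorial := by
  have h2 : 2 ≤ p := hp.two_le
  have hlog : Nat.log p n < 2 := by
    by_cases hn0 : n = 0
    · subst hn0; simp
    apply Nat.log_lt_of_lt_pow hn0
    nlinarith
  rw [hp.pow_dvd_factorial_iff hlog]
  have h1 : Finset.Ico 1 2 = {1} := by decide
  rw [h1, Finset.sum_singleton, pow_one]
  have : n / p < 2 := Nat.div_lt_of_lt_mul (by linarith)
  omega

section PermPart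

variable {α : Type*}

/-- The setwise stabilizer of a finset. -/
def stab (S : Finset α) : Subgroup (Perm α) where
  carrier := {g | ∀ x, g x ∈ S ↔ x ∈ S}
  mul_mem' := by
    intro g h hg hh x
    rw [Perm.mul_apply, hg, hh]
  one_mem' := by
    intro x
    rw [Perm.one_apply]
  inv_mem' := by
    intro g hg x
    rw [← hg (g⁻¹ x)]
    simp

theorem mem_stab {S : Finset α} {g : Perm α} : g ∈ stab S ↔ ∀ x, g x ∈ S ↔ x ∈ S := Iff.rfl

theorem centralizer_le_stab [DecidableEq α] [Fintype α] (y : Perm α) :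
    Subgroup.centralizer {y} ≤ stab y.support := by
  intro g hg
  rw [Subgroup.mem_centralizer_iff] at hg
  have h1 : y * g = g * y := hg y rfl
  rw [mem_stab]
  intro x
  rw [Perm.mem_support, Perm.mem_support]
  have h2 : y (g x) = g (y x) := by
    have := congrArg (fun f : Perm α => f x) h1
    simpa using this
  rw [h2]
  exact g.injective.ne_iff

theorem exists_pcycle [DecidableEq α] [Fintype α] {p : ℕ} (hp2 : 2 ≤ p)
    (hpn : p ≤ Fintype.card α) :
    ∃ y : Perm α, y.IsCycle ∧ y.support.card = p := by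
  obtain ⟨y, hy⟩ := (Perm.exists_with_cycleType_iff (α := α) (m := {p})).mpr
    ⟨by simpa using hpn, by intro a ha; rw [Multiset.mem_singleton] at ha; omega⟩
  have h1 : y.IsCycle := by
    rw [← Perm.card_cycleType_eq_one, hy]; simp
  refine ⟨y, h1, ?_⟩
  have := h1.cycleType
  rw [hy] at this
  exact (Multiset.singleton_inj.mp this).symm

/-- The two non-commuting `p`-cycles. -/
theorem exists_two_pcycles [DecidableEq α] [Fintype α] {p : ℕ} (hp : p.Prime) (hp5 : 5 ≤ p)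
    (hpn : p < Fintype.card α) :
    ∃ (S : Finset α) (y y' : Perm α) (w : Perm α), y ∈ alternatingGroup α ∧ y' ∈ alternatingGroup α ∧
      w ∈ alternatingGroup α ∧ w ∉ stab S ∧
      y ^ p = 1 ∧ y' ^ p = 1 ∧ y * y' ≠ y' * y ∧
      Subgroup.centralizer {y} ≤ stab S ∧ Subgroup.centralizer {y'} ≤ stab S := by
  obtain ⟨y, hcyc, hcard⟩ := exists_pcycle (α := α) (p := p) (by omega) hpn.le
  have hord : orderOf y = p := by rw [hcyc.orderOf, hcard]
  have hyp : y ^ p = 1 := by rw [← hord, pow_orderOf_eq_one]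
  obtain ⟨a, ha⟩ : y.support.Nonempty := by
    rw [← Finset.card_pos, hcard]; omega
  have ha' : y a ≠ a := Perm.mem_support.mp ha
  -- powers of y move a
  have hpow : ∀ k : ℕ, 0 < k → k < p → (y ^ k) a ≠ a := by
    intro k hk0 hkp hfix
    have h1 : y ^ k = 1 := (hcyc.pow_eq_one_iff' ha').mpr hfix
    have h2 := orderOf_dvd_of_pow_eq_one h1
    rw [hord] at h2
    exact absurd (Nat.le_of_dvd hk0 h2) (by omega)
  have hb : y a ∈ y.support := Perm.apply_mem_support.mpr ha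
  have h2a : y (y a) ≠ a := by
    have := hpow 2 (by omega) (by omega)
    simpa [pow_succ, Perm.mul_apply] using this
  have h3a : y (y (y a)) ≠ a := by
    have := hpow 3 (by omega) (by omega)
    simpa [pow_succ, Perm.mul_apply] using this
  have h2b : y (y a) ≠ y a := Perm.mem_support.mp hb
  set t : Perm α := swap a (y a) with ht
  have htS : t ∈ stab y.support := by
    rw [mem_stab]
    intro x
    by_cases hxa : x = a
    · subst hxa
      rw [ht, swap_apply_left]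
      exact ⟨fun _ => ha, fun _ => hb⟩
    by_cases hxb : x = y a
    · rw [hxb, ht, swap_apply_right]
      exact ⟨fun _ => hb, fun _ => ha⟩
    rw [ht, swap_apply_of_ne_of_ne hxa hxb]
  have hsy : Perm.sign y = 1 := by
    rw [hcyc.sign, hcard]
    have hodd : Odd p := hp.odd_of_ne_two (by omega)
    rw [hodd.neg_one_pow]; simp
  obtain ⟨e, he⟩ : ∃ e, e ∉ y.support := by
    by_contra hall
    push Not at hall
    have : y.support = Finset.univ := Finset.eq_univ_iff_forall.mpr hall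
    rw [this, Finset.card_univ] at hcard
    omega
  have hea : a ≠ e := fun h => he (h ▸ ha)
  refine ⟨y.support, y, t * y * t⁻¹, swap a e * swap a (y a), ?_, ?_, ?_, ?_, hyp, ?_, ?_,
    centralizer_le_stab y, ?_⟩
  · exact Perm.mem_alternatingGroup.mpr hsy
  · rw [Perm.mem_alternatingGroup]
    simp [hsy]
  · rw [Perm.mem_alternatingGroup]
    simp [Perm.sign_swap hea, Perm.sign_swap ha'.symm]
  · intro hw
    rw [mem_stab] at hw
    have h1 := (hw (y a)).mpr hb
    rw [Perm.mul_apply, swap_apply_right, swap_apply_left] at h1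
    exact he h1
  · rw [conj_pow, hyp]; simp
  · intro hcomm
    have h1 := congrArg (fun f : Perm α => f a) hcomm
    simp only [Perm.mul_apply] at h1
    -- t⁻¹ = t
    have htinv : t⁻¹ = t := by rw [ht, swap_inv]
    rw [htinv] at h1
    have e1 : t a = y a := by rw [ht, swap_apply_left]
    have e2 : t (y a) = a := by rw [ht, swap_apply_right]
    have e3 : t (y (y a)) = y (y a) := by
      rw [ht]; exact swap_apply_of_ne_of_ne h2a h2b
    simp only [e1, e2, e3] at h1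
    exact h3a h1
  · intro g hg
    rw [Subgroup.mem_centralizer_iff] at hg
    have h1 : t * y * t⁻¹ * g = g * (t * y * t⁻¹) := hg _ rfl
    have h2 : t⁻¹ * g * t ∈ Subgroup.centralizer {y} := by
      rw [Subgroup.mem_centralizer_iff]
      intro z hz
      rw [Set.mem_singleton_iff] at hz
      subst hz
      calc z * (t⁻¹ * g * t) = t⁻¹ * (t * z * t⁻¹ * g) * t := by group
        _ = t⁻¹ * (g * (t * z * t⁻¹)) * t := by rw [h1]
        _ = t⁻¹ * g * t * z := by group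
    have h3 := centralizer_le_stab y h2
    have : g = t * (t⁻¹ * g * t) * t⁻¹ := by group
    rw [this]
    exact (stab y.support).mul_mem ((stab y.support).mul_mem htS h3) ((stab y.support).inv_mem htS)

end PermPart

/-- Transfer the data from `Perm (Fin n)` to a group embedded in it. -/
theorem no_cover_of_data {G : Type*} [Group G] [Finite G] {n : ℕ} (φ : G →* Perm (Fin n))
    (hφ : Function.Injective φ) {p : ℕ} [Fact p.Prime] (hp2 : ¬ p ^ 2 ∣ n.factorial)
    (H : Subgroup (Perm (Fin n))) (y y' w : Perm (Fin n)) (hy : y ∈ φ.range) (hy' : y' ∈ φ.range)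
    (hw : w ∈ φ.range) (hwH : w ∉ H) (hyp : y ^ p = 1) (hyp' : y' ^ p = 1)
    (hnc : y * y' ≠ y' * y) (hC : ∀ g ∈ φ.range, y * g = g * y → g ∈ H)
    (hC' : ∀ g ∈ φ.range, y' * g = g * y' → g ∈ H) :
    ¬ ∃ 𝓐 : Finset (Subgroup G), ((∀ A ∈ 𝓐, A ≠ ⊤) ∧ (∀ g : G, ∃ A ∈ 𝓐, g ∈ A)) ∧
      (∀ 𝓑 : Finset (Subgroup G), (∀ A ∈ 𝓑, A ≠ ⊤) ∧ (∀ g : G, ∃ A ∈ 𝓑, g ∈ A) →
        𝓐.card ≤ 𝓑.card) ∧ (∀ A ∈ 𝓐, Group.IsNilpotent ↥A) := by
  obtain ⟨y₀, rfl⟩ := hy
  obtain ⟨y₀', rfl⟩ := hy'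
  obtain ⟨w₀, rfl⟩ := hw
  refine no_nil_min_cover (p := p) ?_ y₀ y₀' ?_ ?_ (H.comap φ) ?_ ?_ ?_ ?_
  · apply sylow_comm_of_not_sq_dvd
    intro hdvd
    apply hp2
    have h1 : Nat.card G = Nat.card φ.range := Nat.card_congr (MonoidHom.ofInjective hφ).toEquiv
    have h2 : Nat.card φ.range ∣ Nat.card (Perm (Fin n)) := Subgroup.card_subgroup_dvd_card _
    have h3 : Nat.card (Perm (Fin n)) = n.factorial := by
      rw [Nat.card_eq_fintype_card, Fintype.card_perm, Fintype.card_fin]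
    rw [h1] at hdvd
    rw [← h3]
    exact dvd_trans hdvd h2
  · apply hφ
    rw [map_pow, hyp, map_one]
  · apply hφ
    rw [map_pow, hyp', map_one]
  · intro htop
    apply hwH
    have : w₀ ∈ H.comap φ := htop ▸ Subgroup.mem_top _
    exact this
  · intro g hg
    rw [Subgroup.mem_comap]
    apply hC _ ⟨g, rfl⟩
    rw [Subgroup.mem_centralizer_iff] at hg
    rw [← map_mul, ← map_mul, hg y₀ rfl]
  · intro g hg
    rw [Subgroup.mem_comap]
    apply hC' _ ⟨g, rfl⟩
    rw [Subgroup.mem_centralizer_iff] at hg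
    rw [← map_mul, ← map_mul, hg y₀' rfl]
  · intro h
    apply hnc
    rw [← map_mul, ← map_mul, h]

theorem exists_bertrand {n : ℕ} (hn : 6 ≤ n) : ∃ p : ℕ, p.Prime ∧ 5 ≤ p ∧ p < n ∧ n < 2 * p := by
  obtain ⟨p, hp, hlt, hle⟩ := Nat.exists_prime_lt_and_le_two_mul (n / 2) (by omega)
  refine ⟨p, hp, ?_, ?_, by omega⟩
  · have h4 : p ≠ 4 := by
      intro h; rw [h] at hp; exact absurd hp (by decide)
    omega
  · by_contra hge
    have hpn : p = n := by omega
    have h2 : 2 ∣ p := by omega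
    have := (Nat.prime_dvd_prime_iff_eq Nat.prime_two hp).mp h2
    omega

/-- Groups between `A_n` and `S_n`, `n ≥ 6`, have no nilpotent minimal cover. -/
theorem no_cover_of_embedding {G : Type*} [Group G] [Finite G] {n : ℕ} (φ : G →* Perm (Fin n))
    (hφ : Function.Injective φ) (hA : alternatingGroup (Fin n) ≤ φ.range) (hn : 6 ≤ n) :
    ¬ ∃ 𝓐 : Finset (Subgroup G), ((∀ A ∈ 𝓐, A ≠ ⊤) ∧ (∀ g : G, ∃ A ∈ 𝓐, g ∈ A)) ∧
      (∀ 𝓑 : Finset (Subgroup G), (∀ A ∈ 𝓑, A ≠ ⊤) ∧ (∀ g : G, ∃ A ∈ 𝓑, g ∈ A) →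
        𝓐.card ≤ 𝓑.card) ∧ (∀ A ∈ 𝓐, Group.IsNilpotent ↥A) := by
  obtain ⟨p, hp, hp5, hpn, hn2p⟩ := exists_bertrand hn
  have : Fact p.Prime := ⟨hp⟩
  obtain ⟨S, y, y', w, hy, hy', hw, hwS, hyp, hyp', hnc, hC, hC'⟩ :=
    exists_two_pcycles (α := Fin n) hp hp5 (by simpa using hpn)
  refine no_cover_of_data φ hφ (not_sq_dvd_factorial hp hn2p) (stab S) y y' w (hA hy) (hA hy')
    (hA hw) hwS hyp hyp' hnc ?_ ?_
  · intro g _ hg
    apply hC
    rw [Subgroup.mem_centralizer_iff]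
    intro z hz
    rw [Set.mem_singleton_iff] at hz
    rw [hz, hg]
  · intro g _ hg
    apply hC'
    rw [Subgroup.mem_centralizer_iff]
    intro z hz
    rw [Set.mem_singleton_iff] at hz
    rw [hz, hg]

end Cfsg.Agent.Lib.helper17.NilCover2
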