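import Mathlib
import Cfsg.Agent.Lib.helper17.NilCover2

set_option autoImplicit false

namespace Cfsg.Agent.Lib.helper17.NilCover3

open Cfsg.Agent.Lib.helper17.NilCover2 Equiv

set_option maxRecDepth 100000 in
theorem sym4 : ¬ ∃ 𝓐 : Finset (Subgroup (Perm (Fin 4))),
    ((∀ A ∈ 𝓐, A ≠ ⊤) ∧ (∀ g : Perm (Fin 4), ∃ A ∈ 𝓐, g ∈ A)) ∧
      (∀ 𝓑 : Finset (Subgroup (Perm (Fin 4))), (∀ A ∈ 𝓑, A ≠ ⊤) ∧
        (∀ g : Perm (Fin 4), ∃ A ∈ 𝓑, g ∈ A) → 𝓐.card ≤ 𝓑.card) ∧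
      (∀ A ∈ 𝓐, Group.IsNilpotent ↥A) := by
  have : Fact (Nat.Prime 3) := ⟨by norm_num⟩
  refine no_cover_of_data (n := 4) (p := 3) (MonoidHom.id _) (fun _ _ h => h) (by decide)
    (alternatingGroup (Fin 4)) (swap 0 1 * swap 1 2) (swap 0 1 * swap 1 3) (swap 0 1)
    ⟨_, rfl⟩ ⟨_, rfl⟩ ⟨_, rfl⟩ ?_ ?_ ?_ ?_ ?_ ?_
  · rw [Perm.mem_alternatingGroup]; decide
  · decide
  · decide
  · decide
  · intro g _
    rw [Perm.mem_alternatingGroup]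
    revert g
    decide
  · intro g _
    rw [Perm.mem_alternatingGroup]
    revert g
    decide

set_option maxRecDepth 100000 in
theorem sym5 : ¬ ∃ 𝓐 : Finset (Subgroup (Perm (Fin 5))),
    ((∀ A ∈ 𝓐, A ≠ ⊤) ∧ (∀ g : Perm (Fin 5), ∃ A ∈ 𝓐, g ∈ A)) ∧
      (∀ 𝓑 : Finset (Subgroup (Perm (Fin 5))), (∀ A ∈ 𝓑, A ≠ ⊤) ∧
        (∀ g : Perm (Fin 5), ∃ A ∈ 𝓑, g ∈ A) → 𝓐.card ≤ 𝓑.card) ∧
      (∀ A ∈ 𝓐, Group.IsNilpotent ↥A) := by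
  have : Fact (Nat.Prime 5) := ⟨by norm_num⟩
  refine no_cover_of_data (n := 5) (p := 5) (MonoidHom.id _) (fun _ _ h => h) (by decide)
    (alternatingGroup (Fin 5)) (swap 0 1 * swap 1 2 * swap 2 3 * swap 3 4)
    (swap 1 0 * swap 0 2 * swap 2 3 * swap 3 4) (swap 0 1)
    ⟨_, rfl⟩ ⟨_, rfl⟩ ⟨_, rfl⟩ ?_ ?_ ?_ ?_ ?_ ?_
  · rw [Perm.mem_alternatingGroup]; decide
  · decide
  · decide
  · decide
  · intro g _
    rw [Perm.mem_alternatingGroup]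
    revert g
    decide
  · intro g _
    rw [Perm.mem_alternatingGroup]
    revert g
    decide

set_option maxRecDepth 100000 in
theorem alt5 : ¬ ∃ 𝓐 : Finset (Subgroup ↥(alternatingGroup (Fin 5))),
    ((∀ A ∈ 𝓐, A ≠ ⊤) ∧ (∀ g : ↥(alternatingGroup (Fin 5)), ∃ A ∈ 𝓐, g ∈ A)) ∧
      (∀ 𝓑 : Finset (Subgroup ↥(alternatingGroup (Fin 5))), (∀ A ∈ 𝓑, A ≠ ⊤) ∧
        (∀ g : ↥(alternatingGroup (Fin 5)), ∃ A ∈ 𝓑, g ∈ A) → 𝓐.card ≤ 𝓑.card) ∧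
      (∀ A ∈ 𝓐, Group.IsNilpotent ↥A) := by
  have : Fact (Nat.Prime 3) := ⟨by norm_num⟩
  have hr : ∀ g : Perm (Fin 5), g ∈ (alternatingGroup (Fin 5)).subtype.range ↔ Perm.sign g = 1 := by
    intro g
    rw [Subgroup.range_subtype, Perm.mem_alternatingGroup]
  refine no_cover_of_data (n := 5) (p := 3) (alternatingGroup (Fin 5)).subtype
    (Subgroup.subtype_injective _) (by decide)
    (MulAction.stabilizer (Perm (Fin 5)) (4 : Fin 5)) (swap 0 1 * swap 1 2) (swap 0 1 * swap 1 3)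
    (swap 2 3 * swap 3 4) ?_ ?_ ?_ ?_ ?_ ?_ ?_ ?_ ?_
  · rw [hr]; decide
  · rw [hr]; decide
  · rw [hr]; decide
  · rw [MulAction.mem_stabilizer_iff, Perm.smul_def]; decide
  · decide
  · decide
  · decide
  · intro g hg
    rw [hr] at hg
    rw [MulAction.mem_stabilizer_iff, Perm.smul_def]
    revert g
    decide
  · intro g hg
    rw [hr] at hg
    rw [MulAction.mem_stabilizer_iff, Perm.smul_def]
    revert g
    decide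

end Cfsg.Agent.Lib.helper17.NilCover3
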