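import Mathlib
import Cfsg.Agent.Lib.helper17.OMP.Defs
import Cfsg.Agent.Lib.helper17.OMP.Defs2
import Cfsg.Agent.Lib.Helper18.SP4T3
import Cfsg.Agent.Lib.Helper28.CTDS2
import Cfsg.Agent.Lib.Helper28.CTDS1h
import Cfsg.Agent.Lib.Helper28.CTDM1f
import Cfsg.Agent.Lib.Helper28.OMMO10
import Cfsg.Agent.Lib.Helper1.OMPF3core
import Cfsg.Agent.Lib.Helper13.OMPE2
import Cfsg.Agent.Lib.helper2.OMPE4
import Cfsg.Agent.Lib.Helper26.OMPE5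
import Cfsg.Agent.Lib.Helper11.OMPE6
import Cfsg.Agent.Lib.Helper5.OMPE7
import Cfsg.Agent.Lib.helper4.OMPE9
import Cfsg.Agent.Lib.Helper12.OMPE10
import Cfsg.Agent.Lib.Helper22.OMPA1
import Cfsg.Agent.Lib.Helper11.OMPA2
import Cfsg.Agent.Lib.helper17.OMPA4
import Cfsg.Agent.Lib.helper17.OMPA5
import Cfsg.Agent.Lib.Helper18.OMPA8
import Cfsg.Agent.Lib.Helper18.OMPA9
import Cfsg.Agent.Lib.Helper29.OMPA13
import Cfsg.Agent.Lib.helper15.OMPA16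
import Cfsg.Agent.Lib.Helper1.OMPA21
import Cfsg.Agent.Lib.helper17.OMPA10

/-!
# Project OMP, rows A17 (`ext_a1`, `ext_c1`), A18 (`ext_c2`), A19 (`ext_c3`, `ext_spin`), A20 (`omp_dsys`), A22 (`y_eq_w`),
verbatim from `OMP/Skel.lean.txt`
-/

set_option autoImplicit false

namespace Cfsg.Agent.Lib.helper17.OMP

open Matrix Cfsg.Agent.Lib.helper14.CTE Cfsg.Agent.Lib.helper14.CTA Cfsg.Agent.Lib.helper17.SLN Cfsg.Agent.Lib.Helper28.CTD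
  Cfsg.Agent.Lib.helper3.STC Cfsg.Agent.Lib.Lead.STD

universe u v w

section A

variable {F : Type u} [Field F] {G : Type v} [Group G] {ι : Type w} [Fintype ι] [DecidableEq ι]

/-- an index outside three given ones -/
theorem ompa17_exists_ne (h4 : 4 ≤ Fintype.card ι) (a b c : ι) : ∃ k : ι, a ≠ k ∧ b ≠ k ∧ c ≠ k := by
  classical
  by_contra hcon
  push Not at hcon
  have hsub : (Finset.univ : Finset ι) ⊆ {a, b, c} := by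
    intro k _
    simp only [Finset.mem_insert, Finset.mem_singleton]
    by_cases h1 : a = k
    · exact Or.inl h1.symm
    · by_cases h2 : b = k
      · exact Or.inr (Or.inl h2.symm)
      · exact Or.inr (Or.inr (hcon k h1 h2).symm)
  have h1 := Finset.card_le_card hsub
  have h2 : ({a, b, c} : Finset ι).card ≤ 3 := Finset.card_le_three
  rw [Finset.card_univ] at h1
  omega

theorem ompa17_f3_0 (p : Pts ι) : f3 p 0 = p.o3 := rfl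
theorem ompa17_f3_1 (p : Pts ι) : f3 p 1 = p.o2 := rfl
theorem ompa17_f3_2 (p : Pts ι) : f3 p 2 = p.o1 := rfl

/-- A17 [M] -/
theorem ext_a1 (p : Pts ι) (Φ : Matrix.SpecialLinearGroup ι F →* G) (y : G) (H : OG p Φ y) (t : F) :
    Theta p Φ y (e3 0 1 t) = Φ (tv p.o3 p.o2 t) ∧ Theta p Φ y (e3 1 0 t) = Φ (tv p.o2 p.o3 t) := by
  have h1 : Commute y (Φ (tv p.o3 p.o2 t)) :=
    H.cB _ ((Mv_iff _ _ _ _ _).mpr ⟨Mv1_tv p.o3 p.o2 p.o0 p.h23.symm p.h03 p.h02 t, Mv1_tv p.o3 p.o2 p.o1 p.h23.symm p.h13 p.h12 t⟩)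
  have h2 : Commute y (Φ (tv p.o2 p.o3 t)) :=
    H.cB _ ((Mv_iff _ _ _ _ _).mpr ⟨Mv1_tv p.o2 p.o3 p.o0 p.h23 p.h02 p.h03 t, Mv1_tv p.o2 p.o3 p.o1 p.h23 p.h12 p.h13 t⟩)
  constructor
  · rw [Theta_e3 p Φ y 0 1 (by decide) t, ompa17_f3_0, ompa17_f3_1, h1.eq, mul_inv_cancel_right]
  · rw [Theta_e3 p Φ y 1 0 (by decide) t, ompa17_f3_0, ompa17_f3_1, h2.eq, mul_inv_cancel_right]

theorem ext_c1 [Fintype F] (h4 : 4 ≤ Fintype.card ι) (p : Pts ι) (Φ : Matrix.SpecialLinearGroup ι F →* G) (y : G) (H : OG p Φ y)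
    (i j : ι) (t : F) (hij : i ≠ j) (hj2 : j ≠ p.o2) (hj0 : j ≠ p.o0) :
    Φ (tv i j t) * Theta p Φ y (e3 1 2 1) = Theta p Φ y (e3 1 2 1) * Φ (tv i j t) := by
  rw [Theta_e3_12 p Φ y H.cB 1]
  show Commute (Φ (tv i j t)) (PP p Φ y p.o2 p.o0 p.o1 1)
  by_cases hi0 : i = p.o0
  · -- `PP 2 0 k 1 = PP 0 2 k (-1)`, `k ∉ {0, 2, j}`
    subst hi0
    obtain ⟨k, h0k, h2k, hjk⟩ := ompa17_exists_ne h4 p.o0 p.o2 j
    rw [PP_indep h4 p Φ y H p.o2 p.o0 p.o1 k p.h02.symm p.h12.symm p.h01 h2k h0k 1,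
      ← PP_swap h4 p Φ y H p.o2 p.o0 k p.h02.symm h2k h0k 1]
    exact tv_comm_PP h4 p Φ y H p.o0 p.o2 k p.o0 j h2k hij p.h02 hj2 h0k hjk hj0 t (-1)
  by_cases hi2 : i = p.o2
  · subst hi2
    obtain ⟨k, h2k, h0k, hjk⟩ := ompa17_exists_ne h4 p.o2 p.o0 j
    rw [PP_indep h4 p Φ y H p.o2 p.o0 p.o1 k p.h02.symm p.h12.symm p.h01 h2k h0k 1]
    exact tv_comm_PP h4 p Φ y H p.o2 p.o0 k p.o2 j h0k hij p.h02.symm hj0 h2k hjk hj2 t 1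
  · exact (h17x_one_gen h4 p Φ y H p.o2 p.o0 p.o1 i j p.h02.symm p.h12.symm p.h01 hij hi2 hi0 hj2 hj0 t 1).1

/-- A18 [M] -/
theorem ext_c2 [Fintype F] (h4 : 4 ≤ Fintype.card ι) (p : Pts ι) (Φ : Matrix.SpecialLinearGroup ι F →* G) (y : G) (H : OG p Φ y)
    (i j : ι) (t : F) (hij : i ≠ j) (hi2 : i ≠ p.o2) (hi0 : i ≠ p.o0) :
    Φ (tv i j t) * Theta p Φ y (e3 2 1 1) = Theta p Φ y (e3 2 1 1) * Φ (tv i j t) := by
  rw [Theta_e3_21 p Φ y H.cB 1]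
  show Commute (Φ (tv i j t)) (NN p Φ y p.o2 p.o0 p.o1 1)
  by_cases hj0 : j = p.o0
  · subst hj0
    obtain ⟨k, h0k, h2k, hik⟩ := ompa17_exists_ne h4 p.o0 p.o2 i
    rw [NN_indep h4 p Φ y H p.o2 p.o0 p.o1 k p.h02.symm p.h12.symm p.h01 h2k h0k 1,
      ← NN_swap h4 p Φ y H p.o2 p.o0 k p.h02.symm h2k h0k 1]
    exact tv_comm_NN h4 p Φ y H p.o0 p.o2 k i p.o0 h2k hij hi2 p.h02 hik h0k hi0 t (-1)
  by_cases hj2 : j = p.o2
  · subst hj2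
    obtain ⟨k, h2k, h0k, hik⟩ := ompa17_exists_ne h4 p.o2 p.o0 i
    rw [NN_indep h4 p Φ y H p.o2 p.o0 p.o1 k p.h02.symm p.h12.symm p.h01 h2k h0k 1]
    exact tv_comm_NN h4 p Φ y H p.o2 p.o0 k i p.o2 h0k hij hi0 p.h02.symm hik h2k hi2 t 1
  · exact (h17x_one_gen h4 p Φ y H p.o2 p.o0 p.o1 i j p.h02.symm p.h12.symm p.h01 hij hi2 hi0 hj2 hj0 t 1).2

/-- A19 [S-M] (two statements, one file) -/
theorem ext_c3 [Fintype F] (h4 : 4 ≤ Fintype.card ι) (p : Pts ι) (Φ : Matrix.SpecialLinearGroup ι F →* G) (y : G) (H : OG p Φ y)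
    (t : F) (g : SL3 F) (hg : g = e3 1 2 1 ∨ g = e3 2 1 1) :
    Φ (tv p.o2 p.o0 t) * Theta p Φ y g = Theta p Φ y g * Φ (tv p.o2 p.o0 t) ∧
      Φ (tv p.o0 p.o2 t) * Theta p Φ y g = Theta p Φ y g * Φ (tv p.o0 p.o2 t) := by
  have h := h17x_two_gen h4 p Φ y H p.o2 p.o0 p.o1 p.h02.symm p.h12.symm p.h01 t 1
  rcases hg with rfl | rfl
  · rw [Theta_e3_12 p Φ y H.cB 1]
    exact ⟨h.1.1.eq, h.1.2.eq⟩
  · rw [Theta_e3_21 p Φ y H.cB 1]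
    exact ⟨h.2.1.eq, h.2.2.eq⟩

/-- `d3` as a word in the elementary matrices of `SL₃` -/
theorem ompa19_d3 : (d3 : SL3 F) = (e3 1 2 1 * e3 2 1 (-1) * e3 1 2 1) * (e3 1 2 1 * e3 2 1 (-1) * e3 1 2 1) := by
  apply Subtype.ext
  have h12 : (1 : Fin 3) ≠ 2 := by decide
  have h21 : (2 : Fin 3) ≠ 1 := by decide
  have hd : ((d3 : SL3 F) : Matrix (Fin 3) (Fin 3) F) = !![1, 0, 0; 0, -1, 0; 0, 0, -1] := by
    show blk23M ((-1 : SL2 F) : Matrix (Fin 2) (Fin 2) F) = _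
    rw [Matrix.SpecialLinearGroup.coe_neg, Matrix.SpecialLinearGroup.coe_one]
    ext i j
    fin_cases i <;> fin_cases j <;> simp [blk23M]
  rw [hd]
  simp only [e3, dif_neg h12, dif_neg h21, Matrix.SpecialLinearGroup.coe_mul]
  ext i j
  fin_cases i <;> fin_cases j <;>
    simp [Matrix.SpecialLinearGroup.transvection, Matrix.transvection, Matrix.mul_apply, Fin.sum_univ_three,
      Matrix.single_apply, Matrix.one_apply]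

theorem ext_spin (p : Pts ι) (Φ : Matrix.SpecialLinearGroup ι F →* G) (y : G) (H : OG p Φ y) :
    Φ (wn p.o2 p.o0 * wn p.o2 p.o0) = Theta p Φ y d3 := by
  -- left side: `hm 0 2`
  have e1 : (wn p.o2 p.o0 * wn p.o2 p.o0 : Matrix.SpecialLinearGroup ι F) = hm p.o0 p.o2 := by
    rw [wn_eq_wE p.o2 p.o0 p.h02.symm, wE_mul_self p.o0 p.o2 p.h02]
  -- right side
  have e2 : embI (f3 p) (f3_injective p) (d3 : SL3 F) = hm p.o2 p.o1 := by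
    rw [ompa19_d3, map_mul, map_mul, map_mul, e3_eq_tv, e3_eq_tv,
      embI_tv (f3 p) (f3_injective p) 1 2 (by decide), embI_tv (f3 p) (f3_injective p) 2 1 (by decide),
      ompa17_f3_1, ompa17_f3_2]
    exact wE_mul_self p.o2 p.o1 p.h12.symm
  have e3' : Theta p Φ y d3 = y * Φ (hm p.o2 p.o1) * y⁻¹ := by
    show y * Φ (embI (f3 p) (f3_injective p) d3) * y⁻¹ = _
    rw [e2]
  have e4 : (hm p.o2 p.o1 : Matrix.SpecialLinearGroup ι F) = hm p.o1 p.o2 := by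
    unfold hm
    rw [hE_swap p.o1 p.o2 p.h12 (-1) (neg_ne_zero.mpr one_ne_zero), inv_neg, inv_one]
  rw [e1, e3', e4]
  -- `y [hm 1 2] y⁻¹ = y y [hm 1 2]`
  have hD := H.invD
  have h5 : Φ (hm p.o1 p.o2) * y⁻¹ = y * Φ (hm p.o1 p.o2) := by
    have : Φ (hm p.o1 p.o2) * y = y⁻¹ * Φ (hm p.o1 p.o2) := by
      rw [← hD]; group
    calc Φ (hm p.o1 p.o2) * y⁻¹ = y * (y⁻¹ * Φ (hm p.o1 p.o2)) * y⁻¹ := by group
      _ = y * (Φ (hm p.o1 p.o2) * y) * y⁻¹ := by rw [this]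
      _ = y * Φ (hm p.o1 p.o2) := by group
  calc Φ (hm p.o0 p.o2) = Φ (hm p.o0 p.o1) * Φ (hm p.o1 p.o2) := by
        rw [← map_mul]
        congr 1
        have a1 := hm_mul (F := F) p.o0 p.o1 p.o2 p.h01 p.h02 p.h12   -- hm 0 2 * hm 1 2 = hm 0 1
        have a2 := hm_mul_self (F := F) p.o1 p.o2 p.h12
        calc (hm p.o0 p.o2 : Matrix.SpecialLinearGroup ι F) = hm p.o0 p.o2 * (hm p.o1 p.o2 * hm p.o1 p.o2) := by rw [a2, mul_one]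
          _ = hm p.o0 p.o1 * hm p.o1 p.o2 := by rw [← mul_assoc, a1]
    _ = y * y * Φ (hm p.o1 p.o2) := by rw [H.spin]
    _ = y * (Φ (hm p.o1 p.o2) * y⁻¹) := by rw [h5]; group
    _ = y * Φ (hm p.o1 p.o2) * y⁻¹ := by group

/-- A20 [S] -/
theorem omp_dsys [Fintype F] (h4 : 4 ≤ Fintype.card ι) (p : Pts ι) (Φ : Matrix.SpecialLinearGroup ι F →* G) (y : G) (H : OG p Φ y) :
    ∃ D : DSys F G ι, D.Φ = Φ ∧ (∀ t, D.P.X (Pi.single p.o2 t) (Pi.single p.o0 1) = PP p Φ y p.o2 p.o0 p.o1 t) ∧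
      (∀ t, D.N.X (Pi.single p.o0 t) (Pi.single p.o2 1) = NN p Φ y p.o2 p.o0 p.o1 t) := by
  obtain ⟨D, hD, hP, hN⟩ := extendD h4 Φ (Theta p Φ y) p.o3 p.o2 p.o0 p.h23.symm p.h03.symm p.h02.symm
    (fun t => (ext_a1 p Φ y H t).1) (fun t => (ext_a1 p Φ y H t).2)
    (fun i j t hij hj2 hj0 => ext_c1 h4 p Φ y H i j t hij hj2 hj0)
    (fun i j t hij hi2 hi0 => ext_c2 h4 p Φ y H i j t hij hi2 hi0)
    (fun t g hg => ext_c3 h4 p Φ y H t g hg)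
    (ext_spin p Φ y H)
  refine ⟨D, hD, fun t => ?_, fun t => ?_⟩
  · rw [hP, Theta_e3_12 p Φ y H.cB t]
  · rw [hN, Theta_e3_21 p Φ y H.cB t]

/-- A22 [S-M] -/
theorem y_eq_w (h4 : 4 ≤ Fintype.card ι) (p : Pts ι) (Φ : Matrix.SpecialLinearGroup ι F →* G) (y : G) (H : OG p Φ y)
    (D : DSys F G ι) (hΦ : D.Φ = Φ)
    (hP : ∀ t, D.P.X (Pi.single p.o2 t) (Pi.single p.o0 1) = PP p Φ y p.o2 p.o0 p.o1 t)
    (hN : ∀ t, D.N.X (Pi.single p.o0 t) (Pi.single p.o2 1) = NN p Φ y p.o2 p.o0 p.o1 t) :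
    y = wOf D.x (Sum.inl p.o0) (Sum.inr p.o1) 1 := by
  have hv := fun t => dsys_values h4 p Φ y H D hΦ hP hN p.o0 p.o1 p.o2 p.h01 p.h02 p.h12 t
  unfold wOf
  rw [(hv 1).1, (hv (-(1 : F)⁻¹)).2, inv_one]
  -- `y⁻¹ = PP 1 0 2 1 * NN 1 0 2 (-1) * PP 1 0 2 1`
  have hpin := H.pin
  have e1 : PP p Φ y p.o0 p.o1 p.o2 1 = PP p Φ y p.o1 p.o0 p.o2 (-1) :=
    (PP_swap h4 p Φ y H p.o0 p.o1 p.o2 p.h01 p.h02 p.h12 1).symm
  have e2 : NN p Φ y p.o0 p.o1 p.o2 (-1) = NN p Φ y p.o1 p.o0 p.o2 1 := by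
    have := (NN_swap h4 p Φ y H p.o0 p.o1 p.o2 p.h01 p.h02 p.h12 (-1)).symm
    rwa [neg_neg] at this
  rw [e1, e2]
  -- everything is a conjugate by `Y = yy 0 2`
  unfold PP NN
  set Y := yy p Φ y p.o0 p.o2 with hY
  have hw : Φ (wE p.o1 p.o2) = Φ (tv p.o1 p.o2 1) * Φ (tv p.o2 p.o1 (-1)) * Φ (tv p.o1 p.o2 1) := by
    unfold wE; rw [map_mul, map_mul]
  have hi1 : (Φ (tv p.o1 p.o2 (-1)))⁻¹ = Φ (tv p.o1 p.o2 1) := by
    rw [← map_inv, tv_inv, neg_neg]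
  have hi2 : (Φ (tv p.o2 p.o1 1))⁻¹ = Φ (tv p.o2 p.o1 (-1)) := by
    rw [← map_inv, tv_inv]
  have : y⁻¹ = (Y * Φ (tv p.o1 p.o2 (-1)) * Y⁻¹ * (Y * Φ (tv p.o2 p.o1 1) * Y⁻¹) * (Y * Φ (tv p.o1 p.o2 (-1)) * Y⁻¹))⁻¹ := by
    rw [← hpin, hw, ← hi1, ← hi2]
    group
  exact _root_.inv_inj.mp this

end A

end Cfsg.Agent.Lib.helper17.OMP
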