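import Mathlib
import Cfsg.Agent.Lib.helper17.OMP.Defs
import Cfsg.Agent.Lib.Helper13.OMPE2
import Cfsg.Agent.Lib.Helper13.OMPE3
import Cfsg.Agent.Lib.helper2.OMPE4
import Cfsg.Agent.Lib.Helper26.OMPE5
import Cfsg.Agent.Lib.Helper11.OMPE6
import Cfsg.Agent.Lib.Helper5.OMPE7
import Cfsg.Agent.Lib.Helper16.OMPE12
import Cfsg.Agent.Lib.Helper22.OMPA1
import Cfsg.Agent.Lib.Helper16.OMPB1

/-!
# Project OMP, rows B8 (`hm12_conj`), B9 (`spin_of_rel`), B10 (`og_of_rel`), verbatim from `OMP/Skel.lean.txt`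
-/

set_option autoImplicit false

namespace Cfsg.Agent.Lib.helper17.OMP

open Matrix Cfsg.Agent.Lib.helper14.CTE Cfsg.Agent.Lib.helper14.CTA Cfsg.Agent.Lib.helper17.SLN Cfsg.Agent.Lib.Helper28.CTD
  Cfsg.Agent.Lib.helper3.STC Cfsg.Agent.Lib.Lead.STD

universe u v w

section B

variable {F : Type u} [Field F] {G : Type v} [Group G] {ι : Type w} [Fintype ι] [DecidableEq ι]

theorem ompb8_neg_one_ne : (-1 : F) ≠ 0 := neg_ne_zero.mpr one_ne_zero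

/-- `hm i j` commutes with `tv i j t` -/
theorem ompb8_hm_comm_same (i j : ι) (hij : i ≠ j) (t : F) :
    Commute (hm i j : Matrix.SpecialLinearGroup ι F) (tv i j t) := by
  have h := hE_conj_tv (F := F) i j hij (-1) ompb8_neg_one_ne i j hij t
  rw [if_pos rfl, if_neg hij.symm, if_pos rfl] at h
  have e : (-1 : F) * ((-1 : F)⁻¹)⁻¹ * t = t := by
    rw [inv_inv]; ring
  rw [e] at h
  show hm i j * tv i j t = tv i j t * hm i j
  unfold hm
  calc hE i j (-1) * tv i j t = hE i j (-1) * tv i j t * (hE i j (-1))⁻¹ * hE i j (-1) := by group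
    _ = tv i j t * hE i j (-1) := by rw [h]

/-- `hm i j` commutes with `tv j i t` -/
theorem ompb8_hm_comm_swap (i j : ι) (hij : i ≠ j) (t : F) :
    Commute (hm i j : Matrix.SpecialLinearGroup ι F) (tv j i t) := by
  have h := hE_conj_tv (F := F) i j hij (-1) ompb8_neg_one_ne j i hij.symm t
  rw [if_neg hij.symm, if_pos rfl, if_pos rfl] at h
  have e : (-1 : F)⁻¹ * ((-1 : F))⁻¹ * t = t := by
    rw [inv_neg, inv_one]; ring
  rw [e] at h
  show hm i j * tv j i t = tv j i t * hm i j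
  unfold hm
  calc hE i j (-1) * tv j i t = hE i j (-1) * tv j i t * (hE i j (-1))⁻¹ * hE i j (-1) := by group
    _ = tv j i t * hE i j (-1) := by rw [h]

/-- `hm i j` commutes with `tv a b t`, `a, b ∉ {i, j}` -/
theorem ompb8_hm_comm_disj (i j a b : ι) (hij : i ≠ j) (hab : a ≠ b) (hai : a ≠ i) (haj : a ≠ j) (hbi : b ≠ i) (hbj : b ≠ j)
    (t : F) : Commute (hm i j : Matrix.SpecialLinearGroup ι F) (tv a b t) := by
  have h := hE_conj_tv (F := F) i j hij (-1) ompb8_neg_one_ne a b hab t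
  rw [if_neg hai, if_neg haj, if_neg hbi, if_neg hbj] at h
  have e : (1 : F) * (1 : F)⁻¹ * t = t := by rw [inv_one]; ring
  rw [e] at h
  show hm i j * tv a b t = tv a b t * hm i j
  unfold hm
  calc hE i j (-1) * tv a b t = hE i j (-1) * tv a b t * (hE i j (-1))⁻¹ * hE i j (-1) := by group
    _ = tv a b t * hE i j (-1) := by rw [h]

/-- `hm i j` commutes with `wE i j` -/
theorem ompb8_hm_comm_wE (i j : ι) (hij : i ≠ j) :
    Commute (hm i j : Matrix.SpecialLinearGroup ι F) (wE i j) := by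
  unfold wE
  exact ((ompb8_hm_comm_same i j hij 1).mul_right (ompb8_hm_comm_swap i j hij (-1))).mul_right
    (ompb8_hm_comm_same i j hij 1)

/-- `hm i j` commutes with `wE j i` -/
theorem ompb8_hm_comm_wE' (i j : ι) (hij : i ≠ j) :
    Commute (hm i j : Matrix.SpecialLinearGroup ι F) (wE j i) := by
  unfold wE
  exact ((ompb8_hm_comm_swap i j hij 1).mul_right (ompb8_hm_comm_same i j hij (-1))).mul_right
    (ompb8_hm_comm_swap i j hij 1)

/-- `hm i j` commutes with `wE a b`, `a, b ∉ {i, j}` -/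
theorem ompb8_hm_comm_wE_disj (i j a b : ι) (hij : i ≠ j) (hab : a ≠ b) (hai : a ≠ i) (haj : a ≠ j) (hbi : b ≠ i) (hbj : b ≠ j) :
    Commute (hm i j : Matrix.SpecialLinearGroup ι F) (wE a b) := by
  unfold wE
  exact ((ompb8_hm_comm_disj i j a b hij hab hai haj hbi hbj 1).mul_right
    (ompb8_hm_comm_disj i j b a hij hab.symm hbi hbj hai haj (-1))).mul_right
    (ompb8_hm_comm_disj i j a b hij hab hai haj hbi hbj 1)

/-- `y` commutes with the image of a word `wE` once it commutes with the two root groups -/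
theorem ompb8_comm_wE (Φ : Matrix.SpecialLinearGroup ι F →* G) (y : G) (i j : ι)
    (h1 : ∀ t : F, Commute y (Φ (tv i j t))) (h2 : ∀ t : F, Commute y (Φ (tv j i t))) : Commute y (Φ (wE i j)) := by
  unfold wE
  rw [map_mul, map_mul]
  exact ((h1 1).mul_right (h2 (-1))).mul_right (h1 1)

/-- `y` commutes with the image of a word `hE` once it commutes with the two root groups -/
theorem ompb8_comm_hE (Φ : Matrix.SpecialLinearGroup ι F →* G) (y : G) (i j : ι) (s : F)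
    (h1 : ∀ t : F, Commute y (Φ (tv i j t))) (h2 : ∀ t : F, Commute y (Φ (tv j i t))) : Commute y (Φ (hE i j s)) := by
  unfold hE
  simp only [map_mul]
  exact (((h1 s).mul_right (h2 _)).mul_right (h1 s)).mul_right (((h1 _).mul_right (h2 _)).mul_right (h1 _))

/-- B6 `cent_L` from helper16's core (own-name copy, so that this module does not wait for the verbatim wrapper) -/
theorem ompb8_cent_L [Fintype F] (p : Pts ι) (ζ : Fˣ) (hζ : ∀ x : Fˣ, x ∈ Subgroup.zpowers ζ) (c : Matrix.SpecialLinearGroup ι F)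
    (Φ : Matrix.SpecialLinearGroup ι F →* G) (y : G) (R : ORel p (ζ : F) c Φ y) (t : F) :
    (Commute y (Φ (tv p.o0 p.o1 t)) ∧ Commute y (Φ (tv p.o1 p.o0 t))) ∧
      (Commute y (Φ (tv p.o2 p.o3 t)) ∧ Commute y (Φ (tv p.o3 p.o2 t))) :=
  ompb6_core (fun i j hij s hs => hE_coe i j hij s hs) (fun i j hij s hs a b hab t => hE_conj_tv i j hij s hs a b hab t)
    (fun p t => nu0_conj_tv p t) p ζ hζ c Φ y R t

/-- B7 `cent_blk` from helper16's core (own-name copy) -/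
theorem ompb8_cent_blk [Fintype F] (p : Pts ι) (ζ : Fˣ) (hζ : ∀ x : Fˣ, x ∈ Subgroup.zpowers ζ) (c : Matrix.SpecialLinearGroup ι F)
    (hc : CoxHyp p c) (Φ : Matrix.SpecialLinearGroup ι F →* G) (y : G) (R : ORel p (ζ : F) c Φ y)
    (g : Matrix.SpecialLinearGroup ι F) (hg : Mv g p.o0 p.o1 p.o0 p.o1) : Commute y (Φ g) :=
  ompb7_core (fun i j hij s hs => hE_coe i j hij s hs) (fun i j hij s hs a b hab t => hE_conj_tv i j hij s hs a b hab t)
    (fun p t => nu0_conj_tv p t) p ζ hζ c hc Φ y R g hg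

/-- B8 [M] -/
theorem hm12_conj [Fintype F] (p : Pts ι) (ζ : Fˣ) (hζ : ∀ x : Fˣ, x ∈ Subgroup.zpowers ζ) (c : Matrix.SpecialLinearGroup ι F)
    (Φ : Matrix.SpecialLinearGroup ι F →* G) (y : G) (R : ORel p (ζ : F) c Φ y) :
    Φ (hm p.o1 p.o2) * y * (Φ (hm p.o1 p.o2))⁻¹ = y * Φ (hm p.o0 p.o1) := by
  have hL := fun t => ompb8_cent_L p ζ hζ c Φ y R t
  have hw : Commute y (Φ (wE p.o0 p.o1)) := ompb8_comm_wE Φ y _ _ (fun t => (hL t).1.1) (fun t => (hL t).1.2)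
  have hw' : Commute y (Φ (wE p.o2 p.o3)) := ompb8_comm_wE Φ y _ _ (fun t => (hL t).2.1) (fun t => (hL t).2.2)
  have hh1 : Commute (Φ (hm p.o0 p.o1)) (Φ (wE p.o0 p.o1)) := (ompb8_hm_comm_wE p.o0 p.o1 p.h01).map Φ
  have hh2 : Commute (Φ (hm p.o0 p.o1)) (Φ (wE p.o2 p.o3)) :=
    (ompb8_hm_comm_wE_disj p.o0 p.o1 p.o2 p.o3 p.h01 p.h23 p.h02.symm p.h12.symm p.h03.symm p.h13.symm).map Φ
  have r1 := R.r1
  have e : Φ (nu0 p) = Φ (wE p.o0 p.o1) * Φ (wE p.o2 p.o3) * Φ (hm p.o1 p.o2) := by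
    unfold nu0; rw [map_mul, map_mul]
  rw [e] at r1
  set W := Φ (wE p.o0 p.o1) * Φ (wE p.o2 p.o3) with hW
  have hWy : Commute W y := (hw.mul_right hw').symm
  have hWh : Commute W (Φ (hm p.o0 p.o1)) := (hh1.mul_right hh2).symm
  have hWyh : Commute W (y * Φ (hm p.o0 p.o1)) := hWy.mul_right hWh
  -- r1 : W * h * y * (W * h)⁻¹ = y * hm01
  have : Φ (hm p.o1 p.o2) * y * (Φ (hm p.o1 p.o2))⁻¹ = W⁻¹ * (y * Φ (hm p.o0 p.o1)) * W := by
    rw [← r1]; group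
  rw [this, mul_assoc, ← hWyh.eq, ← mul_assoc, inv_mul_cancel, one_mul]

/-- `y` commutes with `Φ (hm 0 1)` -/
theorem ompb9_y_comm_hm [Fintype F] (p : Pts ι) (ζ : Fˣ) (hζ : ∀ x : Fˣ, x ∈ Subgroup.zpowers ζ)
    (c : Matrix.SpecialLinearGroup ι F) (Φ : Matrix.SpecialLinearGroup ι F →* G) (y : G) (R : ORel p (ζ : F) c Φ y) :
    Commute y (Φ (hm p.o0 p.o1)) := by
  have hL := fun t => ompb8_cent_L p ζ hζ c Φ y R t
  unfold hm
  exact ompb8_comm_hE Φ y _ _ _ (fun t => (hL t).1.1) (fun t => (hL t).1.2)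

/-- conjugation of the torus word -/
theorem ompb9_conj_hE (g : Matrix.SpecialLinearGroup ι F) (i j i' j' : ι)
    (h1 : ∀ t : F, g * tv i j t * g⁻¹ = tv i' j' t) (h2 : ∀ t : F, g * tv j i t * g⁻¹ = tv j' i' t) (s : F) :
    g * hE i j s * g⁻¹ = hE i' j' s := by
  have hc : ∀ a b : Matrix.SpecialLinearGroup ι F, g * (a * b) * g⁻¹ = (g * a * g⁻¹) * (g * b * g⁻¹) := by
    intro a b; group
  unfold hE
  simp only [hc, h1, h2]

/-- `wE 2 1 * hm 0 1 * (wE 2 1)⁻¹ = hm 0 2` -/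
theorem ompb9_conj_hm (p : Pts ι) :
    (wE p.o2 p.o1 : Matrix.SpecialLinearGroup ι F) * hm p.o0 p.o1 * (wE p.o2 p.o1)⁻¹ = hm p.o0 p.o2 := by
  have m0 : Mv1 (wE p.o2 p.o1 : Matrix.SpecialLinearGroup ι F) p.o0 p.o0 :=
    Mv1_wE_of_ne p.o2 p.o1 p.o0 p.h12.symm p.h02 p.h01
  have m1 : Mv1 (wE p.o2 p.o1 : Matrix.SpecialLinearGroup ι F) p.o1 p.o2 := Mv1_wE p.o2 p.o1 p.h12.symm
  unfold hm
  exact ompb9_conj_hE _ _ _ _ _ (fun t => Mv1.conj_tv m0 m1 p.h01 p.h02 t) (fun t => Mv1.conj_tv m1 m0 p.h01.symm p.h02.symm t) _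

/-- B9 [M] -/
theorem spin_of_rel [Fintype F] (p : Pts ι) (ζ : Fˣ) (hζ : ∀ x : Fˣ, x ∈ Subgroup.zpowers ζ) (c : Matrix.SpecialLinearGroup ι F)
    (Φ : Matrix.SpecialLinearGroup ι F →* G) (y : G) (R : ORel p (ζ : F) c Φ y) : y * y = Φ (hm p.o0 p.o1) := by
  have hyh := ompb9_y_comm_hm p ζ hζ c Φ y R
  have h8 := hm12_conj p ζ hζ c Φ y R
  set Y := Y02 p Φ y with hY
  set W := Φ (wE p.o2 p.o1) with hW
  set h12 := Φ (hm p.o1 p.o2) with hh12
  set h01 := Φ (hm p.o0 p.o1) with hh01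
  set h02 := Φ (hm p.o0 p.o2) with hh02
  have eY : Y = W * y * W⁻¹ := rfl
  -- `h12` commutes with `W`
  have c1 : Commute h12 W := (ompb8_hm_comm_wE' p.o1 p.o2 p.h12).map Φ
  -- `W h01 W⁻¹ = h02`
  have c2 : W * h01 * W⁻¹ = h02 := by
    rw [hW, hh01, hh02, ← map_inv, ← map_mul, ← map_mul, ompb9_conj_hm]
  -- `h12 Y h12⁻¹ = Y h02`
  have c3 : h12 * Y * h12⁻¹ = Y * h02 := by
    calc h12 * Y * h12⁻¹ = W * (h12 * y * h12⁻¹) * W⁻¹ := by
          rw [eY]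
          have : h12 * W = W * h12 := c1.eq
          calc h12 * (W * y * W⁻¹) * h12⁻¹ = (h12 * W) * y * W⁻¹ * h12⁻¹ := by group
            _ = (W * h12) * y * W⁻¹ * h12⁻¹ := by rw [this]
            _ = W * (h12 * y) * (h12 * W)⁻¹ := by group
            _ = W * (h12 * y) * (W * h12)⁻¹ := by rw [this]
            _ = W * (h12 * y * h12⁻¹) * W⁻¹ := by group
      _ = W * (y * h01) * W⁻¹ := by rw [h8]
      _ = (W * y * W⁻¹) * (W * h01 * W⁻¹) := by group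
      _ = Y * h02 := by rw [c2, ← eY]
  -- `Y` commutes with `h02`
  have c4 : Commute Y h02 := by
    have : Commute (W * y * W⁻¹) (W * h01 * W⁻¹) := by
      show W * y * W⁻¹ * (W * h01 * W⁻¹) = W * h01 * W⁻¹ * (W * y * W⁻¹)
      have := hyh.eq
      calc W * y * W⁻¹ * (W * h01 * W⁻¹) = W * (y * h01) * W⁻¹ := by group
        _ = W * (h01 * y) * W⁻¹ := by rw [this]
        _ = W * h01 * W⁻¹ * (W * y * W⁻¹) := by group
    rw [c2, ← eY] at this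
    exact this
  -- the square of `r5`
  have r5 : Y * Φ (wE p.o1 p.o2) * Y⁻¹ = y⁻¹ := R.r5
  have e12 : Φ (wE p.o1 p.o2) * Φ (wE p.o1 p.o2) = h12 := by
    rw [← map_mul, wE_mul_self p.o1 p.o2 p.h12]
  have sq : Y * h12 * Y⁻¹ = y⁻¹ * y⁻¹ := by
    rw [← r5, ← e12]; group
  -- involutions
  have i12 : h12 * h12 = 1 := by rw [hh12, ← map_mul, hm_mul_self p.o1 p.o2 p.h12, map_one]
  have i02 : h02 * h02 = 1 := by rw [hh02, ← map_mul, hm_mul_self p.o0 p.o2 p.h02, map_one]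
  have i01 : h01 * h01 = 1 := by rw [hh01, ← map_mul, hm_mul_self p.o0 p.o1 p.h01, map_one]
  have m012 : h02 * h12 = h01 := by rw [hh02, hh12, hh01, ← map_mul, hm_mul p.o0 p.o1 p.o2 p.h01 p.h02 p.h12]
  -- `Y h12 Y⁻¹ = h02⁻¹ h12`
  have c5 : Y * h12 * Y⁻¹ = h02 * h12 := by
    have e1 : h12 * Y⁻¹ * h12⁻¹ = h02⁻¹ * Y⁻¹ := by
      have : (h12 * Y * h12⁻¹)⁻¹ = (Y * h02)⁻¹ := by rw [c3]
      calc h12 * Y⁻¹ * h12⁻¹ = (h12 * Y * h12⁻¹)⁻¹ := by group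
        _ = (Y * h02)⁻¹ := this
        _ = h02⁻¹ * Y⁻¹ := by group
    have e2 : h02⁻¹ = h02 := by
      rw [inv_eq_iff_mul_eq_one]; exact i02
    calc Y * h12 * Y⁻¹ = Y * (h12 * Y⁻¹ * h12⁻¹) * h12 := by group
      _ = Y * (h02⁻¹ * Y⁻¹) * h12 := by rw [e1]
      _ = (Y * h02) * Y⁻¹ * h12 := by rw [e2]; group
      _ = (h02 * Y) * Y⁻¹ * h12 := by rw [c4.eq]
      _ = h02 * h12 := by group
  -- conclusion
  have c6 : y⁻¹ * y⁻¹ = h01 := by rw [← sq, c5, m012]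
  have : (y * y)⁻¹ = h01 := by rw [← c6]; group
  have e3 : h01⁻¹ = h01 := by rw [inv_eq_iff_mul_eq_one]; exact i01
  rw [← e3, ← this, inv_inv]

/-- B10 [M] -/
theorem og_of_rel [Fintype F] (h4 : 4 ≤ Fintype.card ι) (p : Pts ι) (ζ : Fˣ) (hζ : ∀ x : Fˣ, x ∈ Subgroup.zpowers ζ)
    (c : Matrix.SpecialLinearGroup ι F) (hc : CoxHyp p c) (Φ : Matrix.SpecialLinearGroup ι F →* G) (y : G)
    (R : ORel p (ζ : F) c Φ y) : OG p Φ y := by
  have hB : ∀ g : Matrix.SpecialLinearGroup ι F, Mv g p.o0 p.o1 p.o0 p.o1 → Commute y (Φ g) :=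
    fun g hg => ompb8_cent_blk p ζ hζ c hc Φ y R g hg
  have hL := fun t => ompb8_cent_L p ζ hζ c Φ y R t
  have hspin := spin_of_rel p ζ hζ c Φ y R
  have h8 := hm12_conj p ζ hζ c Φ y R
  have hyh := ompb9_y_comm_hm p ζ hζ c Φ y R
  set h01 := Φ (hm p.o0 p.o1) with hh01
  have i01 : h01 * h01 = 1 := by rw [hh01, ← map_mul, hm_mul_self p.o0 p.o1 p.h01, map_one]
  -- `y * h01 = y⁻¹`
  have hinv : y * h01 = y⁻¹ := by
    have : y * h01 * y = 1 := by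
      calc y * h01 * y = h01 * (y * y) := by rw [hyh.eq]; group
        _ = h01 * h01 := by rw [hspin]
        _ = 1 := i01
    exact eq_inv_of_mul_eq_one_left this
  -- the words
  have eY02 : Y02 p Φ y = yy p Φ y p.o0 p.o2 := yy_eq p Φ y hB _ _ _ (Mv_wE21 p)
  have eY12 : Y12 p Φ y = yy p Φ y p.o1 p.o2 := yy_eq p Φ y hB _ _ _ (Mv_sgE p)
  have eP : P01 p Φ y = PP p Φ y p.o0 p.o1 p.o2 1 := by
    unfold P01 PP; rw [eY12]
  have eN : N01 p Φ y = NN p Φ y p.o0 p.o1 p.o2 1 := by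
    unfold N01 NN; rw [eY12]
  -- the unsigned swap
  have hν1 : Φ (nu0 p * hm p.o0 p.o1) * y * (Φ (nu0 p * hm p.o0 p.o1))⁻¹ = y⁻¹ := by
    rw [map_mul]
    have r1 : Φ (nu0 p) * y * (Φ (nu0 p))⁻¹ = y * h01 := R.r1
    calc Φ (nu0 p) * h01 * y * (Φ (nu0 p) * h01)⁻¹ = Φ (nu0 p) * (h01 * y) * h01⁻¹ * (Φ (nu0 p))⁻¹ := by group
      _ = Φ (nu0 p) * (y * h01) * h01⁻¹ * (Φ (nu0 p))⁻¹ := by rw [hyh.eq]
      _ = Φ (nu0 p) * y * (Φ (nu0 p))⁻¹ := by group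
      _ = y * h01 := r1
      _ = y⁻¹ := hinv
  refine ⟨hB, fun t => (hL t).1, ?_, ?_, hspin, ?_, ?_, ?_⟩
  · -- inv
    intro g hg
    set ν1 := (nu0 p * hm p.o0 p.o1 : Matrix.SpecialLinearGroup ι F) with hν
    have hm1 : Mv ν1 p.o0 p.o1 p.o1 p.o0 := Mv_nu0 p
    have hm2 : Mv (ν1⁻¹ * g) p.o0 p.o1 p.o0 p.o1 := Mv.mul hg (Mv.inv hm1)
    have hcomm := hB _ hm2
    have eg : Φ g = Φ ν1 * Φ (ν1⁻¹ * g) := by rw [← map_mul]; congr 1; group
    rw [eg]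
    calc Φ ν1 * Φ (ν1⁻¹ * g) * y * (Φ ν1 * Φ (ν1⁻¹ * g))⁻¹
        = Φ ν1 * (Φ (ν1⁻¹ * g) * y) * (Φ (ν1⁻¹ * g))⁻¹ * (Φ ν1)⁻¹ := by group
      _ = Φ ν1 * (y * Φ (ν1⁻¹ * g)) * (Φ (ν1⁻¹ * g))⁻¹ * (Φ ν1)⁻¹ := by rw [hcomm.eq]
      _ = Φ ν1 * y * (Φ ν1)⁻¹ := by group
      _ = y⁻¹ := hν1
  · -- invD
    rw [h8]; exact hinv
  · -- pin
    rw [← eY02]; exact R.r5
  · -- two
    rw [← eP]; exact R.r7
  · -- one
    intro h
    rw [← eP, ← eN]; exact R.r8 h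

end B

end Cfsg.Agent.Lib.helper17.OMP
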