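import Mathlib
import Cfsg.Agent.Lib.helper17.OMP.Defs
import Cfsg.Agent.Lib.helper17.OMP.Defs2
import Cfsg.Agent.Lib.helper17.OMPD2
import Cfsg.Agent.Lib.Helper28.CTDS1h
import Cfsg.Agent.Lib.Helper28.CTDM1f
import Cfsg.Agent.Lib.Helper1.OMPF3core

/-!
# Project OMP, row D3 (the assembly), as a core on the STATEMENTS of the rows B10 (+E13), A20, A22, D5, D6 and of CTD G1 `graph_hom`

`ompd3_core` : the gluing statement `OmpGlueSet F n (if n = 4 then 7 else 6)` of helper1's final assembly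
(`Cfsg.Agent.Lib.Helper1.OMPF3core`) with the relator set `relSet n hn ζ` of `OMP/Defs2.lean`.
-/

set_option autoImplicit false

namespace Cfsg.Agent.Lib.helper17.OMP

open Matrix Cfsg.Agent.Lib.helper14.CTE Cfsg.Agent.Lib.helper14.CTA Cfsg.Agent.Lib.helper17.SLN Cfsg.Agent.Lib.Helper28.CTD
  Cfsg.Agent.Lib.helper3.STC Cfsg.Agent.Lib.Lead.STD

universe u

/-- every `mx a b t` of a root lies in `XQ ⊤` -/
theorem ompd3_mx_mem {F : Type u} [Field F] (n : ℕ) (a b : Fin n ⊕ Fin n) (hab : a ≠ b) (hab' : a ≠ ng b) (t : F) :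
    mx a b t ∈ (matSys F (Fin n)).XQ (fun _ _ => True) :=
  Subgroup.subset_closure ⟨a, b, t, hab, hab', trivial, rfl⟩

/-- D3 core -/
theorem ompd3_core {F : Type u} [Field F] [Fintype F] (n : ℕ) (hn : 4 ≤ n) (ζ : F)
    (hOG : ∀ (G : Type) [Group G] (Φ : Matrix.SpecialLinearGroup (Fin n) F →* G) (y : G),
      ORel (ptsFin n hn) ζ (coxc n) Φ y → OG (ptsFin n hn) Φ y)
    (hA20 : ∀ (G : Type) [Group G] (Φ : Matrix.SpecialLinearGroup (Fin n) F →* G) (y : G), OG (ptsFin n hn) Φ y →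
      ∃ D : DSys F G (Fin n), D.Φ = Φ ∧
        (∀ t, D.P.X (Pi.single (ptsFin n hn).o2 t) (Pi.single (ptsFin n hn).o0 1) =
          PP (ptsFin n hn) Φ y (ptsFin n hn).o2 (ptsFin n hn).o0 (ptsFin n hn).o1 t) ∧
        (∀ t, D.N.X (Pi.single (ptsFin n hn).o0 t) (Pi.single (ptsFin n hn).o2 1) =
          NN (ptsFin n hn) Φ y (ptsFin n hn).o2 (ptsFin n hn).o0 (ptsFin n hn).o1 t))
    (hA22 : ∀ (G : Type) [Group G] (Φ : Matrix.SpecialLinearGroup (Fin n) F →* G) (y : G), OG (ptsFin n hn) Φ y →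
      ∀ D : DSys F G (Fin n), D.Φ = Φ →
        (∀ t, D.P.X (Pi.single (ptsFin n hn).o2 t) (Pi.single (ptsFin n hn).o0 1) =
          PP (ptsFin n hn) Φ y (ptsFin n hn).o2 (ptsFin n hn).o0 (ptsFin n hn).o1 t) →
        (∀ t, D.N.X (Pi.single (ptsFin n hn).o0 t) (Pi.single (ptsFin n hn).o2 1) =
          NN (ptsFin n hn) Φ y (ptsFin n hn).o2 (ptsFin n hn).o0 (ptsFin n hn).o1 t) →
        y = wOf D.x (Sum.inl (ptsFin n hn).o0) (Sum.inr (ptsFin n hn).o1) 1)
    (hD5 : Nonempty (↥((matSys F (Fin n)).XQ (fun _ _ => True)) ≃* ↥(Cfsg.Omega F (Cfsg.quadFormPlus n F))))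
    (hD6 : ∃ (Φ' : Matrix.SpecialLinearGroup (Fin n) F →* ↥((matSys F (Fin n)).XQ (fun _ _ => True)))
      (y' : ↥((matSys F (Fin n)).XQ (fun _ _ => True))),
      (∀ (i j : Fin n) (t : F), (Φ' (tv i j t) : Matrix.SpecialLinearGroup (Fin n ⊕ Fin n) F) = mx (Sum.inl i) (Sum.inl j) t) ∧
      (y' : Matrix.SpecialLinearGroup (Fin n ⊕ Fin n) F) =
        (matSys F (Fin n)).w (Sum.inl (ptsFin n hn).o0) (Sum.inr (ptsFin n hn).o1) 1 ∧
      ORel (ptsFin n hn) ζ (coxc n) Φ' y' ∧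
      Subgroup.closure (Set.range Φ' ∪ {y'}) = ⊤)
    (hgraph : ∀ (G : Type) [Group G] (S : SysD F (Fin n) G), S.Spin →
      ∃ ρ : ↥((matSys F (Fin n)).XQ (fun _ _ => True)) →* G,
        ∀ (a b : Fin n ⊕ Fin n) (t : F) (h : mx a b t ∈ (matSys F (Fin n)).XQ (fun _ _ => True)), ρ ⟨mx a b t, h⟩ = S.x a b t) :
    Cfsg.Agent.Lib.Helper1.OMP.OmpGlueSet F n (if n = 4 then 7 else 6) := by
  obtain ⟨κ⟩ := hD5
  obtain ⟨Φ', y', hΦ', hy', hR, hgen'⟩ := hD6
  have hne : Nontrivial (Fin n) := ⟨⟨⟨0, by omega⟩, ⟨1, by omega⟩, by simp [Fin.ext_iff]⟩⟩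
  refine ⟨relSet n hn ζ, relSet_card n hn ζ, κ.toMonoidHom.comp Φ', κ y', ?_, ?_⟩
  · rw [relSet_iff]
    exact ORel.map κ.toMonoidHom hR
  · intro G _ α y π hkill hgen hπα hπy
    have R : ORel (ptsFin n hn) ζ (coxc n) α y := (relSet_iff n hn ζ α y).mp hkill
    have H := hOG G α y R
    obtain ⟨D, hDΦ, hP, hN⟩ := hA20 G α y H
    have hy := hA22 G α y H D hDΦ hP hN
    obtain ⟨ρ, hρ⟩ := hgraph G D.sysD D.sysD_spin
    set a : Fin n ⊕ Fin n := Sum.inl (ptsFin n hn).o0 with ha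
    set b : Fin n ⊕ Fin n := Sum.inr (ptsFin n hn).o1 with hb
    have hab : a ≠ b := by rw [ha, hb]; exact fun e => by cases e
    have hab' : a ≠ ng b := by
      rw [ha, hb]
      intro e
      have : (ptsFin n hn).o0 = (ptsFin n hn).o1 := Sum.inl.inj e
      exact (ptsFin n hn).h01 this
    have hba : b ≠ a := hab.symm
    have hba' : b ≠ ng a := by
      rw [ha, hb]
      intro e
      have : (ptsFin n hn).o1 = (ptsFin n hn).o0 := Sum.inr.inj e
      exact (ptsFin n hn).h01 this.symm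
    -- `ρ ∘ Φ' = α`
    have h1 : ρ.comp Φ' = α := by
      apply MonoidHom.eq_of_eqOn_dense (tv_gen (ι := Fin n) (F := F))
      rintro x ⟨i, j, t, hij, rfl⟩
      have hij1 : (Sum.inl i : Fin n ⊕ Fin n) ≠ Sum.inl j := fun e => hij (Sum.inl.inj e)
      have hij2 : (Sum.inl i : Fin n ⊕ Fin n) ≠ ng (Sum.inl j) := fun e => by cases e
      have e1 : Φ' (tv i j t) = ⟨mx (Sum.inl i) (Sum.inl j) t, ompd3_mx_mem n _ _ hij1 hij2 t⟩ :=
        Subtype.ext (hΦ' i j t)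
      rw [MonoidHom.comp_apply, e1, hρ, ← hDΦ]
      rfl
    -- `ρ y' = y`
    have h2 : ρ y' = y := by
      have e1 : y' = ⟨mx a b 1, ompd3_mx_mem n a b hab hab' 1⟩ * ⟨mx b a (-(1 : F)⁻¹), ompd3_mx_mem n b a hba hba' _⟩ *
          ⟨mx a b 1, ompd3_mx_mem n a b hab hab' 1⟩ := by
        apply Subtype.ext
        rw [hy']
        rfl
      rw [e1, map_mul, map_mul, hρ, hρ, hy]
      rfl
    -- `π' = κ⁻¹ ∘ π`
    have h3 : ∀ g, κ.symm (π (α g)) = Φ' g := by
      intro g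
      rw [hπα]
      exact κ.symm_apply_apply _
    have h4 : κ.symm (π y) = y' := by
      rw [hπy]
      exact κ.symm_apply_apply _
    have hid : (ρ.comp (κ.symm.toMonoidHom.comp π)) = MonoidHom.id G := by
      apply MonoidHom.eq_of_eqOn_dense hgen
      rintro x (⟨g, rfl⟩ | hx)
      · show ρ (κ.symm (π (α g))) = α g
        rw [h3, ← h1]
        rfl
      · rw [Set.mem_singleton_iff] at hx
        subst hx
        show ρ (κ.symm (π x)) = x
        rw [h4, h2]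
    constructor
    · intro x x' hxx
      have e1 : ρ (κ.symm (π x)) = x := DFunLike.congr_fun hid x
      have e2 : ρ (κ.symm (π x')) = x' := DFunLike.congr_fun hid x'
      rw [← e1, ← e2, hxx]
    · intro ω
      have hmem : κ.symm ω ∈ Subgroup.closure (Set.range Φ' ∪ {y'}) := by rw [hgen']; trivial
      have hle : Subgroup.closure (Set.range Φ' ∪ {y'}) ≤ (κ.symm.toMonoidHom.comp π).range := by
        rw [Subgroup.closure_le]
        rintro z (⟨g, rfl⟩ | hz)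
        · exact ⟨α g, h3 g⟩
        · rw [Set.mem_singleton_iff] at hz
          subst hz
          exact ⟨y, h4⟩
      obtain ⟨x, hx⟩ := hle hmem
      refine ⟨x, ?_⟩
      have : κ.symm (π x) = κ.symm ω := hx
      exact κ.symm.injective this

end Cfsg.Agent.Lib.helper17.OMP
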