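import Mathlib
import Cfsg.Agent.Lib.helper17.OMP.Defs
import Cfsg.Agent.Lib.helper17.OMP.Defs2
import Cfsg.Agent.Lib.Helper18.SP4T3
import Cfsg.Agent.Lib.Helper28.CTDS2
import Cfsg.Agent.Lib.Helper28.CTDS1h
import Cfsg.Agent.Lib.Helper28.CTDM1f
import Cfsg.Agent.Lib.Helper28.OMMO10
import Cfsg.Agent.Lib.Helper1.OMPF3core
import Cfsg.Agent.Lib.helper17.OMPB8
import Cfsg.Agent.Lib.Helper1.OMPE13
import Cfsg.Agent.Lib.Helper1.OMPD5
import Cfsg.Agent.Lib.Helper1.OMPD6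
import Cfsg.Agent.Lib.Helper28.CTDG1
import Cfsg.Agent.Lib.helper17.OMPD3core
import Cfsg.Agent.Lib.helper17.OMPA17

/-!
# Project OMP, row D3 (`omp_glue_core`, verbatim from `OMP/Skel.lean.txt`) and the END THEOREM `omp_glue` of the project:
the gluing statement `OmpGlueSet F n (if n = 4 then 7 else 6)` of helper1's final assembly of S2295.
-/

set_option autoImplicit false

namespace Cfsg.Agent.Lib.helper17.OMP

open Matrix Cfsg.Agent.Lib.helper14.CTE Cfsg.Agent.Lib.helper14.CTA Cfsg.Agent.Lib.helper17.SLN Cfsg.Agent.Lib.Helper28.CTD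
  Cfsg.Agent.Lib.helper3.STC Cfsg.Agent.Lib.Lead.STD

universe u v w

section D

/-- D3 [M-L] -/
theorem omp_glue_core {F : Type u} [Field F] [Fintype F] (n : ℕ) (hn : 4 ≤ n)
    (hgraph : ∀ (G : Type) [Group G] (S : SysD F (Fin n) G), S.Spin →
      ∃ ρ : ↥((matSys F (Fin n)).XQ (fun _ _ => True)) →* G,
        ∀ (a b : Fin n ⊕ Fin n) (t : F) (h : mx a b t ∈ (matSys F (Fin n)).XQ (fun _ _ => True)), ρ ⟨mx a b t, h⟩ = S.x a b t) :
    Cfsg.Agent.Lib.Helper1.OMP.OmpGlueSet F n (if n = 4 then 7 else 6) := by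
  obtain ⟨ζ, hζ⟩ := IsCyclic.exists_generator (α := Fˣ)
  have h4 : 4 ≤ Fintype.card (Fin n) := by rw [Fintype.card_fin]; exact hn
  obtain ⟨κ, _⟩ := xq_equiv_omega (F := F) n hn
  exact ompd3_core n hn (ζ : F)
    (fun G _ Φ y R => og_of_rel h4 (ptsFin n hn) ζ hζ (coxc n) (coxHyp n hn) Φ y R)
    (fun G _ Φ y H => omp_dsys h4 (ptsFin n hn) Φ y H)
    (fun G _ Φ y H D hD hP hN => y_eq_w h4 (ptsFin n hn) Φ y H D hD hP hN)
    ⟨κ⟩ (exists_model n hn (ζ : F)) hgraph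

/-- **the end theorem of project OMP**: `SL_n(F)` + one generator + six relators (seven if `n = 4`) is `Ω⁺_{2n}(F)`. -/
theorem omp_glue {F : Type u} [Field F] [Fintype F] (n : ℕ) (hn : 4 ≤ n) :
    Cfsg.Agent.Lib.Helper1.OMP.OmpGlueSet F n (if n = 4 then 7 else 6) :=
  omp_glue_core n hn (fun _ _ S hS => graph_hom S hS)

theorem omp_glue4 {F : Type u} [Field F] [Fintype F] : Cfsg.Agent.Lib.Helper1.OMP.OmpGlueSet F 4 7 := by
  have h := omp_glue (F := F) 4 (le_refl 4)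
  rwa [if_pos rfl] at h

theorem omp_glue5 {F : Type u} [Field F] [Fintype F] (n : ℕ) (hn : 5 ≤ n) : Cfsg.Agent.Lib.Helper1.OMP.OmpGlueSet F n 6 := by
  have h := omp_glue (F := F) n (by omega)
  rwa [if_neg (by omega)] at h

end D

end Cfsg.Agent.Lib.helper17.OMP
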