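import Mathlib
import Cfsg.Agent.Lib.helper17.OMP.Defs
import Cfsg.Agent.Lib.helper2.OMPE4
import Cfsg.Agent.Lib.Helper11.OMPE1

/-!
# Project OMP: own-name copies (helper17) of the statements of rows E2 and E3, so that nothing waits for them

`h17e2_wE_inv`, `h17e2_wE_mul_self`, `h17e2_wn_eq_wE` (= E2 `wE_inv`, `wE_mul_self`, `wn_eq_wE`), `h17e3_conj_tv`, `h17e3_hE_inv`
(= E3 `hE_conj_tv`, `hE_inv`); E3 `hE_coe` is `ompe4_hE_coe` of `helper2.OMPE4`.
-/

set_option autoImplicit false

namespace Cfsg.Agent.Lib.helper17.OMP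

open Matrix Cfsg.Agent.Lib.helper14.CTE Cfsg.Agent.Lib.helper14.CTA Cfsg.Agent.Lib.helper17.SLN Cfsg.Agent.Lib.Helper28.CTD
  Cfsg.Agent.Lib.helper3.STC Cfsg.Agent.Lib.Lead.STD

universe u v w

section E

variable {F : Type u} [Field F] {ι : Type w} [Fintype ι] [DecidableEq ι]

theorem h17e2_ext (g h : Matrix.SpecialLinearGroup ι F) (H : ∀ v : ι → F, g.1 *ᵥ v = h.1 *ᵥ v) : g = h := by
  apply Subtype.ext
  apply Matrix.mulVec_injective
  funext v
  exact H v

theorem h17e2_wE_inv (i j : ι) (hij : i ≠ j) : (wE i j : Matrix.SpecialLinearGroup ι F)⁻¹ = wE j i := by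
  apply inv_eq_of_mul_eq_one_right
  apply h17e2_ext
  intro v
  rw [Matrix.SpecialLinearGroup.coe_mul, ← Matrix.mulVec_mulVec, ompe1_wE_mulVec j i hij.symm, ompe1_wE_mulVec i j hij,
    Matrix.SpecialLinearGroup.coe_one, Matrix.one_mulVec]
  funext k
  by_cases hki : k = i
  · subst hki; simp [hij]
  · by_cases hkj : k = j
    · subst hkj; simp [hij.symm, hij, hki]
    · simp [hki, hkj]

theorem h17e2_wE_mul_self (i j : ι) (hij : i ≠ j) : (wE i j : Matrix.SpecialLinearGroup ι F) * wE i j = hm i j := by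
  apply h17e2_ext
  intro v
  have hne : (-1 : F) ≠ 0 := neg_ne_zero.mpr one_ne_zero
  rw [Matrix.SpecialLinearGroup.coe_mul, ← Matrix.mulVec_mulVec, ompe1_wE_mulVec i j hij, ompe1_wE_mulVec i j hij]
  unfold hm
  rw [ompe4_hE_coe i j hij (-1) hne]
  funext k
  rw [Matrix.mulVec_diagonal]
  by_cases hki : k = i
  · subst hki; simp [hij.symm]
  · by_cases hkj : k = j
    · subst hkj; simp [hij.symm, hij, hki, inv_neg]
    · simp [hki, hkj]

theorem h17e2_wn_eq_wE (i j : ι) (hij : i ≠ j) : (wn i j : Matrix.SpecialLinearGroup ι F) = wE j i := by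
  rw [← h17e2_wE_inv i j hij]
  unfold wn wE
  rw [_root_.mul_inv_rev, _root_.mul_inv_rev, tv_inv, tv_inv, neg_neg, mul_assoc]

theorem h17e3_hE_inv (i j : ι) (hij : i ≠ j) (s : F) (hs : s ≠ 0) :
    (hE i j s : Matrix.SpecialLinearGroup ι F)⁻¹ = hE i j s⁻¹ := by
  apply inv_eq_of_mul_eq_one_right
  apply Subtype.ext
  rw [Matrix.SpecialLinearGroup.coe_mul, ompe4_hE_coe i j hij s hs, ompe4_hE_coe i j hij s⁻¹ (inv_ne_zero hs),
    Matrix.diagonal_mul_diagonal, Matrix.SpecialLinearGroup.coe_one, ← Matrix.diagonal_one]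
  congr 1
  funext k
  by_cases hki : k = i
  · subst hki; simp [hs]
  · by_cases hkj : k = j
    · subst hkj; simp [hij.symm, hs]
    · simp [hki, hkj]

theorem h17e3_conj_tv (i j : ι) (hij : i ≠ j) (s : F) (hs : s ≠ 0) (a b : ι) (hab : a ≠ b) (t : F) :
    (hE i j s : Matrix.SpecialLinearGroup ι F) * tv a b t * (hE i j s)⁻¹ =
      tv a b ((if a = i then s else if a = j then s⁻¹ else 1) * (if b = i then s else if b = j then s⁻¹ else 1)⁻¹ * t) := by
  rw [mul_inv_eq_iff_eq_mul]
  apply Subtype.ext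
  rw [Matrix.SpecialLinearGroup.coe_mul, Matrix.SpecialLinearGroup.coe_mul, ompe4_hE_coe i j hij s hs, tv_coe hab, tv_coe hab]
  unfold Matrix.transvection
  set d : ι → F := fun k => if k = i then s else if k = j then s⁻¹ else 1 with hd
  have hdb : d b ≠ 0 := by
    simp only [hd]
    split_ifs
    · exact hs
    · exact inv_ne_zero hs
    · exact one_ne_zero
  rw [mul_add, add_mul, mul_one, one_mul]
  congr 1
  ext p q
  simp only [Matrix.mul_apply, Matrix.diagonal_apply, Matrix.single_apply]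
  rw [Finset.sum_eq_single p, Finset.sum_eq_single q]
  · by_cases hpa : a = p <;> by_cases hqb : b = q
    · subst hpa; subst hqb
      simp only [if_true, and_self]
      show d a * t = d a * (d b)⁻¹ * t * d b
      field_simp
    · simp [hpa, hqb]
    · simp [hpa, hqb]
    · simp [hpa, hqb]
  · intro k _ hk
    simp [hk]
  · intro h; exact absurd (Finset.mem_univ _) h
  · intro k _ hk
    simp [hk.symm]
  · intro h; exact absurd (Finset.mem_univ _) h

end E

end Cfsg.Agent.Lib.helper17.OMP
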