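import Mathlib
import Cfsg.Agent.Lib.Helper18.OPE.Defs

set_option autoImplicit false

/-!
# Project OPE, row USPLIT (`u_split`) (helper17): Jordan bookkeeping for `N² = 0` on a direct sum of invariant subspaces.
-/

namespace Cfsg.Agent.Lib.Helper18.OPE

open Polynomial Module Cfsg.Agent.Lib.Helper13.S5955 Cfsg.Agent.Lib.helper15.S5972

/-- rank–nullity on a subspace: `dim W = dim (W ⊓ ker N) + dim N W` -/
theorem opeusplit_rank_nullity {F : Type*} [Field F] {V : Type*} [AddCommGroup V] [Module F V]
    [FiniteDimensional F V] (N : Module.End F V) (W : Submodule F V) :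
    finrank F W = finrank F ↥(W ⊓ LinearMap.ker N) + finrank F ↥(W.map N) := by
  have h1 := LinearMap.finrank_range_add_finrank_ker (N.domRestrict W)
  rw [LinearMap.range_domRestrict, LinearMap.ker_domRestrict] at h1
  have h2 : finrank F ↥((LinearMap.ker N).comap W.subtype) = finrank F ↥(W ⊓ LinearMap.ker N) := by
    rw [← Submodule.finrank_map_subtype_eq W ((LinearMap.ker N).comap W.subtype),
      Submodule.map_comap_subtype]
  rw [h2] at h1
  omega

/-- USPLIT [M] -/
theorem u_split {F : Type*} [Field F] {V : Type*} [AddCommGroup V] [Module F V]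
    [FiniteDimensional F V] (N : Module.End F V) (hNN : N * N = 0) (W W' : Submodule F V)
    (hW : ∀ v ∈ W, N v ∈ W) (hW' : ∀ v ∈ W', N v ∈ W') (hc : IsCompl W W') :
    finrank F W = finrank F ↥(W ⊓ LinearMap.ker N) + finrank F ↥(W.map N) ∧
      finrank F ↥(W.map N) ≤ finrank F ↥(W ⊓ LinearMap.ker N) ∧
      finrank F (LinearMap.ker N) = finrank F ↥(W ⊓ LinearMap.ker N) + finrank F ↥(W' ⊓ LinearMap.ker N) ∧
      finrank F (LinearMap.range N) = finrank F ↥(W.map N) + finrank F ↥(W'.map N) := by
  have hNN' : ∀ v, N (N v) = 0 := fun v => by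
    have := LinearMap.congr_fun hNN v
    simpa using this
  have hbot : W ⊓ W' = ⊥ := hc.inf_eq_bot
  refine ⟨opeusplit_rank_nullity N W, ?_, ?_, ?_⟩
  · apply Submodule.finrank_mono
    rintro _ ⟨v, hv, rfl⟩
    exact ⟨hW v hv, LinearMap.mem_ker.mpr (hNN' v)⟩
  · have hsup : (W ⊓ LinearMap.ker N) ⊔ (W' ⊓ LinearMap.ker N) = LinearMap.ker N := by
      apply le_antisymm
      · exact sup_le inf_le_right inf_le_right
      · intro v hv
        have hv' : v ∈ W ⊔ W' := by rw [hc.sup_eq_top]; exact Submodule.mem_top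
        obtain ⟨w, hw, w', hw', rfl⟩ := Submodule.mem_sup.mp hv'
        rw [LinearMap.mem_ker, map_add] at hv
        have h1 : N w ∈ W ⊓ W' := by
          refine ⟨hW w hw, ?_⟩
          have : N w = -N w' := eq_neg_of_add_eq_zero_left hv
          rw [this]
          exact W'.neg_mem (hW' w' hw')
        rw [hbot, Submodule.mem_bot] at h1
        have h2 : N w' = 0 := by rw [h1, zero_add] at hv; exact hv
        exact Submodule.add_mem _ (Submodule.mem_sup_left ⟨hw, LinearMap.mem_ker.mpr h1⟩)
          (Submodule.mem_sup_right ⟨hw', LinearMap.mem_ker.mpr h2⟩)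
    have hinf : (W ⊓ LinearMap.ker N) ⊓ (W' ⊓ LinearMap.ker N) = ⊥ := by
      rw [eq_bot_iff, ← hbot]
      exact inf_le_inf inf_le_left inf_le_left
    have := Submodule.finrank_sup_add_finrank_inf_eq (W ⊓ LinearMap.ker N) (W' ⊓ LinearMap.ker N)
    rw [hsup, hinf, finrank_bot, add_zero] at this
    exact this
  · have hsup : W.map N ⊔ W'.map N = LinearMap.range N := by
      rw [← Submodule.map_sup, hc.sup_eq_top, Submodule.map_top]
    have hinf : W.map N ⊓ W'.map N = ⊥ := by
      rw [eq_bot_iff, ← hbot]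
      apply inf_le_inf
      · rintro _ ⟨v, hv, rfl⟩; exact hW v hv
      · rintro _ ⟨v, hv, rfl⟩; exact hW' v hv
    have := Submodule.finrank_sup_add_finrank_inf_eq (W.map N) (W'.map N)
    rw [hsup, hinf, finrank_bot, add_zero] at this
    exact this

end Cfsg.Agent.Lib.Helper18.OPE
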