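import Mathlib
import Cfsg.Agent.Lib.helper23.P4S.DefsC
import Cfsg.Agent.Lib.Helper22.P4CSL7
import Cfsg.Agent.Lib.Helper29.P4CNORM

set_option autoImplicit false

/-!
# Project P4C (S3466, designer helper23), row OUT7 (second writer helper17): core `p4cout7_h17`
(= the statement of `exists_outer_plus`), by explicit eigenvectors.
-/

namespace Cfsg.Agent.Lib.helper23.P4S

open Matrix
open scoped Kronecker

/-- `B P = P D` with `P` invertible: `B ^ k = 1 ↔ D ^ k = 1` -/
theorem p4cout7_conj_pow {E : Type*} [Field E] {ι : Type*} [Fintype ι] [DecidableEq ι]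
    (B P D : Matrix ι ι E) (hP : P.det ≠ 0) (h : B * P = P * D) (k : ℕ) :
    B ^ k = 1 ↔ D ^ k = 1 := by
  have hk : B ^ k * P = P * D ^ k := by
    induction k with
    | zero => simp
    | succ k ih => rw [pow_succ, pow_succ, mul_assoc, h, ← mul_assoc, ih, mul_assoc]
  have hu : IsUnit P.det := isUnit_iff_ne_zero.mpr hP
  constructor
  · intro h1
    rw [h1, one_mul] at hk
    have h2 : P⁻¹ * P = P⁻¹ * (P * D ^ k) := by rw [← hk]
    rw [← mul_assoc, Matrix.nonsing_inv_mul _ hu, one_mul] at h2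
    exact h2.symm
  · intro h1
    rw [h1, mul_one] at hk
    have h2 : B ^ k * P * P⁻¹ = P * P⁻¹ := by rw [hk]
    rw [mul_assoc, Matrix.mul_nonsing_inv _ hu, mul_one] at h2
    exact h2

/-- powers in `SL` and in matrices -/
theorem p4cout7_sl_pow {E : Type*} [Field E] (X : Matrix.SpecialLinearGroup (Fin 2) E) (k : ℕ) :
    X ^ k = 1 ↔ X.1 ^ k = 1 := by
  constructor
  · intro h
    rw [← Matrix.SpecialLinearGroup.coe_pow, h, Matrix.SpecialLinearGroup.coe_one]
  · intro h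
    apply Subtype.ext
    rw [Matrix.SpecialLinearGroup.coe_pow, h, Matrix.SpecialLinearGroup.coe_one]

/-- a matrix in `SL₂(E)` conjugate (over `E`) to `diag(b, b⁻¹)` has the order of `b` -/
theorem p4cout7_order {E : Type*} [Field E] (X : Matrix.SpecialLinearGroup (Fin 2) E) (b : Eˣ)
    (P : Matrix (Fin 2) (Fin 2) E) (hP : P.det ≠ 0)
    (h : X.1 * P = P * Matrix.diagonal ![(b : E), ((b⁻¹ : Eˣ) : E)]) :
    orderOf X = orderOf b := by
  rw [← p4csl7_orderOf_D b]
  rw [orderOf_eq_orderOf_iff]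
  intro k
  rw [p4cout7_sl_pow, p4cout7_sl_pow, p4csl7_D_coe]
  exact p4cout7_conj_pow X.1 P _ hP h k

/-- the eigenvector identity -/
theorem p4cout7_eig {E : Type*} [Field E] (β β' s sq S : E) (hmul : β * β' = 1) (hS : S = β + β' + 2)
    (hsq : s * sq = S) :
    (!![-1, sq; -s, S - 1] : Matrix (Fin 2) (Fin 2) E) * !![sq, sq; 1 + β, 1 + β'] =
      !![sq, sq; 1 + β, 1 + β'] * Matrix.diagonal ![β, β'] := by
  ext i j
  fin_cases i <;> fin_cases j
  · simp [Matrix.mul_apply, Fin.sum_univ_two]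
    ring
  · simp [Matrix.mul_apply, Fin.sum_univ_two]
    ring
  · simp [Matrix.mul_apply, Fin.sum_univ_two]
    rw [hS] at hsq ⊢
    linear_combination (-1 : E) * hsq + hmul
  · simp [Matrix.mul_apply, Fin.sum_univ_two]
    rw [hS] at hsq ⊢
    linear_combination (-1 : E) * hsq + hmul

/-- OUT7, own-name copy of the second writer -/
theorem p4cout7_h17 {E : Type} [Field E] [Fintype E] (p : ℕ) [Fact p.Prime] [CharP E p] (hp : p ≠ 2) (n : ℕ) (hn : 1 ≤ n)
    (hE : Fintype.card E = p ^ (2 * n)) :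
    ∃ A : Matrix.SpecialLinearGroup (Fin 2) E,
      orderOf (A * Matrix.SpecialLinearGroup.map (frq E p n) A) = p ^ n + 1 ∧
        (A * Matrix.SpecialLinearGroup.map (frq E p n) A).1.trace ^ 2 ≠ 4 := by
  classical
  have hp2 : 2 ≤ p := (Fact.out : p.Prime).two_le
  have hp3 : 3 ≤ p := by omega
  have hq3 : 3 ≤ p ^ n := by
    calc 3 ≤ p := hp3
      _ = p ^ 1 := (pow_one p).symm
      _ ≤ p ^ n := Nat.pow_le_pow_right (by omega) hn
  generalize hq : p ^ n = q at hq3 ⊢
  have hfr : ∀ x : E, frq E p n x = x ^ q := fun x => by rw [frq_apply, hq]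
  have hEq : Fintype.card E = q ^ 2 := by rw [hE, ← hq, ← pow_mul, mul_comm]
  have hdvd : q + 1 ∣ Fintype.card E - 1 := by
    rw [hEq]
    refine ⟨q - 1, ?_⟩
    obtain ⟨m, rfl⟩ : ∃ m, q = m + 1 := ⟨q - 1, by omega⟩
    simp only [Nat.add_sub_cancel]
    have : (m + 1) ^ 2 = (m + 1 + 1) * m + 1 := by ring
    omega
  obtain ⟨b, hb⟩ := p4csl7_exists_unit (E := E) (q + 1) hdvd
  have hb1 : b ^ (q + 1) = 1 := by rw [← hb]; exact pow_orderOf_eq_one b
  have hbq : b ^ q = b⁻¹ := by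
    rw [pow_succ] at hb1; exact eq_inv_of_mul_eq_one_left hb1
  have hb2 : b ^ 2 ≠ 1 := by
    intro h
    have h1 := orderOf_dvd_of_pow_eq_one h
    rw [hb] at h1
    have h2 := Nat.le_of_dvd (by norm_num) h1
    omega
  obtain ⟨β, hβ⟩ : ∃ β : E, β = (b : E) := ⟨_, rfl⟩
  obtain ⟨β', hβ'⟩ : ∃ β' : E, β' = ((b⁻¹ : Eˣ) : E) := ⟨_, rfl⟩
  have hmul : β * β' = 1 := by
    rw [hβ, hβ', ← Units.val_mul, mul_inv_cancel, Units.val_one]
  have hβq : β ^ q = β' := by
    rw [hβ, hβ', ← Units.val_pow_eq_pow_val, hbq]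
  have hβ'q : β' ^ q = β := by
    rw [hβ, hβ', ← Units.val_pow_eq_pow_val, inv_pow, hbq, inv_inv]
  have hb2' : β ^ 2 ≠ 1 := by
    intro h
    apply hb2
    apply Units.ext
    rw [Units.val_pow_eq_pow_val, Units.val_one, ← hβ]
    exact h
  have hne : β ≠ β' := by
    intro h
    apply hb2'
    rw [pow_two]
    rw [← h] at hmul
    exact hmul
  have htq : (β + β' + 2) ^ q = β + β' + 2 := by
    rw [← hfr, map_add, map_add, map_ofNat, hfr, hfr, hβq, hβ'q]
    ring
  obtain ⟨s, hs⟩ := norm_surj q (by omega) hEq (β + β' + 2) htq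
  have hs0 : s ≠ 0 := by
    intro h0
    rw [h0, zero_pow (by omega)] at hs
    apply hb2'
    have h1 : (β + 1) ^ 2 = 0 := by linear_combination (-β) * hs - hmul
    have h2 : β + 1 = 0 := by
      exact pow_eq_zero_iff (two_ne_zero) |>.1 h1
    have h3 : β = -1 := by linear_combination h2
    rw [h3]; ring
  have hsq : s * s ^ q = s ^ (q + 1) := (pow_succ' s q).symm
  let A : Matrix.SpecialLinearGroup (Fin 2) E := ⟨!![0, 1; -1, s], by simp [Matrix.det_fin_two]⟩
  have hmap : (!![0, 1; -1, s] : Matrix (Fin 2) (Fin 2) E).map (frq E p n) = !![0, 1; -1, s ^ q] := by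
    ext i j
    fin_cases i <;> fin_cases j <;> simp [hfr s]
  have hB : (A * Matrix.SpecialLinearGroup.map (frq E p n) A).1 = !![-1, s ^ q; -s, s ^ (q + 1) - 1] := by
    rw [Matrix.SpecialLinearGroup.coe_mul, Matrix.SpecialLinearGroup.map_apply_coe, RingHom.mapMatrix_apply]
    show (!![0, 1; -1, s] : Matrix (Fin 2) (Fin 2) E) * (!![0, 1; -1, s] : Matrix (Fin 2) (Fin 2) E).map (frq E p n) = _
    rw [hmap, ← hsq]
    ext i j
    fin_cases i <;> fin_cases j <;>
      simp [Matrix.mul_apply, Fin.sum_univ_two] <;> ring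
  refine ⟨A, ?_, ?_⟩
  · rw [← hb]
    refine p4cout7_order _ b !![s ^ q, s ^ q; 1 + β, 1 + β'] ?_ ?_
    · rw [Matrix.det_fin_two_of]
      have : s ^ q * (1 + β') - s ^ q * (1 + β) = s ^ q * (β' - β) := by ring
      rw [this]
      exact mul_ne_zero (pow_ne_zero _ hs0) (sub_ne_zero.mpr (Ne.symm hne))
    · rw [hB, ← hβ, ← hβ']
      exact p4cout7_eig β β' s (s ^ q) (s ^ (q + 1)) hmul hs hsq
  · intro h4
    apply hb2
    apply p4csl7_trace_sq b
    rw [p4csl7_trace_D, ← hβ, ← hβ']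
    rw [hB, Matrix.trace_fin_two_of] at h4
    rw [← h4, hs]
    ring

end Cfsg.Agent.Lib.helper23.P4S
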