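import Mathlib
import Cfsg.Prelude.Def_Classical
import Cfsg.Agent.Lib.helper23.P4V.Defs

/-!
# P4V row III (`caseIII`), helper17: the core, with the invariance of `om` under `g` (row OM2) as a
hypothesis.  Own names are prefixed `p4viii_`.
-/

set_option autoImplicit false

namespace Cfsg.Agent.Lib.helper23.P4V

open Matrix

universe u

section Field

variable {F : Type u} [Field F]

theorem p4viii_om_add_left (u u' v : V F) : om (u + u') v = om u v + om u' v := by
  unfold om; simp only [Pi.add_apply]; ring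

theorem p4viii_om_add_right (u v v' : V F) : om u (v + v') = om u v + om u v' := by
  unfold om; simp only [Pi.add_apply]; ring

theorem p4viii_om_smul_left (c : F) (u v : V F) : om (c • u) v = c * om u v := by
  unfold om; simp only [Pi.smul_apply, smul_eq_mul]; ring

theorem p4viii_om_smul_right (c : F) (u v : V F) : om u (c • v) = c * om u v := by
  unfold om; simp only [Pi.smul_apply, smul_eq_mul]; ring

theorem p4viii_om_sub_left (u u' v : V F) : om (u - u') v = om u v - om u' v := by
  unfold om; simp only [Pi.sub_apply]; ring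

theorem p4viii_om_sub_right (u v v' : V F) : om u (v - v') = om u v - om u v' := by
  unfold om; simp only [Pi.sub_apply]; ring

theorem p4viii_om_self (u : V F) : om u u = 0 := by
  unfold om; ring

theorem p4viii_om_swap (u v : V F) : om v u = -om u v := by
  unfold om; ring

/-- nondegeneracy: a vector orthogonal to everything is zero. -/
theorem p4viii_eq_zero (u : V F) (h : ∀ w : V F, om u w = 0) : u = 0 := by
  funext k
  rcases k with i | i
  · have := h (Pi.single (Sum.inr i) 1)
    unfold om at this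
    fin_cases i <;> simpa using this
  · have := h (Pi.single (Sum.inl i) 1)
    unfold om at this
    fin_cases i <;> simpa using this

/-- the statement of OM3. -/
theorem p4viii_nondeg (u : V F) (hu : u ≠ 0) : ∃ w : V F, om u w = 1 := by
  by_contra hcon
  apply hu
  apply p4viii_eq_zero
  intro w
  by_contra hw
  apply hcon
  refine ⟨(om u w)⁻¹ • w, ?_⟩
  rw [p4viii_om_smul_right, inv_mul_cancel₀ hw]

/-- the statement of II1, first half. -/
theorem p4viii_selfadj (g : M4 F) (halt : ∀ v : V F, om v (g *ᵥ v) = 0) (u v : V F) :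
    om u (g *ᵥ v) = om (g *ᵥ u) v := by
  have h := halt (u + v)
  rw [Matrix.mulVec_add, p4viii_om_add_left, p4viii_om_add_right, p4viii_om_add_right, halt u,
    halt v] at h
  rw [p4viii_om_swap v (g *ᵥ u)]
  linear_combination h

/-- **III core**. -/
theorem p4viii_core (h2 : (2 : F) = 0) (ν : F) (g : M4 F)
    (hOM2 : ∀ u v : V F, om (g *ᵥ u) (g *ᵥ v) = om u v)
    (halt : ∀ v : V F, om v (g *ᵥ v) = 0) (h1 : g ≠ 1) :
    ∃ e₁ e₂ f₁ f₂ : V F, IsFrame e₁ e₂ f₁ f₂ ∧ amat g e₁ e₂ f₁ f₂ = ν • (1 : M2 F) := by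
  have hsa := p4viii_selfadj g halt
  -- `g g w = w`
  have hgg : ∀ w : V F, g *ᵥ (g *ᵥ w) = w := by
    intro w
    have : g *ᵥ (g *ᵥ w) - w = 0 := by
      apply p4viii_eq_zero
      intro u
      rw [p4viii_om_sub_left, p4viii_om_swap u, p4viii_om_swap u w, hsa u (g *ᵥ w), hOM2]
      ring
    exact sub_eq_zero.mp this
  -- the map `N = g - 1`
  set N : V F → V F := fun v => g *ᵥ v - v with hN
  have Nadd : ∀ u v : V F, N (u + v) = N u + N v := by
    intro u v; simp only [hN, Matrix.mulVec_add]; abel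
  have Nsmul : ∀ (c : F) (v : V F), N (c • v) = c • N v := by
    intro c v; simp only [hN, Matrix.mulVec_smul, smul_sub]
  have NN : ∀ v : V F, N (N v) = 0 := by
    intro v
    simp only [hN, Matrix.mulVec_sub, hgg]
    have h2v : (2 : F) • (v - g *ᵥ v) = 0 := by rw [h2, zero_smul]
    rw [two_smul] at h2v
    rw [← h2v]; abel
  have Nsa : ∀ u v : V F, om u (N v) = om (N u) v := by
    intro u v
    simp only [hN, p4viii_om_sub_right, p4viii_om_sub_left, hsa u v]
  have Nalt : ∀ v : V F, om v (N v) = 0 := by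
    intro v
    simp only [hN, p4viii_om_sub_right, halt v, p4viii_om_self, sub_zero]
  have hneg : ∀ a : F, -a = a := by
    intro a
    have : (2 : F) * a = 0 := by rw [h2, zero_mul]
    linear_combination (-1 : F) * this
  -- `e₁` with `N e₁ ≠ 0`
  obtain ⟨e₁, he₁⟩ : ∃ e₁ : V F, N e₁ ≠ 0 := by
    by_contra hcon
    apply h1
    apply Matrix.mulVec_injective
    funext v
    have : N v = 0 := by
      by_contra hv
      exact hcon ⟨v, hv⟩
    simp only [hN] at this
    rw [Matrix.one_mulVec]
    exact sub_eq_zero.mp this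
  obtain ⟨w, hw⟩ := p4viii_nondeg (N e₁) he₁
  have hw' : om w (N e₁) = 1 := by rw [p4viii_om_swap, hw, hneg]
  set c : F := om e₁ w with hc
  set e₂ : V F := w + c • N w with he₂
  set l₁ : V F := N e₂ with hl₁
  set l₂ : V F := N e₁ with hl₂
  -- frame relations of `(e₁, e₂, l₁, l₂)`
  have r1 : om e₁ l₂ = 0 := Nalt e₁
  have r2 : om e₂ l₁ = 0 := Nalt e₂
  have r3 : om l₁ l₂ = 0 := by
    rw [hl₁, hl₂, ← Nsa, NN]
    unfold om; simp
  have r4 : om e₂ l₂ = 1 := by
    rw [he₂, p4viii_om_add_left, p4viii_om_smul_left, hw', hl₂, ← Nsa, NN]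
    unfold om; simp
  have r5 : om e₁ l₁ = 1 := by
    rw [hl₁, Nsa, p4viii_om_swap, r4, hneg]
  have r6 : om e₁ e₂ = 0 := by
    rw [he₂, p4viii_om_add_right, p4viii_om_smul_right, Nsa, ← hl₂, hw, ← hc]
    have : (2 : F) * c = 0 := by rw [h2, zero_mul]
    linear_combination this
  have ge₁ : g *ᵥ e₁ = e₁ + l₂ := by simp only [hl₂, hN]; abel
  have ge₂ : g *ᵥ e₂ = e₂ + l₁ := by simp only [hl₁, hN]; abel
  have s1 : om l₂ e₂ = 1 := by rw [p4viii_om_swap, r4, hneg]
  have s2 : om l₁ e₁ = 1 := by rw [p4viii_om_swap, r5, hneg]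
  have s3 : om l₁ e₂ = 0 := by rw [p4viii_om_swap, r2, neg_zero]
  have s4 : om l₂ e₁ = 0 := by rw [p4viii_om_swap, r1, neg_zero]
  have s5 : om l₂ l₁ = 0 := by rw [p4viii_om_swap, r3, neg_zero]
  have s6 : om e₂ e₁ = 0 := by rw [p4viii_om_swap, r6, neg_zero]
  refine ⟨e₁, e₂, l₁ + (ν + 1) • e₂, l₂ + (ν + 1) • e₁, ⟨r6, ?_, ?_, ?_, ?_, ?_⟩, ?_⟩
  · rw [p4viii_om_add_left, p4viii_om_add_right, p4viii_om_add_right, p4viii_om_smul_left,
      p4viii_om_smul_left, p4viii_om_smul_right, p4viii_om_smul_right, r3, s2, r4, s6]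
    have : (2 : F) * (ν + 1) = 0 := by rw [h2, zero_mul]
    linear_combination this
  · rw [p4viii_om_add_right, p4viii_om_smul_right, r5, r6]; ring
  · rw [p4viii_om_add_right, p4viii_om_smul_right, r4, s6]; ring
  · rw [p4viii_om_add_right, p4viii_om_smul_right, r1, p4viii_om_self]; ring
  · rw [p4viii_om_add_right, p4viii_om_smul_right, r2, p4viii_om_self]; ring
  · unfold amat
    rw [ge₁, ge₂]
    have a11 : om (e₁ + l₂) (l₁ + (ν + 1) • e₂) = ν := by
      rw [p4viii_om_add_left, p4viii_om_add_right, p4viii_om_add_right, p4viii_om_smul_right,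
        p4viii_om_smul_right, r5, r6, s5, s1]
      linear_combination h2
    have a12 : om (e₂ + l₁) (l₁ + (ν + 1) • e₂) = 0 := by
      rw [p4viii_om_add_left, p4viii_om_add_right, p4viii_om_add_right, p4viii_om_smul_right,
        p4viii_om_smul_right, r2, p4viii_om_self, p4viii_om_self, s3]
      ring
    have a21 : om (e₁ + l₂) (l₂ + (ν + 1) • e₁) = 0 := by
      rw [p4viii_om_add_left, p4viii_om_add_right, p4viii_om_add_right, p4viii_om_smul_right,
        p4viii_om_smul_right, r1, p4viii_om_self, p4viii_om_self, s4]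
      ring
    have a22 : om (e₂ + l₁) (l₂ + (ν + 1) • e₁) = ν := by
      rw [p4viii_om_add_left, p4viii_om_add_right, p4viii_om_add_right, p4viii_om_smul_right,
        p4viii_om_smul_right, r4, s6, r3, s2]
      linear_combination h2
    rw [a11, a12, a21, a22]
    ext i j
    fin_cases i <;> fin_cases j <;> simp

end Field

end Cfsg.Agent.Lib.helper23.P4V
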