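import Mathlib
import Cfsg.Prelude.Def_Classical
import Cfsg.Agent.Lib.helper23.P4V.Defs
import Cfsg.Agent.Lib.helper17.P4VIIIcore
import Cfsg.Agent.Lib.Helper20.P4VOM2

/-!
# P4V row III (`caseIII`), helper17.  Verbatim statement of `helper23/P4V/Skel.lean.txt`.
-/

set_option autoImplicit false

namespace Cfsg.Agent.Lib.helper23.P4V

open Matrix

universe u

section Field

variable {F : Type u} [Field F]

/-- **III** (characteristic 2). -/
theorem caseIII (h2 : (2 : F) = 0) (ν : F) (g : M4 F) (hg : g ∈ Matrix.symplecticGroup (Fin 2) F)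
    (halt : ∀ v : V F, om v (g *ᵥ v) = 0) (h1 : g ≠ 1) :
    ∃ e₁ e₂ f₁ f₂ : V F, IsFrame e₁ e₂ f₁ f₂ ∧ amat g e₁ e₂ f₁ f₂ = ν • (1 : M2 F) :=
  p4viii_core h2 ν g (om_mulVec g hg) halt h1

end Field

end Cfsg.Agent.Lib.helper23.P4V
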