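import Mathlib
import Cfsg.Prelude.Def_LocalStructure
import Cfsg.Agent.Lib.helper17.PClosed

set_option autoImplicit false

namespace Cfsg.Agent.Lib.helper17

variable {G : Type*} [Group G]

theorem isPClosed_of_mulEquiv [Finite G] {G' : Type*} [Group G'] {p : ℕ} [Fact p.Prime]
    (e : G ≃* G') (h : Cfsg.IsPClosed p G) : Cfsg.IsPClosed p G' := by
  have : Finite G' := Finite.of_equiv G e.toEquiv
  rw [isPClosed_iff_mul] at h ⊢
  intro x y hx hy
  have := (h (e.symm x) (e.symm y) (hx.map e.symm.toMonoidHom) (hy.map e.symm.toMonoidHom)).map e.toMonoidHom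
  simpa using this

/-- `p`-closedness of `C.subgroupOf H` versus `H ⊓ C`. -/
theorem isPClosed_inf_of_subgroupOf [Finite G] {p : ℕ} [Fact p.Prime] (H C : Subgroup G)
    (h : Cfsg.IsPClosed p ↥(C.subgroupOf H)) : Cfsg.IsPClosed p ↥(H ⊓ C) := by
  have e1 : ↥((H ⊓ C).subgroupOf H) ≃* ↥(H ⊓ C) := Subgroup.subgroupOfEquivOfLe inf_le_left
  have h2 : (H ⊓ C).subgroupOf H = C.subgroupOf H := Subgroup.inf_subgroupOf_left C H
  rw [← h2] at h
  exact isPClosed_of_mulEquiv e1 h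

/-- Generic facts: `L` is `p`-irreducible and `C` is a normal subgroup not containing `O^p(L)`. -/
theorem pirr_normal_isPClosed {p : ℕ} (hL : Cfsg.IsPIrreducible p G) (C : Subgroup G) [hC : C.Normal]
    (hRC : ¬ Cfsg.pResidual p G ≤ C) : Cfsg.IsPClosed p ↥C := by
  by_contra h
  exact hRC (hL.2 C hC h)

theorem pirr_le_pCore [Finite G] {p : ℕ} [Fact p.Prime] (hL : Cfsg.IsPIrreducible p G)
    (C : Subgroup G) [hC : C.Normal] (hRC : ¬ Cfsg.pResidual p G ≤ C) {P : Subgroup G} (hPC : P ≤ C)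
    (hP : IsPGroup p P) : P ≤ Cfsg.pCore p G :=
  le_pCore_of_isPClosed_normal C (pirr_normal_isPClosed hL C hRC) hPC hP

theorem pirr_pCore_quotient_eq_bot [Finite G] {p : ℕ} [hp : Fact p.Prime] (hL : Cfsg.IsPIrreducible p G)
    (C : Subgroup G) [hC : C.Normal] (hRC : ¬ Cfsg.pResidual p G ≤ C)
    (hcore : Cfsg.pCore p G ≤ C) : Cfsg.pCore p (G ⧸ C) = ⊥ := by
  have hsurj := QuotientGroup.mk'_surjective C
  have hKn : ((Cfsg.pCore p (G ⧸ C)).comap (QuotientGroup.mk' C)).Normal :=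
    (pCore_normal p (G ⧸ C)).comap _
  have hRK : ¬ Cfsg.pResidual p G ≤ (Cfsg.pCore p (G ⧸ C)).comap (QuotientGroup.mk' C) := by
    intro hle
    apply hRC
    have hcl' : Cfsg.pResidual p G = Subgroup.closure {g : G | Nat.Coprime (orderOf g) p} := rfl
    rw [hcl', Subgroup.closure_le]
    intro g hg
    have hg' : Nat.Coprime (orderOf g) p := hg
    have h1 : QuotientGroup.mk' C g ∈ Cfsg.pCore p (G ⧸ C) := hle (mem_pResidual_of_coprime hg')
    obtain ⟨k, hk⟩ := isPElt_of_mem (pCore_isPGroup p (G ⧸ C)) h1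
    have h5 : (QuotientGroup.mk' C g) ^ (orderOf g) = 1 := by
      rw [← map_pow, pow_orderOf_eq_one, map_one]
    have h6 : orderOf (QuotientGroup.mk' C g) ∣ Nat.gcd (orderOf g) (p ^ k) :=
      Nat.dvd_gcd (orderOf_dvd_of_pow_eq_one h5) (orderOf_dvd_of_pow_eq_one hk)
    have h7 : Nat.gcd (orderOf g) (p ^ k) = 1 := Nat.Coprime.pow_right k hg'
    rw [h7, Nat.dvd_one, orderOf_eq_one_iff] at h6
    have : g ∈ (QuotientGroup.mk' C).ker := h6
    rwa [QuotientGroup.ker_mk'] at this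
  have hKle : (Cfsg.pCore p (G ⧸ C)).comap (QuotientGroup.mk' C) ≤ C := by
    intro k hk
    have hk1 : QuotientGroup.mk' C k ∈ Cfsg.pCore p (G ⧸ C) := hk
    obtain ⟨j, hj⟩ := isPElt_of_mem (pCore_isPGroup p (G ⧸ C)) hk1
    have hpos : 0 < orderOf k := orderOf_pos k
    obtain ⟨a, m, hm, ham⟩ := Nat.exists_eq_pow_mul_and_not_dvd hpos.ne' p hp.out.ne_one
    have hkm : IsPElt p (k ^ m) := by
      refine ⟨a, ?_⟩
      rw [← pow_mul, mul_comm, ← ham, pow_orderOf_eq_one]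
    have hkmC : k ^ m ∈ C := by
      apply hcore
      have hz : Subgroup.zpowers (k ^ m) ≤ (Cfsg.pCore p (G ⧸ C)).comap (QuotientGroup.mk' C) := by
        rw [Subgroup.zpowers_le]
        exact Subgroup.pow_mem _ hk m
      exact pirr_le_pCore hL _ hRK hz hkm.isPGroup_zpowers (Subgroup.mem_zpowers _)
    have h5 : (QuotientGroup.mk' C k) ^ m = 1 := by
      rw [← map_pow]
      exact (QuotientGroup.eq_one_iff _).mpr hkmC
    have h6 : orderOf (QuotientGroup.mk' C k) ∣ Nat.gcd m (p ^ j) :=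
      Nat.dvd_gcd (orderOf_dvd_of_pow_eq_one h5) (orderOf_dvd_of_pow_eq_one hj)
    have h7 : Nat.gcd m (p ^ j) = 1 :=
      Nat.Coprime.pow_right j ((Nat.Prime.coprime_iff_not_dvd hp.out).mpr hm).symm
    rw [h7, Nat.dvd_one, orderOf_eq_one_iff] at h6
    have : k ∈ (QuotientGroup.mk' C).ker := h6
    rwa [QuotientGroup.ker_mk'] at this
  rw [← le_bot_iff, ← Subgroup.map_comap_eq_self_of_surjective hsurj (Cfsg.pCore p (G ⧸ C))]
  refine (Subgroup.map_mono hKle).trans ?_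
  rw [Subgroup.map_le_iff_le_comap]
  intro x hx
  rw [Subgroup.mem_comap, Subgroup.mem_bot]
  exact (QuotientGroup.eq_one_iff x).mpr hx

end Cfsg.Agent.Lib.helper17
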