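import Mathlib
import Cfsg.Prelude.Def_LocalEven
import Cfsg.Agent.Lib.helper17.PMin8
import Cfsg.Agent.Lib.helper17.QS9
import Cfsg.Agent.Lib.helper17.CharP4
import Cfsg.Agent.Lib.Helper10.SylowSubnormal

set_option autoImplicit false

open scoped commutatorElement

namespace Cfsg.Agent.Lib.helper17

variable {P : Type*} [Group P] [Finite P] {p : ℕ} [Fact p.Prime]

omit [Finite P] in
/-- Commutators modulo elements centralizing `K`. -/
theorem commutatorElement_mul_centralizing {K : Subgroup P} {x₁ x₂ z₁ z₂ : P}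
    (hx₁ : x₁ ∈ K) (hx₂ : x₂ ∈ K) (hz₁ : z₁ ∈ K ⊓ Subgroup.centralizer (K : Set P))
    (hz₂ : z₂ ∈ K ⊓ Subgroup.centralizer (K : Set P)) :
    ⁅x₁ * z₁, x₂ * z₂⁆ = ⁅x₁, x₂⁆ := by
  have hc₁ : (⟨z₁, hz₁.1⟩ : ↥K) ∈ Subgroup.center ↥K := by
    rw [Subgroup.mem_center_iff]
    intro k
    apply Subtype.ext
    exact (Subgroup.mem_centralizer_iff.mp hz₁.2) k k.2
  have hc₂ : (⟨z₂, hz₂.1⟩ : ↥K) ∈ Subgroup.center ↥K := by
    rw [Subgroup.mem_center_iff]
    intro k
    apply Subtype.ext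
    exact (Subgroup.mem_centralizer_iff.mp hz₂.2) k k.2
  have e : ⁅(⟨x₁, hx₁⟩ : ↥K) * ⟨z₁, hz₁.1⟩, (⟨x₂, hx₂⟩ : ↥K) * ⟨z₂, hz₂.1⟩⁆ =
      ⁅(⟨x₁, hx₁⟩ : ↥K), ⟨x₂, hx₂⟩⁆ := by
    rw [commutatorElement_mul_central_left hc₁, commutatorElement_mul_central_right hc₂]
  have := congrArg (K.subtype) e
  simpa [map_commutatorElement] using this

/-- Proper subgroups of `K N_S(K)` containing `N_S(K)` lie in `M`. -/
theorem UniqMax.le_of_ne_component_sup {S : Sylow p P} {M : Subgroup P}
    (h : UniqMax (S : Subgroup P) M) (hOp : Cfsg.pCore p P = ⊥) {K : Subgroup P}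
    (hK : Cfsg.IsComponent K) {X : Subgroup P}
    (hS₀X : (S : Subgroup P) ⊓ Subgroup.normalizer (K : Set P) ≤ X)
    (hXL : X ≤ K ⊔ ((S : Subgroup P) ⊓ Subgroup.normalizer (K : Set P)))
    (hne : X ≠ K ⊔ ((S : Subgroup P) ⊓ Subgroup.normalizer (K : Set P))) : X ≤ M := by
  obtain ⟨hEq, -, hEc⟩ := h.layer_structure hOp hK
  set S₀ := (S : Subgroup P) ⊓ Subgroup.normalizer (K : Set P) with hS₀
  have hS₀K : S₀ ≤ Subgroup.normalizer (K : Set P) := inf_le_right
  have hS₀M : S₀ ≤ M := inf_le_left.trans h.le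
  have hdecomp : X ≤ (X ⊓ K) ⊔ S₀ := by
    intro x hx
    obtain ⟨k, hk, s, hs, rfl⟩ := exists_mul_of_mem_sup_right hS₀K (hXL hx)
    have hkX : k ∈ X := by
      have := X.mul_mem hx (X.inv_mem (hS₀X hs))
      simpa using this
    exact Subgroup.mul_mem_sup ⟨hkX, hk⟩ hs
  suffices hX₀M : X ⊓ K ≤ M from hdecomp.trans (sup_le hX₀M hS₀M)
  have hKX : ¬ K ≤ X := fun hKX => hne (le_antisymm hXL (sup_le hKX hS₀X))
  have hS₀X₀ : S₀ ≤ Subgroup.normalizer ((X ⊓ K : Subgroup P) : Set P) :=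
    le_normalizer_inf' (hS₀X.trans Subgroup.le_normalizer) hS₀K
  have hSW : (S : Subgroup P) ≤
      Subgroup.normalizer ((conjClosure (S : Subgroup P) (X ⊓ K) : Subgroup P) : Set P) :=
    le_normalizer_conjClosure _ _
  by_cases hY : conjClosure (S : Subgroup P) (X ⊓ K) ⊔ (S : Subgroup P) = ⊤
  · exfalso
    have hWn : (conjClosure (S : Subgroup P) (X ⊓ K)).Normal := by
      rw [← Subgroup.normalizer_eq_top_iff, eq_top_iff, ← hY]
      exact sup_le Subgroup.le_normalizer hSW
    have hresW : Cfsg.pResidual p P ≤ conjClosure (S : Subgroup P) (X ⊓ K) :=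
      pResidual_le_of_sup_eq_top _ (S : Subgroup P) S.isPGroup' hY
    have hKW : K ≤ conjClosure (S : Subgroup P) (X ⊓ K) :=
      (Cfsg.Agent.Lib.Helper10.component_le_layer hK).trans (hEq ▸ hresW)
    have hWle : conjClosure (S : Subgroup P) (X ⊓ K) ≤
        (X ⊓ K) ⊔ Subgroup.centralizer (K : Set P) := by
      unfold conjClosure
      apply iSup_le
      intro s
      by_cases hs : (s : P) ∈ Subgroup.normalizer (K : Set P)
      · have : cj (s : P) (X ⊓ K) = X ⊓ K := cj_eq_self_iff.mpr (hS₀X₀ ⟨s.2, hs⟩)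
        rw [this]
        exact le_sup_left
      · have hne' : cj (s : P) K ≠ K := fun hh => hs (cj_eq_self_iff.mp hh)
        have hc : ⁅cj (s : P) K, K⁆ = ⊥ := component_commute_of_ne (isComponent_cj hK s) hK hne'
        rw [Subgroup.commutator_eq_bot_iff_le_centralizer] at hc
        exact ((cj_mono inf_le_right).trans hc).trans le_sup_right
    have hKnC : X ⊓ K ≤ Subgroup.normalizer ((Subgroup.centralizer (K : Set P) : Subgroup P) : Set P) :=
      inf_le_right.trans (le_normalizer_centralizer' Subgroup.le_normalizer)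
    have hKdecomp : ∀ k ∈ K, ∃ x ∈ X ⊓ K, ∃ z ∈ K ⊓ Subgroup.centralizer (K : Set P), k = x * z := by
      intro k hk
      obtain ⟨x, hx, z, hz, rfl⟩ := exists_mul_of_mem_sup_left hKnC (hWle (hKW hk))
      refine ⟨x, hx, z, ⟨?_, hz⟩, rfl⟩
      have := K.mul_mem (K.inv_mem hx.2) hk
      simpa using this
    have hperf : ⁅K, K⁆ = K := Cfsg.Agent.Lib.Helper10.isComponent_commutator_self hK
    apply hKX
    rw [← hperf, Subgroup.commutator_le]
    intro k₁ hk₁ k₂ hk₂
    obtain ⟨x₁, hx₁, z₁, hz₁, rfl⟩ := hKdecomp k₁ hk₁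
    obtain ⟨x₂, hx₂, z₂, hz₂, rfl⟩ := hKdecomp k₂ hk₂
    rw [commutatorElement_mul_centralizing hx₁.2 hx₂.2 hz₁ hz₂]
    have hc := Subgroup.commutator_mem_commutator hx₁.1 hx₂.1
    exact Subgroup.commutator_le_self X hc
  · have h1 := h.uniq _ le_sup_right hY
    exact (le_conjClosure _ _).trans (le_sup_left.trans h1)

end Cfsg.Agent.Lib.helper17

namespace Cfsg.Agent.Lib.helper17

variable {P : Type*} [Group P] [Finite P] {p : ℕ} [Fact p.Prime]

/-- `K N_S(K)` is `p`-minimal. -/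
theorem UniqMax.isPMinimal_component_sup {S : Sylow p P} {M : Subgroup P}
    (h : UniqMax (S : Subgroup P) M) (hSn : ¬ (S : Subgroup P).Normal)
    (hOp : Cfsg.pCore p P = ⊥) {K : Subgroup P} (hK : Cfsg.IsComponent K) :
    Cfsg.IsPMinimal p ↥(K ⊔ ((S : Subgroup P) ⊓ Subgroup.normalizer (K : Set P))) := by
  obtain ⟨hEq, -, hEc⟩ := h.layer_structure hOp hK
  set S₀ := (S : Subgroup P) ⊓ Subgroup.normalizer (K : Set P) with hS₀
  set L := K ⊔ S₀ with hL
  have hS₀K : S₀ ≤ Subgroup.normalizer (K : Set P) := inf_le_right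
  have hS₀S : S₀ ≤ (S : Subgroup P) := inf_le_left
  have hS₀M : S₀ ≤ M := hS₀S.trans h.le
  have hKL : K ≤ L := le_sup_left
  have hS₀L : S₀ ≤ L := le_sup_right
  have hS₀p : IsPGroup p S₀ := S.isPGroup'.to_le hS₀S
  have hSne : (S : Subgroup P) ≠ ⊥ := by
    intro hh
    apply hSn
    rw [hh]
    infer_instance
  have hEn : (Cfsg.layer P).Normal := by
    rw [← hEq]; exact pResidual_normal p P
  -- `K ≰ M`
  have hKM : ¬ K ≤ M := by
    intro hKM
    apply h.coatom.1
    rw [eq_top_iff, ← pResidual_sup_sylow S, hEq, hEc]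
    refine sup_le ?_ h.le
    apply conjClosure_le_of hKM
    exact h.le.trans Subgroup.le_normalizer
  have hLM : ¬ L ≤ M := fun hLM => hKM (hKL.trans hLM)
  -- the Sylow subgroup of `L`
  have hinf : S₀ ⊓ K = (S : Subgroup P) ⊓ K := by
    rw [hS₀, inf_assoc, inf_eq_right.mpr (Subgroup.le_normalizer : K ≤ Subgroup.normalizer (K : Set P))]
  have hidx : ¬ p ∣ (S₀.subgroupOf L).index := by
    show ¬ p ∣ S₀.relIndex L
    rw [hL, sup_comm, Cfsg.Agent.Lib.Helper10.relIndex_sup_of_le_normalizer' S₀ K hS₀K,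
      ← Subgroup.inf_relIndex_right, hinf]
    exact Cfsg.Agent.Lib.Helper10.not_dvd_relIndex_inf_of_isSubnormal p (S : Subgroup P)
      S.not_dvd_index K hK.1
  let S' : Sylow p ↥L := IsPGroup.toSylow (P := S₀.subgroupOf L) hS₀p.comap_subtype hidx
  have hS' : (S' : Subgroup ↥L) = S₀.subgroupOf L := rfl
  apply isPMinimal_of_sylow S'
  · -- not normal
    intro hn
    rw [hS', Subgroup.normal_subgroupOf_iff_le_normalizer hS₀L] at hn
    have hKS₀ : K ≤ Subgroup.normalizer (S₀ : Set P) := hKL.trans hn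
    have hcomm : ⁅K, S₀⁆ ≤ K ⊓ S₀ :=
      le_inf (Subgroup.le_normalizer_iff_commutator_le_left.mp hS₀K)
        (Subgroup.le_normalizer_iff_commutator_le_right.mp hKS₀)
    have hcent : S₀ ≤ Subgroup.centralizer (K : Set P) := by
      rcases commutator_quasisimple_eq_or_bot hK.2 (hcomm.trans inf_le_left) with h1 | h1
      · exfalso
        have hKS : K ≤ S₀ := by
          conv_lhs => rw [← h1]
          exact hcomm.trans inf_le_right
        have hsol : Group.IsSolvable ↥S₀ := isSolvable_of_isPGroup hS₀p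
        exact Cfsg.Agent.Lib.Helper10.isComponent_not_le_of_isSolvable hK hsol hKS
      · rw [Subgroup.commutator_comm, Subgroup.commutator_eq_bot_iff_le_centralizer] at h1
        exact h1
    -- `S ∩ E` centralizes `E`
    have hSE : (S : Subgroup P) ⊓ Cfsg.layer P ≤
        Subgroup.centralizer ((Cfsg.layer P : Subgroup P) : Set P) := by
      intro x hx
      rw [hEc]
      apply mem_centralizer_conjClosure
      intro s hs
      apply hcent
      refine ⟨(S : Subgroup P).mul_mem ((S : Subgroup P).mul_mem ((S : Subgroup P).inv_mem hs) hx.1) hs, ?_⟩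
      have h2 : x ∈ Subgroup.normalizer ((cj s K : Subgroup P) : Set P) :=
        layer_le_normalizer_component (isComponent_cj hK s) hx.2
      rw [normalizer_cj, mem_cj] at h2
      exact h2
    have hSEn : ((S : Subgroup P) ⊓ Cfsg.layer P).Normal := by
      rw [← Subgroup.normalizer_eq_top_iff, eq_top_iff, ← pResidual_sup_sylow S, hEq]
      apply sup_le
      · have h3 : Cfsg.layer P ≤ Subgroup.centralizer (((S : Subgroup P) ⊓ Cfsg.layer P : Subgroup P) : Set P) := by
          rw [Subgroup.le_centralizer_iff]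
          exact hSE
        exact h3.trans (Subgroup.centralizer_le_normalizer _)
      · apply le_normalizer_inf' Subgroup.le_normalizer
        rw [Subgroup.normalizer_eq_top_iff.mpr hEn]
        exact le_top
    have hbot : (S : Subgroup P) ⊓ Cfsg.layer P = ⊥ := by
      rw [eq_bot_iff, ← hOp]
      exact le_pCore hSEn (S.isPGroup'.to_le inf_le_left)
    have hcop := coprime_card_of_normal_inf_sylow_eq_bot S hEn hbot
    rw [← hEq] at hcop
    exact h.not_coprime_card_pResidual hSne hK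
      (hEq ▸ Cfsg.Agent.Lib.Helper10.component_le_layer hK) hcop
  · -- unique maximal subgroup
    have hM'ne : M.subgroupOf L ≠ ⊤ := by
      rw [Ne, Subgroup.subgroupOf_eq_top]
      exact hLM
    have hkey : ∀ X' : Subgroup ↥L, (S' : Subgroup ↥L) ≤ X' → X' ≠ ⊤ → X' ≤ M.subgroupOf L := by
      intro X' hSX' hX'ne
      have hXL : X'.map L.subtype ≤ L := Subgroup.map_subtype_le X'
      have hS₀X : S₀ ≤ X'.map L.subtype := by
        intro s hs
        exact ⟨⟨s, hS₀L hs⟩, hSX' (by rw [hS']; exact Subgroup.mem_subgroupOf.mpr hs), rfl⟩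
      have hne : X'.map L.subtype ≠ L := by
        intro hh
        apply hX'ne
        rw [eq_top_iff]
        intro x _
        have hx : (x : P) ∈ X'.map L.subtype := by rw [hh]; exact x.2
        obtain ⟨y, hy, hyx⟩ := hx
        have : y = x := Subtype.ext hyx
        rwa [← this]
      have hXM := h.le_of_ne_component_sup hOp hK hS₀X hXL hne
      intro x hx
      rw [Subgroup.mem_subgroupOf]
      exact hXM ⟨x, hx, rfl⟩
    have hS'M : (S' : Subgroup ↥L) ≤ M.subgroupOf L := by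
      rw [hS']
      intro x hx
      rw [Subgroup.mem_subgroupOf] at hx ⊢
      exact hS₀M hx
    refine ⟨M.subgroupOf L, ⟨⟨hM'ne, ?_⟩, hS'M⟩, ?_⟩
    · intro Y hY
      by_contra hYne
      exact hY.not_ge (hkey Y (hS'M.trans hY.le) hYne)
    · rintro Y ⟨hYc, hSY⟩
      have hYM := hkey Y hSY hYc.1
      rcases eq_or_lt_of_le hYM with e | l
      · exact e
      · exact absurd (hYc.2 _ l) hM'ne

end Cfsg.Agent.Lib.helper17
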