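import Mathlib
import Cfsg.Agent.Lib.helper17.PRed8
import Cfsg.Agent.Lib.helper17.CharP5
import Cfsg.Agent.Lib.Lead.Coprime
import Cfsg.Agent.S2804

set_option autoImplicit false

namespace Cfsg.Agent.Lib.helper17

open scoped commutatorElement

variable {G : Type*} [Group G]

/-- If all `p'`-elements of `N` lie in `C`, then every element of `N` has a `p`-power in `C`. -/
theorem pPowIn_of_forall_coprime [Finite G] {p : ℕ} [hp : Fact p.Prime] {N C : Subgroup G}
    (h : ∀ g ∈ N, Nat.Coprime (orderOf g) p → g ∈ C) : PPowIn p N C := by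
  intro g hg
  have hpos : 0 < orderOf g := orderOf_pos g
  obtain ⟨k, m, hm, hkm⟩ := Nat.exists_eq_pow_mul_and_not_dvd hpos.ne' p hp.out.ne_one
  refine ⟨k, ?_⟩
  have h1 : orderOf (g ^ (p ^ k)) = m := by
    rw [orderOf_pow' g (pow_ne_zero k hp.out.ne_zero), hkm, Nat.gcd_eq_right (dvd_mul_right _ _),
      Nat.mul_div_cancel_left _ (pow_pos hp.out.pos k)]
  apply h _ (N.pow_mem hg _)
  rw [h1]
  exact ((Nat.Prime.coprime_iff_not_dvd hp.out).mpr hm).symm

theorem pPowIn_iff_opOf_le [Finite G] {p : ℕ} [Fact p.Prime] {N C : Subgroup G} :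
    PPowIn p N C ↔ opOf p N ≤ C := by
  rw [opOf_le_iff]
  constructor
  · intro h g hg hc
    obtain ⟨k, hk⟩ := h g hg
    exact mem_of_coprime_of_pow_mem hc hk
  · exact pPowIn_of_forall_coprime

/-- iterated commutators `[X, D, D, ..., D]` -/
def iterComm (D : Subgroup G) (X : Subgroup G) : ℕ → Subgroup G
  | 0 => X
  | (n + 1) => ⁅iterComm D X n, D⁆

theorem iterComm_zero (D X : Subgroup G) : iterComm D X 0 = X := rfl

theorem iterComm_succ (D X : Subgroup G) (n : ℕ) :
    iterComm D X (n + 1) = ⁅iterComm D X n, D⁆ := rfl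

theorem iterComm_mono {D D' X : Subgroup G} (h : D ≤ D') (n : ℕ) :
    iterComm D X n ≤ iterComm D' X n := by
  induction n with
  | zero => exact le_rfl
  | succ n ih => exact Subgroup.commutator_mono ih h

theorem iterComm_le_of_normal {D X : Subgroup G} (hX : X.Normal) (n : ℕ) :
    iterComm D X n ≤ X := by
  induction n with
  | zero => exact le_rfl
  | succ n ih =>
    rw [iterComm_succ]
    exact (Subgroup.commutator_mono ih le_rfl).trans (Subgroup.commutator_le_left X D)

theorem exists_iterComm_le_of_subnormal {D : Subgroup G} (hD : D.IsSubnormal) (X : Subgroup G) :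
    ∃ n, iterComm D X n ≤ D := by
  induction hD with
  | top => exact ⟨0, le_top⟩
  | step A B hle hB hn ih =>
    obtain ⟨n, hn'⟩ := ih
    refine ⟨n + 1, ?_⟩
    have h1 : iterComm A X n ≤ B := (iterComm_mono hle n).trans hn'
    have h2 : B ≤ Subgroup.normalizer (A : Set G) :=
      (Subgroup.normal_subgroupOf_iff_le_normalizer hle).mp hn
    have h3 : ⁅B, A⁆ ≤ A := Subgroup.le_normalizer_iff_commutator_le_right.mp h2
    rw [iterComm_succ]
    exact (Subgroup.commutator_mono h1 le_rfl).trans h3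

/-- A `p'`-element `x ∈ D` centralizing `⁅X, D⁆` (a `p`-group) centralizes `X`. -/
theorem mem_centralizer_of_mem_centralizer_commutator [Finite G] {p : ℕ} [Fact p.Prime]
    {x : G} (hx : Nat.Coprime (orderOf x) p) {D X : Subgroup G} (hxD : x ∈ D)
    (hZ : IsPGroup p (⁅X, D⁆ : Subgroup G))
    (hc : x ∈ Subgroup.centralizer ((⁅X, D⁆ : Subgroup G) : Set G)) :
    x ∈ Subgroup.centralizer (X : Set G) := by
  rw [Subgroup.mem_centralizer_iff]
  intro v hv
  have h := centralizes_of_stabilizes_chain hx (V := X) hZ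
    (fun v hv => by
      rw [Subgroup.commutator_comm]
      exact Subgroup.commutator_mem_commutator hxD hv)
    (fun z hz => ((Subgroup.mem_centralizer_iff.mp hc) z hz).symm) v hv
  exact h.symm

/-- K1: a subnormal subgroup `D` whose `p'`-elements centralize `V ⊓ D` centralizes the
`p`-reduced normal subgroup `V`. -/
theorem le_centralizer_of_subnormal_of_coprime_centralize [Finite G] {p : ℕ} [Fact p.Prime]
    {V D : Subgroup G} (hV : PRed p V) (hD : D.IsSubnormal)
    (h : ∀ x ∈ D, Nat.Coprime (orderOf x) p →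
      x ∈ Subgroup.centralizer ((V ⊓ D : Subgroup G) : Set G)) :
    D ≤ Subgroup.centralizer (V : Set G) := by
  have hVp : IsPGroup p V := isPGroup_of_isElementaryAbelian hV.2.1
  obtain ⟨n, hn⟩ := exists_iterComm_le_of_subnormal hD V
  have hle : ∀ k, iterComm D V k ≤ V := iterComm_le_of_normal hV.1
  have key : ∀ x ∈ D, Nat.Coprime (orderOf x) p → x ∈ Subgroup.centralizer (V : Set G) := by
    intro x hxD hxc
    have hdown : ∀ j, j ≤ n → x ∈ Subgroup.centralizer ((iterComm D V (n - j) : Subgroup G) : Set G) := by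
      intro j
      induction j with
      | zero =>
        intro _
        exact Subgroup.centralizer_le (show iterComm D V (n - 0) ≤ V ⊓ D from le_inf (hle _) hn)
          (h x hxD hxc)
      | succ j ih =>
        intro hj
        have h1 := ih (by omega)
        have e : n - j = (n - (j + 1)) + 1 := by omega
        rw [e, iterComm_succ] at h1
        exact mem_centralizer_of_mem_centralizer_commutator hxc hxD
          (hVp.to_le (by rw [← iterComm_succ]; exact hle _)) h1
    have h0 := hdown n le_rfl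
    rw [Nat.sub_self, iterComm_zero] at h0
    exact h0
  apply Cfsg.Agent.S2804.le_centralizer_of_subnormal_pPowIn ((isPReducedNormal_iff_pRed V).mpr hV) hD
  exact pPowIn_of_forall_coprime key

/-- F: a group `T` acting as a `p`-group on the nontrivial `p`-group `X` has `⁅X, T⁆ ≠ X`. -/
theorem commutator_ne_of_pPowIn [Finite G] {p : ℕ} [Fact p.Prime] {X T : Subgroup G}
    (hX : IsPGroup p X) (hXne : X ≠ ⊥) (hTX : T ≤ Subgroup.normalizer (X : Set G))
    (hp : PPowIn p T (Subgroup.centralizer (X : Set G))) : ⁅X, T⁆ ≠ X := by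
  obtain ⟨P⟩ := (inferInstance : Nonempty (Sylow p T))
  have h1 : Cfsg.pResidual p T ⊔ (P : Subgroup T) = ⊤ := pResidual_sup_sylow P
  have h2 : T ≤ opOf p T ⊔ (P : Subgroup T).map T.subtype := by
    rw [← map_pResidual_eq_opOf, ← Subgroup.map_sup, h1, ← MonoidHom.range_eq_map,
      Subgroup.range_subtype]
  have h3 : opOf p T ≤ T ⊓ Subgroup.centralizer (X : Set G) :=
    le_inf (opOf_le p T) (pPowIn_iff_opOf_le.mp hp)
  have hP'T : (P : Subgroup T).map T.subtype ≤ T := Subgroup.map_subtype_le _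
  have hP'p : IsPGroup p ((P : Subgroup T).map T.subtype) := P.2.map _
  have hΓp : IsPGroup p ((X ⊔ (P : Subgroup T).map T.subtype : Subgroup G)) :=
    IsPGroup.to_sup_of_normal_left' hX hP'p (hP'T.trans hTX)
  have hΓnil : Group.IsNilpotent (X ⊔ (P : Subgroup T).map T.subtype : Subgroup G) := hΓp.isNilpotent
  have hΓX : (X ⊔ (P : Subgroup T).map T.subtype : Subgroup G) ≤ Subgroup.normalizer (X : Set G) :=
    sup_le Subgroup.le_normalizer (hP'T.trans hTX)
  have hlt := Cfsg.Agent.Lib.Lead.commutator_lt_of_nilpotent X _ le_sup_left hΓX hΓnil hXne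
  have hle : ⁅X, T⁆ ≤ ⁅X, (X ⊔ (P : Subgroup T).map T.subtype : Subgroup G)⁆ := by
    rw [Subgroup.commutator_le]
    intro x hx t ht
    have ht' := h2 ht
    have hnorm : opOf p T ≤ Subgroup.normalizer
        ((((P : Subgroup T).map T.subtype : Subgroup G)) : Set G) → True := fun _ => trivial
    -- decompose t = c * q
    have hmem : t ∈ ((opOf p T ⊔ (P : Subgroup T).map T.subtype : Subgroup G) : Set G) := ht'
    rw [Subgroup.coe_mul_of_right_le_normalizer_left (opOf p T) _
      (hP'T.trans (Subgroup.le_normalizer.trans (normalizer_le_normalizer_opOf p T)))] at hmem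
    obtain ⟨c, hc, q, hq, rfl⟩ := hmem
    have hcX := (h3 hc).2
    have hcx : c * x = x * c := ((Subgroup.mem_centralizer_iff.mp hcX) x hx).symm
    have hxq : ⁅x, q⁆ ∈ X := by
      have hqn := hTX (hP'T hq)
      rw [commutatorElement_def]
      have : x * q * x⁻¹ * q⁻¹ = x * (q * x⁻¹ * q⁻¹) := by group
      rw [this]
      exact X.mul_mem hx ((Subgroup.mem_normalizer_iff.mp hqn x⁻¹).mp (X.inv_mem hx))
    have hcxq : c * ⁅x, q⁆ = ⁅x, q⁆ * c := ((Subgroup.mem_centralizer_iff.mp hcX) _ hxq).symm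
    have e : ⁅x, c * q⁆ = ⁅x, q⁆ := by
      have e1 : ⁅x, c * q⁆ = c * ⁅x, q⁆ * c⁻¹ := by
        rw [commutatorElement_def, commutatorElement_def]
        calc x * (c * q) * x⁻¹ * (c * q)⁻¹ = (x * c) * q * x⁻¹ * q⁻¹ * c⁻¹ := by group
          _ = (c * x) * q * x⁻¹ * q⁻¹ * c⁻¹ := by rw [hcx]
          _ = c * (x * q * x⁻¹ * q⁻¹) * c⁻¹ := by group
      rw [e1, hcxq]
      group
    rw [e]
    exact Subgroup.commutator_mem_commutator hx (Subgroup.mem_sup_right hq)
  intro heq
  rw [heq] at hle
  exact absurd (lt_of_le_of_lt hle hlt) (lt_irrefl _)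

end Cfsg.Agent.Lib.helper17
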