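import Mathlib
import Cfsg.Agent.Lib.helper17.PRed9

set_option autoImplicit false

namespace Cfsg.Agent.Lib.helper17

open scoped commutatorElement

variable {G : Type*} [Group G]

theorem isElementaryAbelian_cj {p : ℕ} {V : Subgroup G} (g : G)
    (hV : Cfsg.IsElementaryAbelian p V) : Cfsg.IsElementaryAbelian p (cj g V) := by
  rw [isElementaryAbelian_iff] at hV ⊢
  constructor
  · rintro _ ⟨a, ha, rfl⟩ _ ⟨b, hb, rfl⟩
    simp only [MulEquiv.coe_toMonoidHom, MulAut.conj_apply]
    have := hV.1 a ha b hb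
    calc g * a * g⁻¹ * (g * b * g⁻¹) = g * (a * b) * g⁻¹ := by group
      _ = g * (b * a) * g⁻¹ := by rw [this]
      _ = g * b * g⁻¹ * (g * a * g⁻¹) := by group
  · rintro _ ⟨a, ha, rfl⟩
    simp only [MulEquiv.coe_toMonoidHom, MulAut.conj_apply]
    rw [conj_pow, hV.2 a ha]
    group

theorem PPowIn.cj {p : ℕ} {D C : Subgroup G} (h : PPowIn p D C) (g : G) :
    PPowIn p (cj g D) (cj g C) := by
  rintro _ ⟨d, hd, rfl⟩
  obtain ⟨k, hk⟩ := h d hd
  refine ⟨k, ?_⟩
  simp only [MulEquiv.coe_toMonoidHom, MulAut.conj_apply]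
  rw [conj_pow]
  exact conj_mem_cj hk

theorem PRedIn.cj {p : ℕ} {L V : Subgroup G} (h : PRedIn p L V) (g : G) :
    PRedIn p (cj g L) (cj g V) := by
  obtain ⟨h1, h2, h3, h4⟩ := h
  refine ⟨cj_mono h1, ?_, isElementaryAbelian_cj g h3, ?_⟩
  · rw [normalizer_cj]
    exact cj_mono h2
  · intro D hDL hLD hp
    have hD' : Cfsg.Agent.Lib.helper17.cj g⁻¹ D ≤ L := by
      have := cj_mono (g := g⁻¹) hDL
      rwa [cj_inv_cj] at this
    have hLD' : L ≤ Subgroup.normalizer ((Cfsg.Agent.Lib.helper17.cj g⁻¹ D : Subgroup G) : Set G) := by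
      rw [normalizer_cj]
      have := cj_mono (g := g⁻¹) hLD
      rwa [cj_inv_cj] at this
    have hp' : PPowIn p (Cfsg.Agent.Lib.helper17.cj g⁻¹ D) (Subgroup.centralizer (V : Set G)) := by
      have := hp.cj g⁻¹
      rwa [← centralizer_cj, cj_inv_cj] at this
    have h5 := cj_mono (g := g) (h4 _ hD' hLD' hp')
    rwa [cj_cj_inv, ← centralizer_cj] at h5

theorem cj_largestPReducedOf (p : ℕ) (g : G) (L : Subgroup G) :
    cj g (Cfsg.largestPReducedOf p L) = Cfsg.largestPReducedOf p (cj g L) := by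
  apply le_antisymm
  · exact le_largestPReducedOf ((largestPReducedOf_pRedIn p L).cj g)
  · have h := le_largestPReducedOf ((largestPReducedOf_pRedIn p (cj g L)).cj g⁻¹)
    rw [cj_inv_cj] at h
    have h2 := cj_mono (g := g) h
    rwa [cj_cj_inv] at h2

theorem normalizer_le_normalizer_largestPReducedOf (p : ℕ) (L : Subgroup G) :
    Subgroup.normalizer (L : Set G) ≤
      Subgroup.normalizer ((Cfsg.largestPReducedOf p L : Subgroup G) : Set G) := by
  intro g hg
  rw [← cj_eq_self_iff, cj_largestPReducedOf, cj_eq_self_iff.mpr hg]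

end Cfsg.Agent.Lib.helper17

namespace Cfsg.Agent.Lib.helper17

open scoped commutatorElement

variable {G : Type*} [Group G]

/-- Normal case: for `A ⊴ B`, elements of `A` centralizing `Y_B` centralize `Y_A`. -/
theorem inf_centralizer_largestPReducedOf_le [Finite G] {p : ℕ} [Fact p.Prime] {A B : Subgroup G}
    (hAB : A ≤ B) (hBA : B ≤ Subgroup.normalizer (A : Set G)) :
    A ⊓ Subgroup.centralizer ((Cfsg.largestPReducedOf p B : Subgroup G) : Set G) ≤
      Subgroup.centralizer ((Cfsg.largestPReducedOf p A : Subgroup G) : Set G) := by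
  have hV : PRedIn p A (Cfsg.largestPReducedOf p A) := largestPReducedOf_pRedIn p A
  have hBV : B ≤ Subgroup.normalizer ((Cfsg.largestPReducedOf p A : Subgroup G) : Set G) :=
    hBA.trans (normalizer_le_normalizer_largestPReducedOf p A)
  have hYB : PRedIn p B (Cfsg.largestPReducedOf p B) := largestPReducedOf_pRedIn p B
  have hBB₀ : B ≤ Subgroup.normalizer
      ((A ⊓ Subgroup.centralizer ((Cfsg.largestPReducedOf p B : Subgroup G) : Set G) :
        Subgroup G) : Set G) :=
    le_normalizer_inf' hBA (hYB.2.1.trans (normalizer_le_normalizer_centralizer' _))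
  by_contra hcon
  obtain ⟨N, ⟨hNB₀, hBN, hNV⟩, hNmin⟩ := (wellFounded_lt (α := Subgroup G)).has_min
    {N | N ≤ A ⊓ Subgroup.centralizer ((Cfsg.largestPReducedOf p B : Subgroup G) : Set G) ∧
      B ≤ Subgroup.normalizer (N : Set G) ∧
      ¬ N ≤ Subgroup.centralizer ((Cfsg.largestPReducedOf p A : Subgroup G) : Set G)}
    ⟨_, le_rfl, hBB₀, hcon⟩
  have hNA : N ≤ A := hNB₀.trans inf_le_left
  have hNB : N ≤ B := hNA.trans hAB
  have hNop : opOf p N = N := by
    by_contra hne
    have hlt : opOf p N < N := lt_of_le_of_ne (opOf_le p N) hne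
    have h1 : opOf p N ≤ Subgroup.centralizer ((Cfsg.largestPReducedOf p A : Subgroup G) : Set G) := by
      by_contra h2
      exact hNmin (opOf p N) ⟨(opOf_le p N).trans hNB₀,
        hBN.trans (normalizer_le_normalizer_opOf p N), h2⟩ hlt
    exact hNV (hV.2.2.2 N hNA (hAB.trans hBN) (pPowIn_iff_opOf_le.mpr h1))
  have hNgen : ∀ C : Subgroup G, (∀ g ∈ N, Nat.Coprime (orderOf g) p → g ∈ C) → N ≤ C := by
    intro C h
    calc N = opOf p N := hNop.symm
      _ ≤ C := opOf_le_iff.mpr h
  obtain ⟨X, ⟨hXV, hBX, hNX⟩, hXmin⟩ := (wellFounded_lt (α := Subgroup G)).has_min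
    {X | X ≤ Cfsg.largestPReducedOf p A ∧ B ≤ Subgroup.normalizer (X : Set G) ∧
      ¬ N ≤ Subgroup.centralizer (X : Set G)}
    ⟨_, le_rfl, hBV, hNV⟩
  have hXp : IsPGroup p X := (isPGroup_of_isElementaryAbelian hV.2.2.1).to_le hXV
  have hXne : X ≠ ⊥ := by
    rintro rfl
    apply hNX
    intro n _
    rw [Subgroup.mem_centralizer_iff]
    intro h hh
    have : h = 1 := hh
    rw [this]
    simp
  have hcXN : ⁅X, N⁆ ≤ X := Subgroup.le_normalizer_iff_commutator_le_left.mp (hNB.trans hBX)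
  have hXN : ⁅X, N⁆ = X := by
    by_contra hne
    have hlt : ⁅X, N⁆ < X := lt_of_le_of_ne hcXN hne
    have h1 : N ≤ Subgroup.centralizer ((⁅X, N⁆ : Subgroup G) : Set G) := by
      by_contra h2
      exact hXmin _ ⟨hcXN.trans hXV, le_normalizer_commutator hBX hBN, h2⟩ hlt
    apply hNX
    apply hNgen
    intro g hg hc
    exact mem_centralizer_of_mem_centralizer_commutator hc hg (hXp.to_le hcXN) (h1 hg)
  have hXred : PRedIn p B X := by
    refine ⟨hXV.trans (hV.1.trans hAB), hBX, isElementaryAbelian_mono hV.2.2.1 hXV, ?_⟩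
    intro T hTB hBT hpT
    have hTN_T : ⁅T, N⁆ ≤ T := Subgroup.le_normalizer_iff_commutator_le_left.mp (hNB.trans hBT)
    have hTN_N : ⁅T, N⁆ ≤ N := Subgroup.le_normalizer_iff_commutator_le_right.mp (hTB.trans hBN)
    by_cases hE : T ⊓ N ≤ Subgroup.centralizer ((Cfsg.largestPReducedOf p A : Subgroup G) : Set G)
    · have h2 : ⁅⁅T, N⁆, X⁆ = ⊥ := by
        rw [Subgroup.commutator_eq_bot_iff_le_centralizer]
        exact (le_inf hTN_T hTN_N).trans (hE.trans (Subgroup.centralizer_le hXV))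
      have hcXT : ⁅X, T⁆ ≤ X := Subgroup.le_normalizer_iff_commutator_le_left.mp (hTB.trans hBX)
      have hlt : ⁅X, T⁆ < X :=
        lt_of_le_of_ne hcXT (commutator_ne_of_pPowIn hXp hXne (hTB.trans hBX) hpT)
      have h1 : ⁅⁅X, T⁆, N⁆ = ⊥ := by
        rw [Subgroup.commutator_eq_bot_iff_le_centralizer, Subgroup.le_centralizer_iff]
        by_contra h3
        exact hXmin _ ⟨hcXT.trans hXV, le_normalizer_commutator hBX hBT, h3⟩ hlt
      have h3 := Subgroup.commutator_commutator_eq_bot_of_rotate h1 h2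
      rw [Subgroup.commutator_comm N X, hXN] at h3
      rw [Subgroup.commutator_comm, Subgroup.commutator_eq_bot_iff_le_centralizer] at h3
      exact h3
    · exfalso
      have hEN : T ⊓ N = N := by
        by_contra hne
        exact hNmin _ ⟨inf_le_right.trans hNB₀, le_normalizer_inf' hBT hBN, hE⟩
          (lt_of_le_of_ne inf_le_right hne)
      have hNT : N ≤ T := hEN ▸ inf_le_left
      apply hNX
      apply hNgen
      intro g hg hc
      obtain ⟨k, hk⟩ := hpT g (hNT hg)
      exact mem_of_coprime_of_pow_mem hc hk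
  have hXY := le_largestPReducedOf hXred
  exact hNX (hNB₀.trans (inf_le_right.trans (Subgroup.centralizer_le hXY)))

end Cfsg.Agent.Lib.helper17
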