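import Cfsg.Agent.Lib.Helper27.PCoreOf
import Cfsg.Agent.Lib.Helper26.KNorm8
import Cfsg.Agent.Lib.Helper26.FusionFully
import Cfsg.Agent.Lib.Helper26.FusionSat2
import Cfsg.Agent.Lib.Helper26.FusionCentric

set_option autoImplicit false

namespace Cfsg.Agent.Lib.helper17.PStab

open Cfsg Cfsg.FusionSystem Cfsg.Agent.Lib.Helper26 Cfsg.Agent.Lib.Helper27

variable {Ω : Type*} [Group Ω] {S : Subgroup Ω}

/-- Every `F`-automorphism of `Q` extends, along some fixed `F`-map `Q → R`, to an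
`F`-automorphism of `R`. -/
def Ext (F : FusionSystem S) (Q R : Subgroup Ω) : Prop :=
  ∃ φ ∈ F.Hom Q, ∃ h : ∀ x : Q, φ x ∈ R, ∀ α ∈ F.autGroup Q, ∃ β ∈ F.autGroup R,
    ∀ x : Q, ((β ⟨φ x, h x⟩ : R) : Ω) = φ (α x)

theorem ext_refl (F : FusionSystem S) {Q : Subgroup Ω} (hQ : Q ≤ S) : Ext F Q Q :=
  ⟨Q.subtype, subtype_mem F hQ, fun x => x.2, fun α hα => ⟨α, hα, fun _ => rfl⟩⟩

theorem ext_trans {F : FusionSystem S} {Q R T : Subgroup Ω} (h₁ : Ext F Q R) (h₂ : Ext F R T) :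
    Ext F Q T := by
  obtain ⟨φ₁, hφ₁, m₁, H₁⟩ := h₁
  obtain ⟨φ₂, hφ₂, m₂, H₂⟩ := h₂
  refine ⟨φ₂.comp (φ₁.codRestrict R m₁), F.comp_mem hφ₁ hφ₂ m₁, fun x => m₂ _, fun α hα => ?_⟩
  obtain ⟨β₁, hβ₁, e₁⟩ := H₁ α hα
  obtain ⟨β₂, hβ₂, e₂⟩ := H₂ β₁ hβ₁
  refine ⟨β₂, hβ₂, fun x => ?_⟩
  have h1 := e₂ ⟨φ₁ x, m₁ x⟩
  have h2 : β₁ ⟨φ₁ x, m₁ x⟩ = ⟨φ₁ (α x), m₁ (α x)⟩ := Subtype.ext (e₁ x)
  rw [h2] at h1
  exact h1

theorem ext_of_iso {F : FusionSystem S} {R R' : Subgroup Ω} {e : R ≃* R'} (he : IsIso F e) :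
    Ext F R R' := by
  refine ⟨R'.subtype.comp e.toMonoidHom, he, fun x => (e x).2, fun α hα => ?_⟩
  refine ⟨MulAut.congr e α, congr_mem_autGroup he hα, fun x => ?_⟩
  have h1 : (⟨(R'.subtype.comp e.toMonoidHom) x, (e x).2⟩ : R') = e x := rfl
  rw [h1]
  show ((e (α (e.symm (e x))) : R') : Ω) = _
  rw [MulEquiv.symm_apply_apply]
  rfl

theorem ext_of_le {F : FusionSystem S} {Q R : Subgroup Ω} (hQR : Q ≤ R) (hRS : R ≤ S)
    (H : ∀ α ∈ F.autGroup Q, ∃ β ∈ F.autGroup R,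
      ∀ x : Q, ((β (Subgroup.inclusion hQR x) : R) : Ω) = α x) : Ext F Q R :=
  ⟨Q.subtype, subtype_mem F (hQR.trans hRS), fun x => hQR x.2, fun α hα => by
    obtain ⟨β, hβ, e⟩ := H α hα
    exact ⟨β, hβ, fun x => e x⟩⟩

theorem Ext.exists_conj {F : FusionSystem S} {Q R : Subgroup Ω} (h : Ext F Q R) :
    ∃ Q' : Subgroup Ω, ∃ hQR : Q' ≤ R, F.IsConj Q Q' ∧ ∀ α ∈ F.autGroup Q', ∃ β ∈ F.autGroup R,
      ∀ x : Q', ((β (Subgroup.inclusion hQR x) : R) : Ω) = α x := by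
  obtain ⟨φ, hφ, m, H⟩ := h
  have hQR : φ.range ≤ R := by
    rintro _ ⟨x, rfl⟩
    exact m x
  refine ⟨φ.range, hQR, ⟨φ, hφ, rfl⟩, fun α' hα' => ?_⟩
  obtain ⟨e, he⟩ : ∃ e : Q ≃* φ.range, ∀ x, ((e x : φ.range) : Ω) = φ x :=
    ⟨MonoidHom.ofInjective (F.injective_of_mem hφ), fun x => rfl⟩
  have hiso : IsIso F e := mem_of_forall_eq F hφ (fun x => he x)
  have hα : MulAut.congr e.symm α' ∈ F.autGroup Q := congr_mem_autGroup hiso.symm hα'
  obtain ⟨β, hβ, hb⟩ := H _ hα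
  refine ⟨β, hβ, fun y => ?_⟩
  have h1 := hb (e.symm y)
  have h2 : (⟨φ (e.symm y), m (e.symm y)⟩ : R) = Subgroup.inclusion hQR y := by
    apply Subtype.ext
    show φ (e.symm y) = (y : Ω)
    rw [← he, MulEquiv.apply_symm_apply]
  rw [h2] at h1
  rw [h1, ← he]
  show ((e (e.symm (α' (e (e.symm y)))) : φ.range) : Ω) = _
  rw [MulEquiv.apply_symm_apply, MulEquiv.apply_symm_apply]

/-- The preimage in `N_S(R)` of a subgroup `K` of `Aut(R)`. -/
def preim (S R : Subgroup Ω) (K : Subgroup (MulAut R)) : Subgroup Ω :=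
  S ⊓ (K.comap (Subgroup.normalizerMonoidHom R)).map (Subgroup.normalizer (R : Set Ω)).subtype

theorem mem_preim {S R : Subgroup Ω} {K : Subgroup (MulAut R)} {t : Ω} :
    t ∈ preim S R K ↔
      t ∈ S ∧ ∃ ht : t ∈ Subgroup.normalizer (R : Set Ω), conjAut R t ht ∈ K := by
  constructor
  · rintro ⟨h1, ⟨⟨t, ht⟩, h2, rfl⟩⟩
    exact ⟨h1, ht, h2⟩
  · rintro ⟨h1, ht, h2⟩
    exact ⟨h1, ⟨⟨t, ht⟩, h2, rfl⟩⟩

theorem preim_le (S R : Subgroup Ω) (K : Subgroup (MulAut R)) : preim S R K ≤ S := inf_le_left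

theorem conjAut_eq_conj {R : Subgroup Ω} {r : Ω} (hr : r ∈ R) :
    conjAut R r (Subgroup.le_normalizer hr) = MulAut.conj (⟨r, hr⟩ : R) := by
  ext x
  rfl

theorem le_preim {R : Subgroup Ω} (hRS : R ≤ S) {K : Subgroup (MulAut R)} (hK : Inn R ≤ K) :
    R ≤ preim S R K := by
  intro r hr
  refine mem_preim.mpr ⟨hRS hr, Subgroup.le_normalizer hr, hK ?_⟩
  rw [conjAut_eq_conj hr]
  exact ⟨_, rfl⟩

theorem ext_preim [Finite S] (F : FusionSystem S) {R : Subgroup Ω} (hR : F.IsReceptive R)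
    (K : Subgroup (MulAut R)) (hK : K ≤ autInducedBy S R)
    (hKn : ∀ α ∈ F.autGroup R, ∀ κ ∈ K, α * κ * α⁻¹ ∈ K) (hInn : Inn R ≤ K) :
    Ext F R (preim S R K) := by
  have hRS : R ≤ S := hR.1
  have hRT : R ≤ preim S R K := le_preim hRS hInn
  have hTS : preim S R K ≤ S := preim_le S R K
  have hfinT : Finite (preim S R K) := finite_of_le hTS
  refine ext_of_le hRT hTS (fun α hα => ?_)
  have hφ : R.subtype.comp α.toMonoidHom ∈ F.Hom R := (mem_autGroup_iff F hRS).mp hα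
  obtain ⟨ψ, hψ, hag⟩ := hR.2 R _ hφ (range_subtype_comp_equiv α)
  -- the key relation
  have key : ∀ t (htN : t ∈ Subgroup.normalizer (R : Set Ω)), conjAut R t htN ∈ K →
      ∃ h ∈ S, ∀ y : R, ((((α * conjAut R t htN * α⁻¹ : MulAut R) y : R)) : Ω) = h * y * h⁻¹ := by
    intro t htN hκ
    exact mem_autInducedBy_iff.mp (hK (hKn α hα _ hκ))
  have hTle : preim S R K ≤ extender S R (R.subtype.comp α.toMonoidHom) := by
    intro t ht
    obtain ⟨htS, htN, hκ⟩ := mem_preim.mp ht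
    obtain ⟨h, hhS, hh⟩ := key t htN hκ
    refine mem_extender_iff.mpr ⟨htS, htN, h, hhS, fun x => ?_⟩
    have h1 := hh (α x)
    rw [MulAut.mul_apply, MulAut.mul_apply, MulAut.inv_apply_self] at h1
    exact h1
  have hψT := restrict_mem F hψ hTle
  have hmem : ∀ t : preim S R K, (ψ.comp (Subgroup.inclusion hTle)) t ∈ preim S R K := by
    intro t
    obtain ⟨htS, htN, hκ⟩ := mem_preim.mp t.2
    have hsS : (ψ.comp (Subgroup.inclusion hTle)) t ∈ S := apply_mem F hψT t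
    have hrel : ∀ y : R, ((((α * conjAut R t htN * α⁻¹ : MulAut R) y : R)) : Ω) =
        (ψ.comp (Subgroup.inclusion hTle)) t * y * ((ψ.comp (Subgroup.inclusion hTle)) t)⁻¹ := by
      intro y
      have hx : ∀ x : R, (x : Ω) ∈ extender S R (R.subtype.comp α.toMonoidHom) := fun x =>
        hTle (hRT x.2)
      have h1 : ∀ x : R, ψ ⟨x, hx x⟩ = ((α x : R) : Ω) := fun x => hag x x.2 (hx x)
      have h2 : (⟨((conjAut R t htN (α⁻¹ y) : R) : Ω), hx _⟩ :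
          extender S R (R.subtype.comp α.toMonoidHom)) =
          Subgroup.inclusion hTle t * ⟨((α⁻¹ y : R) : Ω), hx _⟩ * (Subgroup.inclusion hTle t)⁻¹ :=
        Subtype.ext rfl
      have h3 := h1 (conjAut R t htN (α⁻¹ y))
      rw [h2, map_mul, map_mul, map_inv, h1, MulAut.apply_inv_self] at h3
      rw [MulAut.mul_apply, MulAut.mul_apply, ← h3]
      rfl
    have hsN := mem_normalizer_of_conj_aut hrel
    refine mem_preim.mpr ⟨hsS, hsN, ?_⟩
    have : conjAut R _ hsN = α * conjAut R t htN * α⁻¹ := by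
      ext y
      rw [hrel y]
      rfl
    rw [this]
    exact hKn α hα _ hκ
  have hinj : Function.Injective ((ψ.comp (Subgroup.inclusion hTle)).codRestrict _ hmem) :=
    fun a b hab => F.injective_of_mem hψT (congrArg Subtype.val hab)
  have hsurj := Finite.surjective_of_injective hinj
  have hr : (ψ.comp (Subgroup.inclusion hTle)).range = preim S R K := by
    ext z
    constructor
    · rintro ⟨t, rfl⟩
      exact hmem t
    · intro hz
      obtain ⟨t, ht⟩ := hsurj ⟨z, hz⟩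
      exact ⟨t, congrArg Subtype.val ht⟩
  refine ⟨autOfHom F hψT hr, autOfHom_mem F hψT hr, fun x => ?_⟩
  rw [autOfHom_apply]
  exact hag x x.2 (hTle (hRT x.2))

end Cfsg.Agent.Lib.helper17.PStab
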