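import Cfsg.Agent.Lib.helper17.PStab2

set_option autoImplicit false

namespace Cfsg.Agent.Lib.helper17.PStab3

open Cfsg Cfsg.FusionSystem Cfsg.Agent.Lib.Helper26 Cfsg.Agent.Lib.Helper27
open Cfsg.Agent.Lib.helper17.PStab Cfsg.Agent.Lib.helper17.PStab2

variable {Ω : Type*} [Group Ω] {S : Subgroup Ω}

/-- maximality forces `preim S R K = R`. -/
theorem preim_eq_of_max [Finite S] (F : FusionSystem S) {Q R : Subgroup Ω} (hQR : Ext F Q R)
    (hmax : ∀ T : Subgroup Ω, T ≤ S → Ext F Q T → Nat.card T ≤ Nat.card R)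
    (hR : F.IsReceptive R)
    (K : Subgroup (MulAut R)) (hK : K ≤ autInducedBy S R)
    (hKn : ∀ α ∈ F.autGroup R, ∀ κ ∈ K, α * κ * α⁻¹ ∈ K) (hInn : Inn R ≤ K) :
    preim S R K = R := by
  have h1 := ext_preim F hR K hK hKn hInn
  have h2 := hmax _ (preim_le S R K) (ext_trans hQR h1)
  have h3 : R ≤ preim S R K := le_preim hR.1 hInn
  have : Finite (preim S R K) := finite_of_le (preim_le S R K)
  exact (Subgroup.eq_of_le_of_card_ge h3 h2).symm

theorem exists_ext_centric_radical [Finite S] {p : ℕ} [Fact p.Prime] (hS : IsPGroup p S)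
    (F : FusionSystem S) (hF : F.IsSaturated p) {Q : Subgroup Ω} (hQ : Q ≤ S) :
    ∃ R : Subgroup Ω, Ext F Q R ∧ F.IsFullyNormalized R ∧ F.IsCentric R ∧ F.IsRadical p R := by
  obtain ⟨R₀, ⟨hR₀S, hQR₀⟩, hmax₀⟩ := exists_max_nat {R : Subgroup Ω | R ≤ S ∧ Ext F Q R}
    ⟨Q, hQ, ext_refl F hQ⟩ (fun R => Nat.card R) (Nat.card S)
    (fun R hR => card_le_card_of_le_of_finite hR.1)
  obtain ⟨R, hconj, hRfn⟩ := exists_fullyNormalized_conj F hR₀S
  obtain ⟨e, he⟩ := exists_iso_of_isConj F hconj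
  have hQR : Ext F Q R := ext_trans hQR₀ (ext_of_iso he)
  have hcard : Nat.card R₀ = Nat.card R := Nat.card_congr e.toEquiv
  have hmax : ∀ T : Subgroup Ω, T ≤ S → Ext F Q T → Nat.card T ≤ Nat.card R := by
    intro T hT hQT
    rw [← hcard]
    exact hmax₀ T ⟨hT, hQT⟩
  have hRS : R ≤ S := hRfn.1
  obtain ⟨-, hRfa, hRrec⟩ := saturated_fullyNormalized hS F hF hRfn
  refine ⟨R, hQR, hRfn, ?_, ?_⟩
  · -- centric
    have h1 := preim_eq_of_max F hQR hmax hRrec (Inn R) (inn_le_autInducedBy hRS)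
      (fun α _ κ hκ => conj_inn α hκ) le_rfl
    refine centric_of_receptive F hRrec ?_
    intro c hc
    rw [← h1]
    have hcN : c ∈ Subgroup.normalizer (R : Set Ω) := centralizer_le_normalizer_aux R hc.2
    refine mem_preim.mpr ⟨hc.1, hcN, ?_⟩
    have : conjAut R c hcN = 1 := by
      ext x
      exact conj_eq_of_mem_centralizer hc.2 x.2
    rw [this]
    exact Subgroup.one_mem _
  · -- radical
    have hInn := inn_le_pCoreMap hS F (p := p) hRS
    have h1 := preim_eq_of_max F hQR hmax hRrec _ (pCoreMap_le_autInducedBy F hRfa)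
      (fun α hα κ hκ => pCoreMap_conj_mem p _ hα hκ) hInn
    refine ⟨hRS, le_antisymm ?_ hInn⟩
    intro κ hκ
    obtain ⟨g, hgS, hgN, rfl⟩ := mem_autInducedBy_iff'.mp (pCoreMap_le_autInducedBy F hRfa hκ)
    have hgR : g ∈ R := by
      rw [← h1]
      exact mem_preim.mpr ⟨hgS, hgN, hκ⟩
    exact ⟨⟨g, hgR⟩, (conjAut_eq_conj hgR).symm⟩

end Cfsg.Agent.Lib.helper17.PStab3
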