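import Mathlib
import Cfsg.Agent.Lib.helper2.PT.Defs

set_option autoImplicit false

/-! Piece PT-ClassDvd of project PT (S4642): under the standing hypotheses a `p`-regular element
outside `K₀` has class size divisible by `p`. -/

namespace Cfsg.Agent.Lib.helper17.PT

universe u

open Cfsg Cfsg.Agent.Lib.helper2.PT

/-- a subgroup of index prime to `p` contains a Sylow `p`-subgroup -/
theorem exists_sylow_le_of_not_dvd_index {H : Type u} [Group H] [Finite H] (p : ℕ) [Fact p.Prime]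
    (C : Subgroup H) (hnd : ¬ p ∣ C.index) : ∃ P : Sylow p H, (P : Subgroup H) ≤ C := by
  obtain ⟨P₀⟩ : Nonempty (Sylow p ↥C) := inferInstance
  have hidx : ¬ p ∣ ((P₀ : Subgroup ↥C).map C.subtype).index := by
    rw [Subgroup.index_map_subtype]
    intro h
    rcases (Nat.Prime.dvd_mul Fact.out).1 h with h | h
    · exact P₀.not_dvd_index h
    · exact hnd h
  refine ⟨(P₀.2.map C.subtype).toSylow hidx, ?_⟩
  intro q hq
  have hq' : q ∈ (P₀ : Subgroup ↥C).map C.subtype := hq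
  exact Subgroup.map_subtype_le _ hq'

/-- if `K₀ ≤ L₀` are normal with `|L₀ : K₀|` a power of `p`, then `L₀ ≤ K₀ P` for every Sylow
`p`-subgroup `P`: every `l ∈ L₀` is `q * k` with `q ∈ P`, `k ∈ K₀` -/
theorem exists_sylow_factor {H : Type u} [Group H] [Finite H] (p : ℕ) [Fact p.Prime]
    (K₀ L₀ : Subgroup H) [hK : K₀.Normal] [hL : L₀.Normal] (hpow : ∃ k : ℕ, K₀.relIndex L₀ = p ^ k)
    (P : Sylow p H) (l : H) (hl : l ∈ L₀) : ∃ q ∈ P, q⁻¹ * l ∈ K₀ := by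
  have hπ : Function.Surjective (QuotientGroup.mk' K₀) := QuotientGroup.mk'_surjective K₀
  have : (L₀.map (QuotientGroup.mk' K₀)).Normal := Subgroup.Normal.map hL _ hπ
  have hpg : IsPGroup p (L₀.map (QuotientGroup.mk' K₀)) := by
    obtain ⟨k, hk⟩ := hpow
    rintro ⟨x, hx⟩
    obtain ⟨l', hl', rfl⟩ := hx
    refine ⟨k, ?_⟩
    have h1 : l' ^ (p ^ k) ∈ K₀ := by
      have := Subgroup.pow_relIndex_mem K₀ hl'
      rwa [hk] at this
    apply Subtype.ext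
    show (QuotientGroup.mk' K₀ l') ^ (p ^ k) = 1
    rw [← map_pow]
    exact (QuotientGroup.eq_one_iff _).2 h1
  have hle := hpg.le_sylow_of_normal (P.mapSurjective hπ)
  have hmem : QuotientGroup.mk' K₀ l ∈ (P : Subgroup H).map (QuotientGroup.mk' K₀) :=
    hle (Subgroup.mem_map_of_mem _ hl)
  obtain ⟨q, hq, hql⟩ := hmem
  exact ⟨q, hq, QuotientGroup.eq.1 hql⟩

theorem classDvd : ClassDvdProp.{u} := by
  intro p _ H _ _ K₀ L₀ hS g hg hgK
  by_contra hnd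
  have := hS.nK
  have := hS.nL
  obtain ⟨P, hPC⟩ := exists_sylow_le_of_not_dvd_index p (Subgroup.centralizer ({g} : Set H)) hnd
  apply hgK
  apply hS.cent g hg
  intro l hl
  obtain ⟨q, hq, hk⟩ := exists_sylow_factor p K₀ L₀ hS.pow P l hl
  have hgq : g * q = q * g := (Subgroup.mem_centralizer_singleton_iff.1 (hPC hq)).symm
  have e : g * l * g⁻¹ * l⁻¹ = q * (g * (q⁻¹ * l) * g⁻¹ * (q⁻¹ * l)⁻¹) * q⁻¹ := by
    calc g * l * g⁻¹ * l⁻¹ = (g * q) * (q⁻¹ * l) * g⁻¹ * (q⁻¹ * l)⁻¹ * q⁻¹ := by group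
      _ = (q * g) * (q⁻¹ * l) * g⁻¹ * (q⁻¹ * l)⁻¹ * q⁻¹ := by rw [hgq]
      _ = q * (g * (q⁻¹ * l) * g⁻¹ * (q⁻¹ * l)⁻¹) * q⁻¹ := by group
  rw [e]
  exact hS.nK.conj_mem _ (K₀.mul_mem (hS.nK.conj_mem _ hk g) (K₀.inv_mem hk)) q

end Cfsg.Agent.Lib.helper17.PT
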