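import Mathlib
import Cfsg.Agent.Lib.helper2.PT.Defs
import Cfsg.Agent.Lib.Helper11.MaxLocA

set_option autoImplicit false

/-! Piece PT-Transfer of project PT (S4642): the standing hypotheses `Setup p K₀ L₀` pass to the
centralizer of a `p`-subgroup. -/

namespace Cfsg.Agent.Lib.helper17.PT

universe u

open Cfsg Cfsg.Agent.Lib.helper2.PT

/-- coprime action: a `p`-subgroup `R` stabilizing (by conjugation) the coset `b V` of a subgroup
`V` of order prime to `p` centralizes an element of `b V` -/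
theorem exists_fixed_in_coset_of_pgroup {G : Type*} [Group G] (V : Subgroup G) [Finite V] (p : ℕ)
    [Fact p.Prime] (hp : ¬ p ∣ Nat.card V) (R : Subgroup G) (hR : IsPGroup p R) (b : G)
    (hstab : ∀ r ∈ R, ∀ x, b⁻¹ * x ∈ V → b⁻¹ * (r * x * r⁻¹) ∈ V) :
    ∃ v ∈ V, ∀ r ∈ R, r * (b * v) * r⁻¹ = b * v := by
  let Ω := {x : G // b⁻¹ * x ∈ V}
  let _ : MulAction R Ω :=
    { smul := fun z x => ⟨(z : G) * x.1 * (z : G)⁻¹, hstab z.1 z.2 x.1 x.2⟩
      one_smul := fun x => Subtype.ext (by
        show ((1 : R) : G) * x.1 * ((1 : R) : G)⁻¹ = x.1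
        simp)
      mul_smul := fun z w x => Subtype.ext (by
        show ((z * w : R) : G) * x.1 * ((z * w : R) : G)⁻¹ =
          (z : G) * ((w : G) * x.1 * (w : G)⁻¹) * (z : G)⁻¹
        simp only [Subgroup.coe_mul]; group) }
  have hsmul : ∀ (z : R) (x : Ω), ((z • x : Ω) : G) = (z : G) * x.1 * (z : G)⁻¹ :=
    fun _ _ => rfl
  have hcard : Nat.card Ω = Nat.card V := by
    apply Nat.card_congr
    exact
      { toFun := fun x => ⟨b⁻¹ * x.1, x.2⟩
        invFun := fun v => ⟨b * v.1, by simp⟩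
        left_inv := fun x => Subtype.ext (by simp)
        right_inv := fun v => Subtype.ext (by simp) }
  have : Finite Ω := Nat.finite_of_card_ne_zero (by rw [hcard]; exact Nat.card_pos.ne')
  obtain ⟨x, hx⟩ := hR.nonempty_fixed_point_of_prime_not_dvd_card Ω (by rw [hcard]; exact hp)
  refine ⟨b⁻¹ * x.1, x.2, ?_⟩
  intro r hr
  have h1 := hx ⟨r, hr⟩
  have h2 := congrArg Subtype.val h1
  rw [hsmul] at h2
  simp only at h2
  rw [mul_inv_cancel_left]
  exact h2

/-- the image of `L₀` in `H ⧸ K₀` is a `p`-group when `|L₀ : K₀|` is a power of `p` -/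
theorem isPGroup_map_mk_of_relIndex {H : Type*} [Group H] (p : ℕ) (K₀ L₀ : Subgroup H)
    [K₀.Normal] (hpow : ∃ k : ℕ, K₀.relIndex L₀ = p ^ k) :
    IsPGroup p (L₀.map (QuotientGroup.mk' K₀)) := by
  obtain ⟨k, hk⟩ := hpow
  rintro ⟨x, hx⟩
  obtain ⟨l', hl', rfl⟩ := hx
  refine ⟨k, ?_⟩
  have h1 : l' ^ (p ^ k) ∈ K₀ := by
    have := Subgroup.pow_relIndex_mem K₀ hl'
    rwa [hk] at this
  apply Subtype.ext
  show (QuotientGroup.mk' K₀ l') ^ (p ^ k) = 1
  rw [← map_pow]
  exact (QuotientGroup.eq_one_iff _).2 h1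

/-- if `K` is normal and every element of `L` has a `p`-power power in `K`, then `|L : K ∩ L|` is
a power of `p` -/
theorem relIndex_eq_pow_of_pow_mem {G : Type*} [Group G] [Finite G] (p : ℕ) [Fact p.Prime]
    (K L : Subgroup G) [K.Normal] (h : ∀ x ∈ L, ∃ n : ℕ, x ^ (p ^ n) ∈ K) :
    ∃ k : ℕ, K.relIndex L = p ^ k := by
  have hpg : IsPGroup p (↥L ⧸ K.subgroupOf L) := by
    intro g
    induction g using QuotientGroup.induction_on with
    | H x =>
      obtain ⟨n, hn⟩ := h x.1 x.2
      refine ⟨n, ?_⟩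
      rw [← QuotientGroup.mk_pow, QuotientGroup.eq_one_iff]
      show ((x ^ (p ^ n) : L) : G) ∈ K
      rw [Subgroup.coe_pow]
      exact hn
  obtain ⟨k, hk⟩ := IsPGroup.iff_card.1 hpg
  exact ⟨k, by rw [Subgroup.relIndex, Subgroup.index_eq_card, hk]⟩

theorem transfer : TransferProp.{u} := by
  intro p _ H _ _ K₀ L₀ hS R hR
  have hnK := hS.nK
  have hnL := hS.nL
  obtain ⟨k, hk⟩ := hS.pow
  refine ⟨inferInstance, inferInstance, fun x hx => hS.le hx, ?_, ?_, ?_⟩
  · -- cop
    have h1 : Nat.card (K₀.subgroupOf (Subgroup.centralizer (R : Set H))) ∣ Nat.card K₀ := by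
      have hinj : Function.Injective
          (Subgroup.inclusion (inf_le_left : K₀ ⊓ Subgroup.centralizer (R : Set H) ≤ K₀)) :=
        Subgroup.inclusion_injective _
      rw [← Subgroup.inf_subgroupOf_right,
        Nat.card_congr (Subgroup.subgroupOfEquivOfLe
          (inf_le_right : K₀ ⊓ Subgroup.centralizer (R : Set H) ≤ _)).toEquiv]
      exact Subgroup.card_dvd_of_injective _ hinj
    exact Nat.Coprime.coprime_dvd_left h1 hS.cop
  · -- pow
    apply relIndex_eq_pow_of_pow_mem
    intro x hx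
    refine ⟨k, ?_⟩
    show ((x ^ (p ^ k) : Subgroup.centralizer (R : Set H)) : H) ∈ K₀
    rw [Subgroup.coe_pow]
    have := Subgroup.pow_relIndex_mem K₀ (show (x : H) ∈ L₀ from hx)
    rwa [hk] at this
  · -- cent
    intro c hc hcl
    show (c : H) ∈ K₀
    apply hS.cent (c : H) (by rwa [Subgroup.orderOf_coe])
    have hcR : ∀ r ∈ R, r * (c : H) = (c : H) * r := fun r hr =>
      Subgroup.mem_centralizer_iff.1 c.2 r hr
    -- the quotient
    have hπ : Function.Surjective (QuotientGroup.mk' K₀) := QuotientGroup.mk'_surjective K₀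
    have hPn : (L₀.map (QuotientGroup.mk' K₀)).Normal := Subgroup.Normal.map hnL _ hπ
    have hP : IsPGroup p (L₀.map (QuotientGroup.mk' K₀)) :=
      isPGroup_map_mk_of_relIndex p K₀ L₀ ⟨k, hk⟩
    have hB : IsPGroup p (R.map (QuotientGroup.mk' K₀)) := hR.map _
    have hA : (Nat.card (Subgroup.zpowers (QuotientGroup.mk' K₀ (c : H)))).Coprime p := by
      rw [Nat.card_zpowers]
      have hdvd := orderOf_map_dvd (QuotientGroup.mk' K₀) (c : H)
      have hcop : (orderOf (c : H)).Coprime p := by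
        rw [Subgroup.orderOf_coe]
        exact ((Nat.Prime.coprime_iff_not_dvd Fact.out).2 hc).symm
      exact Nat.Coprime.coprime_dvd_left hdvd hcop
    have hcomm : ∀ r ∈ R, Commute (QuotientGroup.mk' K₀ (c : H)) (QuotientGroup.mk' K₀ r) := by
      intro r hr
      show QuotientGroup.mk' K₀ (c : H) * QuotientGroup.mk' K₀ r =
        QuotientGroup.mk' K₀ r * QuotientGroup.mk' K₀ (c : H)
      rw [← map_mul, ← map_mul, hcR r hr]
    have key := Cfsg.Agent.Lib.Helper11.MaxLocA.axb p (L₀.map (QuotientGroup.mk' K₀))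
      (Subgroup.zpowers (QuotientGroup.mk' K₀ (c : H))) (R.map (QuotientGroup.mk' K₀)) hP hB hA
      (by rw [Subgroup.normalizer_eq_top]; exact le_top)
      (by rw [Subgroup.normalizer_eq_top]; exact le_top)
      (by
        rintro a ha b ⟨r, hr, rfl⟩
        obtain ⟨n, rfl⟩ := Subgroup.mem_zpowers_iff.1 ha
        exact ((hcomm r hr).zpow_left n).eq)
      (by
        rintro x ⟨l, hl, rfl⟩ hxB a ha
        obtain ⟨n, rfl⟩ := Subgroup.mem_zpowers_iff.1 ha
        -- `R` stabilizes the coset `l K₀`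
        have hstab : ∀ r ∈ R, ∀ x, l⁻¹ * x ∈ K₀ → l⁻¹ * (r * x * r⁻¹) ∈ K₀ := by
          intro r hr x hx
          have h1 : l⁻¹ * r * l * r⁻¹ ∈ K₀ := by
            rw [← QuotientGroup.eq_one_iff]
            have h2 := hxB _ (Subgroup.mem_map_of_mem _ hr)
            have h3 : (QuotientGroup.mk' K₀ l)⁻¹ * (QuotientGroup.mk' K₀ r * QuotientGroup.mk' K₀ l) *
                (QuotientGroup.mk' K₀ r)⁻¹ = 1 := by
              rw [h2]; group
            rw [← h3]
            simp only [QuotientGroup.mk'_apply, QuotientGroup.mk_mul, QuotientGroup.mk_inv, mul_assoc]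
          have h4 : r * (l⁻¹ * x) * r⁻¹ ∈ K₀ := hnK.conj_mem _ hx r
          have e : l⁻¹ * (r * x * r⁻¹) = (l⁻¹ * r * l * r⁻¹) * (r * (l⁻¹ * x) * r⁻¹) := by group
          rw [e]
          exact K₀.mul_mem h1 h4
        have hK₀fin : Finite K₀ := inferInstance
        have hpK : ¬ p ∣ Nat.card K₀ := fun h =>
          (Nat.Prime.coprime_iff_not_dvd Fact.out).1 hS.cop.symm h
        obtain ⟨v, hv, hfix⟩ := exists_fixed_in_coset_of_pgroup K₀ p hpK R hR l hstab
        have hl'C : l * v ∈ Subgroup.centralizer (R : Set H) := by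
          rw [Subgroup.mem_centralizer_iff]
          intro r hr
          have := hfix r hr
          calc r * (l * v) = (r * (l * v) * r⁻¹) * r := by group
            _ = l * v * r := by rw [this]
        have hl'L : l * v ∈ L₀ := L₀.mul_mem hl (hS.le hv)
        have h5 : (c : H) * (l * v) * (c : H)⁻¹ * (l * v)⁻¹ ∈ K₀ := hcl ⟨l * v, hl'C⟩ hl'L
        have h6 : QuotientGroup.mk' K₀ (l * v) = QuotientGroup.mk' K₀ l := by
          have hv1 : QuotientGroup.mk' K₀ v = 1 := (QuotientGroup.eq_one_iff v).2 hv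
          rw [map_mul, hv1, mul_one]
        have h7 : Commute (QuotientGroup.mk' K₀ (c : H)) (QuotientGroup.mk' K₀ l) := by
          rw [← h6]
          have h8 := (QuotientGroup.eq_one_iff _).2 h5
          have h9 : QuotientGroup.mk' K₀ (c : H) * QuotientGroup.mk' K₀ (l * v) *
              (QuotientGroup.mk' K₀ (c : H))⁻¹ * (QuotientGroup.mk' K₀ (l * v))⁻¹ = 1 := by
            rw [← h8]
            simp only [QuotientGroup.mk'_apply, QuotientGroup.mk_mul, QuotientGroup.mk_inv]
          show _ * _ = _ * _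
          calc QuotientGroup.mk' K₀ (c : H) * QuotientGroup.mk' K₀ (l * v)
              = (QuotientGroup.mk' K₀ (c : H) * QuotientGroup.mk' K₀ (l * v) *
                (QuotientGroup.mk' K₀ (c : H))⁻¹ * (QuotientGroup.mk' K₀ (l * v))⁻¹) *
                (QuotientGroup.mk' K₀ (l * v) * QuotientGroup.mk' K₀ (c : H)) := by group
            _ = QuotientGroup.mk' K₀ (l * v) * QuotientGroup.mk' K₀ (c : H) := by rw [h9, one_mul]
        exact (h7.zpow_left n).eq)
    intro l hl
    have h10 := key _ (Subgroup.mem_zpowers _) _ (Subgroup.mem_map_of_mem _ hl)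
    rw [← QuotientGroup.eq_one_iff]
    have h11 : QuotientGroup.mk' K₀ (c : H) * QuotientGroup.mk' K₀ l *
        (QuotientGroup.mk' K₀ (c : H))⁻¹ * (QuotientGroup.mk' K₀ l)⁻¹ = 1 := by
      rw [h10]; group
    rw [← h11]
    simp only [QuotientGroup.mk'_apply, QuotientGroup.mk_mul, QuotientGroup.mk_inv]

end Cfsg.Agent.Lib.helper17.PT
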