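import Mathlib
import Cfsg.Prelude.Def_PLocal
import Cfsg.Agent.Lib.helper17.PMin
import Cfsg.Agent.Lib.helper17.GB12
import Cfsg.Agent.Lib.helper3.DicksonConcB
import Cfsg.Agent.Lib.helper15.SL2Card

/-!
# Rank-one pushing up: the agemo of `Z(S)` (towards S2770)
-/

set_option autoImplicit false

namespace Cfsg.Agent.Lib.helper17.PU

open Cfsg Cfsg.Agent.Lib.helper17 Cfsg.Agent.Lib.helper6.Dickson
open scoped commutatorElement

variable {G : Type*} [Group G]

theorem uniqMax_of_existsUnique [Finite G] {S : Subgroup G}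
    (h : ∃! M : Subgroup G, IsCoatom M ∧ S ≤ M) : ∃ M, UniqMax S M := by
  obtain ⟨M, ⟨hM, hSM⟩, huniq⟩ := h
  refine ⟨M, hM, hSM, ?_⟩
  intro K hSK hK
  obtain ⟨M', hM', hKM'⟩ := exists_coatom_ge hK
  have := huniq M' ⟨hM', hSK.trans hKM'⟩
  exact this ▸ hKM'

/-- in a Dickson action every `p`-element has order dividing `p` -/
theorem dact_pow_p {H X : Type*} [Group H] [Finite H] [MulAction H X] {p : ℕ} [Fact p.Prime]
    (D : DAct H X p) {t : H} {k : ℕ} (ht : t ^ (p ^ k) = 1) : t ^ p = 1 := by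
  have hp : p.Prime := Fact.out
  by_cases ht1 : t = 1
  · rw [ht1, one_pow]
  obtain ⟨a, ha⟩ := D.fix_exists t
  by_cases hb : ∃ b : X, b ≠ a ∧ t • b = b
  · exfalso
    obtain ⟨b, hba, hb⟩ := hb
    obtain ⟨j, hj, hoj⟩ := (Nat.dvd_prime_pow hp).mp (orderOf_dvd_of_pow_eq_one ht)
    have hj1 : j ≠ 0 := by
      intro h0
      rw [h0, pow_zero, orderOf_eq_one_iff] at hoj
      exact ht1 hoj
    obtain ⟨i, rfl⟩ := Nat.exists_eq_succ_of_ne_zero hj1
    have hfix : ∀ (m : ℕ) (x : X), t • x = x → (t ^ m) • x = x := by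
      intro m x hx
      induction m with
      | zero => simp
      | succ m ih => rw [pow_succ, mul_smul, hx, ih]
    have h1 : (t ^ (p ^ i)) ^ p = 1 := by
      rw [← pow_mul, ← pow_succ, ← hoj]
      exact pow_orderOf_eq_one t
    have h2 := D.two_coprime a b (t ^ (p ^ i)) (Ne.symm hba) (hfix _ a ha) (hfix _ b hb) h1
    have h3 : orderOf t ∣ p ^ i := orderOf_dvd_of_pow_eq_one h2
    rw [hoj] at h3
    have := (Nat.pow_dvd_pow_iff_le_right hp.one_lt).mp h3
    omega
  · push Not at hb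
    apply D.par_pow a t
    refine ⟨ht1, ha, fun y hy => ?_⟩
    by_contra hya
    exact hb y hya hy


section psl

variable {F : Type} [Field F] [Fintype F]

theorem charP_of_card {p n : ℕ} [Fact p.Prime] (hn : 1 ≤ n) (hF : Fintype.card F = p ^ n) :
    CharP F p := by
  have hp : p.Prime := Fact.out
  obtain ⟨r, hr⟩ := CharP.exists F
  have := hr
  obtain ⟨m, hrp, hm⟩ := FiniteField.card F r
  have h1 : p ∣ r ^ (m : ℕ) := by
    rw [← hm, hF]
    exact dvd_pow_self p (by omega)
  have h2 : p ∣ r := hp.dvd_of_dvd_pow h1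
  have h3 : p = r := (Nat.prime_dvd_prime_iff_eq hp hrp).mp h2
  rw [h3]
  exact hr

/-- `p`-elements of `PSL₂(p^n)` have order dividing `p` -/
theorem psl_pow_p {p n : ℕ} [Fact p.Prime] (hn : 1 ≤ n) (hF : Fintype.card F = p ^ n)
    {t : Matrix.ProjectiveSpecialLinearGroup (Fin 2) F} {k : ℕ} (ht : t ^ (p ^ k) = 1) :
    t ^ p = 1 := by
  have := charP_of_card hn hF
  obtain ⟨X, _, D⟩ := Cfsg.Agent.Lib.helper3.psl2_dact (F := F) p
  exact dact_pow_p D ht

theorem psl_not_isPGroup {p n : ℕ} [Fact p.Prime] (hn : 1 ≤ n) (hF : Fintype.card F = p ^ n) :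
    ¬ IsPGroup p (Matrix.ProjectiveSpecialLinearGroup (Fin 2) F) := by
  have hp : p.Prime := Fact.out
  intro hP
  obtain ⟨k, hk⟩ := IsPGroup.iff_card.mp hP
  have h2 := Subgroup.card_eq_card_quotient_mul_card_subgroup
    (Subgroup.center (Matrix.SpecialLinearGroup (Fin 2) F))
  rw [Cfsg.Agent.Lib.helper15.card_SL2] at h2
  have h3 : Nat.card (Matrix.SpecialLinearGroup (Fin 2) F ⧸
      Subgroup.center (Matrix.SpecialLinearGroup (Fin 2) F)) = p ^ k := hk
  rw [h3] at h2
  have hc : Nat.card (Subgroup.center (Matrix.SpecialLinearGroup (Fin 2) F)) ≤ 2 := by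
    have e := Matrix.SpecialLinearGroup.center_equiv_rootsOfUnity' (n := Fin 2) (R := F) 0
    rw [Nat.card_congr e.toEquiv, Fintype.card_fin]
    exact card_rootsOfUnity F 2
  have hc0 : 0 < Nat.card (Subgroup.center (Matrix.SpecialLinearGroup (Fin 2) F)) := Nat.card_pos
  set q := Fintype.card F with hq
  have hq2 : 2 ≤ q := by
    rw [hF]
    calc 2 ≤ p := hp.two_le
      _ = p ^ 1 := (pow_one p).symm
      _ ≤ p ^ n := Nat.pow_le_pow_right hp.pos hn
  have hpq : p ∣ q := by rw [hF]; exact dvd_pow_self p (by omega)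
  have hcop : Nat.Coprime (q ^ 2 - 1) (p ^ k) := by
    apply Nat.Coprime.pow_right
    rw [Nat.coprime_comm, Nat.Prime.coprime_iff_not_dvd hp]
    intro h6
    have h7 : p ∣ q ^ 2 := dvd_pow hpq (by norm_num)
    have h8 : 1 ≤ q ^ 2 := Nat.one_le_pow _ _ (by omega)
    have h9 : p ∣ q ^ 2 - (q ^ 2 - 1) := Nat.dvd_sub h7 h6
    have h10 : q ^ 2 - (q ^ 2 - 1) = 1 := by omega
    rw [h10] at h9
    exact hp.one_lt.ne' (Nat.dvd_one.mp h9)
  have hdvd : (q ^ 2 - 1) ∣ p ^ k * Nat.card (Subgroup.center (Matrix.SpecialLinearGroup (Fin 2) F)) := by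
    rw [← h2]; exact dvd_mul_left _ _
  have hdvd2 := hcop.dvd_of_dvd_mul_left hdvd
  have hle := Nat.le_of_dvd hc0 hdvd2
  have h4 : 4 ≤ q ^ 2 := by nlinarith
  omega

end psl


section main

set_option linter.unusedSectionVars false

variable [Finite G] {p : ℕ} [Fact p.Prime]

/-- a normal subgroup is inside `M` or supplements `S` -/
theorem uniqMax_le_or_sup_eq_top {S M : Subgroup G} (h : UniqMax S M) (N : Subgroup G) :
    N ≤ M ∨ N ⊔ S = ⊤ := by
  by_cases hN : N ⊔ S = ⊤
  · exact Or.inr hN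
  · exact Or.inl (le_sup_left.trans (h.uniq _ le_sup_right hN))

/-- `K ∩ S ≤ O_p(G)` when `G/K ≅ PSL₂(p^n)` -/
theorem inf_ker_le_pCore {S : Sylow p G} {M : Subgroup G} (h : UniqMax (S : Subgroup G) M)
    (K : Subgroup G) [hK : K.Normal] {F : Type} [Field F] [Fintype F] {n : ℕ} (hn : 1 ≤ n)
    (hF : Fintype.card F = p ^ n)
    (e : G ⧸ K ≃* Matrix.ProjectiveSpecialLinearGroup (Fin 2) F) :
    (S : Subgroup G) ⊓ K ≤ Cfsg.pCore p G := by
  rcases uniqMax_le_or_sup_eq_top h K with hKM | hKS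
  · exact h.inf_le_pCore hK hKM
  · exfalso
    apply psl_not_isPGroup hn hF
    apply IsPGroup.of_equiv _ e
    have hsurj : Function.Surjective ((QuotientGroup.mk' K).comp (S : Subgroup G).subtype) := by
      intro x
      obtain ⟨g, rfl⟩ := QuotientGroup.mk'_surjective K x
      have hg : g ∈ K ⊔ (S : Subgroup G) := hKS ▸ Subgroup.mem_top g
      rw [Subgroup.mem_sup_of_normal_left] at hg
      obtain ⟨k, hk, s, hs, rfl⟩ := hg
      refine ⟨⟨s, hs⟩, ?_⟩
      simp only [MonoidHom.coe_comp, Function.comp_apply, Subgroup.coe_subtype,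
        QuotientGroup.mk'_apply, QuotientGroup.mk_mul]
      rw [(QuotientGroup.eq_one_iff k).mpr hk, one_mul]
    exact IsPGroup.of_surjective S.isPGroup' _ hsurj

/-- `p`-th powers of elements of `S` lie in `K` -/
theorem pow_p_mem_ker {S : Sylow p G}
    (K : Subgroup G) [hK : K.Normal] {F : Type} [Field F] [Fintype F] {n : ℕ} (hn : 1 ≤ n)
    (hF : Fintype.card F = p ^ n)
    (e : G ⧸ K ≃* Matrix.ProjectiveSpecialLinearGroup (Fin 2) F) {g : G}
    (hg : g ∈ (S : Subgroup G)) : g ^ p ∈ K := by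
  obtain ⟨k, hk⟩ := S.isPGroup' ⟨g, hg⟩
  have hk' : g ^ (p ^ k) = 1 := by
    have := congrArg Subtype.val hk
    simpa using this
  have h1 : (e (QuotientGroup.mk' K g)) ^ (p ^ k) = 1 := by
    rw [← map_pow, ← map_pow, hk', map_one, map_one]
  have h2 := psl_pow_p hn hF h1
  rw [← map_pow, ← map_pow] at h2
  have h3 : (QuotientGroup.mk' K) (g ^ p) = 1 := e.injective (by rw [h2, map_one])
  exact (QuotientGroup.eq_one_iff _).mp h3

/-- quadratic action on an abelian normal subgroup: `p`-th powers are centralized when the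
`p`-th power of the acting element centralizes -/
theorem commute_pow_of_quadratic {Y : Subgroup G} (hYn : Y.Normal)
    (hYc : ∀ a ∈ Y, ∀ b ∈ Y, a * b = b * a) {g : G}
    (hq : ∀ y ∈ Y, Commute g (g * y * g⁻¹ * y⁻¹))
    (m : ℕ) (hgm : ∀ y ∈ Y, Commute (g ^ m) y) {y : G} (hy : y ∈ Y) :
    Commute g (y ^ m) := by
  obtain ⟨d, hd⟩ : ∃ d, d = g * y * g⁻¹ * y⁻¹ := ⟨_, rfl⟩
  have hdY : d ∈ Y := by rw [hd]; exact Y.mul_mem (hYn.conj_mem y hy g) (Y.inv_mem hy)
  have hgd : Commute g d := by rw [hd]; exact hq y hy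
  have hconj : g * y * g⁻¹ = d * y := by rw [hd]; group
  have hk : ∀ k : ℕ, g ^ k * y * (g ^ k)⁻¹ = d ^ k * y := by
    intro k
    induction k with
    | zero => simp
    | succ k ih =>
      have hgdk : g * d ^ k * g⁻¹ = d ^ k := by
        have : Commute g (d ^ k) := hgd.pow_right k
        rw [this.eq, mul_assoc, mul_inv_cancel, mul_one]
      calc g ^ (k + 1) * y * (g ^ (k + 1))⁻¹
          = g * (g ^ k * y * (g ^ k)⁻¹) * g⁻¹ := by rw [pow_succ']; group
        _ = g * (d ^ k * y) * g⁻¹ := by rw [ih]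
        _ = (g * d ^ k * g⁻¹) * (g * y * g⁻¹) := by group
        _ = d ^ k * (d * y) := by rw [hgdk, hconj]
        _ = d ^ (k + 1) * y := by rw [pow_succ, mul_assoc]
  have hdm : d ^ m = 1 := by
    have h1 := hk m
    have h2 : g ^ m * y * (g ^ m)⁻¹ = y := by
      rw [(hgm y hy).eq, mul_assoc, mul_inv_cancel, mul_one]
    rw [h2] at h1
    exact (mul_eq_right.mp h1.symm)
  have hdy : Commute d y := hYc d hdY y hy
  have h3 : g * y ^ m * g⁻¹ = y ^ m := by
    rw [← conj_pow, hconj, hdy.mul_pow, hdm, one_mul]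
  show g * y ^ m = y ^ m * g
  calc g * y ^ m = (g * y ^ m * g⁻¹) * g := by group
    _ = y ^ m * g := by rw [h3]

theorem powerClosure_normal {Y : Subgroup G} (hYn : Y.Normal) (q k : ℕ) :
    (Cfsg.powerClosure q k Y).Normal := by
  constructor
  intro x hx g
  unfold Cfsg.powerClosure at hx ⊢
  induction hx using Subgroup.closure_induction with
  | mem z hz =>
    obtain ⟨y, hy, rfl⟩ := hz
    apply Subgroup.subset_closure
    exact ⟨g * y * g⁻¹, hYn.conj_mem y hy g, (conj_pow).symm⟩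
  | one => simp
  | mul a b _ _ iha ihb =>
    have : g * (a * b) * g⁻¹ = (g * a * g⁻¹) * (g * b * g⁻¹) := by group
    rw [this]; exact Subgroup.mul_mem _ iha ihb
  | inv a _ iha =>
    have : g * a⁻¹ * g⁻¹ = (g * a * g⁻¹)⁻¹ := by group
    rw [this]; exact Subgroup.inv_mem _ iha

theorem powerClosure_le_center {Z : Subgroup G} (q k : ℕ)
    (h : ∀ z ∈ Z, z ^ (q ^ k) ∈ Subgroup.center G) :
    Cfsg.powerClosure q k Z ≤ Subgroup.center G := by
  unfold Cfsg.powerClosure
  rw [Subgroup.closure_le]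
  rintro _ ⟨z, hz, rfl⟩
  exact h z hz

theorem normal_of_le_center' {N : Subgroup G} (h : N ≤ Subgroup.center G) : N.Normal := by
  constructor
  intro n hn g
  have := Subgroup.mem_center_iff.mp (h hn) g
  have h2 : g * n * g⁻¹ = n := by rw [this, mul_assoc, mul_inv_cancel, mul_one]
  rw [h2]; exact hn

end main

section assembly

universe u

open Cfsg.Agent.Lib.helper17.GB Cfsg.Agent.Lib.Helper1.GNPC2

/-- Rank-one pushing up: `℧¹(Z(S))` is normal (even central) or the Baumann subgroup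
`C_S(Z(J(S)))` is normal. -/
theorem agemo_center_or_baumann {G : Type u} [Group G] [Finite G] {p : ℕ} [Fact p.Prime]
    (S : Sylow p G)
    (hE₁ : Subgroup.centralizer (Cfsg.pCore p G : Set G) ≤ Cfsg.pCore p G)
    (hE₂ : ∃! M : Subgroup G, IsCoatom M ∧ (S : Subgroup G) ≤ M)
    (K : Subgroup G) [K.Normal] (F : Type) [Field F] [Fintype F] (n : ℕ) (hn : 1 ≤ n)
    (hF : Fintype.card F = p ^ n)
    (hE₃ : Nonempty (G ⧸ K ≃* Matrix.ProjectiveSpecialLinearGroup (Fin 2) F)) :
    (Cfsg.powerClosure p 1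
        ((S : Subgroup G) ⊓ Subgroup.centralizer ((S : Subgroup G) : Set G))).Normal ∨
      (((S : Subgroup G) ⊓
        Subgroup.centralizer (Cfsg.centerThompsonAOf (S : Subgroup G) : Set G))).Normal := by
  obtain ⟨M, hM⟩ := uniqMax_of_existsUnique hE₂
  obtain ⟨e⟩ := hE₃
  have hQn : (Cfsg.pCore p G).Normal := Cfsg.Agent.Lib.Helper1.pCore_normal p
  have hQS : Cfsg.pCore p G ≤ (S : Subgroup G) := Cfsg.Agent.Lib.Helper1.pCore_le_sylow p S
  -- it suffices to find `N` supplementing `S` and centralizing the `p`-th powers of `Z(S)`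
  have key : ∀ N : Subgroup G, N ⊔ (S : Subgroup G) = ⊤ →
      (∀ z ∈ (S : Subgroup G) ⊓ Subgroup.centralizer ((S : Subgroup G) : Set G),
        ∀ x ∈ N, Commute x (z ^ (p ^ 1))) →
      (Cfsg.powerClosure p 1
        ((S : Subgroup G) ⊓ Subgroup.centralizer ((S : Subgroup G) : Set G))).Normal := by
    intro N hNS hN
    apply normal_of_le_center'
    apply powerClosure_le_center
    intro z hz
    rw [Subgroup.mem_center_iff]
    intro x
    have hcen : N ⊔ (S : Subgroup G) ≤ Subgroup.centralizer {z ^ (p ^ 1)} := by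
      apply sup_le
      · intro y hy
        rw [Subgroup.mem_centralizer_iff]
        intro w hw
        rw [Set.mem_singleton_iff] at hw
        subst hw
        exact ((hN z hz y hy).eq).symm
      · intro y hy
        rw [Subgroup.mem_centralizer_iff]
        intro w hw
        rw [Set.mem_singleton_iff] at hw
        subst hw
        have h1 : y * z = z * y := (Subgroup.mem_centralizer_iff.mp (Subgroup.mem_inf.mp hz).2) y hy
        have h2 : Commute y z := h1
        exact ((h2.pow_right _).eq).symm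
    have hx : x ∈ Subgroup.centralizer {z ^ (p ^ 1)} := hcen (hNS ▸ Subgroup.mem_top x)
    exact ((Subgroup.mem_centralizer_iff.mp hx) _ rfl).symm
  by_cases hJ : (Cfsg.thompsonSubgroupAOf (S : Subgroup G)).Normal
  · -- `J(S)` is normal
    have hZJn : (Cfsg.centerThompsonAOf (S : Subgroup G)).Normal := by
      unfold Cfsg.centerThompsonAOf
      infer_instance
    have hC₂n : (Subgroup.centralizer (Cfsg.centerThompsonAOf (S : Subgroup G) : Set G)).Normal :=
      inferInstance
    rcases uniqMax_le_or_sup_eq_top hM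
        (Subgroup.centralizer (Cfsg.centerThompsonAOf (S : Subgroup G) : Set G)) with h1 | h1
    · right
      exact hM.inf_normal hC₂n h1
    · left
      apply key _ h1
      intro z hz x hx
      have hzZJ : z ∈ Cfsg.centerThompsonAOf (S : Subgroup G) := by
        unfold Cfsg.centerThompsonAOf
        refine Subgroup.mem_inf.mpr ⟨center_le_tja (S : Subgroup G) hz, ?_⟩
        rw [Subgroup.mem_centralizer_iff]
        intro y hy
        exact (Subgroup.mem_centralizer_iff.mp (Subgroup.mem_inf.mp hz).2) y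
          (tja_le (S : Subgroup G) hy)
      have h2 : z * x = x * z := (Subgroup.mem_centralizer_iff.mp hx) z hzZJ
      have h3 : Commute x z := h2.symm
      exact h3.pow_right _
  · -- `J(S)` is not normal: a quadratic element on `Z(O_p(G))`
    left
    obtain ⟨g, hgS, hgQ, hquad⟩ := thompson_quadratic S hJ
    obtain ⟨Y, hY⟩ : ∃ Y : Subgroup G,
        Y = (Subgroup.center ↥(Cfsg.pCore p G)).map (Cfsg.pCore p G).subtype := ⟨_, rfl⟩
    rw [← hY] at hquad
    have hYmem : ∀ z : G, z ∈ Y ↔ z ∈ Cfsg.pCore p G ∧ ∀ q ∈ Cfsg.pCore p G, q * z = z * q := by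
      intro z
      rw [hY]
      constructor
      · rintro ⟨x, hx, rfl⟩
        refine ⟨x.2, fun q hq => ?_⟩
        have := Subgroup.mem_center_iff.mp hx ⟨q, hq⟩
        exact congrArg Subtype.val this
      · rintro ⟨hz, hc⟩
        have hmem : (⟨z, hz⟩ : ↥(Cfsg.pCore p G)) ∈ Subgroup.center ↥(Cfsg.pCore p G) := by
          rw [Subgroup.mem_center_iff]
          intro q
          exact Subtype.ext (hc q q.2)
        exact ⟨⟨z, hz⟩, hmem, rfl⟩
    have hYQ : Y ≤ Cfsg.pCore p G := fun z hz => ((hYmem z).mp hz).1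
    have hYc : ∀ a ∈ Y, ∀ b ∈ Y, a * b = b * a :=
      fun a ha b hb => ((hYmem b).mp hb).2 a (hYQ ha)
    have hYn : Y.Normal := by
      constructor
      intro z hz x
      obtain ⟨hzQ, hzc⟩ := (hYmem z).mp hz
      refine (hYmem _).mpr ⟨hQn.conj_mem z hzQ x, fun q hq => ?_⟩
      have h1 : x⁻¹ * q * x ∈ Cfsg.pCore p G := by
        have := hQn.conj_mem q hq x⁻¹
        rwa [inv_inv] at this
      have h2 := hzc _ h1
      calc q * (x * z * x⁻¹) = x * ((x⁻¹ * q * x) * z) * x⁻¹ := by group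
        _ = x * (z * (x⁻¹ * q * x)) * x⁻¹ := by rw [h2]
        _ = x * z * x⁻¹ * q := by group
    have hZY : (S : Subgroup G) ⊓ Subgroup.centralizer ((S : Subgroup G) : Set G) ≤ Y := by
      intro z hz
      obtain ⟨hzS, hzc⟩ := Subgroup.mem_inf.mp hz
      have h1 : z ∈ Subgroup.centralizer (Cfsg.pCore p G : Set G) := by
        rw [Subgroup.mem_centralizer_iff]
        intro q hq
        exact (Subgroup.mem_centralizer_iff.mp hzc) q (hQS hq)
      exact (hYmem z).mpr ⟨hE₁ h1, fun q hq =>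
        (Subgroup.mem_centralizer_iff.mp hzc) q (hQS hq)⟩
    -- `g ^ p` centralizes `Y`
    have hgpK : g ^ p ∈ K := pow_p_mem_ker (S := S) K hn hF e hgS
    have hgpQ : g ^ p ∈ Cfsg.pCore p G :=
      inf_ker_le_pCore hM K hn hF e
        (Subgroup.mem_inf.mpr ⟨(S : Subgroup G).pow_mem hgS p, hgpK⟩)
    have hgm : ∀ y ∈ Y, Commute (g ^ p) y := fun y hy => ((hYmem y).mp hy).2 _ hgpQ
    -- quadratic action
    have hq : ∀ y ∈ Y, Commute g (g * y * g⁻¹ * y⁻¹) := by
      intro y hy
      have h1 : ⁅y, g⁆ ∈ ⁅Y, Subgroup.zpowers g⁆ :=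
        Subgroup.commutator_mem_commutator hy (Subgroup.mem_zpowers g)
      have h2 : ⁅⁅y, g⁆, g⁆ ∈ ⁅⁅Y, Subgroup.zpowers g⁆, Subgroup.zpowers g⁆ :=
        Subgroup.commutator_mem_commutator h1 (Subgroup.mem_zpowers g)
      rw [hquad, Subgroup.mem_bot, commutatorElement_eq_one_iff_commute] at h2
      have h3 : g * y * g⁻¹ * y⁻¹ = (⁅y, g⁆)⁻¹ := by
        rw [commutatorElement_def]; group
      rw [h3]
      exact (h2.symm).inv_right
    have hcomm : ∀ y ∈ Y, Commute g (y ^ p) :=
      fun y hy => commute_pow_of_quadratic hYn hYc hq p hgm hy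
    -- the centralizer of `℧¹(Y)`
    have hPn : (Cfsg.powerClosure p 1 Y).Normal := powerClosure_normal hYn p 1
    have hC₁n : (Subgroup.centralizer (Cfsg.powerClosure p 1 Y : Set G)).Normal := inferInstance
    have hgC₁ : g ∈ Subgroup.centralizer (Cfsg.powerClosure p 1 Y : Set G) := by
      have h1 : Cfsg.powerClosure p 1 Y ≤ Subgroup.centralizer {g} := by
        unfold Cfsg.powerClosure
        rw [Subgroup.closure_le]
        rintro _ ⟨y, hy, rfl⟩
        rw [SetLike.mem_coe, Subgroup.mem_centralizer_iff]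
        intro w hw
        rw [Set.mem_singleton_iff] at hw
        subst hw
        rw [pow_one]
        exact (hcomm y hy).eq
      rw [Subgroup.mem_centralizer_iff]
      intro w hw
      exact ((Subgroup.mem_centralizer_iff.mp (h1 hw)) g rfl).symm
    rcases uniqMax_le_or_sup_eq_top hM
        (Subgroup.centralizer (Cfsg.powerClosure p 1 Y : Set G)) with h1 | h1
    · exfalso
      exact hgQ (hM.inf_le_pCore hC₁n h1 (Subgroup.mem_inf.mpr ⟨hgS, hgC₁⟩))
    · apply key _ h1
      intro z hz x hx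
      have hzp : z ^ (p ^ 1) ∈ Cfsg.powerClosure p 1 Y :=
        Subgroup.subset_closure ⟨z, hZY hz, rfl⟩
      have := (Subgroup.mem_centralizer_iff.mp hx) _ hzp
      exact this.symm

end assembly

end Cfsg.Agent.Lib.helper17.PU
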