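import Mathlib
import Cfsg.Agent.Lib.Helper26.FusionGroup
import Cfsg.Agent.Lib.Helper26.FusionNC
import Cfsg.Agent.Lib.Helper26.Realize

set_option autoImplicit false

/-! The normalizer system of `Q` in the fusion system of a group `G` is realized by `N_G(Q)`. -/

namespace Cfsg.Agent.Lib.helper17.QF1

open Cfsg Cfsg.FusionSystem Cfsg.Agent.Lib.Helper26 Subgroup

variable {G : Type*} [Group G]

/-- the inclusion `N_P(Q) → N_G(Q)` -/
def incl (P Q : Subgroup G) : ↥(normalizerIn P Q) →* ↥(normalizer (Q : Set G)) :=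
  Subgroup.inclusion inf_le_right

theorem incl_coe (P Q : Subgroup G) (x : ↥(normalizerIn P Q)) : ((incl P Q x : ↥(normalizer (Q : Set G))) : G) = x :=
  rfl

theorem incl_injective (P Q : Subgroup G) : Function.Injective (incl P Q) :=
  Subgroup.inclusion_injective _

theorem range_incl (P Q : Subgroup G) :
    (incl P Q).range = (normalizerIn P Q).subgroupOf (normalizer (Q : Set G)) :=
  Subgroup.inclusion_range _

theorem realized (P Q : Subgroup G) (hQ : Q ≤ P) :
    (normalizerSystem (groupFusionSystem P) Q hQ).IsRealizedBy (incl P Q) := by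
  refine ⟨incl_injective P Q, ?_⟩
  intro A hA φ hφ
  have hTP : normalizerIn P Q ≤ P := normalizerIn_le P Q
  constructor
  · rintro ⟨hφF, -, -, ψ, hψ, hext, hQmap⟩
    obtain ⟨-, -, g, hg⟩ := hψ
    have hgN : g ∈ normalizer (Q : Set G) := by
      rw [mem_normalizer_iff]
      intro q
      constructor
      · intro hq
        have h1 : ψ (Subgroup.inclusion (le_sup_right : Q ≤ A ⊔ Q) ⟨q, hq⟩) ∈ Q :=
          hQmap.le ((map_subgroupOf_sup_eq ψ).mpr ⟨⟨q, hq⟩, rfl⟩)
        rw [hg] at h1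
        exact h1
      · intro hq
        obtain ⟨q', hq'⟩ := (map_subgroupOf_sup_eq ψ).mp (hQmap.ge hq)
        rw [hg] at hq'
        have h2 : ((Subgroup.inclusion (le_sup_right : Q ≤ A ⊔ Q) q' : ↥(A ⊔ Q)) : G) = q := by
          have := congrArg (fun y => g⁻¹ * y * g) hq'
          simpa [mul_assoc] using this
        rw [← h2]
        exact q'.2
    refine ⟨⟨g, hgN⟩, fun x => ?_⟩
    apply Subtype.ext
    show φ x = g * (x : G) * g⁻¹
    rw [← hext x, hg]
    rfl
  · rintro ⟨⟨g, hgN⟩, hg⟩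
    have hgx : ∀ x : A, φ x = g * (x : G) * g⁻¹ := fun x =>
      congrArg (fun y : ↥(normalizer (Q : Set G)) => (y : G)) (hg x)
    have hgQ : ∀ q ∈ Q, g * q * g⁻¹ ∈ Q := fun q hq => (mem_normalizer_iff.mp hgN q).mp hq
    refine ⟨⟨hA.trans hTP, fun x => hTP (hφ x), g, hgx⟩, hA, hφ, conjHom (A ⊔ Q) g, ?_, ?_, ?_⟩
    · refine ⟨sup_le (hA.trans hTP) hQ, fun y => ?_, g, fun y => rfl⟩
      refine map_sup_mem (conjHom (A ⊔ Q) g) P (fun x => ?_) (fun q => ?_) y
      · show g * (x : G) * g⁻¹ ∈ P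
        rw [← hgx x]
        exact hTP (hφ x)
      · exact hQ (hgQ q q.2)
    · intro x
      exact (hgx x).symm
    · ext z
      rw [map_subgroupOf_sup_eq]
      constructor
      · rintro ⟨q, rfl⟩
        exact hgQ q q.2
      · intro hz
        have hz' : g⁻¹ * z * g ∈ Q := by
          have := (mem_normalizer_iff.mp (inv_mem hgN) z).mp hz
          simpa using this
        refine ⟨⟨g⁻¹ * z * g, hz'⟩, ?_⟩
        show g * (g⁻¹ * z * g) * g⁻¹ = z
        group

end Cfsg.Agent.Lib.helper17.QF1
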