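import Mathlib
import Cfsg.Agent.Lib.Helper26.SylowAux

set_option autoImplicit false

/-! A central Sylow `p`-subgroup of a normal subgroup `C` has a complement in `C` invariant under
everything normalizing `C` (Burnside's transfer theorem). -/

namespace Cfsg.Agent.Lib.helper17.QF2

open Cfsg Cfsg.Agent.Lib.Helper26 Subgroup

variable {G : Type*} [Group G]

theorem exists_compl [Finite G] {p : ℕ} [Fact p.Prime] (C Z : Subgroup G)
    (hsyl : IsSylowIn p C Z) (hcen : ∀ z ∈ Z, ∀ c ∈ C, z * c = c * z) :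
    ∃ O : Subgroup G, O ≤ C ∧ (Nat.card O).Coprime p ∧
      (∀ c ∈ C, ∃ o ∈ O, ∃ z ∈ Z, c = o * z) ∧
      ∀ n : G, (∀ c, c ∈ C → n * c * n⁻¹ ∈ C) → ∀ o ∈ O, n * o * n⁻¹ ∈ O := by
  obtain ⟨R, hR⟩ := hsyl
  have hRmem : ∀ r : ↥C, r ∈ R ↔ (r : G) ∈ Z := by
    intro r
    have : r ∈ (R : Subgroup ↥C) ↔ (r : G) ∈ Z := by rw [hR, mem_subgroupOf]
    exact this
  have hRc : normalizer ((R : Subgroup ↥C) : Set ↥C) ≤ centralizer ((R : Subgroup ↥C) : Set ↥C) := by
    intro x _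
    rw [mem_centralizer_iff]
    intro r hr
    apply Subtype.ext
    have := hcen (r : G) ((hRmem r).mp hr) (x : G) x.2
    exact this
  obtain ⟨K, hK⟩ : ∃ K : Subgroup ↥C, K = (MonoidHom.transferSylow R hRc).ker := ⟨_, rfl⟩
  have hcompl : IsComplement' K (R : Subgroup ↥C) :=
    hK ▸ MonoidHom.ker_transferSylow_isComplement' R hRc
  have hKcard : Nat.card K = (R : Subgroup ↥C).index := (hcompl.index_eq_card).symm ▸ rfl
  have hKcop : (Nat.card K).Coprime p := by
    rw [hKcard]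
    have h1 := R.card_coprime_index
    have hpp : p.Prime := Fact.out
    rw [Nat.coprime_comm, Nat.Prime.coprime_iff_not_dvd hpp]
    exact R.not_dvd_index
  -- characterization of `K`
  have hKchar : ∀ x : ↥C, x ∈ K ↔ x ^ Nat.card K = 1 := by
    intro x
    constructor
    · intro hx
      have := pow_card_eq_one' (G := ↥K) (x := ⟨x, hx⟩)
      exact congrArg (fun y : ↥K => (y : ↥C)) this
    · intro hx
      rw [hK, MonoidHom.mem_ker]
      set f := MonoidHom.transferSylow R hRc with hf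
      have h1 : (f x) ^ Nat.card K = 1 := by rw [← map_pow, hx, map_one]
      obtain ⟨k, hk⟩ := R.isPGroup' (f x)
      have h2 : orderOf (f x) ∣ Nat.card K := orderOf_dvd_of_pow_eq_one h1
      have h3 : orderOf (f x) ∣ p ^ k := orderOf_dvd_of_pow_eq_one hk
      have h4 : orderOf (f x) = 1 :=
        Nat.Coprime.eq_one_of_dvd (Nat.Coprime.coprime_dvd_left h2 (Nat.Coprime.pow_right k hKcop)) h3
      exact orderOf_eq_one_iff.mp h4
  refine ⟨K.map C.subtype, map_subtype_le K, ?_, ?_, ?_⟩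
  · rw [Nat.card_congr (K.equivMapOfInjective C.subtype C.subtype_injective).symm.toEquiv]
    exact hKcop
  · intro c hc
    obtain ⟨⟨⟨x, hx⟩, ⟨t, ht⟩⟩, hxt, -⟩ := hcompl.existsUnique (⟨c, hc⟩ : ↥C)
    have hxt' : x * t = ⟨c, hc⟩ := hxt
    refine ⟨(x : G), ⟨x, hx, rfl⟩, (t : G), (hRmem t).mp ht, ?_⟩
    exact (congrArg (fun y : ↥C => (y : G)) hxt').symm
  · intro n hn o ho
    obtain ⟨k, hk, rfl⟩ := ho
    have hmem : n * (k : G) * n⁻¹ ∈ C := hn _ k.2
    refine ⟨⟨n * (k : G) * n⁻¹, hmem⟩, ?_, rfl⟩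
    apply (hKchar _).mpr
    apply Subtype.ext
    show (n * (k : G) * n⁻¹) ^ Nat.card K = 1
    have h1 : (k : G) ^ Nat.card K = 1 := by
      have := (hKchar k).mp hk
      exact congrArg (fun y : ↥C => (y : G)) this
    rw [conj_pow, h1, mul_one, mul_inv_cancel]

end Cfsg.Agent.Lib.helper17.QF2
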