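import Mathlib
import Cfsg.Agent.Lib.helper17.QF1
import Cfsg.Agent.Lib.helper17.QF2
import Cfsg.Agent.Lib.Helper27.RealizeQuot
import Cfsg.Agent.Lib.Helper1.Cores
import Cfsg.Agent.S5100
import Cfsg.Agent.S5122

set_option autoImplicit false

/-! The standard model `N_G(Q)/O_{p'}(C_G(Q))` of the normalizer system of a fully normalized
centric subgroup `Q` in the fusion system of a finite group. -/

namespace Cfsg.Agent.Lib.helper17.QF3

open Cfsg Cfsg.FusionSystem Cfsg.Agent.Lib.Helper26 Subgroup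

universe u

variable {G : Type u} [Group G]

/-- a `p`-element of a subgroup of order prime to `p` is trivial -/
theorem eq_one_of_mem_of_pow {p : ℕ} {O : Subgroup G} [Finite O] (hO : (Nat.card O).Coprime p)
    {x : G} (hx : x ∈ O) {k : ℕ} (hk : x ^ (p ^ k) = 1) : x = 1 := by
  have h1 : orderOf x ∣ Nat.card O := by
    have := orderOf_dvd_natCard (⟨x, hx⟩ : ↥O)
    rwa [Subgroup.orderOf_mk] at this
  have h2 : orderOf x ∣ p ^ k := orderOf_dvd_of_pow_eq_one hk
  have h3 : orderOf x = 1 :=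
    Nat.Coprime.eq_one_of_dvd (Nat.Coprime.coprime_dvd_left h1 (Nat.Coprime.pow_right k hO)) h2
  exact orderOf_eq_one_iff.mp h3

theorem exists_std_model [Finite G] {p : ℕ} [Fact p.Prime] (P : Sylow p G) {Q : Subgroup G}
    (hQfn : (groupFusionSystem (P : Subgroup G)).IsFullyNormalized Q)
    (hQc : (groupFusionSystem (P : Subgroup G)).IsCentric Q) :
    ∃ (O : Subgroup ↥(normalizer (Q : Set G))) (_ : O.Normal),
      (normalizerSystem (groupFusionSystem (P : Subgroup G)) Q hQfn.1).IsModel p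
        (↥(normalizer (Q : Set G)) ⧸ O) ((QuotientGroup.mk' O).comp (QF1.incl (P : Subgroup G) Q)) ∧
      (Nat.card O).Coprime p ∧
      ∀ o ∈ O, (o : G) ∈ centralizer (Q : Set G) := by
  have hQP : Q ≤ (P : Subgroup G) := hQfn.1
  have hPp : IsPGroup p (P : Subgroup G) := P.isPGroup'
  obtain ⟨NG, hNG⟩ : ∃ NG : Subgroup G, NG = normalizer (Q : Set G) := ⟨_, rfl⟩
  have hsylN := (Cfsg.Agent.S5100.result p P Q hQP).mp hQfn
  have hsylC : IsSylowIn p (centralizer (Q : Set G)) (centralizerIn (P : Subgroup G) Q) :=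
    Cfsg.Agent.S5122.centralizer_sylow p P Q hsylN
  have hZQ : centralizerIn (P : Subgroup G) Q ≤ Q :=
    hQc.2 Q (isConj_refl _ hQP)
  have hcen : ∀ z ∈ centralizerIn (P : Subgroup G) Q, ∀ c ∈ centralizer (Q : Set G),
      z * c = c * z := by
    intro z hz c hc
    exact (mem_centralizer_iff.mp hc z (hZQ hz))
  obtain ⟨O, hOC, hOcop, hOdec, hOinv⟩ :=
    QF2.exists_compl (centralizer (Q : Set G)) (centralizerIn (P : Subgroup G) Q) hsylC hcen
  have hCN : centralizer (Q : Set G) ≤ normalizer (Q : Set G) := centralizer_le_normalizer _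
  have hON : O ≤ normalizer (Q : Set G) := hOC.trans hCN
  have hnC : ∀ n ∈ normalizer (Q : Set G), ∀ c, c ∈ centralizer (Q : Set G) →
      n * c * n⁻¹ ∈ centralizer (Q : Set G) := by
    intro n hn c hc
    rw [mem_centralizer_iff] at hc ⊢
    intro q hq
    have hq' : n⁻¹ * q * n ∈ Q := by
      have := (mem_normalizer_iff.mp (inv_mem hn) q).mp hq
      simpa using this
    have h1 := hc _ hq'
    calc q * (n * c * n⁻¹) = n * ((n⁻¹ * q * n) * c) * n⁻¹ := by group
      _ = n * (c * (n⁻¹ * q * n)) * n⁻¹ := by rw [h1]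
      _ = n * c * n⁻¹ * q := by group
  have hOn : (O.subgroupOf (normalizer (Q : Set G))).Normal := by
    refine ⟨fun o ho n => ?_⟩
    rw [mem_subgroupOf] at ho ⊢
    exact hOinv (n : G) (hnC n n.2) _ ho
  have hOcard : Nat.card (O.subgroupOf (normalizer (Q : Set G))) = Nat.card O :=
    card_subgroupOf_eq hON
  refine ⟨O.subgroupOf (normalizer (Q : Set G)), hOn, ?_, hOcard ▸ hOcop, fun o ho => hOC ho⟩
  -- realization by `N_G(Q)`
  have hreal := QF1.realized (P : Subgroup G) Q hQP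
  obtain ⟨TG, hTG⟩ := hsylN
  have hTG' : (TG : Subgroup ↥(normalizer (Q : Set G))) = (QF1.incl (P : Subgroup G) Q).range := by
    rw [hTG, QF1.range_incl]
  have hTp : IsPGroup p ↥(normalizerIn (P : Subgroup G) Q) := hPp.to_le (normalizerIn_le _ _)
  have hbot : preSub (QF1.incl (P : Subgroup G) Q) (O.subgroupOf (normalizer (Q : Set G))) = ⊥ := by
    rw [eq_bot_iff]
    intro x hx
    obtain ⟨hxT, hxO⟩ := mem_preSub_iff.mp hx
    rw [mem_bot]
    have hxO' : x ∈ O := hxO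
    obtain ⟨k, hk⟩ := hTp ⟨x, hxT⟩
    have hk' : x ^ (p ^ k) = 1 := congrArg (fun y : ↥(normalizerIn (P : Subgroup G) Q) => (y : G)) hk
    exact eq_one_of_mem_of_pow hOcop hxO' hk'
  haveI := hOn
  obtain ⟨hreal', hT'⟩ := Helper27.realized_quotient _ hreal (O.subgroupOf (normalizer (Q : Set G)))
    TG hTG' hbot
  refine ⟨inferInstance, hreal', hT', ?_⟩
  -- the centralizer condition
  set L := ↥(normalizer (Q : Set G)) ⧸ O.subgroupOf (normalizer (Q : Set G)) with hL
  set π := QuotientGroup.mk' (O.subgroupOf (normalizer (Q : Set G))) with hπ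
  have hπs : Function.Surjective π := QuotientGroup.mk'_surjective _
  have hQn : (Q.subgroupOf (normalizer (Q : Set G))).Normal := Subgroup.normal_in_normalizer
  have hQbn : ((Q.subgroupOf (normalizer (Q : Set G))).map π).Normal := hQn.map π hπs
  have hQbp : IsPGroup p ((Q.subgroupOf (normalizer (Q : Set G))).map π) := by
    have h1 : IsPGroup p (Q.subgroupOf (normalizer (Q : Set G))) := by
      have h0 : IsPGroup p Q := hPp.to_le hQP
      exact h0.comap_subtype
    exact h1.map π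
  have hQb : (Q.subgroupOf (normalizer (Q : Set G))).map π ≤ pCore p L :=
    Helper1.le_pCore hQbn hQbp
  intro y hy
  obtain ⟨x, rfl⟩ := hπs y
  have hxc : (x : G) ∈ centralizer (Q : Set G) := by
    rw [mem_centralizer_iff]
    intro q hq
    have hqN : q ∈ normalizer (Q : Set G) := le_normalizer hq
    have h1 : π ⟨q, hqN⟩ ∈ pCore p L := hQb ⟨⟨q, hqN⟩, mem_subgroupOf.mpr hq, rfl⟩
    have h2 := mem_centralizer_iff.mp hy _ h1
    -- `x q x⁻¹ q⁻¹ ∈ O ∩ Q`
    have h3 : π (x * ⟨q, hqN⟩ * x⁻¹ * ⟨q, hqN⟩⁻¹) = 1 := by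
      rw [map_mul, map_mul, map_mul, map_inv, map_inv]
      rw [← h2]
      group
    have h4 : x * ⟨q, hqN⟩ * x⁻¹ * ⟨q, hqN⟩⁻¹ ∈ O.subgroupOf (normalizer (Q : Set G)) := by
      rw [← QuotientGroup.eq_one_iff]
      exact h3
    have h5 : (x : G) * q * (x : G)⁻¹ * q⁻¹ ∈ O := h4
    have h6 : (x : G) * q * (x : G)⁻¹ ∈ Q := (mem_normalizer_iff.mp x.2 q).mp hq
    have h7 : (x : G) * q * (x : G)⁻¹ * q⁻¹ ∈ Q := Q.mul_mem h6 (Q.inv_mem hq)
    obtain ⟨k, hk⟩ := (hPp.to_le hQP) ⟨_, h7⟩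
    have hk' : ((x : G) * q * (x : G)⁻¹ * q⁻¹) ^ (p ^ k) = 1 :=
      congrArg (fun y : ↥Q => (y : G)) hk
    have h8 := eq_one_of_mem_of_pow hOcop h5 hk'
    calc q * (x : G) = ((x : G) * q * (x : G)⁻¹ * q⁻¹)⁻¹ * ((x : G) * q) := by group
      _ = (x : G) * q := by rw [h8, inv_one, one_mul]
  obtain ⟨o, ho, z, hz, hxe⟩ := hOdec _ hxc
  have hzQ : z ∈ Q := hZQ hz
  have hzN : z ∈ normalizer (Q : Set G) := le_normalizer hzQ
  have hoN : o ∈ normalizer (Q : Set G) := hON ho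
  have hxe' : x = ⟨o, hoN⟩ * ⟨z, hzN⟩ := Subtype.ext hxe
  have h9 : π x = π ⟨z, hzN⟩ := by
    rw [hxe', map_mul]
    have : π ⟨o, hoN⟩ = 1 := by
      rw [hπ, QuotientGroup.mk'_apply, QuotientGroup.eq_one_iff]
      exact mem_subgroupOf.mpr ho
    rw [this, one_mul]
  rw [h9]
  exact hQb ⟨⟨z, hzN⟩, mem_subgroupOf.mpr hzQ, rfl⟩

end Cfsg.Agent.Lib.helper17.QF3
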