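import Mathlib
import Cfsg.Agent.Lib.Helper26.SylowAux
import Cfsg.Agent.Lib.Helper26.FusionGroup
import Cfsg.Agent.Lib.Helper18.QdR9
import Cfsg.Agent.Lib.helper15.Qd
import Cfsg.Prelude.Def_PLocal

set_option autoImplicit false

/-! From a section of `G` isomorphic to `Qd(p)`: a `p`-subgroup `R` and a subgroup `H₁` of its
normalizer acting on a quotient of `R` as `SL₂(p)` on its natural module. -/

namespace Cfsg.Agent.Lib.helper17.QF4

open Cfsg Cfsg.Agent.Lib.Helper26 Subgroup Cfsg.Agent.Lib.helper15.Qd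

variable {G : Type*} [Group G]

/-- natural `SL₂(p)`-module data: `H₁` normalizes the `p`-subgroup `R` and acts on a quotient of
`R` as `SL₂(p)` acts on its natural module -/
def QdData (p : ℕ) [Fact p.Prime] (R H₁ : Subgroup G) : Prop :=
  IsPGroup p R ∧ H₁ ≤ normalizer (R : Set G) ∧
    ∃ (ρ : ↥H₁ →* Matrix.SpecialLinearGroup (Fin 2) (ZMod p))
      (ψ : ↥R →* Multiplicative (Fin 2 → ZMod p)),
      Function.Surjective ρ ∧ Function.Surjective ψ ∧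
      ∀ (h : ↥H₁) (u : ↥R) (hu : (h : G) * u * (h : G)⁻¹ ∈ R),
        ψ ⟨(h : G) * u * (h : G)⁻¹, hu⟩ = Multiplicative.ofAdd
          (((ρ h : Matrix.SpecialLinearGroup (Fin 2) (ZMod p)) :
            Matrix (Fin 2) (Fin 2) (ZMod p)).mulVec (Multiplicative.toAdd (ψ u)))

/-- an element conjugating a finite subgroup into itself normalizes it -/
theorem mem_normalizer_of_conj_le (R : Subgroup G) [Finite R] (g : G)
    (h : ∀ x ∈ R, g * x * g⁻¹ ∈ R) : g ∈ normalizer (R : Set G) := by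
  rw [mem_normalizer_iff]
  intro x
  refine ⟨h x, fun hx => ?_⟩
  let f : R → R := fun y => ⟨g * y * g⁻¹, h y y.2⟩
  have hinj : Function.Injective f := by
    intro a b hab
    have : g * (a : G) * g⁻¹ = g * (b : G) * g⁻¹ := congrArg Subtype.val hab
    exact Subtype.ext (mul_left_cancel (mul_right_cancel this))
  obtain ⟨y, hy⟩ := (Finite.injective_iff_surjective.mp hinj) ⟨g * x * g⁻¹, hx⟩
  have : g * (y : G) * g⁻¹ = g * x * g⁻¹ := congrArg Subtype.val hy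
  have hxy : (y : G) = x := mul_left_cancel (mul_right_cancel this)
  exact hxy ▸ y.2

theorem exists_qdData [Finite G] {p : ℕ} [Fact p.Prime] (hinv : Cfsg.Involves ↥(Cfsg.qd p) G) :
    ∃ R H₁ : Subgroup G, QdData p R H₁ := by
  obtain ⟨H₀, K, hn, ⟨e⟩⟩ := hinv
  haveI := hn
  obtain ⟨π, hπdef⟩ : ∃ π : ↥H₀ →* ↥(Cfsg.qdOver (ZMod p)),
      π = (e.toMonoidHom.comp (QuotientGroup.mk' (K.subgroupOf H₀))) := ⟨_, rfl⟩
  have hπ : Function.Surjective π := by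
    rw [hπdef]
    exact e.surjective.comp (QuotientGroup.mk'_surjective _)
  obtain ⟨ρ₀, hρ₀def⟩ : ∃ ρ₀ : ↥H₀ →* Matrix.SpecialLinearGroup (Fin 2) (ZMod p),
      ρ₀ = (blk (ZMod p)).comp π := ⟨_, rfl⟩
  have hρ₀ : Function.Surjective ρ₀ := by
    rw [hρ₀def]
    exact (blk_surjective (F := ZMod p)).comp hπ
  have hρ₀π : ∀ x, ρ₀ x = blk (ZMod p) (π x) := fun x => by rw [hρ₀def]; rfl
  obtain ⟨V, hVdef⟩ : ∃ V : Subgroup G, V = ρ₀.ker.map H₀.subtype := ⟨_, rfl⟩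
  have hVH : V ≤ H₀ := hVdef ▸ map_subtype_le _
  have hmemV : ∀ x : ↥H₀, (x : G) ∈ V ↔ ρ₀ x = 1 := by
    intro x
    rw [hVdef]
    constructor
    · rintro ⟨y, hy, hyx⟩
      have : y = x := Subtype.ext hyx
      exact this ▸ (MonoidHom.mem_ker.mp hy)
    · intro hx
      exact ⟨x, MonoidHom.mem_ker.mpr hx, rfl⟩
  have hVker : ∀ v : ↥V, π (Subgroup.inclusion hVH v) ∈ (blk (ZMod p)).ker := by
    intro v
    rw [MonoidHom.mem_ker, ← hρ₀π]
    exact (hmemV _).mp v.2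
  -- a Sylow subgroup of `V`
  obtain ⟨R'⟩ : Nonempty (Sylow p ↥V) := inferInstance
  obtain ⟨R, hRdef⟩ : ∃ R : Subgroup G, R = (R' : Subgroup ↥V).map V.subtype := ⟨_, rfl⟩
  have hRV : R ≤ V := hRdef ▸ map_subtype_le _
  have hRsub : R.subgroupOf V = (R' : Subgroup ↥V) := by
    rw [hRdef]
    ext y
    rw [mem_subgroupOf]
    constructor
    · rintro ⟨z, hz, hzy⟩
      have : z = y := Subtype.ext hzy
      exact this ▸ hz
    · intro hy
      exact ⟨y, hy, rfl⟩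
  have hsyl : IsSylowIn p V R := ⟨R', hRsub.symm⟩
  have hRp : IsPGroup p R := isPGroup_of_isSylowIn hRV hsyl
  -- the module map on `V`
  obtain ⟨ψV, hψVdef⟩ : ∃ ψV : ↥V →* Multiplicative (Fin 2 → ZMod p),
      ψV = kerVec.comp ((π.comp (Subgroup.inclusion hVH)).codRestrict (blk (ZMod p)).ker hVker) :=
    ⟨_, rfl⟩
  have hψVapp : ∀ v : ↥V, ψV v = Multiplicative.ofAdd (vec (π (Subgroup.inclusion hVH v))) := by
    intro v; rw [hψVdef]; rfl
  have hψVs : Function.Surjective ψV := by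
    intro w
    obtain ⟨h₀, hh₀⟩ := hπ (mk 1 (Multiplicative.toAdd w))
    have h1 : ρ₀ h₀ = 1 := by rw [hρ₀π, hh₀, blk_mk]
    refine ⟨⟨(h₀ : G), (hmemV h₀).mpr h1⟩, ?_⟩
    rw [hψVapp]
    have : Subgroup.inclusion hVH ⟨(h₀ : G), (hmemV h₀).mpr h1⟩ = h₀ := Subtype.ext rfl
    rw [this, hh₀, vec_mk]
    rfl
  have hψRs : ∀ w, ∃ x : ↥V, (x : G) ∈ R ∧ ψV x = w := by
    intro w
    have hE : IsPGroup p (Multiplicative (Fin 2 → ZMod p)) := isPGroup_mult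
    have htop : (⊤ : Subgroup (Multiplicative (Fin 2 → ZMod p))) =
        ((R'.mapSurjective hψVs : Sylow p _) : Subgroup _) :=
      (R'.mapSurjective hψVs).is_maximal' (hE.to_subgroup ⊤) le_top
    rw [Sylow.coe_mapSurjective] at htop
    have hw : w ∈ (R' : Subgroup ↥V).map ψV := htop ▸ mem_top w
    obtain ⟨x, hx, hxw⟩ := hw
    refine ⟨x, ?_, hxw⟩
    rw [hRdef]
    exact ⟨x, hx, rfl⟩
  -- `V` is normalized by `H₀`
  have hVnorm : ∀ h : ↥H₀, ∀ v ∈ V, (h : G) * v * (h : G)⁻¹ ∈ V := by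
    intro h v hv
    have hvH : v ∈ H₀ := hVH hv
    have h1 : ρ₀ ⟨v, hvH⟩ = 1 := (hmemV ⟨v, hvH⟩).mp hv
    have h2 : ρ₀ (h * ⟨v, hvH⟩ * h⁻¹) = 1 := by
      rw [map_mul, map_mul, h1, mul_one, map_inv, mul_inv_cancel]
    exact (hmemV (h * ⟨v, hvH⟩ * h⁻¹)).mpr h2
  haveI : Finite R := inferInstance
  refine ⟨R, H₀ ⊓ normalizer (R : Set G), hRp, inf_le_right,
    ρ₀.comp (Subgroup.inclusion inf_le_left),
    ψV.comp (Subgroup.inclusion hRV), ?_, ?_, ?_⟩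
  · -- surjectivity of `ρ`: Frattini
    intro A
    obtain ⟨h₀, hh₀⟩ := hρ₀ A
    have hL : cj R (h₀ : G) ≤ V := by
      intro y hy
      obtain ⟨x, hx, rfl⟩ := hy
      exact hVnorm h₀ x (hRV hx)
    obtain ⟨g, hgV, hg⟩ := hsyl.exists_conj_le hL (isPGroup_cj hRp _)
    have hgH : g ∈ H₀ := hVH hgV
    have hnorm : g * (h₀ : G) ∈ normalizer (R : Set G) := by
      apply mem_normalizer_of_conj_le
      intro x hx
      have h1 := hg ((h₀ : G) * x * (h₀ : G)⁻¹) (conj_mem_cj hx)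
      have h2 : g * (h₀ : G) * x * (g * (h₀ : G))⁻¹ = g * ((h₀ : G) * x * (h₀ : G)⁻¹) * g⁻¹ := by
        group
      rw [h2]; exact h1
    refine ⟨⟨g * (h₀ : G), ⟨H₀.mul_mem hgH h₀.2, hnorm⟩⟩, ?_⟩
    show ρ₀ (Subgroup.inclusion inf_le_left ⟨g * (h₀ : G), _⟩) = A
    have h3 : Subgroup.inclusion (inf_le_left : H₀ ⊓ normalizer (R : Set G) ≤ H₀)
        ⟨g * (h₀ : G), ⟨H₀.mul_mem hgH h₀.2, hnorm⟩⟩ = ⟨g, hgH⟩ * h₀ := Subtype.ext rfl
    rw [h3, map_mul, (hmemV ⟨g, hgH⟩).mp hgV, one_mul, hh₀]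
  · intro w
    obtain ⟨x, hxR, hxw⟩ := hψRs w
    refine ⟨⟨(x : G), hxR⟩, ?_⟩
    show ψV (Subgroup.inclusion hRV ⟨(x : G), hxR⟩) = w
    have : Subgroup.inclusion hRV ⟨(x : G), hxR⟩ = x := Subtype.ext rfl
    rw [this, hxw]
  · intro h u hu
    show ψV (Subgroup.inclusion hRV ⟨(h : G) * u * (h : G)⁻¹, hu⟩) = Multiplicative.ofAdd
      (((ρ₀ (Subgroup.inclusion inf_le_left h) : Matrix.SpecialLinearGroup (Fin 2) (ZMod p)) :
        Matrix (Fin 2) (Fin 2) (ZMod p)).mulVec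
        (Multiplicative.toAdd (ψV (Subgroup.inclusion hRV u))))
    rw [hψVapp, hψVapp, toAdd_ofAdd]
    congr 1
    set h' : ↥H₀ := Subgroup.inclusion inf_le_left h with hh'
    set u' : ↥H₀ := Subgroup.inclusion hVH (Subgroup.inclusion hRV u) with hu'
    have h1 : Subgroup.inclusion hVH (Subgroup.inclusion hRV ⟨(h : G) * u * (h : G)⁻¹, hu⟩) =
        h' * u' * h'⁻¹ := Subtype.ext rfl
    rw [h1, map_mul, map_mul, map_inv]
    have h2 : π u' ∈ (blk (ZMod p)).ker := hVker (Subgroup.inclusion hRV u)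
    have h3 : π u' = mk 1 (vec (π u')) := (mem_ker_blk_iff' _).mp h2
    rw [h3, Cfsg.Agent.Lib.Helper18.QdR.conj_mk_one, vec_mk, vec_mk, hρ₀π]

end Cfsg.Agent.Lib.helper17.QF4
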