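import Mathlib
import Cfsg.Agent.Lib.helper17.QF4
import Cfsg.Agent.Lib.Helper26.FusionHyp2

set_option autoImplicit false

/-! Conjugation transport of `QdData`, and the `p`-centric overgroup `Q*` of a `p`-subgroup `R`
(a Sylow `p`-subgroup of `R C_G(R)`). -/

namespace Cfsg.Agent.Lib.helper17.QF5

open Cfsg Cfsg.Agent.Lib.Helper26 Subgroup Cfsg.Agent.Lib.helper17.QF4

variable {G : Type*} [Group G]

theorem cjEquiv_symm_coe (K : Subgroup G) (g : G) (y : ↥(cj K g)) :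
    (((cjEquiv K g).symm y : ↥K) : G) = g⁻¹ * (y : G) * g := by
  have h := cjEquiv_apply K g ((cjEquiv K g).symm y)
  rw [MulEquiv.apply_symm_apply] at h
  rw [h]; group

theorem QdData.conj {p : ℕ} [Fact p.Prime] {R H₁ : Subgroup G} (h : QdData p R H₁) (g : G) :
    QdData p (cj R g) (cj H₁ g) := by
  obtain ⟨hRp, hHN, ρ, ψ, hρ, hψ, heq⟩ := h
  refine ⟨isPGroup_cj hRp g, ?_, ρ.comp (cjEquiv H₁ g).symm.toMonoidHom,
    ψ.comp (cjEquiv R g).symm.toMonoidHom, ?_, ?_, ?_⟩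
  · rw [normalizer_cj]
    exact cj_mono hHN g
  · exact hρ.comp (cjEquiv H₁ g).symm.surjective
  · exact hψ.comp (cjEquiv R g).symm.surjective
  · intro h' u' hu'
    show ψ ((cjEquiv R g).symm ⟨(h' : G) * u' * (h' : G)⁻¹, hu'⟩) = Multiplicative.ofAdd
      (((ρ ((cjEquiv H₁ g).symm h') : Matrix.SpecialLinearGroup (Fin 2) (ZMod p)) :
        Matrix (Fin 2) (Fin 2) (ZMod p)).mulVec
        (Multiplicative.toAdd (ψ ((cjEquiv R g).symm u'))))
    set h := (cjEquiv H₁ g).symm h' with hh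
    set u := (cjEquiv R g).symm u' with hu
    have hmem : (h : G) * u * (h : G)⁻¹ ∈ R := (mem_normalizer_iff.mp (hHN h.2) u).mp u.2
    have h1 : (cjEquiv R g).symm ⟨(h' : G) * u' * (h' : G)⁻¹, hu'⟩ =
        ⟨(h : G) * u * (h : G)⁻¹, hmem⟩ := by
      apply Subtype.ext
      rw [cjEquiv_symm_coe]
      show g⁻¹ * ((h' : G) * u' * (h' : G)⁻¹) * g = (h : G) * u * (h : G)⁻¹
      rw [hh, hu, cjEquiv_symm_coe, cjEquiv_symm_coe]
      group
    rw [h1]
    exact heq h u hmem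

/-- the subgroup `R · C_G(R)` -/
def prodCent (R : Subgroup G) : Subgroup G where
  carrier := {x | ∃ r ∈ R, r⁻¹ * x ∈ centralizer (R : Set G)}
  one_mem' := ⟨1, R.one_mem, by simp⟩
  mul_mem' := by
    rintro x y ⟨r, hr, hx⟩ ⟨s, hs, hy⟩
    refine ⟨r * s, R.mul_mem hr hs, ?_⟩
    have h1 : s⁻¹ * (r⁻¹ * x) * s ∈ centralizer (R : Set G) := by
      rw [mem_centralizer_iff] at hx ⊢
      intro t ht
      have h2 := hx (s * t * s⁻¹) (R.mul_mem (R.mul_mem hs ht) (R.inv_mem hs))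
      calc t * (s⁻¹ * (r⁻¹ * x) * s) = s⁻¹ * ((s * t * s⁻¹) * (r⁻¹ * x)) * s := by group
        _ = s⁻¹ * ((r⁻¹ * x) * (s * t * s⁻¹)) * s := by rw [h2]
        _ = s⁻¹ * (r⁻¹ * x) * s * t := by group
    have h3 : (r * s)⁻¹ * (x * y) = (s⁻¹ * (r⁻¹ * x) * s) * (s⁻¹ * y) := by group
    rw [h3]
    exact Subgroup.mul_mem _ h1 hy
  inv_mem' := by
    rintro x ⟨r, hr, hx⟩
    refine ⟨r⁻¹, R.inv_mem hr, ?_⟩
    have h1 : r * (r⁻¹ * x)⁻¹ * r⁻¹ ∈ centralizer (R : Set G) := by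
      have hx' := Subgroup.inv_mem _ hx
      rw [mem_centralizer_iff] at hx' ⊢
      intro t ht
      have h2 := hx' (r⁻¹ * t * r) (R.mul_mem (R.mul_mem (R.inv_mem hr) ht) hr)
      calc t * (r * (r⁻¹ * x)⁻¹ * r⁻¹) = r * ((r⁻¹ * t * r) * (r⁻¹ * x)⁻¹) * r⁻¹ := by group
        _ = r * ((r⁻¹ * x)⁻¹ * (r⁻¹ * t * r)) * r⁻¹ := by rw [h2]
        _ = r * (r⁻¹ * x)⁻¹ * r⁻¹ * t := by group
    have h3 : r⁻¹⁻¹ * x⁻¹ = r * (r⁻¹ * x)⁻¹ * r⁻¹ := by group
    rw [h3]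
    exact h1

theorem mem_prodCent {R : Subgroup G} {x : G} :
    x ∈ prodCent R ↔ ∃ r ∈ R, r⁻¹ * x ∈ centralizer (R : Set G) := Iff.rfl

theorem le_prodCent (R : Subgroup G) : R ≤ prodCent R := fun r hr =>
  ⟨r, hr, by simp⟩

theorem centralizer_le_prodCent (R : Subgroup G) : centralizer (R : Set G) ≤ prodCent R :=
  fun c hc => ⟨1, R.one_mem, by simpa using hc⟩

theorem conj_mem_prodCent {R : Subgroup G} {n : G} (hn : n ∈ normalizer (R : Set G)) {x : G}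
    (hx : x ∈ prodCent R) : n * x * n⁻¹ ∈ prodCent R := by
  obtain ⟨r, hr, hc⟩ := hx
  refine ⟨n * r * n⁻¹, (mem_normalizer_iff.mp hn r).mp hr, ?_⟩
  have h1 : (n * r * n⁻¹)⁻¹ * (n * x * n⁻¹) = n * (r⁻¹ * x) * n⁻¹ := by group
  rw [h1]
  rw [mem_centralizer_iff] at hc ⊢
  intro t ht
  have ht' : n⁻¹ * t * n ∈ R := by
    have := (mem_normalizer_iff.mp (inv_mem hn) t).mp ht
    simpa using this
  have h2 := hc _ ht'
  calc t * (n * (r⁻¹ * x) * n⁻¹) = n * ((n⁻¹ * t * n) * (r⁻¹ * x)) * n⁻¹ := by group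
    _ = n * ((r⁻¹ * x) * (n⁻¹ * t * n)) * n⁻¹ := by rw [h2]
    _ = n * (r⁻¹ * x) * n⁻¹ * t := by group

/-- the centric overgroup -/
theorem exists_centric_over [Finite G] {p : ℕ} [Fact p.Prime] (R : Subgroup G) (hRp : IsPGroup p R) :
    ∃ Qs : Subgroup G, R ≤ Qs ∧ IsPGroup p Qs ∧
      (∀ x ∈ centralizer (Qs : Set G), (∃ k : ℕ, x ^ (p ^ k) = 1) → x ∈ Qs) ∧
      ∀ n ∈ normalizer (R : Set G), ∃ c ∈ centralizer (R : Set G), c * n ∈ normalizer (Qs : Set G) := by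
  have hRD : R ≤ prodCent R := le_prodCent R
  have hR' : IsPGroup p (R.subgroupOf (prodCent R)) :=
    hRp.of_equiv (Subgroup.subgroupOfEquivOfLe hRD).symm
  obtain ⟨Q', hQ'⟩ := hR'.exists_le_sylow
  obtain ⟨Qs, hQsdef⟩ : ∃ Qs : Subgroup G, Qs = (Q' : Subgroup ↥(prodCent R)).map (prodCent R).subtype :=
    ⟨_, rfl⟩
  have hQsD : Qs ≤ prodCent R := hQsdef ▸ map_subtype_le _
  have hsub : Qs.subgroupOf (prodCent R) = (Q' : Subgroup ↥(prodCent R)) := by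
    rw [hQsdef]
    ext y
    rw [mem_subgroupOf]
    constructor
    · rintro ⟨z, hz, hzy⟩
      have : z = y := Subtype.ext hzy
      exact this ▸ hz
    · intro hy
      exact ⟨y, hy, rfl⟩
  have hsyl : IsSylowIn p (prodCent R) Qs := ⟨Q', hsub.symm⟩
  have hQsp : IsPGroup p Qs := isPGroup_of_isSylowIn hQsD hsyl
  have hRQ : R ≤ Qs := by
    intro r hr
    rw [hQsdef]
    exact ⟨⟨r, hRD hr⟩, hQ' (mem_subgroupOf.mpr hr), rfl⟩
  refine ⟨Qs, hRQ, hQsp, ?_, ?_⟩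
  · rintro x hx ⟨k, hk⟩
    have hzp : IsPGroup p (zpowers x) := by
      rw [IsPGroup.iff_card, Nat.card_zpowers]
      have hdvd : orderOf x ∣ p ^ k := orderOf_dvd_of_pow_eq_one hk
      obtain ⟨j, -, hj⟩ := (Nat.dvd_prime_pow (Fact.out : p.Prime)).mp hdvd
      exact ⟨j, hj⟩
    have hzN : zpowers x ≤ normalizer (Qs : Set G) := by
      rw [zpowers_le]
      exact centralizer_le_normalizer _ hx
    have hXp : IsPGroup p (zpowers x ⊔ Qs : Subgroup G) :=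
      hzp.to_sup_of_normal_right' hQsp hzN
    have hxD : x ∈ prodCent R :=
      centralizer_le_prodCent R (centralizer_le (by exact_mod_cast hRQ) hx)
    have hXD : zpowers x ⊔ Qs ≤ prodCent R := sup_le (by rw [zpowers_le]; exact hxD) hQsD
    have hcard := hsyl.card_le hQsD hXD hXp
    have hle : Qs ≤ zpowers x ⊔ Qs := le_sup_right
    have heq : Qs = zpowers x ⊔ Qs := by
      apply SetLike.coe_injective
      apply Set.eq_of_subset_of_ncard_le hle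
      · rw [← Nat.card_coe_set_eq, ← Nat.card_coe_set_eq]
        exact hcard
    rw [heq]
    exact (le_sup_left : zpowers x ≤ zpowers x ⊔ Qs) (mem_zpowers x)
  · intro n hn
    have hL : cj Qs n ≤ prodCent R := by
      rintro _ ⟨y, hy, rfl⟩
      exact conj_mem_prodCent hn (hQsD hy)
    obtain ⟨d, hdD, hd⟩ := hsyl.exists_conj_le hL (isPGroup_cj hQsp n)
    obtain ⟨r, hr, hc⟩ := hdD
    have hdn : d * n ∈ normalizer (Qs : Set G) := by
      apply mem_normalizer_of_conj_le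
      intro y hy
      have h1 := hd (n * y * n⁻¹) (conj_mem_cj hy)
      have h2 : d * n * y * (d * n)⁻¹ = d * (n * y * n⁻¹) * d⁻¹ := by group
      rw [h2]; exact h1
    refine ⟨r⁻¹ * d, hc, ?_⟩
    have hrN : r⁻¹ ∈ normalizer (Qs : Set G) := inv_mem (le_normalizer (hRQ hr))
    have h3 : r⁻¹ * d * n = r⁻¹ * (d * n) := by group
    rw [h3]
    exact Subgroup.mul_mem _ hrN hdn

end Cfsg.Agent.Lib.helper17.QF5
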