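import Mathlib
import Cfsg.Agent.Lib.helper17.QF3
import Cfsg.Agent.Lib.helper17.QF5
import Cfsg.Agent.Lib.Helper1.QdAction
import Cfsg.Agent.Lib.Helper1.GNPC2.TJA
import Cfsg.Agent.Lib.Helper27.SubFSTransport
import Cfsg.Agent.S5091
import Cfsg.Agent.S5103
import Cfsg.Prelude.Def_FusionReduction

set_option autoImplicit false

/-! The fusion system of a finite group on a Sylow `p`-subgroup is `Qd(p)`-free iff the group is
(`p` odd). -/

namespace Cfsg.Agent.Lib.helper17.QF6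

open Cfsg Cfsg.FusionSystem Cfsg.Agent.Lib.Helper26 Subgroup Cfsg.Agent.Lib.helper17.QF4
  Cfsg.Agent.Lib.helper17.QF5

universe u

variable {G : Type u} [Group G]

/-- if `G` does not involve `X`, the fusion system of `G` is `X`-free -/
theorem sectionFree_of_not_involves [Finite G] {p : ℕ} [Fact p.Prime] (P : Sylow p G)
    (X : Type*) [Group X] (hfree : ¬ Cfsg.Involves X G) :
    (groupFusionSystem (P : Subgroup G)).IsSectionFree p X := by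
  intro Q hQfn hQc N hN L _ ι hL hinv
  have hNeq : N = normalizerSystem (groupFusionSystem (P : Subgroup G)) Q hQfn.1 :=
    Cfsg.Agent.Lib.Helper27.fusionSystem_ext (fun A => hN A)
  subst hNeq
  obtain ⟨O, hOn, hmodel, -, -⟩ := QF3.exists_std_model P hQfn hQc
  have hTp : IsPGroup p ↥(normalizerIn (P : Subgroup G) Q) :=
    P.isPGroup'.to_le (normalizerIn_le _ _)
  have hfinT : Finite ↥(normalizerIn (P : Subgroup G) Q) := inferInstance
  have hcon := Cfsg.Agent.S5103.result p hTp _ _ hmodel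
  obtain ⟨φ, -⟩ := Cfsg.Agent.S5091.result p hTp _ hcon ι _ hL hmodel
  have h1 : Cfsg.Involves X (↥(normalizer (Q : Set G)) ⧸ O) :=
    Cfsg.Agent.Lib.Helper1.GNPC2.involves_of_injective φ.toMonoidHom φ.injective hinv
  have h2 : Cfsg.Involves X ↥(normalizer (Q : Set G)) :=
    Cfsg.Agent.Lib.Helper1.GNPC2.involves_of_quotient' O h1
  have h3 : Cfsg.Involves X G :=
    Cfsg.Agent.Lib.Helper1.GNPC2.involves_of_injective (normalizer (Q : Set G)).subtype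
      (subtype_injective _) h2
  exact hfree h3

/-- the fibre product of `N` and `H₁` over their actions on `R` -/
def fiber (N H₁ R : Subgroup G) (hH : H₁ ≤ normalizer (R : Set G)) : Subgroup (↥N × ↥H₁) where
  carrier := {x | (x.1 : G)⁻¹ * (x.2 : G) ∈ centralizer (R : Set G)}
  one_mem' := by
    show ((1 : ↥N × ↥H₁).1 : G)⁻¹ * ((1 : ↥N × ↥H₁).2 : G) ∈ centralizer (R : Set G)
    simp
  mul_mem' := by
    rintro ⟨m₁, h₁⟩ ⟨m₂, h₂⟩ hx hy
    show ((m₁ * m₂ : ↥N) : G)⁻¹ * ((h₁ * h₂ : ↥H₁) : G) ∈ centralizer (R : Set G)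
    have hx' : (m₁ : G)⁻¹ * (h₁ : G) ∈ centralizer (R : Set G) := hx
    have hy' : (m₂ : G)⁻¹ * (h₂ : G) ∈ centralizer (R : Set G) := hy
    have hn : (h₂ : G) ∈ normalizer (R : Set G) := hH h₂.2
    have h1 : (h₂ : G)⁻¹ * ((m₁ : G)⁻¹ * (h₁ : G)) * (h₂ : G) ∈ centralizer (R : Set G) := by
      rw [mem_centralizer_iff] at hx' ⊢
      intro t ht
      have ht' : (h₂ : G) * t * (h₂ : G)⁻¹ ∈ R := (mem_normalizer_iff.mp hn t).mp ht
      have h2 := hx' _ ht'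
      calc t * ((h₂ : G)⁻¹ * ((m₁ : G)⁻¹ * (h₁ : G)) * (h₂ : G))
          = (h₂ : G)⁻¹ * (((h₂ : G) * t * (h₂ : G)⁻¹) * ((m₁ : G)⁻¹ * (h₁ : G))) * (h₂ : G) := by
            group
        _ = (h₂ : G)⁻¹ * (((m₁ : G)⁻¹ * (h₁ : G)) * ((h₂ : G) * t * (h₂ : G)⁻¹)) * (h₂ : G) := by
            rw [h2]
        _ = (h₂ : G)⁻¹ * ((m₁ : G)⁻¹ * (h₁ : G)) * (h₂ : G) * t := by group
    have h3 : ((m₁ * m₂ : ↥N) : G)⁻¹ * ((h₁ * h₂ : ↥H₁) : G) =
        ((m₂ : G)⁻¹ * (h₂ : G)) * ((h₂ : G)⁻¹ * ((m₁ : G)⁻¹ * (h₁ : G)) * (h₂ : G)) := by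
      show ((m₁ : G) * (m₂ : G))⁻¹ * ((h₁ : G) * (h₂ : G)) = _
      group
    rw [h3]
    exact Subgroup.mul_mem _ hy' h1
  inv_mem' := by
    rintro ⟨m, h⟩ hx
    show ((m⁻¹ : ↥N) : G)⁻¹ * ((h⁻¹ : ↥H₁) : G) ∈ centralizer (R : Set G)
    have hx' : (m : G)⁻¹ * (h : G) ∈ centralizer (R : Set G) := hx
    have hn : (h : G) ∈ normalizer (R : Set G) := hH h.2
    have hxi := Subgroup.inv_mem _ hx'
    have h1 : (h : G) * ((m : G)⁻¹ * (h : G))⁻¹ * (h : G)⁻¹ ∈ centralizer (R : Set G) := by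
      rw [mem_centralizer_iff] at hxi ⊢
      intro t ht
      have ht' : (h : G)⁻¹ * t * (h : G) ∈ R := by
        have := (mem_normalizer_iff.mp (inv_mem hn) t).mp ht
        simpa using this
      have h2 := hxi _ ht'
      calc t * ((h : G) * ((m : G)⁻¹ * (h : G))⁻¹ * (h : G)⁻¹)
          = (h : G) * (((h : G)⁻¹ * t * (h : G)) * ((m : G)⁻¹ * (h : G))⁻¹) * (h : G)⁻¹ := by group
        _ = (h : G) * (((m : G)⁻¹ * (h : G))⁻¹ * ((h : G)⁻¹ * t * (h : G))) * (h : G)⁻¹ := by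
            rw [h2]
        _ = (h : G) * ((m : G)⁻¹ * (h : G))⁻¹ * (h : G)⁻¹ * t := by group
    have h3 : ((m⁻¹ : ↥N) : G)⁻¹ * ((h⁻¹ : ↥H₁) : G) =
        (h : G) * ((m : G)⁻¹ * (h : G))⁻¹ * (h : G)⁻¹ := by
      show ((m : G)⁻¹)⁻¹ * (h : G)⁻¹ = _
      group
    rw [h3]
    exact h1

theorem mem_fiber {N H₁ R : Subgroup G} {hH : H₁ ≤ normalizer (R : Set G)} {x : ↥N × ↥H₁} :
    x ∈ fiber N H₁ R hH ↔ (x.1 : G)⁻¹ * (x.2 : G) ∈ centralizer (R : Set G) := Iff.rfl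

/-- the model `N_G(Q)/O` involves `Qd(p)` when a subgroup of `N_G(R)` covered by `N_G(Q)` acts
on a quotient of `R ≤ Q` as `SL₂(p)` on its natural module -/
theorem involves_quotient [Finite G] {p : ℕ} [Fact p.Prime] (hp : p ≠ 2) {R H₁ Q : Subgroup G}
    (hdata : QdData p R H₁) (hRQ : R ≤ Q)
    (hfrat : ∀ n ∈ normalizer (R : Set G), ∃ c ∈ centralizer (R : Set G),
      c * n ∈ normalizer (Q : Set G))
    (O : Subgroup ↥(normalizer (Q : Set G))) [O.Normal] (hOcop : (Nat.card O).Coprime p) :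
    Cfsg.Involves ↥(Cfsg.qd p) (↥(normalizer (Q : Set G)) ⧸ O) := by
  obtain ⟨hRp, hHN, ρ, ψ, hρ, hψ, heq⟩ := hdata
  have hRN : R ≤ normalizer (Q : Set G) := hRQ.trans le_normalizer
  obtain ⟨j, hjdef⟩ : ∃ j : ↥R →* ↥(normalizer (Q : Set G)) ⧸ O,
      j = (QuotientGroup.mk' O).comp (Subgroup.inclusion hRN) := ⟨_, rfl⟩
  have hj : Function.Injective j := by
    rw [injective_iff_map_eq_one]
    intro u hu
    rw [hjdef] at hu
    have h1 : Subgroup.inclusion hRN u ∈ O := by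
      rw [← QuotientGroup.eq_one_iff]
      exact hu
    obtain ⟨k, hk⟩ := hRp u
    have h2 : (Subgroup.inclusion hRN u) ^ (p ^ k) = 1 := by
      rw [← map_pow, hk, map_one]
    have h3 := QF3.eq_one_of_mem_of_pow hOcop h1 h2
    exact (Subgroup.inclusion_injective hRN) (h3.trans (map_one _).symm)
  obtain ⟨Hs, hHsdef⟩ : ∃ Hs : Subgroup (↥(normalizer (Q : Set G)) × ↥H₁),
      Hs = fiber (normalizer (Q : Set G)) H₁ R hHN := ⟨_, rfl⟩
  have hmemHs : ∀ x : ↥(normalizer (Q : Set G)) × ↥H₁, x ∈ Hs ↔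
      (x.1 : G)⁻¹ * (x.2 : G) ∈ centralizer (R : Set G) := fun x => by rw [hHsdef]; exact mem_fiber
  obtain ⟨ιH, hιHdef⟩ : ∃ ιH : ↥Hs →* ↥(normalizer (Q : Set G)) ⧸ O,
      ιH = (QuotientGroup.mk' O).comp ((MonoidHom.fst _ _).comp Hs.subtype) := ⟨_, rfl⟩
  obtain ⟨ρH, hρHdef⟩ : ∃ ρH : ↥Hs →* Matrix.SpecialLinearGroup (Fin 2) (ZMod p),
      ρH = ρ.comp ((MonoidHom.snd _ _).comp Hs.subtype) := ⟨_, rfl⟩
  have hρH : Function.Surjective ρH := by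
    intro A
    obtain ⟨h, hh⟩ := hρ A
    have hn : (h : G) ∈ normalizer (R : Set G) := hHN h.2
    obtain ⟨c, hc, hcn⟩ := hfrat _ hn
    have hmem : ((⟨c * (h : G), hcn⟩, h) : ↥(normalizer (Q : Set G)) × ↥H₁) ∈ Hs := by
      rw [hmemHs]
      show (c * (h : G))⁻¹ * (h : G) ∈ centralizer (R : Set G)
      have hci := Subgroup.inv_mem _ hc
      rw [mem_centralizer_iff] at hci ⊢
      intro t ht
      have ht' : (h : G) * t * (h : G)⁻¹ ∈ R := (mem_normalizer_iff.mp hn t).mp ht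
      have h2 := hci _ ht'
      calc t * ((c * (h : G))⁻¹ * (h : G))
          = (h : G)⁻¹ * (((h : G) * t * (h : G)⁻¹) * c⁻¹) * (h : G) := by group
        _ = (h : G)⁻¹ * (c⁻¹ * ((h : G) * t * (h : G)⁻¹)) * (h : G) := by rw [h2]
        _ = (c * (h : G))⁻¹ * (h : G) * t := by group
    refine ⟨⟨_, hmem⟩, ?_⟩
    rw [hρHdef]
    exact hh
  obtain ⟨φ, hφdef⟩ : ∃ φ : ↥Hs →* MulAut ↥R,
      φ = (Subgroup.normalizerMonoidHom R).comp
        ((Subgroup.inclusion hHN).comp ((MonoidHom.snd _ _).comp Hs.subtype)) := ⟨_, rfl⟩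
  have hφcoe : ∀ (x : ↥Hs) (u : ↥R), ((φ x u : ↥R) : G) = (x.1.2 : G) * u * (x.1.2 : G)⁻¹ := by
    intro x u
    rw [hφdef]
    rfl
  have hφ : ∀ (x : ↥Hs) (u : ↥R), j (φ x u) = ιH x * j u * (ιH x)⁻¹ := by
    intro x u
    rw [hjdef, hιHdef]
    show QuotientGroup.mk' O (Subgroup.inclusion hRN (φ x u)) =
      QuotientGroup.mk' O x.1.1 * QuotientGroup.mk' O (Subgroup.inclusion hRN u) *
        (QuotientGroup.mk' O x.1.1)⁻¹
    rw [← map_inv, ← map_mul, ← map_mul]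
    congr 1
    apply Subtype.ext
    show ((φ x u : ↥R) : G) = (x.1.1 : G) * u * (x.1.1 : G)⁻¹
    rw [hφcoe]
    have hc : (x.1.1 : G)⁻¹ * (x.1.2 : G) ∈ centralizer (R : Set G) := (hmemHs x.1).mp x.2
    have h2 := mem_centralizer_iff.mp hc u u.2
    calc (x.1.2 : G) * u * (x.1.2 : G)⁻¹
        = (x.1.1 : G) * (((x.1.1 : G)⁻¹ * (x.1.2 : G)) * u) * (x.1.2 : G)⁻¹ := by group
      _ = (x.1.1 : G) * (u * ((x.1.1 : G)⁻¹ * (x.1.2 : G))) * (x.1.2 : G)⁻¹ := by rw [h2]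
      _ = (x.1.1 : G) * u * (x.1.1 : G)⁻¹ := by group
  have heq' : ∀ (x : ↥Hs) (u : ↥R), ψ (φ x u) = Multiplicative.ofAdd
      (((ρH x : Matrix.SpecialLinearGroup (Fin 2) (ZMod p)) :
        Matrix (Fin 2) (Fin 2) (ZMod p)).mulVec (Multiplicative.toAdd (ψ u))) := by
    intro x u
    have hmem : (x.1.2 : G) * u * (x.1.2 : G)⁻¹ ∈ R := by
      rw [← hφcoe]; exact (φ x u).2
    have h1 : φ x u = ⟨(x.1.2 : G) * u * (x.1.2 : G)⁻¹, hmem⟩ := Subtype.ext (hφcoe x u)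
    rw [h1, heq x.1.2 u hmem, hρHdef]
    rfl
  exact Cfsg.Agent.Lib.Helper1.QdAction.involves_qd_of_action hp hRp j hj ιH ρH hρH φ hφ ψ hψ heq'

/-- if `G` involves `Qd(p)`, `p` odd, the fusion system of `G` is not `Qd(p)`-free -/
theorem not_sectionFree_of_involves [Finite G] {p : ℕ} [Fact p.Prime] (hp : p ≠ 2) (P : Sylow p G)
    (hinv : Cfsg.Involves ↥(Cfsg.qd p) G) :
    ¬ (groupFusionSystem (P : Subgroup G)).IsSectionFree p ↥(Cfsg.qd p) := by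
  intro hfree
  obtain ⟨R₀, H₀, hdata₀⟩ := exists_qdData hinv
  obtain ⟨Qs, hRQ₀, hQsp, hcen₀, hfrat₀⟩ := exists_centric_over R₀ hdata₀.1
  obtain ⟨g₁, hg₁⟩ := exists_conj_le_sylow P hQsp
  obtain ⟨g₂, hg₂P, hg₂syl⟩ := (Cfsg.Agent.S5122.result p P).1 (cj Qs g₁) hg₁
  obtain ⟨g, hgdef⟩ : ∃ g : G, g = g₂ * g₁ := ⟨_, rfl⟩
  have hQeq : cj (cj Qs g₁) g₂ = cj Qs g := by rw [hgdef]; exact cj_cj Qs g₁ g₂
  have hQeq' : (cj Qs g₁).map (MulAut.conj g₂).toMonoidHom = cj Qs g := hQeq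
  rw [hQeq'] at hg₂P hg₂syl
  obtain ⟨Q, hQdef⟩ : ∃ Q : Subgroup G, Q = cj Qs g := ⟨_, rfl⟩
  rw [← hQdef] at hg₂P hg₂syl
  have hQfn : (groupFusionSystem (P : Subgroup G)).IsFullyNormalized Q :=
    (Cfsg.Agent.S5100.result p P Q hg₂P).mpr hg₂syl
  have hdata := QdData.conj hdata₀ g
  have hRQ : cj R₀ g ≤ Q := hQdef ▸ cj_mono hRQ₀ g
  have hcen : ∀ x ∈ centralizer (Q : Set G), (∃ k : ℕ, x ^ (p ^ k) = 1) → x ∈ Q := by
    intro x hx hk
    rw [hQdef] at hx ⊢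
    obtain ⟨k, hk⟩ := hk
    rw [mem_cj_iff]
    apply hcen₀ _ (mem_centralizer_cj_iff.mp hx)
    refine ⟨k, ?_⟩
    have : (g⁻¹ * x * g) ^ (p ^ k) = g⁻¹ * x ^ (p ^ k) * g := by
      have := conj_pow (a := g⁻¹) (b := x) (i := p ^ k)
      simpa using this
    rw [this, hk]; group
  have hfrat : ∀ n ∈ normalizer ((cj R₀ g : Subgroup G) : Set G),
      ∃ c ∈ centralizer ((cj R₀ g : Subgroup G) : Set G), c * n ∈ normalizer (Q : Set G) := by
    intro n hn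
    obtain ⟨c₀, hc₀, hcn⟩ := hfrat₀ _ (mem_normalizer_cj_iff.mp hn)
    refine ⟨g * c₀ * g⁻¹, ?_, ?_⟩
    · rw [mem_centralizer_cj_iff]
      have : g⁻¹ * (g * c₀ * g⁻¹) * g = c₀ := by group
      rw [this]; exact hc₀
    · rw [hQdef, mem_normalizer_cj_iff]
      have : g⁻¹ * (g * c₀ * g⁻¹ * n) * g = c₀ * (g⁻¹ * n * g) := by group
      rw [this]; exact hcn
  have hQc : (groupFusionSystem (P : Subgroup G)).IsCentric Q := by
    refine ⟨hg₂P, fun Q₂ hconj => ?_⟩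
    obtain ⟨-, hQ₂P, g', rfl⟩ := groupFS_isConj_iff.mp hconj
    rintro x ⟨hxP, hxC⟩
    rw [mem_cj_iff]
    apply hcen _ (mem_centralizer_cj_iff.mp hxC)
    obtain ⟨k, hk⟩ := P.isPGroup' ⟨x, hxP⟩
    have hk' : x ^ (p ^ k) = 1 := congrArg (fun y : ↥(P : Subgroup G) => (y : G)) hk
    refine ⟨k, ?_⟩
    have : (g'⁻¹ * x * g') ^ (p ^ k) = g'⁻¹ * x ^ (p ^ k) * g' := by
      have := conj_pow (a := g'⁻¹) (b := x) (i := p ^ k)
      simpa using this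
    rw [this, hk']; group
  obtain ⟨O, hOn, hmodel, hOcop, -⟩ := QF3.exists_std_model P hQfn hQc
  haveI := hOn
  have hinvL := involves_quotient hp hdata hRQ hfrat O hOcop
  exact hfree Q hQfn hQc _ (normalizerSystem_isNormalizerSystem _ Q hQfn.1) _ _ hmodel hinvL

end Cfsg.Agent.Lib.helper17.QF6
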