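import Mathlib
import Cfsg.Prelude.Def_LocalStructure
import Cfsg.Agent.Lib.Helper10.Quasi
import Cfsg.Agent.Lib.helper17.WCProd

set_option autoImplicit false
set_option linter.unusedSectionVars false
set_option linter.unusedVariables false

open scoped commutatorElement

namespace Cfsg.Agent.Lib.helper17

variable {X : Type*} [Group X]

theorem isPerfect_quotient (hperf : Group.IsPerfect X) (P : Subgroup X) [P.Normal] :
    Group.IsPerfect (X ⧸ P) :=
  Group.IsPerfect.ofSurjective (f := QuotientGroup.mk' P) (QuotientGroup.mk'_surjective P)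

theorem top_eq_commutator_top (hperf : Group.IsPerfect X) : (⊤ : Subgroup X) = ⁅(⊤ : Subgroup X), ⊤⁆ := by
  have := hperf.commutator_eq_top
  rw [commutator_def] at this
  exact this.symm

/-- If `X` is perfect, `X / R` quasisimple, `[R, X] ≤ P` with `P` a normal `p`-subgroup, then
`X / P` is quasisimple. -/
theorem isQuasisimple_quotient_of_central_mod [Finite X] {p : ℕ} [Fact p.Prime]
    (hperf : Group.IsPerfect X) (R P : Subgroup X) [hR : R.Normal] [hP : P.Normal]
    (hq : Cfsg.IsQuasisimple (X ⧸ R)) (hc : ⁅R, (⊤ : Subgroup X)⁆ ≤ P) (hPp : IsPGroup p P) :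
    Cfsg.IsQuasisimple (X ⧸ P) := by
  have htt := top_eq_commutator_top hperf
  have hnt : Nontrivial (X ⧸ P) := by
    by_contra hn
    rw [not_nontrivial_iff_subsingleton] at hn
    have htop : P = ⊤ := QuotientGroup.subgroup_eq_top_of_subsingleton _ hn
    have hXp : IsPGroup p X := by
      intro x
      obtain ⟨k, hk⟩ := hPp ⟨x, by rw [htop]; trivial⟩
      exact ⟨k, by simpa using congrArg Subtype.val hk⟩
    have hnil : Group.IsNilpotent X := hXp.isNilpotent
    have hsol : Group.IsSolvable X := inferInstance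
    have hsolq : Group.IsSolvable (X ⧸ R) := inferInstance
    exact Cfsg.Agent.Lib.Helper10.isQuasisimple_not_isSolvable hq hsolq
  apply Cfsg.Agent.Lib.Helper10.isQuasisimple_of_forall_normal (isPerfect_quotient hperf P)
  intro Hbar hHbar
  have hHn : (Hbar.comap (QuotientGroup.mk' P)).Normal := hHbar.comap _
  have hmc := Subgroup.map_comap_eq_self_of_surjective (QuotientGroup.mk'_surjective P) Hbar
  have hPH : P ≤ Hbar.comap (QuotientGroup.mk' P) := by
    intro x hx
    rw [Subgroup.mem_comap, QuotientGroup.mk'_apply, (QuotientGroup.eq_one_iff x).mpr hx]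
    exact Subgroup.one_mem _
  set H := Hbar.comap (QuotientGroup.mk' P) with hH
  have hHRn : (H.map (QuotientGroup.mk' R)).Normal := hHn.map _ (QuotientGroup.mk'_surjective R)
  rcases Cfsg.Agent.Lib.Helper9.quasisimple_normal_top_or_central hq _ hHRn with h | h
  · -- `H R = X`
    left
    have h1 : H ⊔ R = ⊤ := by
      have := Subgroup.comap_map_eq (QuotientGroup.mk' R) H
      rw [h, Subgroup.comap_top, QuotientGroup.ker_mk'] at this
      exact this.symm
    have h2 : ⁅H ⊔ R, (⊤ : Subgroup X)⁆ ≤ H := by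
      apply commutator_sup_le'
      · rw [Subgroup.normalizer_eq_top_iff.mpr hHn]; exact le_top
      · exact Subgroup.commutator_le_left H ⊤
      · exact hc.trans hPH
    rw [h1, ← htt] at h2
    have h3 : H = ⊤ := top_le_iff.mp h2
    rw [← hmc, h3, ← MonoidHom.range_eq_map]
    exact MonoidHom.range_eq_top_of_surjective _ (QuotientGroup.mk'_surjective _)
  · -- `[H, X] ≤ R`
    right
    have h1 : ⁅H, (⊤ : Subgroup X)⁆ ≤ R := by
      have h2 : ⁅H.map (QuotientGroup.mk' R), (⊤ : Subgroup (X ⧸ R))⁆ = ⊥ := by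
        rw [Subgroup.commutator_eq_bot_iff_le_centralizer, Subgroup.coe_top, Subgroup.centralizer_univ]
        exact h
      have h3 : (⊤ : Subgroup (X ⧸ R)) = (⊤ : Subgroup X).map (QuotientGroup.mk' R) := by
        rw [← MonoidHom.range_eq_map]
        exact (MonoidHom.range_eq_top_of_surjective _ (QuotientGroup.mk'_surjective _)).symm
      rw [h3, ← Subgroup.map_commutator, Subgroup.map_eq_bot_iff, QuotientGroup.ker_mk'] at h2
      exact h2
    have h4 : ⁅⁅H, (⊤ : Subgroup X)⁆, (⊤ : Subgroup X)⁆ ≤ P :=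
      (Subgroup.commutator_mono h1 le_rfl).trans hc
    have h5 : ⁅⁅(⊤ : Subgroup X), H⁆, (⊤ : Subgroup X)⁆ ≤ P := by
      rw [Subgroup.commutator_comm ⊤ H]; exact h4
    have h6 : ⁅⁅(⊤ : Subgroup X), ⊤⁆, H⁆ ≤ P := three_subgroups_normal' _ _ _ _ h5 h4
    rw [← htt] at h6
    have h7 : ⁅Hbar, (⊤ : Subgroup (X ⧸ P))⁆ = ⊥ := by
      have h3 : (⊤ : Subgroup (X ⧸ P)) = (⊤ : Subgroup X).map (QuotientGroup.mk' P) := by
        rw [← MonoidHom.range_eq_map]
        exact (MonoidHom.range_eq_top_of_surjective _ (QuotientGroup.mk'_surjective _)).symm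
      rw [← hmc, h3, ← Subgroup.map_commutator, Subgroup.map_eq_bot_iff, QuotientGroup.ker_mk',
        Subgroup.commutator_comm]
      exact h6
    rw [Subgroup.commutator_eq_bot_iff_le_centralizer, Subgroup.coe_top, Subgroup.centralizer_univ] at h7
    exact h7

end Cfsg.Agent.Lib.helper17
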