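import Mathlib
import Cfsg.Prelude.Def_LocalStructure
import Cfsg.Agent.Lib.helper17.QBar

set_option autoImplicit false
set_option linter.unusedSectionVars false
set_option linter.unusedVariables false

open scoped commutatorElement

namespace Cfsg.Agent.Lib.helper17

variable {G : Type*} [Group G]

/-- The weak closure of `Q` in `E` as a join of `E`-conjugates. -/
def wclE (Q E : Subgroup G) : Subgroup G := ⨆ k : ↥E, cj (k : G) Q

/-- The `G`-level setting of the quasisimple-quotient lemma. -/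
structure QSetting (p : ℕ) (Q E C : Subgroup G) : Prop where
  wc : WCStrong p Q
  pgrp : IsPGroup p Q
  le : Q ≤ E
  nC : E ≤ Subgroup.normalizer (C : Set G)
  notC : ¬ Q ≤ C
  comm : ⁅wclE Q E, C⁆ ≤ Cfsg.pCoreOf p (wclE Q E)
  qi : ∀ Y : Subgroup G, Y ≤ E → IsPGroup p Y → ¬ Y ≤ C →
    opOf p E ⊔ (E ⊓ C) ≤ ⁅opOf p E ⊔ (E ⊓ C), Y⁆ ⊔ (E ⊓ C)
  qii : opOf p E ⊔ (E ⊓ C) ≤ ⁅opOf p E ⊔ (E ⊓ C), opOf p E ⊔ (E ⊓ C)⁆ ⊔ (E ⊓ C)

namespace QSetting

variable {p : ℕ} [hp : Fact p.Prime] [Finite G] {Q E C : Subgroup G}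

theorem Q_le_Eo (s : QSetting p Q E C) : Q ≤ wclE Q E := le_iSup_cj E Q

omit hp [Finite G] in
theorem cj_le_wclE {Q E : Subgroup G} {x : G} (hx : x ∈ E) : cj x Q ≤ wclE Q E := by
  unfold wclE
  exact le_iSup (fun k : ↥E => cj (k : G) Q) ⟨x, hx⟩

theorem Eo_le (s : QSetting p Q E C) : wclE Q E ≤ E :=
  iSup_le fun k => cj_le_of_mem s.le k.2

theorem nEo (s : QSetting p Q E C) : E ≤ Subgroup.normalizer ((wclE Q E : Subgroup G) : Set G) := by
  have h := iSup_cj_normal (K := E) (Q := Q) s.le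
  exact (Subgroup.normal_subgroupOf_iff_le_normalizer s.Eo_le).mp h

theorem nEr (s : QSetting p Q E C) :
    E ≤ Subgroup.normalizer ((opOf p (wclE Q E) : Subgroup G) : Set G) :=
  s.nEo.trans (normalizer_le_normalizer_opOf p _)

theorem Er_le_Eo (s : QSetting p Q E C) : opOf p (wclE Q E) ≤ wclE Q E := opOf_le p _

theorem Er_le (s : QSetting p Q E C) : opOf p (wclE Q E) ≤ E := s.Er_le_Eo.trans s.Eo_le

theorem Eo_eq (s : QSetting p Q E C) : wclE Q E = opOf p (wclE Q E) ⊔ Q :=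
  s.wc.eq_opOf_sup s.pgrp s.Q_le_Eo (fun k : ↥E => (k : G)) rfl

theorem Er_comm_Q (s : QSetting p Q E C) : ⁅opOf p (wclE Q E), Q⁆ = opOf p (wclE Q E) :=
  s.wc.opOf_eq_commutator s.pgrp s.Q_le_Eo (fun k : ↥E => (k : G)) rfl

theorem nP (s : QSetting p Q E C) :
    E ≤ Subgroup.normalizer ((Cfsg.pCoreOf p (wclE Q E) : Subgroup G) : Set G) :=
  s.nEo.trans (normalizer_le_normalizer_pCoreOf p _)

theorem P_le (s : QSetting p Q E C) : Cfsg.pCoreOf p (wclE Q E) ≤ E :=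
  (pCoreOf_le p _).trans s.Eo_le

theorem nCE (s : QSetting p Q E C) :
    E ≤ Subgroup.normalizer ((E ⊓ C : Subgroup G) : Set G) :=
  le_normalizer_inf' Subgroup.le_normalizer s.nC

theorem K0_le (s : QSetting p Q E C) : opOf p E ⊔ (E ⊓ C) ≤ E := sup_le (opOf_le p E) inf_le_left

theorem comm_CE_Eo (s : QSetting p Q E C) : ⁅E ⊓ C, wclE Q E⁆ ≤ Cfsg.pCoreOf p (wclE Q E) := by
  rw [Subgroup.commutator_comm]
  exact (Subgroup.commutator_mono le_rfl inf_le_right).trans s.comm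

/-- (a) `O^p(E) C_E = E_∘ C_E`. -/
theorem K0_eq (s : QSetting p Q E C) :
    opOf p E ⊔ (E ⊓ C) = opOf p (wclE Q E) ⊔ (E ⊓ C) := by
  apply le_antisymm
  · -- `K₀ ≤ E° C_E`
    have h1 : ⁅opOf p E ⊔ (E ⊓ C), Q⁆ ≤ wclE Q E := by
      rw [Subgroup.commutator_le]
      intro x hx q hq
      have hxq : x * q * x⁻¹ ∈ wclE Q E := cj_le_wclE (s.K0_le hx) (conj_mem_cj hq)
      rw [commutatorElement_def]
      exact Subgroup.mul_mem _ hxq (Subgroup.inv_mem _ (s.Q_le_Eo hq))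
    have h2 : opOf p E ⊔ (E ⊓ C) ≤ (opOf p (wclE Q E) ⊔ (E ⊓ C)) ⊔ Q := by
      refine (s.qi Q s.le s.pgrp s.notC).trans ?_
      apply sup_le
      · refine h1.trans ((le_of_eq s.Eo_eq).trans ?_)
        exact sup_le (le_sup_left.trans le_sup_left) le_sup_right
      · exact le_sup_right.trans le_sup_left
    have hN1 : opOf p (wclE Q E) ⊔ (E ⊓ C) ≤ opOf p E ⊔ (E ⊓ C) :=
      sup_le_sup_right (opOf_mono s.Eo_le) _
    have h3 : opOf p ((opOf p E ⊔ (E ⊓ C)) ⊔ Q) ≤ opOf p (wclE Q E) ⊔ (E ⊓ C) := by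
      apply opOf_le_of_le_sup (hN1.trans le_sup_left) ?_ s.pgrp le_sup_right
        (sup_le h2 le_sup_right)
      exact (sup_le s.K0_le s.le).trans (le_normalizer_sup s.nEr s.nCE)
    apply sup_le _ le_sup_right
    calc opOf p E = opOf p (opOf p E) := (opOf_opOf p E).symm
      _ ≤ opOf p ((opOf p E ⊔ (E ⊓ C)) ⊔ Q) := opOf_mono (le_sup_left.trans le_sup_left)
      _ ≤ _ := h3
  · exact sup_le_sup_right (opOf_mono s.Eo_le) _

theorem nErEr (s : QSetting p Q E C) : E ≤ Subgroup.normalizer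
    ((⁅opOf p (wclE Q E), opOf p (wclE Q E)⁆ : Subgroup G) : Set G) :=
  le_normalizer_commutator s.nEr s.nEr

/-- (b) `E_∘` is perfect. -/
theorem Er_perfect (s : QSetting p Q E C) :
    ⁅opOf p (wclE Q E), opOf p (wclE Q E)⁆ = opOf p (wclE Q E) := by
  apply le_antisymm (Subgroup.commutator_le_self _)
  have hCE_Er : ⁅E ⊓ C, opOf p (wclE Q E)⁆ ≤ E ⊓ C :=
    Subgroup.le_normalizer_iff_commutator_le_left.mp (s.Er_le.trans s.nCE)
  -- `[K₀, K₀] ≤ [Er, Er] C_E`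
  have hW : E ≤ Subgroup.normalizer
      ((⁅opOf p (wclE Q E), opOf p (wclE Q E)⁆ ⊔ (E ⊓ C) : Subgroup G) : Set G) :=
    le_normalizer_sup s.nErEr s.nCE
  have hK0 : opOf p (wclE Q E) ⊔ (E ⊓ C) ≤ E := sup_le s.Er_le inf_le_left
  have h1 : ⁅opOf p (wclE Q E) ⊔ (E ⊓ C), opOf p (wclE Q E)⁆ ≤
      ⁅opOf p (wclE Q E), opOf p (wclE Q E)⁆ ⊔ (E ⊓ C) :=
    commutator_sup_le' (hK0.trans hW) le_sup_left (hCE_Er.trans le_sup_right)
  have h2 : ⁅opOf p (wclE Q E) ⊔ (E ⊓ C), opOf p (wclE Q E) ⊔ (E ⊓ C)⁆ ≤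
      ⁅opOf p (wclE Q E), opOf p (wclE Q E)⁆ ⊔ (E ⊓ C) := by
    rw [Subgroup.commutator_comm]
    apply commutator_sup_le' (hK0.trans hW)
    · rw [Subgroup.commutator_comm]; exact h1
    · exact (Subgroup.le_normalizer_iff_commutator_le_left.mp (hK0.trans s.nCE)).trans le_sup_right
  have h3 : opOf p (wclE Q E) ≤ ⁅opOf p (wclE Q E), opOf p (wclE Q E)⁆ ⊔ (E ⊓ C) := by
    have := s.qii
    rw [s.K0_eq] at this
    exact le_sup_left.trans (this.trans (sup_le h2 le_sup_right))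
  -- now commutate with `Q`
  have hT : E ≤ Subgroup.normalizer
      ((⁅opOf p (wclE Q E), opOf p (wclE Q E)⁆ ⊔ Cfsg.pCoreOf p (wclE Q E) : Subgroup G) : Set G) :=
    le_normalizer_sup s.nErEr s.nP
  have hErEr_le : ⁅opOf p (wclE Q E), opOf p (wclE Q E)⁆ ≤ E :=
    (Subgroup.commutator_le_self _).trans s.Er_le
  have h4 : ⁅⁅opOf p (wclE Q E), opOf p (wclE Q E)⁆ ⊔ (E ⊓ C), Q⁆ ≤
      ⁅opOf p (wclE Q E), opOf p (wclE Q E)⁆ ⊔ Cfsg.pCoreOf p (wclE Q E) := by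
    apply commutator_sup_le' ((sup_le hErEr_le inf_le_left).trans hT)
    · exact (Subgroup.le_normalizer_iff_commutator_le_left.mp (s.le.trans s.nErEr)).trans le_sup_left
    · exact ((Subgroup.commutator_mono le_rfl s.Q_le_Eo).trans s.comm_CE_Eo).trans le_sup_right
  have h5 : opOf p (wclE Q E) ≤
      ⁅opOf p (wclE Q E), opOf p (wclE Q E)⁆ ⊔ Cfsg.pCoreOf p (wclE Q E) := by
    conv_lhs => rw [← s.Er_comm_Q]
    exact (Subgroup.commutator_mono h3 le_rfl).trans h4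
  calc opOf p (wclE Q E) = opOf p (opOf p (wclE Q E)) := (opOf_opOf p _).symm
    _ ≤ opOf p (⁅opOf p (wclE Q E), opOf p (wclE Q E)⁆ ⊔ Cfsg.pCoreOf p (wclE Q E)) := opOf_mono h5
    _ ≤ _ := by
      apply opOf_le_of_le_sup le_sup_left ?_ (pCoreOf_isPGroup p _) le_sup_right le_rfl
      exact (sup_le hErEr_le s.P_le).trans s.nErEr

/-- (e) `[C_{E_∘}(U), E_∘] ≤ O_p(E_∘)`. -/
theorem comm_R_Er (s : QSetting p Q E C) :
    ⁅opOf p (wclE Q E) ⊓ C, opOf p (wclE Q E)⁆ ≤ Cfsg.pCoreOf p (opOf p (wclE Q E)) := by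
  have h1 : ⁅opOf p (wclE Q E) ⊓ C, opOf p (wclE Q E)⁆ ≤ Cfsg.pCoreOf p (wclE Q E) :=
    (Subgroup.commutator_mono (le_inf (inf_le_left.trans s.Er_le) inf_le_right) s.Er_le_Eo).trans
      s.comm_CE_Eo
  have h2 : ⁅opOf p (wclE Q E) ⊓ C, opOf p (wclE Q E)⁆ ≤ opOf p (wclE Q E) :=
    (Subgroup.commutator_mono inf_le_left le_rfl).trans (Subgroup.commutator_le_self _)
  refine (le_inf h1 h2).trans ?_
  apply le_pCoreOf inf_le_right ((pCoreOf_isPGroup p _).to_le inf_le_left)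
  exact le_normalizer_inf' (s.Er_le.trans s.nP) Subgroup.le_normalizer

/-- (d) `E_∘ = [E_∘, Y]`. -/
theorem Er_comm_Y (s : QSetting p Q E C) {Y : Subgroup G} (hYE : Y ≤ E) (hYp : IsPGroup p Y)
    (hYC : ¬ Y ≤ C) : ⁅opOf p (wclE Q E), Y⁆ = opOf p (wclE Q E) := by
  have hV : ⁅opOf p (wclE Q E), Y⁆ ≤ opOf p (wclE Q E) :=
    Subgroup.le_normalizer_iff_commutator_le_left.mp (hYE.trans s.nEr)
  apply le_antisymm hV
  -- `[K₀, Y] ≤ [Er, Y] C_E`
  have h1 : ⁅opOf p (wclE Q E) ⊔ (E ⊓ C), Y⁆ ≤ ⁅opOf p (wclE Q E), Y⁆ ⊔ (E ⊓ C) := by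
    rw [Subgroup.commutator_le]
    intro x hx y hy
    obtain ⟨e, he, c, hc, rfl⟩ := exists_mul_of_mem_sup_right
      ((inf_le_left : E ⊓ C ≤ E).trans s.nEr) hx
    rw [commutatorElement_mul_left]
    apply Subgroup.mul_mem
    · apply le_sup_right (a := ⁅opOf p (wclE Q E), Y⁆)
      have hcy : ⁅c, y⁆ ∈ E ⊓ C := by
        have := Subgroup.le_normalizer_iff_commutator_le_left.mp (hYE.trans s.nCE)
        exact this (Subgroup.commutator_mem_commutator hc hy)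
      exact (Subgroup.mem_normalizer_iff.mp (s.nCE (s.Er_le he)) _).mp hcy
    · exact le_sup_left (a := ⁅opOf p (wclE Q E), Y⁆)
        (Subgroup.commutator_mem_commutator he hy)
  have h2 : opOf p (wclE Q E) ≤ ⁅opOf p (wclE Q E), Y⁆ ⊔ (E ⊓ C) := by
    have := s.qi Y hYE hYp hYC
    rw [s.K0_eq] at this
    exact le_sup_left.trans (this.trans (sup_le h1 le_sup_right))
  -- `Er ≤ V R`
  have h3 : opOf p (wclE Q E) ≤ ⁅opOf p (wclE Q E), Y⁆ ⊔ (opOf p (wclE Q E) ⊓ C) := by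
    intro e he
    obtain ⟨c, hc, v, hv, rfl⟩ := exists_mul_of_mem_sup_right
      (((Subgroup.commutator_le_self _).trans s.Er_le |> fun _ => (hV.trans s.Er_le).trans s.nCE))
      (show e ∈ (E ⊓ C) ⊔ ⁅opOf p (wclE Q E), Y⁆ by rw [sup_comm]; exact h2 he)
    have hcEr : c ∈ opOf p (wclE Q E) := by
      have := Subgroup.mul_mem _ he (Subgroup.inv_mem _ (hV hv))
      simpa using this
    rw [sup_comm]
    exact Subgroup.mul_mem_sup (Subgroup.mem_inf.mpr ⟨hcEr, (Subgroup.mem_inf.mp hc).2⟩) hv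
  -- `[Er, Er] ≤ V P₁`
  have hVn : opOf p (wclE Q E) ≤ Subgroup.normalizer
      ((⁅opOf p (wclE Q E), Y⁆ : Subgroup G) : Set G) :=
    Subgroup.normalizer_commutator_ge_left _ _
  have hPn : opOf p (wclE Q E) ≤ Subgroup.normalizer
      ((Cfsg.pCoreOf p (opOf p (wclE Q E)) : Subgroup G) : Set G) := le_normalizer_pCoreOf p _
  have hT : opOf p (wclE Q E) ≤ Subgroup.normalizer
      ((⁅opOf p (wclE Q E), Y⁆ ⊔ Cfsg.pCoreOf p (opOf p (wclE Q E)) : Subgroup G) : Set G) :=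
    le_normalizer_sup hVn hPn
  have h4 : ⁅⁅opOf p (wclE Q E), Y⁆ ⊔ (opOf p (wclE Q E) ⊓ C), opOf p (wclE Q E)⁆ ≤
      ⁅opOf p (wclE Q E), Y⁆ ⊔ Cfsg.pCoreOf p (opOf p (wclE Q E)) := by
    apply commutator_sup_le' ((sup_le hV inf_le_left).trans hT)
    · exact (Subgroup.le_normalizer_iff_commutator_le_left.mp hVn).trans le_sup_left
    · exact s.comm_R_Er.trans le_sup_right
  have h5 : opOf p (wclE Q E) ≤
      ⁅opOf p (wclE Q E), Y⁆ ⊔ Cfsg.pCoreOf p (opOf p (wclE Q E)) := by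
    conv_lhs => rw [← s.Er_perfect]
    exact (Subgroup.commutator_mono h3 le_rfl).trans h4
  calc opOf p (wclE Q E) = opOf p (opOf p (wclE Q E)) := (opOf_opOf p _).symm
    _ ≤ opOf p (⁅opOf p (wclE Q E), Y⁆ ⊔ Cfsg.pCoreOf p (opOf p (wclE Q E))) := opOf_mono h5
    _ ≤ _ := by
      apply opOf_le_of_le_sup le_sup_left ?_ (pCoreOf_isPGroup p _) le_sup_right le_rfl
      exact (sup_le hV (pCoreOf_le p _)).trans hVn

end QSetting

end Cfsg.Agent.Lib.helper17
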