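import Mathlib

set_option autoImplicit false

namespace Cfsg.Agent.Lib.helper17.QdAlt

open Equiv

/-- all `p`-subgroups are commutative -/
def PAb (p : ℕ) (G : Type*) [Group G] : Prop :=
  ∀ Q : Subgroup G, IsPGroup p Q → ∀ x ∈ Q, ∀ y ∈ Q, x * y = y * x

theorem not_sq_dvd_factorial (p : ℕ) [hp : Fact p.Prime] : ¬ p ^ 2 ∣ p.factorial := by
  intro h
  have hpos : 0 < p := hp.out.pos
  obtain ⟨k, rfl⟩ : ∃ k, p = k + 1 := ⟨p - 1, by omega⟩
  rw [Nat.factorial_succ, sq] at h
  have h2 : (k + 1) ∣ k.factorial := Nat.dvd_of_mul_dvd_mul_left (by omega) h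
  have := (hp.out.dvd_factorial).mp h2
  omega

theorem pab_perm (p : ℕ) [hp : Fact p.Prime] (n : ℕ) (hn : n < p ^ 2) : PAb p (Perm (Fin n)) := by
  intro Q hQ x hx y hy
  apply Equiv.ext
  intro ω
  -- the orbit of ω
  have hcard : ∃ k, Nat.card (MulAction.orbit Q ω) = p ^ k := hQ.card_orbit ω
  obtain ⟨k, hk⟩ := hcard
  have hle : Nat.card (MulAction.orbit Q ω) ≤ n := by
    have := Nat.card_le_card_of_injective (Subtype.val : MulAction.orbit Q ω → Fin n)
      Subtype.val_injective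
    simpa using this
  have hk1 : k ≤ 1 := by
    by_contra hcon
    push Not at hcon
    have : p ^ 2 ≤ p ^ k := Nat.pow_le_pow_right hp.out.pos hcon
    omega
  let φ : Q →* Perm (MulAction.orbit Q ω) := MulAction.toPermHom Q (MulAction.orbit Q ω)
  have hR : IsPGroup p φ.range := hQ.of_surjective φ.rangeRestrict φ.rangeRestrict_surjective
  obtain ⟨j, hj⟩ := IsPGroup.exists_card_eq hR
  have hdvd : Nat.card φ.range ∣ (Nat.card (MulAction.orbit Q ω)).factorial := by
    have h1 := Subgroup.card_subgroup_dvd_card φ.range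
    rwa [Nat.card_perm] at h1
  have hj1 : j ≤ 1 := by
    rw [hj, hk] at hdvd
    by_contra hcon
    push Not at hcon
    have h2 : p ^ 2 ∣ (p ^ k).factorial := dvd_trans (pow_dvd_pow p hcon) hdvd
    interval_cases k
    · simp at h2
      have := hp.out.one_lt
      omega
    · rw [pow_one] at h2
      exact not_sq_dvd_factorial p h2
  have hcomm : ∀ a b : φ.range, a * b = b * a := by
    interval_cases j
    · rw [pow_zero] at hj
      have : Subsingleton φ.range := (Nat.card_eq_one_iff_unique.mp hj).1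
      intro a b
      exact Subsingleton.elim _ _
    · rw [pow_one] at hj
      have : IsCyclic φ.range := isCyclic_of_prime_card hj
      intro a b
      exact IsCyclic.commGroup.mul_comm a b
  have h3 := hcomm ⟨φ ⟨x, hx⟩, ⟨_, rfl⟩⟩ ⟨φ ⟨y, hy⟩, ⟨_, rfl⟩⟩
  have h4 : φ ⟨x, hx⟩ * φ ⟨y, hy⟩ = φ ⟨y, hy⟩ * φ ⟨x, hx⟩ := congrArg Subtype.val h3
  have h5 := congrArg (fun σ : Perm (MulAction.orbit Q ω) =>
    ((σ ⟨ω, MulAction.mem_orbit_self ω⟩ : MulAction.orbit Q ω) : Fin n)) h4
  exact h5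

end Cfsg.Agent.Lib.helper17.QdAlt

namespace Cfsg.Agent.Lib.helper17.QdAlt

theorem pab_of_injective {p : ℕ} {H G : Type*} [Group H] [Group G] (f : H →* G)
    (hf : Function.Injective f) (hG : PAb p G) : PAb p H := by
  intro Q hQ x hx y hy
  apply hf
  rw [map_mul, map_mul]
  exact hG (Q.map f) (hQ.map f) (f x) (Subgroup.mem_map_of_mem f hx) (f y)
    (Subgroup.mem_map_of_mem f hy)

theorem pab_quotient {p : ℕ} [Fact p.Prime] {G : Type*} [Group G] [Finite G] (N : Subgroup G)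
    [N.Normal] (hG : PAb p G) : PAb p (G ⧸ N) := by
  intro S hS x hx y hy
  let π : S.comap (QuotientGroup.mk' N) →* S := (QuotientGroup.mk' N).subgroupComap S
  have hπ : Function.Surjective π :=
    MonoidHom.subgroupComap_surjective_of_surjective _ _ (QuotientGroup.mk'_surjective N)
  obtain ⟨Q⟩ : Nonempty (Sylow p (S.comap (QuotientGroup.mk' N))) := inferInstance
  have hStop : IsPGroup p (⊤ : Subgroup S) := by
    intro z
    obtain ⟨k, hk⟩ := hS z.1
    exact ⟨k, Subtype.ext hk⟩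
  have htop : (⊤ : Subgroup S) = Q.map π := (Q.mapSurjective hπ).is_maximal' hStop le_top
  have hex : ∀ z ∈ S, ∃ q : G, q ∈ (Q : Subgroup _).map (S.comap (QuotientGroup.mk' N)).subtype ∧
      (q : G ⧸ N) = z := by
    intro z hz
    have hmem : (⟨z, hz⟩ : S) ∈ Q.map π := by rw [← htop]; exact Subgroup.mem_top _
    obtain ⟨q, hq, hqz⟩ := hmem
    refine ⟨q.1, ⟨q, hq, rfl⟩, ?_⟩
    exact congrArg Subtype.val hqz
  obtain ⟨a, ha, rfl⟩ := hex x hx
  obtain ⟨b, hb, rfl⟩ := hex y hy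
  have := hG _ (Q.isPGroup'.map (S.comap (QuotientGroup.mk' N)).subtype) a ha b hb
  rw [← QuotientGroup.mk_mul, ← QuotientGroup.mk_mul, this]

end Cfsg.Agent.Lib.helper17.QdAlt
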