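import Mathlib
import Cfsg.Agent.Lib.helper17.QdAlt1
import Cfsg.Agent.Lib.helper17.QdChar3
import Cfsg.Agent.Lib.Lead.SLn

set_option autoImplicit false

namespace Cfsg.Agent.Lib.helper17.QdAlt

open Matrix Cfsg.Agent.Lib.helper15.Qd Cfsg.Agent.Lib.helper15.NatMod Cfsg.Agent.Lib.helper17
open Cfsg.Agent.Lib.helper17.QdChar

variable {p : ℕ} [Fact p.Prime]

theorem isPGroup_S0 : IsPGroup p ↥(S0 (ZMod p)) := by
  have hU : IsPGroup p ↥(Uu : Subgroup (SpecialLinearGroup (Fin 2) (ZMod p))) := by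
    apply IsPGroup.of_card (n := 1)
    rw [card_Uu, ZMod.card, pow_one]
  exact hU.comap_of_ker_isPGroup (blk (ZMod p)) (isPGroup_ker (p := p))

theorem not_pab_qd : ¬ PAb p ↥(Cfsg.qdOver (ZMod p)) := by
  intro h
  have h1 := h (S0 (ZMod p)) isPGroup_S0 (hs 1 0 0 : ↥(S0 (ZMod p))).1 (hs 1 0 0).2
    (hs 0 1 0 : ↥(S0 (ZMod p))).1 (hs 0 1 0).2
  have h2 : (hs 1 0 0 : ↥(S0 (ZMod p))) * hs 0 1 0 = hs 0 1 0 * hs 1 0 0 := Subtype.ext h1
  rw [hs_mul, hs_mul] at h2
  have := (hs_injective h2).2.2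
  simp at this

theorem not_involves (n : ℕ) (hn : n < p ^ 2) :
    ¬ Cfsg.Involves ↥(Cfsg.qd p) ↥(alternatingGroup (Fin n)) := by
  rintro ⟨K, R, hnorm, ⟨e⟩⟩
  have h0 : PAb p (Equiv.Perm (Fin n)) := pab_perm p n hn
  have h1 : PAb p ↥(alternatingGroup (Fin n)) :=
    pab_of_injective (alternatingGroup (Fin n)).subtype Subtype.val_injective h0
  have h2 : PAb p ↥K := pab_of_injective K.subtype Subtype.val_injective h1
  have h3 : PAb p (↥K ⧸ R.subgroupOf K) := pab_quotient _ h2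
  have h4 : PAb p ↥(Cfsg.qd p) := pab_of_injective e.symm.toMonoidHom e.symm.injective h3
  exact not_pab_qd h4

end Cfsg.Agent.Lib.helper17.QdAlt

namespace Cfsg.Agent.Lib.helper17.QdAlt

open Cfsg.Agent.Lib.helper15.Qd Cfsg.Agent.Lib.helper15.NatMod Cfsg.Agent.Lib.helper17
open Cfsg.Agent.Lib.helper17.QdChar

section act
variable {F : Type*} [Field F]

theorem vec_one : vec (1 : ↥(Cfsg.qdOver F)) = 0 := by
  rw [← mk_one_zero, vec_mk]

theorem vec_mul (M N : ↥(Cfsg.qdOver F)) :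
    vec (M * N) = ((blk F M : Matrix.SpecialLinearGroup (Fin 2) F) : Matrix (Fin 2) (Fin 2) F).mulVec (vec N) + vec M := by
  have := mk_mul (blk F M) (blk F N) (vec M) (vec N)
  rw [mk_blk_vec, mk_blk_vec] at this
  rw [this, vec_mk]

/-- the affine action of `Qd` on `F²` -/
@[reducible] def qdAct : MulAction ↥(Cfsg.qdOver F) (Fin 2 → F) where
  smul M x := ((blk F M : Matrix.SpecialLinearGroup (Fin 2) F) : Matrix (Fin 2) (Fin 2) F).mulVec x + vec M
  one_smul x := by
    show ((blk F 1 : Matrix.SpecialLinearGroup (Fin 2) F) : Matrix (Fin 2) (Fin 2) F).mulVec x + vec 1 = x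
    rw [map_one, vec_one, add_zero]
    exact one_mulVec' x
  mul_smul M N x := by
    show ((blk F (M * N) : Matrix.SpecialLinearGroup (Fin 2) F) : Matrix (Fin 2) (Fin 2) F).mulVec x + vec (M * N) =
      ((blk F M : Matrix.SpecialLinearGroup (Fin 2) F) : Matrix (Fin 2) (Fin 2) F).mulVec
        (((blk F N : Matrix.SpecialLinearGroup (Fin 2) F) : Matrix (Fin 2) (Fin 2) F).mulVec x + vec N) + vec M
    rw [map_mul, vec_mul, Matrix.SpecialLinearGroup.coe_mul, Matrix.mulVec_add, Matrix.mulVec_mulVec]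
    abel

/-- the permutation representation -/
def qdPerm : ↥(Cfsg.qdOver F) →* Equiv.Perm (Fin 2 → F) :=
  @MulAction.toPermHom _ _ _ qdAct

theorem qdPerm_apply (M : ↥(Cfsg.qdOver F)) (x : Fin 2 → F) :
    qdPerm M x = ((blk F M : Matrix.SpecialLinearGroup (Fin 2) F) : Matrix (Fin 2) (Fin 2) F).mulVec x + vec M := rfl

theorem qdPerm_injective : Function.Injective (qdPerm (F := F)) := by
  rw [injective_iff_map_eq_one]
  intro M hM
  have h0 : vec M = 0 := by
    have := congrArg (fun σ : Equiv.Perm (Fin 2 → F) => σ 0) hM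
    simp only [qdPerm_apply, Matrix.mulVec_zero, zero_add, Equiv.Perm.coe_one, id] at this
    exact this
  have h1 : ((blk F M : Matrix.SpecialLinearGroup (Fin 2) F) : Matrix (Fin 2) (Fin 2) F) = 1 := by
    rw [Matrix.ext_iff_mulVec]
    intro x
    have := congrArg (fun σ : Equiv.Perm (Fin 2 → F) => σ x) hM
    simp only [qdPerm_apply, h0, add_zero, Equiv.Perm.coe_one, id] at this
    rw [this, Matrix.one_mulVec]
  have h2 : blk F M = 1 := Subtype.ext h1
  rw [← mk_blk_vec M, h2, h0, mk_one_zero]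

end act

end Cfsg.Agent.Lib.helper17.QdAlt
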