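import Mathlib
import Cfsg.Agent.Lib.helper17.QdAlt2

set_option autoImplicit false

namespace Cfsg.Agent.Lib.helper17.QdAlt

open Cfsg.Agent.Lib.helper15.Qd Cfsg.Agent.Lib.helper15.NatMod Cfsg.Agent.Lib.helper17
open Cfsg.Agent.Lib.helper17.QdChar

theorem hom_units_of_odd_pow {G : Type*} [Group G] (ψ : G →* ℤˣ) (x : G) (k : ℕ) (hk : Odd k)
    (hx : x ^ k = 1) : ψ x = 1 := by
  rcases Int.units_eq_one_or (ψ x) with h | h
  · exact h
  · have h1 : (ψ x) ^ k = 1 := by rw [← map_pow, hx, map_one]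
    rw [h, hk.neg_one_pow] at h1
    exact absurd h1 (by decide)

theorem matrix_transvection_pow {F : Type*} [Field F] (i j : Fin 2) (hij : i ≠ j) (c : F) (k : ℕ) :
    Matrix.transvection i j c ^ k = Matrix.transvection i j ((k : F) * c) := by
  induction k with
  | zero => simp [Matrix.transvection_zero]
  | succ k ih =>
    rw [pow_succ, ih, Matrix.transvection_mul_transvection_same i j hij]
    congr 1
    push_cast
    ring

theorem sl_transvection_pow {p : ℕ} [Fact p.Prime] {F : Type*} [Field F] [CharP F p]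
    {i j : Fin 2} (hij : i ≠ j) (c : F) :
    (Matrix.SpecialLinearGroup.transvection hij c) ^ p = 1 := by
  apply Subtype.ext
  rw [Matrix.SpecialLinearGroup.coe_pow]
  show Matrix.transvection i j c ^ p = 1
  rw [matrix_transvection_pow i j hij, CharP.cast_eq_zero, zero_mul, Matrix.transvection_zero]

variable {p : ℕ} [Fact p.Prime]

theorem hom_units_trivial (hp : p ≠ 2) (ψ : ↥(Cfsg.qdOver (ZMod p)) →* ℤˣ)
    (M : ↥(Cfsg.qdOver (ZMod p))) : ψ M = 1 := by
  have hodd : Odd p := (Fact.out : p.Prime).odd_of_ne_two hp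
  have hM : M = mk 1 (vec M) * emb (blk (ZMod p) M) := by
    rw [emb_apply, mk_mul, one_mul]
    conv_lhs => rw [← mk_blk_vec M]
    congr 1
    rw [Matrix.mulVec_zero, zero_add]
  have h1 : ψ (mk 1 (vec M)) = 1 := by
    obtain ⟨k, hk⟩ := (isPGroup_ker (p := p) (F := ZMod p)) ⟨mk 1 (vec M), mk_one_mem_ker _⟩
    have hk' : (mk 1 (vec M) : ↥(Cfsg.qdOver (ZMod p))) ^ (p ^ k) = 1 := congrArg Subtype.val hk
    exact hom_units_of_odd_pow ψ _ (p ^ k) hodd.pow hk'
  have h2 : ∀ A : Matrix.SpecialLinearGroup (Fin 2) (ZMod p), ψ (emb A) = 1 := by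
    intro A
    refine Cfsg.Agent.Lib.Lead.SL_transvection_induction (fun A => ψ (emb A) = 1) ?_ ?_ A
    · intro i j hij c
      apply hom_units_of_odd_pow ψ _ p hodd
      rw [← map_pow, sl_transvection_pow hij c, map_one]
    · intro A B hA hB
      show ψ (emb (A * B)) = 1
      rw [map_mul, map_mul, hA, hB, one_mul]
  rw [hM, map_mul, h1, h2, one_mul]

theorem exists_sub (hp : p ≠ 2) (n : ℕ) (hn : p ^ 2 ≤ n) :
    ∃ H : Subgroup (alternatingGroup (Fin n)), Nonempty (↥H ≃* ↥(Cfsg.qd p)) := by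
  have hcard : Fintype.card (Fin 2 → ZMod p) ≤ Fintype.card (Fin n) := by
    rw [Fintype.card_fun, ZMod.card, Fintype.card_fin, Fintype.card_fin]
    exact hn
  obtain ⟨ι⟩ := Function.Embedding.nonempty_of_card_le hcard
  let Φ : ↥(Cfsg.qdOver (ZMod p)) →* Equiv.Perm (Fin n) :=
    (Equiv.Perm.viaEmbeddingHom ι).comp qdPerm
  have hΦ : Function.Injective Φ :=
    (Equiv.Perm.viaEmbeddingHom_injective ι).comp qdPerm_injective
  have hsign : ∀ M, Φ M ∈ alternatingGroup (Fin n) := by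
    intro M
    rw [Equiv.Perm.mem_alternatingGroup]
    exact hom_units_trivial hp (Equiv.Perm.sign.comp Φ) M
  let Φ' : ↥(Cfsg.qdOver (ZMod p)) →* ↥(alternatingGroup (Fin n)) :=
    Φ.codRestrict (alternatingGroup (Fin n)) hsign
  have hΦ' : Function.Injective Φ' := by
    intro M N h
    apply hΦ
    exact congrArg Subtype.val h
  exact ⟨Φ'.range, ⟨(MonoidHom.ofInjective hΦ').symm⟩⟩

theorem main (hp : p ≠ 2) (n : ℕ) :
    ((∃ H : Subgroup (alternatingGroup (Fin n)), Nonempty (↥H ≃* ↥(Cfsg.qd p))) ↔ p ^ 2 ≤ n) ∧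
      (n < p ^ 2 → ¬ Cfsg.Involves ↥(Cfsg.qd p) ↥(alternatingGroup (Fin n))) := by
  refine ⟨⟨?_, exists_sub hp n⟩, not_involves n⟩
  rintro ⟨H, ⟨e⟩⟩
  by_contra hlt
  push Not at hlt
  apply not_involves n hlt
  have hn : ((⊥ : Subgroup ↥(alternatingGroup (Fin n))).subgroupOf H).Normal := by
    rw [Subgroup.bot_subgroupOf]
    infer_instance
  refine ⟨H, ⊥, hn, ⟨?_⟩⟩
  have e1 : ↥H ⧸ (⊥ : Subgroup ↥(alternatingGroup (Fin n))).subgroupOf H ≃* ↥H ⧸ (⊥ : Subgroup ↥H) :=
    QuotientGroup.quotientMulEquivOfEq (Subgroup.bot_subgroupOf H)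
  exact e1.trans (QuotientGroup.quotientBot.trans e)

end Cfsg.Agent.Lib.helper17.QdAlt
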