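import Mathlib
import Cfsg.Agent.Lib.helper8.RSM.Defs
import Cfsg.Agent.Lib.Helper5.StemQ

/-!
# Project RSM, row E8 (core): `proj` is invariant under conjugation with lifts of `U`, on the
statements of the rows C3 (`x_comm_U2`), E4 (`proj_mul`) and E7 (`E_kill`).
-/

set_option autoImplicit false

namespace Cfsg.Agent.Lib.helper8.RSM

open Cfsg.Agent.Lib.Helper5.Stem
open scoped commutatorElement

universe u v w

variable {G : Type u} [Group G] {K : Type v} [Field K] [Fintype K] {m : ℕ}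
variable {Γ : Type w} [Group Γ] {σ : Γ →* G}

/-- E8 core, on the statements of C3, E4, E7. -/
theorem rsme8_core (RU : ReeU G K m) (H0 : Γ)
    (hC3 : ∀ t u v u' v' : K, ⁅RU.x t u v, RU.x 0 u' v'⁆ = RU.x 0 0 (t * u'))
    (hE4 : ∀ w w' : Γ, RU.InU2 (σ w) → RU.InU2 (σ w') →
      proj H0 m (w * w') = proj H0 m w * proj H0 m w')
    (hE7 : ∀ g w : Γ, RU.InU (σ g) → RU.InU2 (σ w) → proj H0 m ⁅g, w⁆ = 1)
    (g w : Γ) (hg : RU.InU (σ g)) (hw : RU.InU2 (σ w)) :
    proj H0 m (g * w * g⁻¹) = proj H0 m w := by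
  have e : g * w * g⁻¹ = ⁅g, w⁆ * w := by rw [commutatorElement_def]; group
  have hc2 : RU.InU2 (σ ⁅g, w⁆) := by
    obtain ⟨t, u, v, hgx⟩ := hg
    obtain ⟨a, b, hwx⟩ := hw
    exact ⟨0, t * a, by rw [map_commutatorElement, hgx, hwx, hC3]⟩
  rw [e, hE4 _ _ hc2 hw, hE7 g w hg hw, one_mul]

end Cfsg.Agent.Lib.helper8.RSM
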