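import Mathlib
import Cfsg.Agent.Lib.helper8.RSM.Defs
import Cfsg.Agent.Lib.Helper5.StemQ
import Cfsg.Agent.Lib.helper4.RSMC1
import Cfsg.Agent.Lib.helper2.RSMC7
import Cfsg.Agent.Lib.Helper20.RSMA3
import Cfsg.Agent.Lib.Helper24.RSMA9
import Cfsg.Agent.Lib.Helper22.RSMC234h22
import Cfsg.Agent.Lib.Helper29.RSMD4
import Cfsg.Agent.Lib.helper15.RSME3
import Cfsg.Agent.Lib.helper3.RSME4
import Cfsg.Agent.Lib.helper3.RSME6
import Cfsg.Agent.Lib.Helper18.RSME7core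
import Cfsg.Agent.Lib.helper17.RSMD7
import Cfsg.Agent.Lib.helper17.RSME8core

/-!
# Project RSM, row E8 (`proj_conj_U`), verbatim; on `rsme8_core`, the own-name copy `rsmc3_h22` of
C3 (helper22), E4 `proj_mul` (helper3) and E7 in the form `rsme7_core` (helper18) on the landed rows
A3 A9 C1 C7 D4 D7 E3 E4 E6.
-/

set_option autoImplicit false

namespace Cfsg.Agent.Lib.helper8.RSM

open Cfsg.Agent.Lib.Helper5.Stem
open scoped commutatorElement

universe u v w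

variable {G : Type u} [Group G] {K : Type v} [Field K] [Fintype K] {m : ℕ}
variable {Γ : Type w} [Group Γ] {σ : Γ →* G}

/-- the statement of E7 `E_kill`, from helper18's core and the landed rows -/
theorem rsme8_E_kill (RU : ReeU G K m) (hs : Function.Surjective σ)
    (hcen : σ.ker ≤ Subgroup.center Γ)
    (H0 : Γ) (hH0 : σ H0 = RU.h0) (hpow : H0 ^ (3 ^ (2 * m + 1) - 1) = 1) (g w : Γ)
    (hg : RU.InU (σ g)) (hw : RU.InU2 (σ w)) : proj H0 m ⁅g, w⁆ = 1 :=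
  rsme7_core RU hs hcen H0 hH0 (x_basic RU) (rsmc3_h22 RU) (h0_pow_conj RU)
    (gen_weights RU.hm RU.hK RU.a0 RU.a0_gen).2.2.2.2.1 nrm_mul_pow.2.2.2.1
    (U2_abelian RU hs hcen) (U3_central RU hs hcen) (proj_mem_ker RU H0 hH0)
    (proj_mul RU hs hcen H0 hH0) (proj_conj RU hs hcen H0 hH0 hpow) g w hg hw

/-- E8 [S-M]. `g w g⁻¹ = ⁅g, w⁆ * w`, E4, E7 (C3: `⁅g, w⁆` lies over `U₃`). -/
theorem proj_conj_U (RU : ReeU G K m) (hs : Function.Surjective σ)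
    (hcen : σ.ker ≤ Subgroup.center Γ) (H0 : Γ) (hH0 : σ H0 = RU.h0)
    (hpow : H0 ^ (3 ^ (2 * m + 1) - 1) = 1) (g w : Γ) (hg : RU.InU (σ g))
    (hw : RU.InU2 (σ w)) : proj H0 m (g * w * g⁻¹) = proj H0 m w :=
  rsme8_core RU H0 (rsmc3_h22 RU) (proj_mul RU hs hcen H0 hH0)
    (rsme8_E_kill RU hs hcen H0 hH0 hpow) g w hg hw

end Cfsg.Agent.Lib.helper8.RSM
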