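import Mathlib
import Cfsg.Agent.Lib.helper8.RSM.Defs
import Cfsg.Agent.Lib.Helper5.StemQ

/-!
# Project RSM, row F1 (core): the derived group of the preimage of `U` lies over `U₂` and in the
kernel of `proj`, on the statements of the rows C1 (`x_basic`), C4 (`x_comm_mem_U2`),
C5 (`mem_U_iff`), E4 (`proj_mul`) and E9 (`D_kill`).
-/

set_option autoImplicit false

namespace Cfsg.Agent.Lib.helper8.RSM

open Cfsg.Agent.Lib.Helper5.Stem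
open scoped commutatorElement

universe u v w

variable {G : Type u} [Group G] {K : Type v} [Field K] [Fintype K] {m : ℕ}
variable {Γ : Type w} [Group Γ] {σ : Γ →* G}

/-- F1 core, on the statements of C1, C4, C5, E4, E9. -/
theorem rsmf1_core (RU : ReeU G K m) (H0 : Γ)
    (hC1 : RU.x 0 0 0 = 1 ∧
      (∀ t a b u v : K, RU.x t a b * RU.x 0 u v = RU.x t (a + u) (b + v)) ∧
      (∀ t a b u v : K, RU.x 0 u v * RU.x t a b = RU.x t (a + u) (b + v - t * u)) ∧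
      (∀ t u v : K, RU.x t u v = RU.x t 0 0 * RU.x 0 u v) ∧
      (∀ u v : K, RU.x 0 u v = RU.x 0 u 0 * RU.x 0 0 v) ∧
      (∀ u v u' v' : K, RU.x 0 u v * RU.x 0 u' v' = RU.x 0 u' v' * RU.x 0 u v) ∧
      (∀ t u v c : K, RU.x t u v * RU.x 0 0 c = RU.x 0 0 c * RU.x t u v))
    (hC4 : ∀ g g' : G, RU.InU g → RU.InU g' → RU.InU2 ⁅g, g'⁆ ∧ RU.InU (g * g') ∧ RU.InU g⁻¹)
    (hC5 : ∀ g : G, g ∈ RU.U ↔ RU.InU g)
    (hE4 : ∀ w w' : Γ, RU.InU2 (σ w) → RU.InU2 (σ w') →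
      proj H0 m (w * w') = proj H0 m w * proj H0 m w')
    (hE9 : ∀ g g' : Γ, RU.InU (σ g) → RU.InU (σ g') → proj H0 m ⁅g, g'⁆ = 1) :
    ∀ y ∈ ⁅RU.U.comap σ, RU.U.comap σ⁆, RU.InU2 (σ y) ∧ proj H0 m y = 1 := by
  obtain ⟨hC1a, hC1b, _, _, _, _, _⟩ := hC1
  have h1U2 : RU.InU2 (σ (1 : Γ)) := ⟨0, 0, by rw [map_one, hC1a]⟩
  have hp1 : proj H0 m (1 : Γ) = 1 := by
    have := hE4 1 1 h1U2 h1U2
    rw [mul_one] at this
    exact (mul_eq_left.mp this.symm)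
  intro y hy
  rw [Subgroup.commutator_def] at hy
  induction hy using Subgroup.closure_induction with
  | mem y hy =>
    obtain ⟨g₁, hg₁, g₂, hg₂, rfl⟩ := hy
    have h1 : RU.InU (σ g₁) := (hC5 _).mp (Subgroup.mem_comap.mp hg₁)
    have h2 : RU.InU (σ g₂) := (hC5 _).mp (Subgroup.mem_comap.mp hg₂)
    refine ⟨?_, hE9 g₁ g₂ h1 h2⟩
    rw [map_commutatorElement]
    exact (hC4 _ _ h1 h2).1
  | one => exact ⟨h1U2, hp1⟩
  | mul y z _ _ ihy ihz =>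
    obtain ⟨⟨u, v, hyx⟩, hpy⟩ := ihy
    obtain ⟨⟨u', v', hzx⟩, hpz⟩ := ihz
    refine ⟨⟨u + u', v + v', by rw [map_mul, hyx, hzx, hC1b]⟩, ?_⟩
    rw [hE4 y z ⟨u, v, hyx⟩ ⟨u', v', hzx⟩, hpy, hpz, one_mul]
  | inv y _ ihy =>
    obtain ⟨⟨u, v, hyx⟩, hpy⟩ := ihy
    have hinv : σ y⁻¹ = RU.x 0 (-u) (-v) := by
      rw [map_inv, hyx]
      apply inv_eq_of_mul_eq_one_right
      rw [hC1b, add_neg_cancel, add_neg_cancel, hC1a]
    refine ⟨⟨-u, -v, hinv⟩, ?_⟩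
    have := hE4 y y⁻¹ ⟨u, v, hyx⟩ ⟨-u, -v, hinv⟩
    rw [mul_inv_cancel, hp1, hpy, one_mul] at this
    exact this.symm

end Cfsg.Agent.Lib.helper8.RSM
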