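import Mathlib
import Cfsg.Agent.Lib.helper8.RSM.Defs
import Cfsg.Agent.Lib.Helper5.StemQ
import Cfsg.Agent.Lib.helper4.RSMC1
import Cfsg.Agent.Lib.helper2.RSMC7
import Cfsg.Agent.Lib.Helper11.RSMB1
import Cfsg.Agent.Lib.Helper22.RSMC234h22
import Cfsg.Agent.Lib.Helper28.RSMC5
import Cfsg.Agent.Lib.helper15.RSME3
import Cfsg.Agent.Lib.helper3.RSME4
import Cfsg.Agent.Lib.helper3.RSME6
import Cfsg.Agent.Lib.Helper18.RSME7
import Cfsg.Agent.Lib.Helper18.RSME9core
import Cfsg.Agent.Lib.helper17.RSME8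
import Cfsg.Agent.Lib.helper17.RSMF1core

/-!
# Project RSM, row F1 (`derived_proj`), verbatim; on `rsmf1_core`, C1 (helper4), the own-name copy
`rsmc4_h22` of C4 (helper22), C5 (helper28), E4 (helper3) and E9 in the form `rsme9h18_core`
(helper18) on the landed rows B1 C1 C7 E3 E4 E6 E7 E8.
-/

set_option autoImplicit false

namespace Cfsg.Agent.Lib.helper8.RSM

open Cfsg.Agent.Lib.Helper5.Stem
open scoped commutatorElement

universe u v w

variable {G : Type u} [Group G] {K : Type v} [Field K] [Fintype K] {m : ℕ}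
variable {Γ : Type w} [Group Γ] {σ : Γ →* G}

/-- the statement of E9 `D_kill`, from helper18's core and the landed rows -/
theorem rsmf1_D_kill (RU : ReeU G K m) (hs : Function.Surjective σ)
    (hcen : σ.ker ≤ Subgroup.center Γ)
    (H0 : Γ) (hH0 : σ H0 = RU.h0) (hpow : H0 ^ (3 ^ (2 * m + 1) - 1) = 1) (g g' : Γ)
    (hg : RU.InU (σ g)) (hg' : RU.InU (σ g')) : proj H0 m ⁅g, g'⁆ = 1 :=
  rsme9h18_core RU hs hcen H0 hH0 (x_basic RU) (rsmc4_h22 RU) (h0_pow_conj RU)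
    (proj_mem_ker RU H0 hH0) (proj_mul RU hs hcen H0 hH0) (proj_conj RU hs hcen H0 hH0 hpow)
    (E_kill RU hs hcen H0 hH0 hpow) (proj_conj_U RU hs hcen H0 hH0 hpow)
    (fun B hl hr hinv => conic_kill RU.hm RU.hK B hl hr hinv) g g' hg hg'

/-- F1 [S-M]. `Subgroup.commutator_def`, `Subgroup.closure_induction`: the generators `⁅g, g'⁆` are in
the set by E9 and C4, C5; the set is closed under products (E4) and inverses. -/
theorem derived_proj (RU : ReeU G K m) (hs : Function.Surjective σ)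
    (hcen : σ.ker ≤ Subgroup.center Γ) (H0 : Γ) (hH0 : σ H0 = RU.h0)
    (hpow : H0 ^ (3 ^ (2 * m + 1) - 1) = 1) :
    ∀ y ∈ ⁅RU.U.comap σ, RU.U.comap σ⁆, RU.InU2 (σ y) ∧ proj H0 m y = 1 :=
  rsmf1_core RU H0 (x_basic RU) (rsmc4_h22 RU) (mem_U_iff RU) (proj_mul RU hs hcen H0 hH0)
    (rsmf1_D_kill RU hs hcen H0 hH0 hpow)

end Cfsg.Agent.Lib.helper8.RSM
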