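import Mathlib
import Cfsg.Agent.Lib.helper8.RSM.Defs
import Cfsg.Agent.Lib.Helper5.StemQ

/-!
# Project RSM, row F2 (core): the derived group of the preimage of `U` meets the kernel trivially,
on the statements of the rows E1 (`torus_lift`), E5 (`proj_ker`) and F1 (`derived_proj`).
-/

set_option autoImplicit false

namespace Cfsg.Agent.Lib.helper8.RSM

open Cfsg.Agent.Lib.Helper5.Stem
open scoped commutatorElement

universe u v w

variable {G : Type u} [Group G] {K : Type v} [Field K] [Fintype K] {m : ℕ}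
variable {Γ : Type w} [Group Γ] {σ : Γ →* G}

/-- F2 core, on the statements of E1, E5, F1. -/
theorem rsmf2_core (RU : ReeU G K m)
    (hE1 : ∃ H0 : Γ, σ H0 = RU.h0 ∧ H0 ^ (3 ^ (2 * m + 1) - 1) = 1)
    (hE5 : ∀ (H0 κ : Γ), κ ∈ σ.ker → proj H0 m κ = κ)
    (hF1 : ∀ H0 : Γ, σ H0 = RU.h0 → H0 ^ (3 ^ (2 * m + 1) - 1) = 1 →
      ∀ y ∈ ⁅RU.U.comap σ, RU.U.comap σ⁆, RU.InU2 (σ y) ∧ proj H0 m y = 1) :
    ∀ y ∈ ⁅RU.U.comap σ, RU.U.comap σ⁆, σ y = 1 → y = 1 := by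
  intro y hy hy1
  obtain ⟨H0, hH0, hpow⟩ := hE1
  have h1 := (hF1 H0 hH0 hpow y hy).2
  have h2 := hE5 H0 y (MonoidHom.mem_ker.mpr hy1)
  rw [← h2, h1]

end Cfsg.Agent.Lib.helper8.RSM
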