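import Mathlib
import Cfsg.Agent.Lib.helper8.RSM.Defs
import Cfsg.Agent.Lib.Helper5.StemQ
import Cfsg.Agent.Lib.helper23.RSME1
import Cfsg.Agent.Lib.helper4.RSME5
import Cfsg.Agent.Lib.helper17.RSMF1
import Cfsg.Agent.Lib.helper17.RSMF2core

/-!
# Project RSM, row F2 (`three_part`), verbatim; on `rsmf2_core`, E1 (helper23), E5 (helper4), F1.
-/

set_option autoImplicit false

namespace Cfsg.Agent.Lib.helper8.RSM

open Cfsg.Agent.Lib.Helper5.Stem
open scoped commutatorElement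

universe u v w

variable {G : Type u} [Group G] {K : Type v} [Field K] [Fintype K] {m : ℕ}
variable {Γ : Type w} [Group Γ] {σ : Γ →* G}

/-- F2 [S]. E1, F1, E5. -/
theorem three_part (RU : ReeU G K m) (hs : Function.Surjective σ)
    (hcen : σ.ker ≤ Subgroup.center Γ) (h3 : ∀ κ ∈ σ.ker, κ ^ 3 = 1) :
    ∀ y ∈ ⁅RU.U.comap σ, RU.U.comap σ⁆, σ y = 1 → y = 1 :=
  rsmf2_core RU (torus_lift RU hs h3) (fun H0 κ hκ => proj_ker hcen h3 H0 κ hκ)
    (fun H0 hH0 hpow => derived_proj RU hs hcen H0 hH0 hpow)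

end Cfsg.Agent.Lib.helper8.RSM
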