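import Mathlib
import Cfsg.Agent.Lib.helper3.S5953.Defs
import Cfsg.Agent.Lib.helper8.S5953T3
import Cfsg.Agent.Lib.helper8.S5953A7

set_option autoImplicit false

/-!
# Project S5953, row R7 (`two_nec`): `2 m = n`, `v₂(n) < v₂(q + 1)`: the element `w · diag(-1, 1, …, 1)` of `SU_n(q)`
(`w` of norm one with `w ^ n = -1`) fixes no totally isotropic `m`-space.
-/

namespace Cfsg.Agent.Lib.helper3.S5953

open Polynomial Module

/-- a norm-one `w` with `w ^ n = -1` -/
theorem s5953r7_w {F : Type*} [Field F] [Fintype F] {q : ℕ} (hF : Fintype.card F = q ^ 2)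
    (n : ℕ) (hn : 0 < n) (hval : padicValNat 2 n < padicValNat 2 (q + 1)) :
    ∃ w : F, w ^ (q + 1) = 1 ∧ w ^ n = -1 := by
  obtain ⟨g, hg⟩ := n1_gen hF
  set e := padicValNat 2 n with he
  have hdvd : 2 ^ (e + 1) ∣ q + 1 := (pow_dvd_pow 2 (by omega)).trans pow_padicValNat_dvd
  obtain ⟨k, hk⟩ := hdvd
  have hk0 : k ≠ 0 := by
    rintro rfl
    omega
  have hkdvd : k ∣ orderOf g := by
    rw [hg, hk]
    exact dvd_mul_left k _
  have hord : orderOf (g ^ k) = 2 ^ (e + 1) := by
    rw [orderOf_pow_of_dvd hk0 hkdvd, hg, hk, Nat.mul_div_cancel _ (Nat.pos_of_ne_zero hk0)]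
  have h1 : (g ^ k) ^ (q + 1) = 1 := by
    rw [← pow_mul, mul_comm, pow_mul, ← hg, pow_orderOf_eq_one, one_pow]
  have hsq : (g ^ k) ^ (2 ^ e) * (g ^ k) ^ (2 ^ e) = 1 := by
    rw [← pow_add, ← two_mul, ← pow_succ', ← hord, pow_orderOf_eq_one]
  have hne : (g ^ k) ^ (2 ^ e) ≠ 1 := by
    intro h
    have h3 := orderOf_dvd_of_pow_eq_one h
    rw [hord] at h3
    have h4 := Nat.le_of_dvd (by positivity) h3
    rw [pow_succ] at h4
    have : 0 < 2 ^ e := by positivity
    omega
  have hm1 : (g ^ k) ^ (2 ^ e) = -1 := (mul_self_eq_one_iff.mp hsq).resolve_left hne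
  obtain ⟨n', hn'⟩ : 2 ^ e ∣ n := pow_padicValNat_dvd
  have hodd : Odd n' := by
    rw [← Nat.not_even_iff_odd]
    rintro ⟨t, ht⟩
    have h3 : 2 ^ (e + 1) ∣ n := ⟨t, by rw [hn', ht, pow_succ]; ring⟩
    have h4 := (padicValNat_dvd_iff_le (p := 2) (by omega : n ≠ 0)).mp h3
    omega
  refine ⟨g ^ k, h1, ?_⟩
  rw [hn', pow_mul, hm1, hodd.neg_one_pow]

/-- R7 [M-L] TWONEC. -/
theorem two_nec {F : Type*} [Field F] [Fintype F] {q : ℕ} (hF : Fintype.card F = q ^ 2)
    (h2 : (2 : F) ≠ 0) (n m : ℕ) (hm1 : 1 ≤ m) (hmn : 2 * m = n)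
    (hval : padicValNat 2 n < padicValNat 2 (q + 1)) :
    ∃ x : Matrix.SpecialLinearGroup (Fin n) F, x ∈ Cfsg.SU n F q ∧
      (∃ z : F, ((x ^ 2 : Matrix.SpecialLinearGroup (Fin n) F) : Matrix (Fin n) (Fin n) F) =
        z • (1 : Matrix (Fin n) (Fin n) F)) ∧
      (∀ z : F, (x : Matrix (Fin n) (Fin n) F) ≠ z • (1 : Matrix (Fin n) (Fin n) F)) ∧
      ¬ ∃ W : Submodule F (Fin n → F), Module.finrank F ↥W = m ∧
        (∀ u ∈ W, ∀ v ∈ W, Cfsg.hermForm n F q u v = 0) ∧
        W.map (Matrix.toLin' (x : Matrix (Fin n) (Fin n) F)) ≤ W := by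
  classical
  have hn2 : 2 ≤ n := by omega
  obtain ⟨w, hw1, hwn⟩ := s5953r7_w hF n (by omega) hval
  have hw0 : w ≠ 0 := by
    rintro rfl
    rw [zero_pow (by omega)] at hw1
    exact zero_ne_one hw1
  have hq0 : q ≠ 0 := by
    rintro rfl
    rw [zero_pow (by norm_num)] at hF
    exact Fintype.card_ne_zero hF
  have hqeven : Even (q + 1) := by
    have h3 : 2 ∣ q + 1 := dvd_of_one_le_padicValNat (by omega)
    exact even_iff_two_dvd.mpr h3
  set i0 : Fin n := ⟨0, by omega⟩ with hi0
  set i1 : Fin n := ⟨1, by omega⟩ with hi1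
  have hi01 : i1 ≠ i0 := by
    intro h
    have := congrArg Fin.val h
    simp [hi0, hi1] at this
  set ε : Fin n → F := fun i => if i = i0 then -1 else 1 with hε
  set D : Fin n → F := fun i => w * ε i with hD
  have hεsq : ∀ i, ε i * ε i = 1 := by
    intro i
    simp only [hε]
    split_ifs <;> ring
  have hεq : ∀ i, ε i ^ (q + 1) = 1 := by
    intro i
    simp only [hε]
    split_ifs
    · exact hqeven.neg_one_pow
    · exact one_pow _
  have hDq : ∀ i, D i ^ (q + 1) = 1 := by
    intro i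
    simp only [hD]
    rw [mul_pow, hw1, hεq, one_mul]
  have hdet : (Matrix.diagonal D).det = 1 := by
    rw [Matrix.det_diagonal]
    simp only [hD, Finset.prod_mul_distrib, Finset.prod_const, Finset.card_univ, Fintype.card_fin]
    rw [hwn]
    simp only [hε]
    rw [Finset.prod_ite_eq' Finset.univ i0 (fun _ => (-1 : F))]
    simp
  have hlin : ∀ (u : Fin n → F) (i : Fin n), Matrix.toLin' (Matrix.diagonal D) u i = D i * u i := by
    intro u i
    rw [Matrix.toLin'_apply, Matrix.mulVec_diagonal]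
  have hx : ∃ x : Matrix.SpecialLinearGroup (Fin n) F,
      (x : Matrix (Fin n) (Fin n) F) = Matrix.diagonal D := ⟨⟨Matrix.diagonal D, hdet⟩, rfl⟩
  obtain ⟨x, hxD⟩ := hx
  refine ⟨x, ?_, ⟨w * w, ?_⟩, ?_, ?_⟩
  · apply mem_su_of_pres
    intro u v
    rw [hxD]
    unfold hermI
    refine Finset.sum_congr rfl (fun i _ => ?_)
    rw [hlin, hlin, mul_pow]
    have : D i * u i * (D i ^ q * v i ^ q) = D i ^ (q + 1) * (u i * v i ^ q) := by ring
    rw [this, hDq, one_mul]
  · rw [Matrix.SpecialLinearGroup.coe_pow, hxD]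
    rw [pow_two, Matrix.diagonal_mul_diagonal]
    ext i j
    by_cases hij : i = j
    · subst hij
      rw [Matrix.diagonal_apply_eq, Matrix.smul_apply, Matrix.one_apply_eq, smul_eq_mul, mul_one]
      simp only [hD]
      have := hεsq i
      calc w * ε i * (w * ε i) = w * w * (ε i * ε i) := by ring
        _ = w * w := by rw [this, mul_one]
    · rw [Matrix.diagonal_apply_ne _ hij, Matrix.smul_apply, Matrix.one_apply_ne hij, smul_zero]
  · intro z hz
    have hz' : Matrix.diagonal D = z • (1 : Matrix (Fin n) (Fin n) F) := by rw [← hxD]; exact hz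
    have h0 := congrFun (congrFun hz' i0) i0
    have h1 := congrFun (congrFun hz' i1) i1
    rw [Matrix.diagonal_apply_eq, Matrix.smul_apply, Matrix.one_apply_eq, smul_eq_mul, mul_one] at h0 h1
    have h50 : D i0 = -w := by simp [hD, hε]
    have h51 : D i1 = w := by simp only [hD, hε]; rw [if_neg hi01]; ring
    rw [h50] at h0
    rw [h51] at h1
    have : (2 : F) * w = 0 := by
      have h3 : w = -w := h1.trans h0.symm
      linear_combination h3
    rcases mul_eq_zero.mp this with h | h
    · exact h2 h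
    · exact hw0 h
  · rintro ⟨W, hWm, hWti, hWinv⟩
    rw [hxD] at hWinv
    have hWinv' : ∀ u ∈ W, Matrix.toLin' (Matrix.diagonal D) u ∈ W := fun u hu =>
      hWinv (Submodule.mem_map_of_mem hu)
    -- every vector of `W` has zero first coordinate
    have hzero : ∀ u ∈ W, u i0 = 0 := by
      intro u hu
      set v : Fin n → F := w • u - Matrix.toLin' (Matrix.diagonal D) u with hv
      have hvW : v ∈ W := W.sub_mem (W.smul_mem w hu) (hWinv' u hu)
      have hvi : ∀ i, i ≠ i0 → v i = 0 := by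
        intro i hi
        have h5 : D i = w := by simp only [hD, hε, if_neg hi]; ring
        simp only [hv, Pi.sub_apply, Pi.smul_apply, smul_eq_mul]
        rw [hlin, h5]
        ring
      have hv0 : v i0 = 2 * w * u i0 := by
        have h5 : D i0 = -w := by simp [hD, hε]
        simp only [hv, Pi.sub_apply, Pi.smul_apply, smul_eq_mul]
        rw [hlin, h5]
        ring
      have hvv := hWti v hvW v hvW
      unfold Cfsg.hermForm at hvv
      rw [Finset.sum_eq_single i0 (fun i _ hi => by rw [hvi i hi, zero_mul])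
        (fun h => absurd (Finset.mem_univ i0) h)] at hvv
      have hv00 : v i0 = 0 := by
        rcases mul_eq_zero.mp hvv with h | h
        · exact h
        · exact pow_eq_zero_iff hq0 |>.mp h
      rw [hv0] at hv00
      rcases mul_eq_zero.mp hv00 with h | h
      · rcases mul_eq_zero.mp h with h | h
        · exact absurd h h2
        · exact absurd h hw0
      · exact h
    have hle : W ≤ hperp q W := fun u hu v hv => hWti u hu v hv
    have hdim := s5953t3_abs hF W
    have heq : W = hperp q W := Submodule.eq_of_le_of_finrank_eq hle (by omega)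
    have he0 : (Pi.single i0 1 : Fin n → F) ∈ hperp q W := by
      intro u hu
      unfold hermI
      rw [Finset.sum_eq_single i0 (fun i _ hi => by rw [Pi.single_eq_of_ne hi, zero_mul])
        (fun h => absurd (Finset.mem_univ i0) h)]
      rw [hzero u hu, zero_pow hq0, mul_zero]
    rw [← heq] at he0
    have := hzero _ he0
    rw [Pi.single_eq_same] at this
    exact one_ne_zero this

end Cfsg.Agent.Lib.helper3.S5953
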