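import Mathlib
import Cfsg.Agent.Lib.Helper13.S5955.Defs
import Cfsg.Agent.Lib.helper17.S5955T10core
import Cfsg.Agent.Lib.helper7.S5955T4
import Cfsg.Agent.Lib.helper3.S5955T8

/-!
# Project S5955, row T10 (distinct_bound), VERBATIM (helper17): `s5955t10_core` + T4 `peel_nd` + T8 `cw`.
-/

set_option autoImplicit false

namespace Cfsg.Agent.Lib.Helper13.S5955

open Polynomial Module

/-- T10 [L] DISTINCT: `i` even: a non-degenerate invariant `N ≤ ker Φ_r(x)` without non-zero
t.i. invariant subspaces has dimension at most `r - 1 = deg Φ_r`. -/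
theorem distinct_bound {F : Type*} [Field F] [Fintype F] {p : ℕ} [Fact p.Prime] [CharP F p]
    {V : Type*} [AddCommGroup V] [Module F V] [FiniteDimensional F V]
    {r : ℕ} [Fact r.Prime] (hrp : r ≠ p) {B : LinearMap.BilinForm F V} {x : Module.End F V}
    (h : SCtx r B x) (heven : Even (orderOf ((Fintype.card F : ℕ) : ZMod r)))
    (N : Submodule F V) (hN : SInv x N) (hNc : N ≤ cycS r x) (hNnd : SND B N)
    (hno : ∀ U : Submodule F V, U ≤ N → SInv x U → STI B U → U = ⊥) :
    finrank F N ≤ r - 1 := by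
  have hr : 0 < r := (Fact.out : r.Prime).pos
  exact s5955t10_core hrp h heven
    (fun N U hN hNnd hUN hU hUnd => peel_nd hr h N U hN hNnd hUN hU hUnd)
    (fun M hM f i hdeg hf0 hkill hi hdim => cw hr h M hM f i hdeg hf0 hkill hi hdim)
    N hN hNc hNnd hno

end Cfsg.Agent.Lib.Helper13.S5955
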