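import Mathlib
import Cfsg.Agent.Lib.helper8.SylowBasic
import Cfsg.Agent.Lib.helper8.SimpleEmbed
import Cfsg.Agent.Lib.helper8.SylowConj
import Cfsg.Agent.Lib.helper8.SubgroupCard
import Cfsg.Agent.Lib.helper23.OrdGen2
import Cfsg.Agent.Lib.Helper18.ConjCount
import Cfsg.Agent.Lib.Helper24.BrauerFowler
import Cfsg.Agent.S0985
import Cfsg.Agent.S1010
import Cfsg.Agent.S1019

/-!
# Project S983, row N4200: no simple group of order `4200 = 2^3 3 5^2 7` (helper17)

`n_5 = 56` (`6`: index bound, `21`: S1010).  `56 ≢ 1 (25)`, so two Sylow 5-subgroups `P ≠ R` meet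
nontrivially (S0985); take `1 ≠ x ∈ P ∩ R`.  Sylow 5-subgroups are abelian (order 25), so
`C = C_G(x) ≥ P, R`; `C ≠ G`.  Index bound and Sylow in `C` give `|C| ∈ {150, 300}`, `n_5(C) = 6`;
a group of order 150 has a subgroup of index 2 (order 75) containing all subgroups of order 25,
and a group of order 75 has one Sylow 5-subgroup, so `|C| = 300`, `|cl(x)| = 14`.
S1019 on `G / N(P)`: `fix(x) * 14 = 56 * k`; `fix(x) ≡ 56 ≡ 1 (5)` and `fix(x) ≤ n_5(C) = 6`
(every Sylow 5-subgroup containing `x` lies in `C`): impossible.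
-/

set_option autoImplicit false

namespace Cfsg.Agent.Lib.helper3.S983

open Cfsg.Agent.Lib.helper8 Cfsg.Agent.Lib.helper23

/-- two subgroups of order 25 of a group of order 150 coincide. -/
theorem s983n4200_unique25 {H : Type*} [Group H] [Finite H] (hH : Nat.card H = 150)
    [Fact (Nat.Prime 5)] (T Q : Subgroup H) (hT : Nat.card T = 25) (hQ : Nat.card Q = 25) :
    T = Q := by
  obtain ⟨K, hK⟩ := Cfsg.Agent.Lib.Helper24.bf_two_odd (G := H) 75 (by decide) (by rw [hH])
  have hKcard : Nat.card K = 75 := by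
    have := K.card_mul_index
    rw [hK, hH] at this
    omega
  have hmemK : ∀ u : H, u ^ 25 = 1 → u ∈ K := by
    intro u hu
    have h1 : u ^ 2 ∈ K := Subgroup.sq_mem_of_index_two hK u
    have h2 : (u ^ 2) ^ 13 ∈ K := K.pow_mem h1 13
    have h3 : (u ^ 2) ^ 13 = u := by
      rw [← pow_mul]
      calc u ^ 26 = u ^ 25 * u := by rw [pow_succ]
        _ = u := by rw [hu, one_mul]
    rwa [h3] at h2
  have hpow : ∀ (S : Subgroup H), Nat.card S = 25 → ∀ u ∈ S, u ^ 25 = 1 := by
    intro S hS u hu
    have := pow_card_eq_one' (G := S) (x := ⟨u, hu⟩)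
    rw [hS] at this
    have := congrArg Subtype.val this
    simpa using this
  have hleK : ∀ (S : Subgroup H), Nat.card S = 25 → S ≤ K := fun S hS u hu =>
    hmemK u (hpow S hS u hu)
  have hK' : Nat.card K = 5 ^ 2 * 3 := by rw [hKcard]; norm_num
  have hmem := h8_nsylow_mem (G := K) 5 2 3 hK' (by norm_num)
  have hdiv : (Nat.divisors 3).filter (fun d => d % 5 = 1) = {1} := by decide
  rw [hdiv, Finset.mem_singleton] at hmem
  have : Subsingleton (Sylow 5 K) := (Nat.card_eq_one_iff_unique.mp hmem).1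
  have hfac : (Nat.card K).factorization 5 = 2 :=
    h8_factorization_of_eq 5 2 3 _ (by norm_num) hK' (by norm_num)
  have c1 : Nat.card (T.subgroupOf K) = 5 ^ (Nat.card K).factorization 5 := by
    rw [hfac, h8_card_subgroupOf (hleK T hT), hT]; norm_num
  have c2 : Nat.card (Q.subgroupOf K) = 5 ^ (Nat.card K).factorization 5 := by
    rw [hfac, h8_card_subgroupOf (hleK Q hQ), hQ]; norm_num
  have heq : Sylow.ofCard (T.subgroupOf K) c1 = Sylow.ofCard (Q.subgroupOf K) c2 :=
    Subsingleton.elim _ _
  have heq' : T.subgroupOf K = Q.subgroupOf K := by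
    have := congrArg (fun S : Sylow 5 K => (S : Subgroup K)) heq
    simpa using this
  have := congrArg (Subgroup.map K.subtype) heq'
  rwa [Subgroup.subgroupOf_map_subtype, Subgroup.subgroupOf_map_subtype,
    inf_eq_left.mpr (hleK T hT), inf_eq_left.mpr (hleK Q hQ)] at this

/-- a proper subgroup of a simple group of order 4200 containing two distinct Sylow 5-subgroups
has order 300 and exactly six Sylow 5-subgroups. -/
theorem s983n4200_overgroup {G : Type*} [Group G] [Finite G] [IsSimpleGroup G]
    (hG : Nat.card G = 4200) [Fact (Nat.Prime 5)] (P R : Sylow 5 G) (hPR : P ≠ R)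
    (C : Subgroup G) (hC : C ≠ ⊤) (hP : (P : Subgroup G) ≤ C) (hR : (R : Subgroup G) ≤ C) :
    Nat.card C = 300 ∧ Nat.card (Sylow 5 C) = 6 := by
  have hG5 : Nat.card G = 5 ^ 2 * 168 := by rw [hG]; norm_num
  have hnd : ¬ 5 ∣ 168 := by norm_num
  have hnc : ¬ IsMulCommutative G := h8_not_comm_of_card (by rw [hG]; norm_num)
  have hcard25 : ∀ Q : Sylow 5 G, Nat.card (Q : Subgroup G) = 25 := by
    intro Q
    have := h8_sylow_card 5 2 168 hG5 hnd Q
    simpa using this
  obtain ⟨h6, hdvd⟩ := h8_nsylow_subgroup_ge 5 P R hPR C hP hR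
  rw [hcard25 P] at hdvd
  have hmod := h8_nsylow_mod (G := C) 5
  have hfact := h8_simple_two_mul_card_dvd_factorial hnc C hC
  have hidx := C.card_mul_index
  rw [hG] at hidx hfact
  obtain ⟨j, hj⟩ := hdvd
  have hi10 : 10 ≤ C.index := by
    by_contra hcon
    have hle : C.index ≤ 9 := by omega
    revert hfact
    generalize C.index = i at hle ⊢
    interval_cases i <;> decide
  have h168 : Nat.card (Sylow 5 C) * (j * C.index) = 168 := by
    have e : 25 * (Nat.card (Sylow 5 C) * (j * C.index)) =
        25 * Nat.card (Sylow 5 C) * j * C.index := by ring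
    have : 25 * (Nat.card (Sylow 5 C) * (j * C.index)) = 25 * 168 := by
      rw [e, ← hj, hidx]
    omega
  have hsmem : Nat.card (Sylow 5 C) ∈ (Nat.divisors 168).filter (fun d => d % 5 = 1) :=
    h8_mem_divisors_filter _ 168 5 (by norm_num) ⟨_, h168.symm⟩ hmod
  have hdiv : (Nat.divisors 168).filter (fun d => d % 5 = 1) = {1, 6, 21, 56} := by decide
  rw [hdiv] at hsmem
  simp only [Finset.mem_insert, Finset.mem_singleton] at hsmem
  have hjpos : 0 < j := by
    rcases Nat.eq_zero_or_pos j with h | h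
    · rw [h] at h168; omega
    · exact h
  rcases hsmem with h | h | h | h
  · omega
  · rw [h] at h168 hj
    have hji : j * C.index = 28 := by omega
    have hj2 : j ≤ 2 := by
      by_contra hcon
      have : 3 ≤ j := by omega
      nlinarith
    have hj12 : j = 1 ∨ j = 2 := by omega
    rcases hj12 with rfl | rfl
    · exfalso
      have hC150 : Nat.card C = 150 := by rw [hj]
      have := s983n4200_unique25 (H := C) hC150 ((P : Subgroup G).subgroupOf C)
        ((R : Subgroup G).subgroupOf C) (by rw [h8_card_subgroupOf hP, hcard25 P])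
        (by rw [h8_card_subgroupOf hR, hcard25 R])
      have h2 := congrArg (Subgroup.map C.subtype) this
      rw [Subgroup.subgroupOf_map_subtype, Subgroup.subgroupOf_map_subtype,
        inf_eq_left.mpr hP, inf_eq_left.mpr hR] at h2
      exact hPR (Sylow.ext h2)
    · exact ⟨by rw [hj], h⟩
  · exfalso
    rw [h] at h168
    nlinarith
  · exfalso
    rw [h] at h168
    nlinarith

/-- the number of cosets of `N(P)` fixed by a `p`-element `x` is at most the number of Sylow
`p`-subgroups of any subgroup `C` that contains every Sylow `p`-subgroup through `x`. -/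
theorem s983n4200_fix_le {G : Type*} [Group G] [Finite G] (p : ℕ) [hp : Fact p.Prime]
    (P : Sylow p G) (x : G) (k : ℕ) (hx : orderOf x = p ^ k) (C : Subgroup G)
    (hC : ∀ Q : Sylow p G, x ∈ (Q : Subgroup G) → (Q : Subgroup G) ≤ C) :
    Nat.card (MulAction.fixedBy (G ⧸ Subgroup.normalizer ((P : Subgroup G) : Set G)) x) ≤
      Nat.card (Sylow p C) := by
  classical
  have hfix : ∀ g : G, (g : G ⧸ Subgroup.normalizer ((P : Subgroup G) : Set G)) ∈
      MulAction.fixedBy (G ⧸ Subgroup.normalizer ((P : Subgroup G) : Set G)) x ↔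
      g⁻¹ * x * g ∈ Subgroup.normalizer ((P : Subgroup G) : Set G) := by
    intro g
    rw [MulAction.mem_fixedBy, MulAction.Quotient.smul_mk, QuotientGroup.eq,
      ← Subgroup.inv_mem_iff]
    simp [mul_assoc]
  have key : ∀ a : MulAction.fixedBy (G ⧸ Subgroup.normalizer ((P : Subgroup G) : Set G)) x,
      x ∈ (((Quotient.out a.1 : G) • P : Sylow p G) : Subgroup G) := by
    intro a
    have ha : ((Quotient.out a.1 : G) : G ⧸ Subgroup.normalizer ((P : Subgroup G) : Set G)) ∈
        MulAction.fixedBy (G ⧸ Subgroup.normalizer ((P : Subgroup G) : Set G)) x := by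
      rw [QuotientGroup.out_eq']; exact a.2
    have h1 := (hfix _).mp ha
    have h2 := h8_mem_sylow_of_mem_normalizer p P _ k (by rw [h8_orderOf_conj, hx]) h1
    exact (h8_mem_smul_sylow p _ x P).mpr h2
  let f : MulAction.fixedBy (G ⧸ Subgroup.normalizer ((P : Subgroup G) : Set G)) x → Sylow p C :=
    fun a => ((Quotient.out a.1 : G) • P : Sylow p G).subtype (hC _ (key a))
  apply Nat.card_le_card_of_injective f
  intro a b hab
  have h1 : ((Quotient.out a.1 : G) • P : Sylow p G) = ((Quotient.out b.1 : G) • P : Sylow p G) :=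
    Sylow.subtype_injective hab
  have h2 : ((Quotient.out a.1 : G)⁻¹ * (Quotient.out b.1 : G)) • P = P := by
    rw [mul_smul, ← h1, inv_smul_smul]
  have h3 := Sylow.smul_eq_iff_mem_normalizer.mp h2
  apply Subtype.ext
  rw [← QuotientGroup.out_eq' a.1, ← QuotientGroup.out_eq' b.1, QuotientGroup.eq]
  exact h3

/-- a `p`-element fixes `|X| mod p` points. -/
theorem s983n4200_fix_mod {G X : Type*} [Group G] [MulAction G X] [Finite X] (p : ℕ)
    [hp : Fact p.Prime] (x : G) (k : ℕ) (hx : orderOf x = p ^ k) :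
    Nat.card X ≡ Nat.card (MulAction.fixedBy X x) [MOD p] := by
  have hyp : IsPGroup p (Subgroup.zpowers x) := by
    apply IsPGroup.of_card (n := k)
    rw [Nat.card_zpowers, hx]
  have h := og2_card_fixedBy_modEq_of_commute (X := X) (1 : G) x (Commute.one_left x) hyp
  have e1 : Nat.card (MulAction.fixedBy X (1 : G)) = Nat.card X := by
    rw [MulAction.fixedBy_one_eq_univ]
    exact Nat.card_congr (Equiv.Set.univ X)
  have e2 : Nat.card {z : X // (1 : G) • z = z ∧ x • z = z} = Nat.card (MulAction.fixedBy X x) := by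
    apply Nat.card_congr
    refine Equiv.subtypeEquivRight (fun z => ?_)
    rw [MulAction.mem_fixedBy]
    simp
  rw [e1, e2] at h
  exact h

/-- SECOND COPY (renamed: the row copy `no_simple_4200` is Helper28/S983N4200.lean).  N4200 [L]  `4200 = 2^3 3 5^2 7`.  `n_5 = 56` (`|N(P_5)| = 75`, `P_5` abelian of order 25); `n_7 ∈ {15, 50}`.  See PLAN.md. -/
theorem s983n4200_h17_no_simple_4200 {G : Type*} [Group G] [Finite G] [IsSimpleGroup G] (hG : Nat.card G = 4200) : False := by
  have : Fact (Nat.Prime 5) := ⟨by norm_num⟩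
  have hG5 : Nat.card G = 5 ^ 2 * 168 := by rw [hG]; norm_num
  have hnd : ¬ 5 ∣ 168 := by norm_num
  have hnc : ¬ IsMulCommutative G := h8_not_comm_of_card (by rw [hG]; norm_num)
  have hmem := h8_nsylow_mem 5 2 168 hG5 hnd
  have hne1 := h8_simple_nsylow_ne_one 5 2 168 hG5 hnd (by norm_num) (by norm_num)
  have hdiv : (Nat.divisors 168).filter (fun d => d % 5 = 1) = {1, 6, 21, 56} := by decide
  rw [hdiv] at hmem
  simp only [Finset.mem_insert, Finset.mem_singleton] at hmem
  have h56 : Nat.card (Sylow 5 G) = 56 := by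
    rcases hmem with h | h | h | h
    · exact absurd h hne1
    · exfalso
      obtain ⟨P⟩ : Nonempty (Sylow 5 G) := inferInstance
      have hidx := h8_nsylow_eq_index_normalizer 5 P
      have hNtop : Subgroup.normalizer ((P : Subgroup G) : Set G) ≠ ⊤ := by
        intro htop
        rw [htop, Subgroup.index_top] at hidx
        omega
      have := h8_simple_two_mul_card_dvd_factorial hnc _ hNtop
      rw [← hidx, h, hG] at this
      revert this
      decide
    · exact absurd h Cfsg.Agent.S1010.result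
    · exact h
  have hcard25 : ∀ Q : Sylow 5 G, Nat.card (Q : Subgroup G) = 25 := by
    intro Q
    have := h8_sylow_card 5 2 168 hG5 hnd Q
    simpa using this
  -- two Sylow 5-subgroups meeting nontrivially
  have hmod : ¬ Nat.card (Sylow 5 G) ≡ 1 [MOD 5 ^ 2] := by rw [h56]; decide
  obtain ⟨P, R, hPR, hidx⟩ := Cfsg.Agent.S0985.result (G := G) 5 2 hmod
  have hidx' : (R : Subgroup G).relIndex (P : Subgroup G) ≤ 5 := by
    have h : ((R : Subgroup G).subgroupOf (P : Subgroup G)).index ≤ 5 := by simpa using hidx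
    exact h
  have hD := h8_card_inf_mul_relIndex (R : Subgroup G) (P : Subgroup G)
  rw [hcard25 P] at hD
  have hDge : 5 ≤ Nat.card ((R : Subgroup G) ⊓ (P : Subgroup G) : Subgroup G) := by
    by_contra hcon
    have : Nat.card ((R : Subgroup G) ⊓ (P : Subgroup G) : Subgroup G) ≤ 4 := by omega
    nlinarith
  obtain ⟨x, hxD, hx1⟩ : ∃ x ∈ ((R : Subgroup G) ⊓ (P : Subgroup G) : Subgroup G), x ≠ 1 := by
    by_contra hcon
    push Not at hcon
    have hbot : ((R : Subgroup G) ⊓ (P : Subgroup G) : Subgroup G) = ⊥ := by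
      rw [Subgroup.eq_bot_iff_forall]; exact hcon
    rw [hbot, Subgroup.card_bot] at hDge
    omega
  have hxR : x ∈ (R : Subgroup G) := hxD.1
  have hxP : x ∈ (P : Subgroup G) := hxD.2
  obtain ⟨k, hk⟩ : ∃ k, orderOf x = 5 ^ k := by
    have h1 : orderOf x ∣ 5 ^ 2 := by
      have := Subgroup.orderOf_dvd_natCard (P : Subgroup G) hxP
      rw [hcard25 P] at this
      simpa using this
    obtain ⟨k, -, hk⟩ := (Nat.dvd_prime_pow (by norm_num : Nat.Prime 5)).mp h1
    exact ⟨k, hk⟩
  have hQC : ∀ Q : Sylow 5 G, x ∈ (Q : Subgroup G) →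
      (Q : Subgroup G) ≤ Subgroup.centralizer ({x} : Set G) := by
    intro Q hxQ y hy
    rw [Subgroup.mem_centralizer_iff]
    intro z hz
    rw [Set.mem_singleton_iff] at hz
    rw [hz]
    exact h8_comm_of_card_prime_sq 5 (Q : Subgroup G) (by rw [hcard25 Q]; norm_num) x hxQ y hy
  have hCtop : Subgroup.centralizer ({x} : Set G) ≠ ⊤ := by
    intro htop
    have hxc : x ∈ Subgroup.center G := by
      rw [Subgroup.mem_center_iff]
      intro g
      have hg : g ∈ Subgroup.centralizer ({x} : Set G) := by rw [htop]; exact Subgroup.mem_top g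
      have := Subgroup.mem_centralizer_iff.mp hg x (Set.mem_singleton x)
      exact this.symm
    rcases h8_simple_normal_eq (Subgroup.center G) with hb | ht
    · rw [hb, Subgroup.mem_bot] at hxc; exact hx1 hxc
    · apply hnc
      refine ⟨⟨fun a b => ?_⟩⟩
      have ha : a ∈ Subgroup.center G := by rw [ht]; exact Subgroup.mem_top a
      exact (Subgroup.mem_center_iff.mp ha b).symm
  obtain ⟨hC300, hs6⟩ := s983n4200_overgroup hG P R hPR _ hCtop (hQC P hxP) (hQC R hxR)
  -- the count of S1019
  have hxN : x ∈ Subgroup.normalizer ((P : Subgroup G) : Set G) := Subgroup.le_normalizer hxP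
  have h19 := Cfsg.Agent.S1019.result (Subgroup.normalizer ((P : Subgroup G) : Set G)) x hxN
  have hcl := Cfsg.Agent.Lib.Helper18.card_isConj_mul_card_centralizer x
  rw [hC300, hG] at hcl
  have hcl14 : Nat.card {h : G // IsConj x h} = 14 := by omega
  have hNidx : (Subgroup.normalizer ((P : Subgroup G) : Set G)).index = 56 := by
    rw [← h8_nsylow_eq_index_normalizer 5 P, h56]
  rw [hcl14, hNidx] at h19
  have hle := s983n4200_fix_le 5 P x k hk _ hQC
  rw [hs6] at hle
  have hmod5 := s983n4200_fix_mod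
    (X := G ⧸ Subgroup.normalizer ((P : Subgroup G) : Set G)) 5 x k hk
  have hX : Nat.card (G ⧸ Subgroup.normalizer ((P : Subgroup G) : Set G)) = 56 := hNidx
  rw [hX] at hmod5
  have h5 : 56 % 5 =
      Nat.card (MulAction.fixedBy (G ⧸ Subgroup.normalizer ((P : Subgroup G) : Set G)) x) % 5 :=
    hmod5
  omega

end Cfsg.Agent.Lib.helper3.S983
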