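import Mathlib
import Cfsg.Agent.Lib.helper17.SD5
import Cfsg.Agent.Lib.helper17.PMin3
import Cfsg.Agent.Lib.Helper1.CFitting

set_option autoImplicit false

namespace Cfsg.Agent.Lib.helper17.SD

open Cfsg.Agent.Lib.Helper21 Cfsg.Agent.Lib.helper14 Cfsg.Agent.Lib.Helper1 QuaternionGroup

variable {G : Type*} [Group G] [Finite G]

/-- A group of order 24 with a normal `Q₈` and an element of order 3 acting nontrivially on it is
`SL₂(3)`. -/
theorem iso_sl23_of_card (U : Subgroup G) (Q : Subgroup G) (hQU : Q ≤ U)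
    (hQn : (Q.subgroupOf U).Normal) (eQ : Q ≃* QuaternionGroup 2) (g : G) (hgU : g ∈ U)
    (hodd : (orderOf g).Coprime 2) (hgC : g ∉ Subgroup.centralizer (Q : Set G))
    (hcard : Nat.card U = 24) : Nonempty (↥U ≃* SL23) := by
  set Q' : Subgroup ↥U := Q.subgroupOf U with hQ'
  let eQ' : Q' ≃* QuaternionGroup 2 := (Subgroup.subgroupOfEquivOfLe hQU).trans eQ
  set g' : ↥U := ⟨g, hgU⟩ with hg'
  have hg'Q : g' ∈ Subgroup.normalizer (Q' : Set ↥U) := by
    rw [Subgroup.normalizer_eq_top_iff.mpr hQn]; exact Subgroup.mem_top _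
  have hodd' : (orderOf g').Coprime 2 := by
    have : orderOf g' = orderOf g := by
      rw [← Subgroup.orderOf_coe]
    rw [this]; exact hodd
  have hg'C : g' ∉ Subgroup.centralizer (Q' : Set ↥U) := by
    intro h
    apply hgC
    rw [Subgroup.mem_centralizer_iff] at h ⊢
    intro q hq
    have := h ⟨q, hQU hq⟩ (Subgroup.mem_subgroupOf.mpr hq)
    exact congrArg Subtype.val this
  obtain ⟨H, K, hKn, ⟨e⟩⟩ := exists_sl23_section Q' eQ' g' hg'Q hodd' hg'C
  have hcq : Nat.card (↥H ⧸ K.subgroupOf H) = 24 := by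
    rw [Nat.card_congr e.toEquiv, card_SL23]
  have h1 := Subgroup.card_eq_card_quotient_mul_card_subgroup (K.subgroupOf H)
  rw [hcq] at h1
  have hHle : Nat.card H ≤ 24 := by
    have := Subgroup.card_le_card_group H
    rwa [hcard] at this
  have hKpos : 0 < Nat.card (K.subgroupOf H) := Nat.card_pos
  have hK1 : Nat.card (K.subgroupOf H) = 1 := by
    by_contra hne
    have : 2 ≤ Nat.card (K.subgroupOf H) := by omega
    have : 24 * 2 ≤ 24 * Nat.card (K.subgroupOf H) := Nat.mul_le_mul_left 24 this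
    omega
  have hH24 : Nat.card H = 24 := by rw [h1, hK1]
  have hKbot : K.subgroupOf H = ⊥ := Subgroup.card_eq_one.mp hK1
  have hHtop : H = ⊤ := by
    apply Subgroup.card_eq_iff_eq_top H |>.mp
    rw [hH24, hcard]
  have e1 : ↥U ≃* ↥H := (Subgroup.topEquiv.symm).trans (MulEquiv.subgroupCongr hHtop.symm)
  have e2 : ↥H ≃* ↥H ⧸ (⊥ : Subgroup ↥H) := QuotientGroup.quotientBot.symm
  have e3 : ↥H ⧸ (⊥ : Subgroup ↥H) ≃* ↥H ⧸ K.subgroupOf H :=
    QuotientGroup.quotientMulEquivOfEq hKbot.symm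
  exact ⟨e1.trans (e2.trans (e3.trans e))⟩

theorem main (hsol : Group.IsSolvable G) (hO : Cfsg.oddCore G = ⊥) (T : Sylow 2 G)
    (hT : (∃ n : ℕ, 4 ≤ n ∧ Nonempty (↥(T : Subgroup G) ≃* DihedralGroup n)) ∨
      Cfsg.IsQuasiDihedral ↥(T : Subgroup G))
    (hne : (T : Subgroup G) ≠ ⊤)
    (hZ : ((T : Subgroup G) ⊓ Subgroup.centralizer ((T : Subgroup G) : Set G)).Normal) :
    ∃ U : Subgroup G, U.Normal ∧
      Nonempty (↥U ≃* Matrix.SpecialLinearGroup (Fin 2) (ZMod 3)) := by
  have hf2 : Fact (Nat.Prime 2) := ⟨Nat.prime_two⟩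
  obtain ⟨D⟩ : Nonempty (DSD (T : Subgroup G)) := by
    rcases hT with ⟨n, hn, ⟨e⟩⟩ | hq
    · exact dsd_of_dihedral T n hn e
    · exact dsd_of_quasiDihedral _ hq
  set Q : Subgroup G := Cfsg.pCore 2 G with hQ
  have hQn : Q.Normal := Cfsg.Agent.Lib.Helper1.pCore_normal (G := G) 2
  have hQ2 : IsPGroup 2 Q := Cfsg.Agent.Lib.Helper1.pCore_isPGroup (G := G) 2
  have hQT : Q ≤ (T : Subgroup G) := Cfsg.Agent.Lib.Helper1.pCore_le_sylow 2 T
  have hCQ : Subgroup.centralizer (Q : Set G) ≤ Q := centralizer_pCore_le 2 hO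
  -- an element of odd prime order
  have hidx1 : (T : Subgroup G).index ≠ 1 := fun h => hne (Subgroup.index_eq_one.mp h)
  obtain ⟨r, hr, hrdvd⟩ := Nat.exists_prime_and_dvd hidx1
  have hr2 : r ≠ 2 := by
    rintro rfl
    exact T.not_dvd_index hrdvd
  have hfr : Fact r.Prime := ⟨hr⟩
  obtain ⟨g, hg⟩ := exists_prime_orderOf_dvd_card' r
    (hrdvd.trans (Subgroup.index_dvd_card (T : Subgroup G)))
  have hodd : (orderOf g).Coprime 2 := by
    rw [hg]; exact (Nat.coprime_primes hr Nat.prime_two).mpr hr2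
  have hgQ : g ∈ Subgroup.normalizer (Q : Set G) := by
    rw [Subgroup.normalizer_eq_top_iff.mpr hQn]; exact Subgroup.mem_top _
  have hodd_in_Q : ∀ h : G, (orderOf h).Coprime 2 → h ∈ Q → h = 1 := by
    intro h hc hh
    obtain ⟨j, hj⟩ := hQ2 ⟨h, hh⟩
    have hj' : h ^ 2 ^ j = 1 := by
      have := congrArg Subtype.val hj
      simpa using this
    have h1 := orderOf_dvd_of_pow_eq_one hj'
    have h2 : (orderOf h).Coprime (2 ^ j) := Nat.Coprime.pow_right j hc
    have h3 : orderOf h = 1 := Nat.Coprime.eq_one_of_dvd h2 h1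
    exact orderOf_eq_one_iff.mp h3
  have hgC : g ∉ Subgroup.centralizer (Q : Set G) := by
    intro h
    have h1 := hodd_in_Q g hodd (hCQ h)
    rw [h1, orderOf_one] at hg
    exact hr.one_lt.ne hg
  obtain ⟨eQ⟩ := exists_quat_equiv D T.isPGroup' Q hQT hZ hCQ g hgQ hodd hgC
  have hg3 : g ^ 3 = 1 := by
    apply hodd_in_Q
    · exact Nat.Coprime.coprime_dvd_left (orderOf_pow_dvd 3) hodd
    · exact hCQ (pow_three_mem_centralizer Q eQ g hgQ hodd)
  have hr3 : r = 3 := by
    have h1 := orderOf_dvd_of_pow_eq_one hg3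
    rw [hg] at h1
    exact (Nat.prime_dvd_prime_iff_eq hr Nat.prime_three).mp h1
  have hordg : orderOf g = 3 := by rw [hg, hr3]
  have hQ8 : Nat.card Q = 8 := by
    rw [Nat.card_congr eQ.toEquiv, Nat.card_eq_fintype_card, QuaternionGroup.card]
  have h48 := card_le_48 Q hQn eQ hCQ
  set U : Subgroup G := Q ⊔ Subgroup.zpowers g with hU
  have hQU : Q ≤ U := le_sup_left
  have hgU : g ∈ U := (le_sup_right : Subgroup.zpowers g ≤ U) (Subgroup.mem_zpowers g)
  have hUcard : Nat.card U = 24 := by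
    have hd : Nat.card U ∣ 24 := by
      have h1 := card_sup_dvd_of_le_normalizer (Subgroup.zpowers g) Q
        (by rw [Subgroup.normalizer_eq_top_iff.mpr hQn]; exact le_top)
      rw [sup_comm, Nat.card_zpowers, hordg, hQ8] at h1
      exact h1
    have h8 : 8 ∣ Nat.card U := by rw [← hQ8]; exact Subgroup.card_dvd_of_le hQU
    have h3 : 3 ∣ Nat.card U := by
      have h1 := Subgroup.card_dvd_of_le (le_sup_right : Subgroup.zpowers g ≤ U)
      rwa [Nat.card_zpowers, hordg] at h1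
    have h24 : 24 ∣ Nat.card U :=
      Nat.Coprime.mul_dvd_of_dvd_of_dvd (by norm_num : Nat.Coprime 8 3) h8 h3
    exact Nat.dvd_antisymm hd h24
  have hUn : U.Normal := by
    have hidx := U.card_mul_index
    rw [hUcard] at hidx
    have hpos : 0 < U.index := Nat.pos_of_ne_zero Subgroup.index_ne_zero_of_finite
    have hle : U.index ≤ 2 := by
      by_contra hlt
      have : 3 ≤ U.index := by omega
      have : 24 * 3 ≤ 24 * U.index := Nat.mul_le_mul_left 24 this
      omega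
    have hcases : U.index = 1 ∨ U.index = 2 := by omega
    rcases hcases with h1 | h2
    · rw [Subgroup.index_eq_one.mp h1]; infer_instance
    · exact Subgroup.normal_of_index_eq_two h2
  exact ⟨U, hUn, iso_sl23_of_card U Q hQU (hQn.subgroupOf U) eQ g hgU hodd hgC hUcard⟩

end Cfsg.Agent.Lib.helper17.SD
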