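import Mathlib
import Cfsg.Prelude.Def_Characters
import Cfsg.Agent.S2544

set_option autoImplicit false

/-!
# Transport of the Steinberg-type conclusion along a group isomorphism (helper17; for the small cases of S2548 / S2549).

`sttransport_irr`: irreducible characters pull back along a surjective hom;
`sttransport_equiv`: the conclusion "an irreducible `χ` with `χ 1 = |P|` and `χ = 0` on `P \ {1}` for every Sylow `p`-subgroup `P`" moves from `H` to `G ≃* H`
(different universes allowed).
-/

namespace Cfsg.Agent.Lib.helper17.StTransport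

universe u v

theorem sttransport_irr {G : Type u} {H : Type v} [Group G] [Group H] (f : G →* H)
    (hf : Function.Surjective f) (χ : H → ℂ) (hχ : Cfsg.IsIrrCharacter H χ) :
    Cfsg.IsIrrCharacter G (fun g => χ (f g)) := by
  obtain ⟨n, ρ, hirr, hchar⟩ := hχ
  haveI := hirr
  refine ⟨n, MonoidHom.comp ρ f, Cfsg.Agent.S2544.irreducible_comp_surj f hf ρ, ?_⟩
  funext g
  rw [← hchar]
  rfl

theorem sttransport_equiv {G : Type u} {H : Type v} [Group G] [Group H] (p : ℕ) [Fact p.Prime]
    (e : G ≃* H)
    (h : ∃ χ : H → ℂ, Cfsg.IsIrrCharacter H χ ∧ ∀ P : Sylow p H, χ 1 = Nat.card P ∧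
      ∀ x : H, x ∈ P → x ≠ 1 → χ x = 0) :
    ∃ χ : G → ℂ, Cfsg.IsIrrCharacter G χ ∧ ∀ P : Sylow p G, χ 1 = Nat.card P ∧
      ∀ x : G, x ∈ P → x ≠ 1 → χ x = 0 := by
  obtain ⟨χ, hχ, hP⟩ := h
  refine ⟨fun g => χ (e g), sttransport_irr e.toMonoidHom e.surjective χ hχ, ?_⟩
  intro P
  -- the image Sylow subgroup
  have hinj : Function.Injective e.symm.toMonoidHom := e.symm.injective
  have hle : (P : Subgroup G) ≤ e.symm.toMonoidHom.range := by
    intro x _
    exact ⟨e x, e.symm_apply_apply x⟩
  set P' : Sylow p H := P.comapOfInjective e.symm.toMonoidHom hinj hle with hP'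
  have hmem : ∀ y : H, y ∈ P' ↔ e.symm y ∈ P := by
    intro y
    show y ∈ ((P.comapOfInjective e.symm.toMonoidHom hinj hle : Sylow p H) : Subgroup H) ↔ _
    rw [Sylow.coe_comapOfInjective, Subgroup.mem_comap]
    rfl
  obtain ⟨h1, h2⟩ := hP P'
  refine ⟨?_, ?_⟩
  · show χ (e 1) = Nat.card P
    rw [map_one, h1]
    congr 1
    -- the two Sylow subgroups have the same cardinality
    refine Nat.card_congr ?_
    exact
      { toFun := fun y => ⟨e.symm y.1, (hmem y.1).mp y.2⟩
        invFun := fun x => ⟨e x.1, (hmem (e x.1)).mpr (by rw [e.symm_apply_apply]; exact x.2)⟩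
        left_inv := fun y => Subtype.ext (e.apply_symm_apply y.1)
        right_inv := fun x => Subtype.ext (e.symm_apply_apply x.1) }
  · intro x hx hx1
    apply h2 (e x)
    · rw [hmem, e.symm_apply_apply]; exact hx
    · intro h
      apply hx1
      have := congrArg e.symm h
      rwa [e.symm_apply_apply, map_one] at this

end Cfsg.Agent.Lib.helper17.StTransport
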