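import Mathlib
import Cfsg.Agent.Lib.helper17.StTransport
import Cfsg.Agent.S0300
import Cfsg.Agent.S0302
import Cfsg.Agent.S0303
import Cfsg.Agent.S2544
import Cfsg.Agent.S2546

set_option autoImplicit false

/-!
# Small cases of S2548 / S2549 through the landed exceptional isomorphisms (helper17).

* `sdmsmall_minus_one`: the conclusion of S2549 for `m = 1` (`PΩ⁻₄(q) ≅ PSL₂(q²)`, S0300 + S2544);
* `sdmsmall_minus_two`: the conclusion of S2549 for `m = 2` (`PΩ⁻₆(q) ≅ PSU₄(q)`, S0303 + S2546);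
* `sdmsmall_plus_three`: the conclusion of S2548 for `m = 3` (`PΩ⁺₆(q) ≅ PSL₄(q)`, S0302 + S2544).
-/

namespace Cfsg.Agent.Lib.helper17.SDMsmall

open Cfsg.Agent.Lib.helper17.StTransport

theorem sdmsmall_field {F : Type*} [Field F] [Fintype F] (p : ℕ) [Fact p.Prime] [CharP F p] :
    ∃ (K : Type) (_ : Field K) (_ : Fintype K) (_ : CharP K p), Fintype.card K = Fintype.card F ^ 2 := by
  obtain ⟨n, _, hn⟩ := FiniteField.card F p
  haveI : Finite (GaloisField p (2 * (n : ℕ))) := inferInstance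
  letI : Fintype (GaloisField p (2 * (n : ℕ))) := Fintype.ofFinite _
  refine ⟨GaloisField p (2 * (n : ℕ)), inferInstance, inferInstance, inferInstance, ?_⟩
  rw [← Nat.card_eq_fintype_card, GaloisField.card p (2 * (n : ℕ)) (by positivity), hn, ← pow_mul,
    mul_comm]

theorem sdmsmall_minus_one {F : Type*} [Field F] [Fintype F] (p : ℕ) [Fact p.Prime] [CharP F p]
    (a b : F) (hab : ∀ z₁ z₂ : F, z₁ ^ 2 + a * z₁ * z₂ + b * z₂ ^ 2 = 0 → z₁ = 0 ∧ z₂ = 0) :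
    ∃ χ : Cfsg.POmega F (Cfsg.quadFormMinus 1 F a b) → ℂ,
      Cfsg.IsIrrCharacter (Cfsg.POmega F (Cfsg.quadFormMinus 1 F a b)) χ ∧
      ∀ P : Sylow p (Cfsg.POmega F (Cfsg.quadFormMinus 1 F a b)), χ 1 = Nat.card P ∧
        ∀ x : Cfsg.POmega F (Cfsg.quadFormMinus 1 F a b), x ∈ P → x ≠ 1 → χ x = 0 := by
  obtain ⟨K, hKf, hKfin, hKchar, hK⟩ := sdmsmall_field (F := F) p
  obtain ⟨e⟩ := Cfsg.Agent.S0300.result (F := F) (K := K) rfl hK a b hab
  exact sttransport_equiv p e (Cfsg.Agent.S2544.result (F := K) p 2 le_rfl)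

theorem sdmsmall_minus_two {F : Type*} [Field F] [Fintype F] (p : ℕ) [Fact p.Prime] [CharP F p]
    (a b : F) (hab : ∀ z₁ z₂ : F, z₁ ^ 2 + a * z₁ * z₂ + b * z₂ ^ 2 = 0 → z₁ = 0 ∧ z₂ = 0) :
    ∃ χ : Cfsg.POmega F (Cfsg.quadFormMinus 2 F a b) → ℂ,
      Cfsg.IsIrrCharacter (Cfsg.POmega F (Cfsg.quadFormMinus 2 F a b)) χ ∧
      ∀ P : Sylow p (Cfsg.POmega F (Cfsg.quadFormMinus 2 F a b)), χ 1 = Nat.card P ∧
        ∀ x : Cfsg.POmega F (Cfsg.quadFormMinus 2 F a b), x ∈ P → x ≠ 1 → χ x = 0 := by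
  obtain ⟨K, hKf, hKfin, hKchar, hK⟩ := sdmsmall_field (F := F) p
  obtain ⟨e⟩ := Cfsg.Agent.S0303.result (F := F) (K := K) rfl hK a b hab
  exact sttransport_equiv p e (Cfsg.Agent.S2546.result (F := K) p 4 (Fintype.card F) (by norm_num) hK)

theorem sdmsmall_plus_three {F : Type*} [Field F] [Fintype F] (p : ℕ) [Fact p.Prime] [CharP F p] :
    ∃ χ : Cfsg.POmega F (Cfsg.quadFormPlus 3 F) → ℂ,
      Cfsg.IsIrrCharacter (Cfsg.POmega F (Cfsg.quadFormPlus 3 F)) χ ∧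
      ∀ P : Sylow p (Cfsg.POmega F (Cfsg.quadFormPlus 3 F)), χ 1 = Nat.card P ∧
        ∀ x : Cfsg.POmega F (Cfsg.quadFormPlus 3 F), x ∈ P → x ≠ 1 → χ x = 0 := by
  obtain ⟨e⟩ := Cfsg.Agent.S0302.result (F := F)
  exact sttransport_equiv p e (Cfsg.Agent.S2544.result (F := F) p 4 (by norm_num))

end Cfsg.Agent.Lib.helper17.SDMsmall
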