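import Mathlib
import Cfsg.Agent.Lib.helper17.SL3.Defs
import Cfsg.Agent.Lib.helper17.SL3X

/-!
# Project SL3, row MAIN (helper17) = S2287: `SL₃(F)` has a presentation with 4 generators and at most 14 relations
(the hypothesis `|F| ≠ 9` of the frozen statement is not used).
-/

set_option autoImplicit false

namespace Cfsg.Agent.Lib.helper17.SL3

/-- MAIN (helper17) = S2287. -/
theorem sl3_s2287 {F : Type*} [Field F] [Fintype F] (hq9 : Fintype.card F ≠ 9) :
    ∃ rels : Finset (FreeGroup (Fin 4)), rels.card ≤ 14 ∧ Nonempty (PresentedGroup (↑rels : Set (FreeGroup (Fin 4))) ≃* Matrix.SpecialLinearGroup (Fin 3) F) :=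
  sl3x_main

end Cfsg.Agent.Lib.helper17.SL3
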