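import Mathlib
import Cfsg.Agent.Lib.helper17.SLP.Defs

/-!
# SLP row MAIN (helper17): core, with the statements of FIN1–FIN4 (at the given field) as hypotheses.
-/

set_option autoImplicit false

namespace Cfsg.Agent.Lib.helper17.SLP

universe u

theorem slpmain_core {F : Type u} [Field F] [Fintype F]
    (hFIN1 : (2 : F) ≠ 0 → ∃ rels : Finset (FreeGroup (Fin 3)), rels.card ≤ 9 ∧
      Nonempty (PresentedGroup (↑rels : Set (FreeGroup (Fin 3))) ≃* Matrix.SpecialLinearGroup (Fin 2) F))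
    (hFIN2 : (2 : F) ≠ 0 → ∃ rels : Finset (FreeGroup (Fin 3)), rels.card ≤ 9 ∧
      Nonempty (PresentedGroup (↑rels : Set (FreeGroup (Fin 3))) ≃*
        Matrix.ProjectiveSpecialLinearGroup (Fin 2) F))
    (hFIN3 : (2 : F) = 0 → ∃ rels : Finset (FreeGroup (Fin 3)), rels.card ≤ 5 ∧
      Nonempty (PresentedGroup (↑rels : Set (FreeGroup (Fin 3))) ≃* Matrix.SpecialLinearGroup (Fin 2) F))
    (hFIN4 : (2 : F) = 0 → ∃ rels : Finset (FreeGroup (Fin 3)), rels.card ≤ 5 ∧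
      Nonempty (PresentedGroup (↑rels : Set (FreeGroup (Fin 3))) ≃*
        Matrix.ProjectiveSpecialLinearGroup (Fin 2) F)) :
    (∃ rels : Finset (FreeGroup (Fin 3)), rels.card ≤ 9 ∧ Nonempty (PresentedGroup (↑rels : Set (FreeGroup (Fin 3))) ≃* Matrix.SpecialLinearGroup (Fin 2) F)) ∧ (∃ rels : Finset (FreeGroup (Fin 3)), rels.card ≤ 9 ∧ Nonempty (PresentedGroup (↑rels : Set (FreeGroup (Fin 3))) ≃* Matrix.ProjectiveSpecialLinearGroup (Fin 2) F)) ∧
    (CharP F 2 → ∃ rels : Finset (FreeGroup (Fin 3)), rels.card ≤ 5 ∧ Nonempty (PresentedGroup (↑rels : Set (FreeGroup (Fin 3))) ≃* Matrix.ProjectiveSpecialLinearGroup (Fin 2) F)) := by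
  by_cases h2 : (2 : F) = 0
  · obtain ⟨r3, hr3, e3⟩ := hFIN3 h2
    obtain ⟨r4, hr4, e4⟩ := hFIN4 h2
    exact ⟨⟨r3, by omega, e3⟩, ⟨r4, by omega, e4⟩, fun _ => ⟨r4, hr4, e4⟩⟩
  · refine ⟨hFIN1 h2, hFIN2 h2, fun hc => ?_⟩
    exfalso
    apply h2
    have := CharP.cast_eq_zero F 2
    exact_mod_cast this

end Cfsg.Agent.Lib.helper17.SLP
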