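import Mathlib
import Cfsg.Agent.Lib.helper17.SLP.Defs
import Cfsg.Agent.Lib.helper17.SLPMAINcore
import Cfsg.Agent.Lib.Helper28.SLPFIN1
import Cfsg.Agent.Lib.helper4.SLPFIN2
import Cfsg.Agent.Lib.helper4.SLPFIN3
import Cfsg.Agent.Lib.Helper12.SLPFIN4core
import Cfsg.Agent.Lib.Helper12.SLPM7

/-!
# Project SLP (designer helper17), row MAIN = S2286: `SL₂(F)` and `PSL₂(F)` have presentations with 3 generators
and at most 9 relations (characteristic 2: at most 5).  Assembly of the rows FIN1–FIN3, M7 and the FIN4 core.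
-/

set_option autoImplicit false

namespace Cfsg.Agent.Lib.helper17.SLP

/-- MAIN (helper17) = S2286: deps FIN1–FIN4. -/
theorem slp_main {F : Type*} [Field F] [Fintype F] :
    (∃ rels : Finset (FreeGroup (Fin 3)), rels.card ≤ 9 ∧ Nonempty (PresentedGroup (↑rels : Set (FreeGroup (Fin 3))) ≃* Matrix.SpecialLinearGroup (Fin 2) F)) ∧ (∃ rels : Finset (FreeGroup (Fin 3)), rels.card ≤ 9 ∧ Nonempty (PresentedGroup (↑rels : Set (FreeGroup (Fin 3))) ≃* Matrix.ProjectiveSpecialLinearGroup (Fin 2) F)) ∧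
    (CharP F 2 → ∃ rels : Finset (FreeGroup (Fin 3)), rels.card ≤ 5 ∧ Nonempty (PresentedGroup (↑rels : Set (FreeGroup (Fin 3))) ≃* Matrix.ProjectiveSpecialLinearGroup (Fin 2) F)) :=
  slpmain_core (fun h => sl_odd h) (fun h => psl_odd h) (fun h => sl_two h)
    (fun h => slpfin4_core (sl_two h) (sl_equiv_psl_two h))

end Cfsg.Agent.Lib.helper17.SLP
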