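import Mathlib

/-!
# Self-dual generators of finite fields (helper17)
-/

set_option autoImplicit false

namespace Cfsg.Agent.Lib.helper17.SympField

open Polynomial

/-- In a finite field `L = 𝔽_p[a]`, if `a⁻¹` is a root of the minimal polynomial of `a`,
then either `L = 𝔽_p` or `|L| = p^(2j)` and `a^(p^j+1) = 1`. -/
theorem abstract_field {p : ℕ} [hp : Fact p.Prime] {L : Type*} [Field L] [Finite L]
    [Algebra (ZMod p) L] (a b : L) (hab : a * b = 1)
    (hgen : Algebra.adjoin (ZMod p) {a} = ⊤)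
    (hdual : aeval b (minpoly (ZMod p) a) = 0) :
    Nat.card L = p ∨ ∃ j : ℕ, Nat.card L = p ^ (2 * j) ∧ a ^ (p ^ j + 1) = 1 := by
  have hfin : FiniteDimensional (ZMod p) L := inferInstance
  have halg : IsAlgebraic (ZMod p) a := Algebra.IsAlgebraic.isAlgebraic a
  obtain ⟨σ, hσ⟩ := minpoly.exists_algEquiv_of_root' (K := ZMod p) (L := L) halg hdual
  obtain ⟨⟨j, hj⟩, hjσ⟩ := (FiniteField.bijective_frobeniusAlgEquivOfAlgebraic_pow (ZMod p) L).2 σ
  simp only at hjσ
  set F := FiniteField.frobeniusAlgEquivOfAlgebraic (ZMod p) L with hF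
  have hpow : ∀ (i : ℕ) (x : L), (F ^ i) x = x ^ (p ^ i) := by
    intro i x
    rw [AlgEquiv.coe_pow, FiniteField.coe_frobeniusAlgEquivOfAlgebraic_iterate, ZMod.card]
  have hb : b = a ^ (p ^ j) := by rw [← hσ, ← hjσ, hpow]
  have h1 : a ^ (p ^ j + 1) = 1 := by rw [pow_succ, ← hb, mul_comm, hab]
  have ha0 : a ≠ 0 := left_ne_zero_of_mul_eq_one hab
  have hb' : b = a⁻¹ := eq_inv_of_mul_eq_one_right hab
  have h2 : (F ^ (2 * j)) a = a := by
    rw [hpow, two_mul, pow_add, pow_mul, ← hb, hb', inv_pow, inv_eq_iff_eq_inv, ← hb', hb]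
  have h3 : F ^ (2 * j) = 1 := by
    have : ((F ^ (2 * j) : L ≃ₐ[ZMod p] L) : L →ₐ[ZMod p] L) = ((1 : L ≃ₐ[ZMod p] L) : L →ₐ[ZMod p] L) := by
      refine AlgHom.ext_of_adjoin_eq_top hgen ?_
      intro x hx
      rw [Set.mem_singleton_iff] at hx
      subst hx
      exact h2
    exact AlgEquiv.coe_toAlgHom_injective this
  have h4 : Module.finrank (ZMod p) L ∣ 2 * j := by
    rw [← FiniteField.orderOf_frobeniusAlgEquivOfAlgebraic]
    exact orderOf_dvd_of_pow_eq_one h3
  have hcard : Nat.card L = p ^ Module.finrank (ZMod p) L := by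
    rw [Module.natCard_eq_pow_finrank (K := ZMod p), Nat.card_zmod]
  rcases Nat.eq_zero_or_pos j with hj0 | hj0
  · left
    subst hj0
    rw [pow_zero, pow_one] at hb
    rw [hb] at hab
    have hmem : a ∈ (⊥ : Subalgebra (ZMod p) L) := by
      rcases mul_self_eq_one_iff.mp hab with h | h
      · rw [h]; exact one_mem _
      · rw [h]; exact neg_mem (one_mem _)
    have hbot : (⊤ : Subalgebra (ZMod p) L) = ⊥ := by
      rw [← hgen, eq_bot_iff]
      refine Algebra.adjoin_le ?_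
      intro x hx
      rw [Set.mem_singleton_iff] at hx
      rw [hx]; exact hmem
    have hsurj : Function.Surjective (algebraMap (ZMod p) L) := by
      intro x
      have hx : x ∈ (⊤ : Subalgebra (ZMod p) L) := Algebra.mem_top
      rw [hbot] at hx
      exact Algebra.mem_bot.mp hx
    have hinj : Function.Injective (algebraMap (ZMod p) L) := (algebraMap (ZMod p) L).injective
    rw [← Nat.card_congr (Equiv.ofBijective _ ⟨hinj, hsurj⟩), Nat.card_zmod]
  · right
    refine ⟨j, ?_, h1⟩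
    obtain ⟨c, hc⟩ := h4
    have hc1 : c = 1 := by
      rcases Nat.eq_zero_or_pos c with h | h
      · subst h; omega
      · by_contra hne
        have : 2 ≤ c := by omega
        have : Module.finrank (ZMod p) L * 2 ≤ Module.finrank (ZMod p) L * c :=
          Nat.mul_le_mul_left _ this
        omega
    rw [hc1, mul_one] at hc
    rw [hcard, hc]

section
variable {p : ℕ} [hp : Fact p.Prime] {V : Type*} [AddCommGroup V] [Module (ZMod p) V]

theorem aeval_comm_self (φ : Module.End (ZMod p) V) (f : (ZMod p)[X]) :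
    aeval φ f * φ = φ * aeval φ f := by
  have := (Polynomial.commute_X f).map (aeval φ)
  rw [aeval_X] at this
  exact this.eq.symm

/-- if `f(φ)` kills a nonzero vector of an irreducible module, it is zero -/
theorem aeval_eq_zero_of_apply (φ : Module.End (ZMod p) V)
    (hirr : ∀ W : Submodule (ZMod p) V, (∀ w ∈ W, φ w ∈ W) → W = ⊥ ∨ W = ⊤)
    (f : (ZMod p)[X]) (v : V) (hv : v ≠ 0) (h : aeval φ f v = 0) : aeval φ f = 0 := by
  rcases hirr (LinearMap.ker (aeval φ f)) (fun w hw => by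
    rw [LinearMap.mem_ker] at hw ⊢
    rw [← Module.End.mul_apply, aeval_comm_self, Module.End.mul_apply, hw, map_zero]) with h1 | h1
  · exfalso
    apply hv
    have : v ∈ LinearMap.ker (aeval φ f) := LinearMap.mem_ker.mpr h
    rw [h1] at this
    exact (Submodule.mem_bot _).mp this
  · exact LinearMap.ker_eq_top.mp h1

theorem minpoly_irreducible [Finite V] (φ : Module.End (ZMod p) V)
    (hirr : ∀ W : Submodule (ZMod p) V, (∀ w ∈ W, φ w ∈ W) → W = ⊥ ∨ W = ⊤)
    (v₀ : V) (hv₀ : v₀ ≠ 0) : Irreducible (minpoly (ZMod p) φ) := by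
  have hint : IsIntegral (ZMod p) φ := Algebra.IsIntegral.isIntegral φ
  have hnt : Nontrivial V := ⟨⟨v₀, 0, hv₀⟩⟩
  set g := minpoly (ZMod p) φ with hg
  have hg0 : g ≠ 0 := minpoly.ne_zero hint
  rw [irreducible_iff]
  refine ⟨minpoly.not_isUnit _ _, ?_⟩
  intro g₁ g₂ h12
  have h0 : aeval φ g = 0 := minpoly.aeval _ _
  have hg₁ : g₁ ≠ 0 := by rintro rfl; rw [zero_mul] at h12; exact hg0 h12
  have hg₂ : g₂ ≠ 0 := by rintro rfl; rw [mul_zero] at h12; exact hg0 h12
  have h1 : aeval φ g₁ (aeval φ g₂ v₀) = 0 := by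
    rw [← Module.End.mul_apply, ← map_mul, ← h12, h0, LinearMap.zero_apply]
  by_cases hw : aeval φ g₂ v₀ = 0
  · left
    have h2 := aeval_eq_zero_of_apply φ hirr g₂ v₀ hv₀ hw
    obtain ⟨c, hc⟩ := minpoly.dvd (ZMod p) φ h2
    rw [← hg, h12] at hc
    have : g₂ * 1 = g₂ * (g₁ * c) := by
      rw [mul_one]
      calc g₂ = g₁ * g₂ * c := hc
        _ = g₂ * (g₁ * c) := by rw [mul_comm g₁ g₂, mul_assoc]
    exact IsUnit.of_mul_eq_one c (mul_left_cancel₀ hg₂ this).symm
  · right
    have h2 := aeval_eq_zero_of_apply φ hirr g₁ _ hw h1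
    obtain ⟨c, hc⟩ := minpoly.dvd (ZMod p) φ h2
    rw [← hg, h12] at hc
    have : g₁ * 1 = g₁ * (g₂ * c) := by
      rw [mul_one]
      calc g₁ = g₁ * g₂ * c := hc
        _ = g₁ * (g₂ * c) := by rw [mul_assoc]
    exact IsUnit.of_mul_eq_one c (mul_left_cancel₀ hg₁ this).symm

set_option maxHeartbeats 400000 in
/-- irreducible self-dual invertible endomorphism of a finite `𝔽_p`-space -/
theorem field_step [Finite V] (φ ψ : Module.End (ZMod p) V) (h1 : φ * ψ = 1) (h2 : ψ * φ = 1)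
    (v₀ : V) (hv₀ : v₀ ≠ 0)
    (hirr : ∀ W : Submodule (ZMod p) V, (∀ w ∈ W, φ w ∈ W) → W = ⊥ ∨ W = ⊤)
    (hdual : ∀ f : (ZMod p)[X], aeval φ f = 0 → aeval ψ f = 0) :
    Nat.card V = p ∨ ∃ j : ℕ, Nat.card V = p ^ (2 * j) ∧ φ ^ (p ^ j + 1) = 1 := by
  have hint : IsIntegral (ZMod p) φ := Algebra.IsIntegral.isIntegral φ
  have hnt : Nontrivial V := ⟨⟨v₀, 0, hv₀⟩⟩
  set g := minpoly (ZMod p) φ with hg
  have hg0 : g ≠ 0 := minpoly.ne_zero hint
  have hgirr : Irreducible g := minpoly_irreducible φ hirr v₀ hv₀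
  have : Fact (Irreducible g) := ⟨hgirr⟩
  have hgφ : aeval φ g = 0 := minpoly.aeval _ _
  -- the algebra map `L → End V`
  let Φ : AdjoinRoot g →ₐ[ZMod p] Module.End (ZMod p) V :=
    Ideal.Quotient.liftₐ (Ideal.span {g}) (aeval φ) (by
      intro f hf
      obtain ⟨c, rfl⟩ := Ideal.mem_span_singleton.mp hf
      rw [map_mul, hgφ, zero_mul])
  have hΦmk : ∀ f : (ZMod p)[X], Φ (AdjoinRoot.mk g f) = aeval φ f := fun f => rfl
  have hΦroot : Φ (AdjoinRoot.root g) = φ := by
    rw [← AdjoinRoot.mk_X, hΦmk, aeval_X]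
  have hΦinj : Function.Injective Φ := (Φ : AdjoinRoot g →+* Module.End (ZMod p) V).injective
  have hfinEnd : Finite (Module.End (ZMod p) V) :=
    Finite.of_injective (fun f : Module.End (ZMod p) V => (f : V → V)) DFunLike.coe_injective
  have : Finite (AdjoinRoot g) := Finite.of_injective Φ hΦinj
  -- evaluation at `v₀`
  let T : AdjoinRoot g →ₗ[ZMod p] V := (LinearMap.applyₗ v₀).comp Φ.toLinearMap
  have hT : ∀ x, T x = Φ x v₀ := fun x => rfl
  have hTinj : Function.Injective T := by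
    rw [← LinearMap.ker_eq_bot, eq_bot_iff]
    intro x hx
    rw [LinearMap.mem_ker, hT] at hx
    obtain ⟨f, rfl⟩ := AdjoinRoot.mk_surjective x
    rw [hΦmk] at hx
    have := aeval_eq_zero_of_apply φ hirr f v₀ hv₀ hx
    rw [Submodule.mem_bot, AdjoinRoot.mk_eq_zero]
    exact minpoly.dvd (ZMod p) φ this
  have hTsurj : Function.Surjective T := by
    rw [← LinearMap.range_eq_top]
    rcases hirr (LinearMap.range T) (by
      rintro _ ⟨x, rfl⟩
      refine ⟨AdjoinRoot.root g * x, ?_⟩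
      rw [hT, hT, map_mul, hΦroot, Module.End.mul_apply]) with h | h
    · exfalso
      apply hv₀
      have : v₀ ∈ LinearMap.range T := ⟨1, by rw [hT, map_one, Module.End.one_apply]⟩
      rw [h] at this
      exact (Submodule.mem_bot _).mp this
    · exact h
  have hcard : Nat.card V = Nat.card (AdjoinRoot g) :=
    (Nat.card_congr (Equiv.ofBijective T ⟨hTinj, hTsurj⟩)).symm
  -- the inverse
  have ha0 : AdjoinRoot.root g ≠ 0 := by
    intro h0
    have : φ = 0 := by rw [← hΦroot, h0, map_zero]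
    rw [this, zero_mul] at h1
    exact zero_ne_one h1
  have hab : AdjoinRoot.root g * (AdjoinRoot.root g)⁻¹ = 1 := mul_inv_cancel₀ ha0
  have hΦb : Φ (AdjoinRoot.root g)⁻¹ = ψ := by
    have e1 : φ * Φ (AdjoinRoot.root g)⁻¹ = 1 := by
      rw [← hΦroot, ← map_mul, hab, map_one]
    calc Φ (AdjoinRoot.root g)⁻¹ = (ψ * φ) * Φ (AdjoinRoot.root g)⁻¹ := by rw [h2, one_mul]
      _ = ψ := by rw [mul_assoc, e1, mul_one]
  have hdual' : aeval (AdjoinRoot.root g)⁻¹ (minpoly (ZMod p) (AdjoinRoot.root g)) = 0 := by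
    have h3 : g ∣ minpoly (ZMod p) (AdjoinRoot.root g) := by
      rw [← AdjoinRoot.mk_eq_zero, ← AdjoinRoot.aeval_eq]
      exact minpoly.aeval _ _
    obtain ⟨c, hc⟩ := h3
    have h4 : aeval (AdjoinRoot.root g)⁻¹ g = 0 := by
      apply hΦinj
      rw [map_zero, ← Polynomial.aeval_algHom_apply, hΦb]
      exact hdual g hgφ
    rw [hc, map_mul, h4, zero_mul]
  rcases abstract_field (AdjoinRoot.root g) (AdjoinRoot.root g)⁻¹ hab
    AdjoinRoot.adjoinRoot_eq_top hdual' with h | ⟨j, hj, hj'⟩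
  · left; rw [hcard, h]
  · right
    refine ⟨j, by rw [hcard, hj], ?_⟩
    rw [← hΦroot, ← map_pow, hj', map_one]

end

theorem pairing_dual {p : ℕ} [hp : Fact p.Prime] {V : Type*} [AddCommGroup V] [Module (ZMod p) V]
    {M : Type*} [Group M] (φ ψ : Module.End (ZMod p) V) (B : V → V → M)
    (hBl : ∀ v v' w, B (v + v') w = B v w * B v' w)
    (hBr : ∀ v w w', B v (w + w') = B v w * B v w')
    (hBφ : ∀ v w, B (φ v) w = B v (ψ w))
    (hnd : ∀ w, (∀ v, B v w = 1) → w = 0)
    (f : (ZMod p)[X]) (hf : aeval φ f = 0) : aeval ψ f = 0 := by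
  have hB0 : ∀ w, B 0 w = 1 := by
    intro w
    have := hBl 0 0 w
    rw [add_zero] at this
    exact (left_eq_mul.mp this)
  have hnl : ∀ (n : ℕ) v w, B (n • v) w = B v w ^ n := by
    intro n v w
    induction n with
    | zero => rw [zero_smul, pow_zero, hB0]
    | succ k ih => rw [succ_nsmul, hBl, ih, pow_succ]
  have hB0r : ∀ v, B v 0 = 1 := by
    intro v
    have := hBr v 0 0
    rw [add_zero] at this
    exact (left_eq_mul.mp this)
  have hnr : ∀ (n : ℕ) v w, B v (n • w) = B v w ^ n := by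
    intro n v w
    induction n with
    | zero => rw [zero_smul, pow_zero, hB0r]
    | succ k ih => rw [succ_nsmul, hBr, ih, pow_succ]
  have hc : ∀ (c : ZMod p) v w, B (c • v) w = B v (c • w) := by
    intro c v w
    have h1 : c = ((c.val : ℕ) : ZMod p) := (ZMod.natCast_zmod_val c).symm
    rw [h1, Nat.cast_smul_eq_nsmul, Nat.cast_smul_eq_nsmul, hnl, hnr]
  have hpow : ∀ (n : ℕ) v w, B ((φ ^ n) v) w = B v ((ψ ^ n) w) := by
    intro n
    induction n with
    | zero => intro v w; rw [pow_zero, pow_zero, Module.End.one_apply, Module.End.one_apply]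
    | succ k ih =>
      intro v w
      rw [pow_succ, pow_succ', Module.End.mul_apply, Module.End.mul_apply, ih, hBφ]
  have key : ∀ f : (ZMod p)[X], ∀ v w, B (aeval φ f v) w = B v (aeval ψ f w) := by
    intro f
    induction f using Polynomial.induction_on' with
    | add f g hf hg =>
      intro v w
      rw [map_add, map_add, LinearMap.add_apply, LinearMap.add_apply, hBl, hBr, hf, hg]
    | monomial n a =>
      intro v w
      simp only [aeval_monomial, Algebra.algebraMap_eq_smul_one, smul_mul_assoc, one_mul,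
        LinearMap.smul_apply]
      rw [hc, hpow, map_smul]
  refine LinearMap.ext fun w => ?_
  rw [LinearMap.zero_apply]
  apply hnd
  intro v
  rw [← key, hf, LinearMap.zero_apply, hB0]

/-- the irreducible symplectic step -/
theorem symp_step {p : ℕ} [hp : Fact p.Prime] {V : Type*} [AddCommGroup V] [Module (ZMod p) V]
    [Finite V] {M : Type*} [Group M] (φ ψ : Module.End (ZMod p) V) (h1 : φ * ψ = 1)
    (h2 : ψ * φ = 1) (v₀ : V) (hv₀ : v₀ ≠ 0)
    (hirr : ∀ W : Submodule (ZMod p) V, (∀ w ∈ W, φ w ∈ W) → W = ⊥ ∨ W = ⊤)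
    (B : V → V → M)
    (hBl : ∀ v v' w, B (v + v') w = B v w * B v' w)
    (hBr : ∀ v w w', B v (w + w') = B v w * B v w')
    (hBφ : ∀ v w, B (φ v) w = B v (ψ w))
    (hnd : ∀ w, (∀ v, B v w = 1) → w = 0) :
    Nat.card V = p ∨ ∃ j : ℕ, Nat.card V = p ^ (2 * j) ∧ φ ^ (p ^ j + 1) = 1 :=
  field_step φ ψ h1 h2 v₀ hv₀ hirr (fun f hf => pairing_dual φ ψ B hBl hBr hBφ hnd f hf)

end Cfsg.Agent.Lib.helper17.SympField
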