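import Mathlib
import Cfsg.Agent.Lib.helper17.ExtraGroup
import Cfsg.Agent.Lib.helper17.SympField

/-!
# The irreducible nondegenerate case (helper17)
-/

set_option autoImplicit false

namespace Cfsg.Agent.Lib.helper17.SympBase

open Cfsg.Agent.Lib.helper17.ExtraGroup Cfsg.Agent.Lib.helper17.SympField
open Polynomial

variable {E : Type*} [Group E] {p : ℕ} {z : E}

/-- commutator in the shape used by `XCond`. -/
def cm (x y : E) : E := x * y * x⁻¹ * y⁻¹

theorem cm_mem (hE : XCond p (⊤ : Subgroup E) z) (x y : E) : cm x y ∈ Subgroup.zpowers z :=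
  hE.comm x (Subgroup.mem_top _) y (Subgroup.mem_top _)

theorem cm_mul_left (hE : XCond p (⊤ : Subgroup E) z) (x x' y : E) :
    cm (x * x') y = cm x y * cm x' y := by
  have := (hE.kap y (Subgroup.mem_top _)).map_mul ⟨x, Subgroup.mem_top _⟩ ⟨x', Subgroup.mem_top _⟩
  rw [XCond.kap_apply, XCond.kap_apply, XCond.kap_apply] at this
  exact this

theorem cm_inv_swap (x y : E) : (cm x y)⁻¹ = cm y x := by
  unfold cm; group

theorem cm_mul_right (hE : XCond p (⊤ : Subgroup E) z) (x y y' : E) :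
    cm x (y * y') = cm x y * cm x y' := by
  have h1 := cm_mul_left hE y y' x
  have h2 : cm x (y * y') = (cm (y * y') x)⁻¹ := (cm_inv_swap _ _).symm
  rw [h2, h1, mul_inv_rev, cm_inv_swap, cm_inv_swap]
  exact ((hE.zp_comm (cm_mem hE x y) (Subgroup.mem_top (cm x y'))).eq)

theorem cm_eq_one_iff (x y : E) : cm x y = 1 ↔ x * y = y * x := by
  unfold cm
  constructor
  · intro h
    have : x * y * x⁻¹ * y⁻¹ * (y * x) = y * x := by rw [h, one_mul]
    rw [← this]; group
  · intro h
    have : x * y * x⁻¹ * y⁻¹ = (x * y) * (y * x)⁻¹ := by group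
    rw [this, h, mul_inv_cancel]

theorem cm_central_left (hE : XCond p (⊤ : Subgroup E) z) {c : E} (hc : c ∈ Subgroup.zpowers z)
    (y : E) : cm c y = 1 :=
  (cm_eq_one_iff c y).mpr ((hE.zp_comm hc (Subgroup.mem_top y)).eq.symm)

theorem cm_central_right (hE : XCond p (⊤ : Subgroup E) z) {c : E} (hc : c ∈ Subgroup.zpowers z)
    (x : E) : cm x c = 1 :=
  (cm_eq_one_iff x c).mpr ((hE.zp_comm hc (Subgroup.mem_top x)).eq)

theorem cm_nondeg (hE : XCond p (⊤ : Subgroup E) z) (y : E) (h : ∀ x, cm x y = 1) :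
    y ∈ Subgroup.zpowers z :=
  hE.cent y (Subgroup.mem_top _) (fun x _ => ((cm_eq_one_iff x y).mp (h x)).symm)

theorem cm_map (α : E ≃* E) (x y : E) : cm (α x) (α y) = α (cm x y) := by
  unfold cm; rw [map_mul, map_mul, map_mul, map_inv, map_inv]

theorem map_zp_fixed (α : E ≃* E) (hαz : α z = z) {c : E} (hc : c ∈ Subgroup.zpowers z) :
    α c = c := by
  obtain ⟨k, rfl⟩ := Subgroup.mem_zpowers_iff.mp hc
  rw [map_zpow, hαz]

set_option maxHeartbeats 1600000 in
/-- the irreducible nondegenerate case, with an abstract model `π : E → V` of `E/⟨z⟩`. -/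
theorem base_aux [Finite E] [hp : Fact p.Prime] (hE : XCond p (⊤ : Subgroup E) z) (hz : z ≠ 1)
    (α : E ≃* E) (hαz : α z = z) (x₀ : E) (hx₀ : x₀ ∉ Subgroup.zpowers z)
    (hirr : ∀ Y : Subgroup E, Subgroup.zpowers z ≤ Y → (∀ y ∈ Y, α y ∈ Y) →
      Y = Subgroup.zpowers z ∨ Y = ⊤)
    {V : Type*} [CommGroup V] (π₀ : E →* V) (hπ₀surj : Function.Surjective π₀)
    (hπ₀ker : ∀ x, π₀ x = 1 ↔ x ∈ Subgroup.zpowers z)
    (ā ā' : V →* V) (hā : ∀ x, ā (π₀ x) = π₀ (α x)) (hā' : ∀ x, ā' (π₀ x) = π₀ (α.symm x)) :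
    ∃ m : ℕ, Nat.card E = p ^ (2 * m + 1) ∧
      ∀ x : E, x⁻¹ * ((α : MulAut E) ^ (p ^ m + 1)) x ∈ Subgroup.zpowers z := by
  set N := Subgroup.zpowers z with hNdef
  have hexp : ∀ v : V, v ^ p = 1 := by
    intro v
    obtain ⟨x, rfl⟩ := hπ₀surj v
    rw [← map_pow, hπ₀ker]
    exact hE.pow_p_mem (Subgroup.mem_top x)
  have hM : ∀ x : Additive V, p • x = 0 := fun x => congrArg Additive.ofMul (hexp x.toMul)
  have iM : Module (ZMod p) (Additive V) := AddCommGroup.zmodModule hM
  -- the projection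
  let π : E → Additive V := fun x => Additive.ofMul (π₀ x)
  have hπsurj : Function.Surjective π := by
    intro v
    obtain ⟨x, hx⟩ := hπ₀surj v.toMul
    exact ⟨x, congrArg Additive.ofMul hx⟩
  have hπmul : ∀ x y, π (x * y) = π x + π y := fun x y => by
    show Additive.ofMul (π₀ (x * y)) = Additive.ofMul (π₀ x) + Additive.ofMul (π₀ y)
    rw [map_mul]; rfl
  have hπ0 : ∀ x, π x = 0 ↔ x ∈ N := by
    intro x
    constructor
    · intro h
      exact (hπ₀ker x).mp (congrArg Additive.toMul h)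
    · intro h
      exact congrArg Additive.ofMul ((hπ₀ker x).mpr h)
  have hπeq : ∀ x y, π x = π y ↔ x⁻¹ * y ∈ N := by
    intro x y
    rw [← hπ₀ker, map_mul, map_inv, inv_mul_eq_one]
    constructor
    · intro h; exact congrArg Additive.toMul h
    · intro h; exact congrArg Additive.ofMul h
  have hαsz : α.symm z = z := by
    rw [MulEquiv.symm_apply_eq, hαz]
  let φ : Module.End (ZMod p) (Additive V) := (MonoidHom.toAdditive ā).toZModLinearMap p
  let ψ : Module.End (ZMod p) (Additive V) := (MonoidHom.toAdditive ā').toZModLinearMap p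
  have hφπ : ∀ x, φ (π x) = π (α x) := fun x => congrArg Additive.ofMul (hā x)
  have hψπ : ∀ x, ψ (π x) = π (α.symm x) := fun x => congrArg Additive.ofMul (hā' x)
  have h1 : φ * ψ = 1 := by
    refine LinearMap.ext fun v => ?_
    obtain ⟨x, rfl⟩ := hπsurj v
    rw [Module.End.mul_apply, hψπ, hφπ, MulEquiv.apply_symm_apply, Module.End.one_apply]
  have h2 : ψ * φ = 1 := by
    refine LinearMap.ext fun v => ?_
    obtain ⟨x, rfl⟩ := hπsurj v
    rw [Module.End.mul_apply, hφπ, hψπ, MulEquiv.symm_apply_apply, Module.End.one_apply]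
  have hv₀ : π x₀ ≠ 0 := fun h => hx₀ ((hπ0 x₀).mp h)
  -- irreducibility
  have hirr' : ∀ W : Submodule (ZMod p) (Additive V), (∀ w ∈ W, φ w ∈ W) → W = ⊥ ∨ W = ⊤ := by
    intro W hW
    let Y : Subgroup E :=
      { carrier := {x | π x ∈ W}
        mul_mem' := by
          intro a b ha hb
          show π (a * b) ∈ W
          rw [hπmul]; exact W.add_mem ha hb
        one_mem' := by
          show π 1 ∈ W
          have : π 1 = 0 := (hπ0 1).mpr N.one_mem
          rw [this]; exact W.zero_mem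
        inv_mem' := by
          intro a ha
          show π a⁻¹ ∈ W
          have : π a⁻¹ = - π a := by
            show Additive.ofMul (π₀ a⁻¹) = - Additive.ofMul (π₀ a)
            rw [map_inv]; rfl
          rw [this]; exact W.neg_mem ha }
    have hYmem : ∀ x, x ∈ Y ↔ π x ∈ W := fun x => Iff.rfl
    have hNY : N ≤ Y := by
      intro c hc
      rw [hYmem, (hπ0 c).mpr hc]; exact W.zero_mem
    rcases hirr Y hNY (fun y hy => by rw [hYmem, ← hφπ]; exact hW _ hy) with h | h
    · left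
      rw [eq_bot_iff]
      intro w hw
      obtain ⟨x, rfl⟩ := hπsurj w
      have : x ∈ Y := hw
      rw [h] at this
      rw [Submodule.mem_bot, hπ0]; exact this
    · right
      rw [eq_top_iff]
      intro w _
      obtain ⟨x, rfl⟩ := hπsurj w
      have : x ∈ Y := by rw [h]; exact Subgroup.mem_top x
      exact this
  -- the pairing
  let σ : Additive V → E := fun v => Function.surjInv hπsurj v
  have hσ : ∀ v, π (σ v) = v := fun v => Function.surjInv_eq hπsurj v
  let B : Additive V → Additive V → E := fun v w => cm (σ v) (σ w)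
  have hcm_congr : ∀ x x' y y', π x = π x' → π y = π y' → cm x y = cm x' y' := by
    intro x x' y y' hx hy
    have hx' := (hπeq x x').mp hx
    have hy' := (hπeq y y').mp hy
    obtain ⟨c, hc, rfl⟩ : ∃ c ∈ N, x' = x * c := ⟨x⁻¹ * x', hx', by group⟩
    obtain ⟨d, hd, rfl⟩ : ∃ d ∈ N, y' = y * d := ⟨y⁻¹ * y', hy', by group⟩
    rw [cm_mul_left hE, cm_central_left hE hc, mul_one, cm_mul_right hE, cm_central_right hE hd,
      mul_one]
  have hBπ : ∀ x y, B (π x) (π y) = cm x y := fun x y => hcm_congr _ _ _ _ (hσ _) (hσ _)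
  have hBl : ∀ v v' w, B (v + v') w = B v w * B v' w := by
    intro v v' w
    obtain ⟨x, rfl⟩ := hπsurj v
    obtain ⟨x', rfl⟩ := hπsurj v'
    obtain ⟨y, rfl⟩ := hπsurj w
    rw [← hπmul, hBπ, hBπ, hBπ, cm_mul_left hE]
  have hBr : ∀ v w w', B v (w + w') = B v w * B v w' := by
    intro v w w'
    obtain ⟨x, rfl⟩ := hπsurj v
    obtain ⟨y, rfl⟩ := hπsurj w
    obtain ⟨y', rfl⟩ := hπsurj w'
    rw [← hπmul, hBπ, hBπ, hBπ, cm_mul_right hE]
  have hBφ : ∀ v w, B (φ v) w = B v (ψ w) := by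
    intro v w
    obtain ⟨x, rfl⟩ := hπsurj v
    obtain ⟨y, rfl⟩ := hπsurj w
    rw [hφπ, hψπ, hBπ, hBπ]
    have e : cm (α x) y = cm (α x) (α (α.symm y)) := by rw [MulEquiv.apply_symm_apply]
    rw [e, cm_map, map_zp_fixed α hαz (cm_mem hE _ _)]
  have hnd : ∀ w, (∀ v, B v w = 1) → w = 0 := by
    intro w hw
    obtain ⟨y, rfl⟩ := hπsurj w
    rw [hπ0]
    refine cm_nondeg hE y (fun x => ?_)
    rw [← hBπ]; exact hw _
  have hfinV : Finite (Additive V) := Finite.of_surjective π hπsurj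
  have hstep := symp_step φ ψ h1 h2 (π x₀) hv₀ hirr' B hBl hBr hBφ hnd
  have hcardV : Nat.card (Additive V) = Nat.card V := rfl
  have hcardN : Nat.card N = p := hE.card_zp hz
  have hker : π₀.ker = N := by
    ext x
    rw [MonoidHom.mem_ker, hπ₀ker]
  have hcardE : Nat.card E = Nat.card V * p := by
    rw [← hcardN, ← hker, ← Nat.card_congr (QuotientGroup.quotientKerEquivOfSurjective π₀ hπ₀surj).toEquiv]
    exact Subgroup.card_eq_card_quotient_mul_card_subgroup _
  rcases hstep with h | ⟨j, hj, hj'⟩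
  · exfalso
    rw [hcardV] at h
    rw [h] at hcardE
    have hab' : IsMulCommutative E :=
      IsPGroup.isMulCommutative_of_card_eq_prime_sq (p := p) (by rw [hcardE, sq])
    have hab : ∀ a b : E, a * b = b * a := fun a b => hab'.is_comm.comm a b
    exact hx₀ (hE.cent x₀ (Subgroup.mem_top _) (fun h _ => hab x₀ h))
  · refine ⟨j, ?_, ?_⟩
    · rw [hcardE, ← hcardV, hj, pow_succ]
    · have hpow : ∀ (n : ℕ) (x : E), (φ ^ n) (π x) = π (((α : MulAut E) ^ n) x) := by
        intro n
        induction n with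
        | zero => intro x; rw [pow_zero, pow_zero, Module.End.one_apply, MulAut.one_apply]
        | succ k ih =>
          intro x
          rw [pow_succ', pow_succ', Module.End.mul_apply, ih, hφπ, MulAut.mul_apply]
      intro x
      rw [← hπeq, ← hpow, hj', Module.End.one_apply]

/-- the irreducible nondegenerate case -/
theorem base [Finite E] [hp : Fact p.Prime] (hE : XCond p (⊤ : Subgroup E) z) (hz : z ≠ 1)
    (α : E ≃* E) (hαz : α z = z) (x₀ : E) (hx₀ : x₀ ∉ Subgroup.zpowers z)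
    (hirr : ∀ Y : Subgroup E, Subgroup.zpowers z ≤ Y → (∀ y ∈ Y, α y ∈ Y) →
      Y = Subgroup.zpowers z ∨ Y = ⊤) :
    ∃ m : ℕ, Nat.card E = p ^ (2 * m + 1) ∧
      ∀ x : E, x⁻¹ * ((α : MulAut E) ^ (p ^ m + 1)) x ∈ Subgroup.zpowers z := by
  have hN : (Subgroup.zpowers z).Normal := ⟨fun n hn g => by
    rw [(hE.zp_comm hn (Subgroup.mem_top g)).eq, mul_inv_cancel_right]; exact hn⟩
  have hcomm : ∀ a b : E ⧸ Subgroup.zpowers z, a * b = b * a := by
    intro a b
    induction a using QuotientGroup.induction_on with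
    | H a =>
      induction b using QuotientGroup.induction_on with
      | H b =>
        rw [← QuotientGroup.mk_mul, ← QuotientGroup.mk_mul, QuotientGroup.eq]
        have h := cm_mem hE b⁻¹ a⁻¹
        have e : (a * b)⁻¹ * (b * a) = cm b⁻¹ a⁻¹ := by unfold cm; group
        rw [e]; exact h
  have hαN : ∀ (β : E ≃* E), β z = z →
      Subgroup.zpowers z ≤ (Subgroup.zpowers z).comap β.toMonoidHom := by
    intro β hβ c hc
    rw [Subgroup.mem_comap]
    have : β c = c := map_zp_fixed β hβ hc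
    show β c ∈ Subgroup.zpowers z
    rw [this]; exact hc
  have hαsz : α.symm z = z := by
    rw [MulEquiv.symm_apply_eq, hαz]
  let _ : CommGroup (E ⧸ Subgroup.zpowers z) :=
    { (inferInstance : Group (E ⧸ Subgroup.zpowers z)) with mul_comm := hcomm }
  exact base_aux hE hz α hαz x₀ hx₀ hirr (QuotientGroup.mk' (Subgroup.zpowers z))
    (QuotientGroup.mk'_surjective _) (fun x => QuotientGroup.eq_one_iff x)
    (QuotientGroup.map _ _ α.toMonoidHom (hαN α hαz))
    (QuotientGroup.map _ _ α.symm.toMonoidHom (hαN α.symm hαsz)) (fun x => rfl) (fun x => rfl)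

end Cfsg.Agent.Lib.helper17.SympBase
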