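import Mathlib
import Cfsg.Agent.Lib.helper17.ExtraGroup
import Cfsg.Agent.Lib.helper17.SympGroup
import Cfsg.Agent.Lib.helper17.SympAct
import Cfsg.Agent.Lib.helper17.SympBase
import Cfsg.Agent.Lib.helper23.MaschkeGrp

/-!
# Cyclic groups acting on extraspecial groups with fixed points only in the centre (helper17)
-/

set_option autoImplicit false

namespace Cfsg.Agent.Lib.helper17.SympMain

open Cfsg.Agent.Lib.helper17.ExtraGroup Cfsg.Agent.Lib.helper17.SympGroup
  Cfsg.Agent.Lib.helper17.SympAct Cfsg.Agent.Lib.helper17.SympBase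

/-- the sign condition -/
def Good (h p m : ℕ) : Prop := (p : ZMod h) ^ m = 1 ∨ (p : ZMod h) ^ m = -1

theorem Good.add {h p m₁ m₂ : ℕ} (h1 : Good h p m₁) (h2 : Good h p m₂) : Good h p (m₁ + m₂) := by
  unfold Good at *
  rw [pow_add]
  rcases h1 with h1 | h1 <;> rcases h2 with h2 | h2 <;> rw [h1, h2]
  · left; ring
  · right; ring
  · right; ring
  · left; ring

theorem Good.zero (h p : ℕ) : Good h p 0 := Or.inl (pow_zero _)

theorem card_combine {p a b c m₁ m₂ : ℕ} (hp : 0 < p) (ha : a = p ^ (2 * m₁ + 1))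
    (hb : b = p ^ (2 * m₂ + 1)) (habc : a * b = p * c) : c = p ^ (2 * (m₁ + m₂) + 1) := by
  subst ha hb
  have : p * c = p * p ^ (2 * (m₁ + m₂) + 1) := by
    rw [← habc, ← pow_add, ← pow_succ']
    congr 1; ring
  exact Nat.eq_of_mul_eq_mul_left hp this

theorem good_of_dvd_sub {h p d : ℕ} (hp : 0 < p) (hcop : h.Coprime p)
    (hd : h ∣ p ^ (d + 1) - p) : Good h p d := by
  left
  have h1 : p ^ (d + 1) - p = p * (p ^ d - 1) := by
    rw [Nat.mul_sub, mul_one, pow_succ']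
  rw [h1] at hd
  have h2 : h ∣ p ^ d - 1 := hcop.dvd_of_dvd_mul_left hd
  have h3 : ((p ^ d - 1 : ℕ) : ZMod h) = 0 := (ZMod.natCast_eq_zero_iff _ _).mpr h2
  have h4 : 1 ≤ p ^ d := Nat.one_le_pow _ _ hp
  rw [Nat.cast_sub h4, Nat.cast_pow, Nat.cast_one, sub_eq_zero] at h3
  exact h3

theorem good_of_dvd_add {h p m : ℕ} (hd : h ∣ p ^ m + 1) : Good h p m := by
  right
  have h3 : ((p ^ m + 1 : ℕ) : ZMod h) = 0 := (ZMod.natCast_eq_zero_iff _ _).mpr hd
  rw [Nat.cast_add, Nat.cast_pow, Nat.cast_one] at h3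
  exact eq_neg_of_add_eq_zero_left h3

theorem Good.dvd {h p n : ℕ} (hp : 0 < p) (hg : Good h p n) : h ∣ p ^ n + 1 ∨ h ∣ p ^ n - 1 := by
  rcases hg with hg | hg
  · right
    rw [← ZMod.natCast_eq_zero_iff, Nat.cast_sub (Nat.one_le_pow _ _ hp), Nat.cast_pow, Nat.cast_one,
      hg, sub_self]
  · left
    rw [← ZMod.natCast_eq_zero_iff, Nat.cast_add, Nat.cast_pow, Nat.cast_one, hg, neg_add_cancel]

variable {Q : Type*} [Group Q] {p : ℕ} {z : Q}

theorem mem_zp_sub {X : Subgroup Q} (hzX : z ∈ X) (g : ↥X) :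
    g ∈ Subgroup.zpowers (⟨z, hzX⟩ : ↥X) ↔ g.1 ∈ Subgroup.zpowers z := by
  constructor
  · intro h
    obtain ⟨k, hk⟩ := Subgroup.mem_zpowers_iff.mp h
    refine Subgroup.mem_zpowers_iff.mpr ⟨k, ?_⟩
    rw [← hk, Subgroup.coe_zpow]
  · intro h
    obtain ⟨k, hk⟩ := Subgroup.mem_zpowers_iff.mp h
    refine Subgroup.mem_zpowers_iff.mpr ⟨k, ?_⟩
    apply Subtype.ext
    rw [Subgroup.coe_zpow, ← hk]

section Action

variable {A : Type*} [Group A] [MulDistribMulAction A Q]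

set_option maxHeartbeats 800000 in
/-- the irreducible case inside `Q` -/
theorem base_sub [Finite Q] [hp : Fact p.Prime] (hQ : XCond p (⊤ : Subgroup Q) z) (hz : z ≠ 1)
    (a₀ : A) (hfz : ∀ a : A, a • z = z) {X : Subgroup Q}
    (hXinv : ∀ a : A, ∀ x ∈ X, a • x ∈ X) (hX : ND z X)
    (x₁ : Q) (hx₁X : x₁ ∈ X) (hx₁ : x₁ ∉ Subgroup.zpowers z)
    (hirr : ∀ Y : Subgroup Q, Subgroup.zpowers z ≤ Y → Y ≤ X → (∀ y ∈ Y, a₀ • y ∈ Y) →
      Y = Subgroup.zpowers z ∨ Y = X) :
    ∃ m : ℕ, Nat.card X = p ^ (2 * m + 1) ∧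
      ∀ x ∈ X, x⁻¹ * (a₀ ^ (p ^ m + 1)) • x ∈ Subgroup.zpowers z := by
  have hzX : z ∈ X := hX.1 (Subgroup.mem_zpowers z)
  set z' : ↥X := ⟨z, hzX⟩ with hz'def
  have hE : XCond p (⊤ : Subgroup ↥X) z' := by
    refine ⟨Subgroup.mem_top _, fun g _ => Subtype.ext (hQ.zcent g.1 (Subgroup.mem_top _)), ?_, ?_, ?_⟩
    · apply Subtype.ext
      rw [Subgroup.coe_pow]
      exact hQ.zpow
    · intro g _ H
      rw [mem_zp_sub hzX]
      exact hX.2 g.1 g.2 (fun h hh => congrArg Subtype.val (H ⟨h, hh⟩ (Subgroup.mem_top _)))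
    · intro g _ h _
      rw [mem_zp_sub hzX]
      exact hQ.comm g.1 (Subgroup.mem_top _) h.1 (Subgroup.mem_top _)
  have hz' : z' ≠ 1 := fun h => hz (congrArg Subtype.val h)
  let α : ↥X ≃* ↥X :=
    { toFun := fun x => ⟨a₀ • x.1, hXinv a₀ x.1 x.2⟩
      invFun := fun x => ⟨a₀⁻¹ • x.1, hXinv a₀⁻¹ x.1 x.2⟩
      left_inv := fun x => Subtype.ext (inv_smul_smul a₀ x.1)
      right_inv := fun x => Subtype.ext (smul_inv_smul a₀ x.1)
      map_mul' := fun x y => Subtype.ext (smul_mul' a₀ x.1 y.1) }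
  have hα : ∀ x : ↥X, (α x).1 = a₀ • x.1 := fun x => rfl
  have hαz : α z' = z' := Subtype.ext (hfz a₀)
  have hx₀ : (⟨x₁, hx₁X⟩ : ↥X) ∉ Subgroup.zpowers z' := by
    rw [mem_zp_sub hzX]; exact hx₁
  have hirr' : ∀ Y : Subgroup ↥X, Subgroup.zpowers z' ≤ Y → (∀ y ∈ Y, α y ∈ Y) →
      Y = Subgroup.zpowers z' ∨ Y = ⊤ := by
    intro Y' hZY' hY'inv
    have hZY : Subgroup.zpowers z ≤ Y'.map X.subtype := by
      intro c hc
      have hcX : c ∈ X := hX.1 hc
      have : (⟨c, hcX⟩ : ↥X) ∈ Subgroup.zpowers z' := (mem_zp_sub hzX _).mpr hc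
      exact ⟨⟨c, hcX⟩, hZY' this, rfl⟩
    have hYX : Y'.map X.subtype ≤ X := Subgroup.map_subtype_le Y'
    have hYinv : ∀ y ∈ Y'.map X.subtype, a₀ • y ∈ Y'.map X.subtype := by
      rintro _ ⟨x, hx, rfl⟩
      exact ⟨α x, hY'inv x hx, rfl⟩
    rcases hirr _ hZY hYX hYinv with h | h
    · left
      refine le_antisymm ?_ hZY'
      intro g hg
      rw [mem_zp_sub hzX, ← h]
      exact ⟨g, hg, rfl⟩
    · right
      rw [eq_top_iff]
      intro g _
      have : g.1 ∈ Y'.map X.subtype := by rw [h]; exact g.2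
      obtain ⟨x, hx, hxg⟩ := this
      have : x = g := Subtype.ext hxg
      rw [← this]; exact hx
  obtain ⟨m, hm, hm'⟩ := base hE hz' α hαz ⟨x₁, hx₁X⟩ hx₀ hirr'
  refine ⟨m, hm, ?_⟩
  have hpow : ∀ (n : ℕ) (x : ↥X), (((α : MulAut ↥X) ^ n) x).1 = a₀ ^ n • x.1 := by
    intro n
    induction n with
    | zero => intro x; rw [pow_zero, pow_zero, MulAut.one_apply, one_smul]
    | succ k ih =>
      intro x
      rw [pow_succ', pow_succ', MulAut.mul_apply, mul_smul, ← ih]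
      rfl
  intro x hx
  have := hm' ⟨x, hx⟩
  rw [mem_zp_sub hzX] at this
  rw [Subgroup.coe_mul, Subgroup.coe_inv, hpow] at this
  exact this

/-- an operator acting trivially modulo the centre is trivial -/
theorem eq_one_of_congr [Finite A] [Fact p.Prime] (hQ : XCond p (⊤ : Subgroup Q) z)
    (hfz : ∀ a : A, a • z = z)
    (hfree : ∀ a : A, a ≠ 1 → ∀ x : Q, a • x = x → x ∈ Subgroup.zpowers z)
    (hcop : (Nat.card A).Coprime p) (b : A) (x₁ : Q) (hx₁ : x₁ ∉ Subgroup.zpowers z)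
    (h : x₁⁻¹ * b • x₁ ∈ Subgroup.zpowers z) : b = 1 := by
  set c := x₁⁻¹ * b • x₁ with hc
  have hbx : b • x₁ = x₁ * c := by rw [hc]; group
  have hpow : ∀ i : ℕ, b ^ i • x₁ = x₁ * c ^ i := by
    intro i
    induction i with
    | zero => rw [pow_zero, pow_zero, one_smul, mul_one]
    | succ k ih =>
      rw [pow_succ', mul_smul, ih, smul_mul', hbx,
        smul_zp_fixed hfz b (pow_mem h k), pow_succ', mul_assoc]
  have hbp : b ^ p = 1 := by
    by_contra hne
    apply hx₁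
    apply hfree _ hne
    rw [hpow, hQ.zp_pow h, mul_one]
  have h1 : orderOf b ∣ p := orderOf_dvd_of_pow_eq_one hbp
  have h2 : orderOf b ∣ Nat.card A := orderOf_dvd_natCard b
  have h3 : orderOf b ∣ 1 := by
    have := Nat.dvd_gcd h2 h1
    rwa [Nat.Coprime.gcd_eq_one hcop] at this
  exact orderOf_eq_one_iff.mp (Nat.dvd_one.mp h3)

theorem inv_of_gen [Finite A] (a₀ : A) (hgen : ∀ b : A, b ∈ Subgroup.zpowers a₀) {Y : Subgroup Q}
    (h : ∀ y ∈ Y, a₀ • y ∈ Y) : Inv A Y := by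
  have hk : ∀ (k : ℕ) (y : Q), y ∈ Y → a₀ ^ k • y ∈ Y := by
    intro k
    induction k with
    | zero => intro y hy; rw [pow_zero, one_smul]; exact hy
    | succ k ih =>
      intro y hy
      rw [pow_succ', mul_smul]
      exact h _ (ih y hy)
  intro b y hy
  obtain ⟨k, rfl⟩ : ∃ k : ℕ, a₀ ^ k = b := mem_powers_iff_mem_zpowers.mpr (hgen b)
  exact hk k y hy

set_option maxHeartbeats 800000 in
/-- an invariant abelian subgroup lies in an invariant nondegenerate one of twice the rank -/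
theorem hyperbolic [Finite Q] [Finite A] [hp : Fact p.Prime] (hQ : XCond p (⊤ : Subgroup Q) z)
    (hz : z ≠ 1) (hfz : ∀ a : A, a • z = z) (hcop : (Nat.card A).Coprime p)
    {X Y : Subgroup Q} (hXinv : Inv A X) (hX : ND z X) (hYinv : Inv A Y)
    (hZY : Subgroup.zpowers z ≤ Y) (hYX : Y ≤ X) (hYab : ∀ u ∈ Y, ∀ v ∈ Y, u * v = v * u) :
    ∃ X₁ : Subgroup Q, Inv A X₁ ∧ ND z X₁ ∧ X₁ ≤ X ∧ Y ≤ X₁ ∧
      Nat.card X₁ * p = Nat.card Y * Nat.card Y := by
  set N := Subgroup.zpowers z with hN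
  have hcardN : Nat.card N = p := hQ.card_zp hz
  have hppos : 0 < p := hp.out.pos
  set C := X ⊓ Subgroup.centralizer (Y : Set Q) with hC
  have hYC : Y ≤ C := le_inf hYX (fun u hu => mem_cent_iff.mpr (fun v hv => hYab u hu v hv))
  have hCinv : Inv A C := hXinv.inf hYinv.cent
  have hZC : N ≤ C := hZY.trans hYC
  have hCX : C ≤ X := inf_le_left
  have hNn : N.Normal := normal_of_le hQ le_rfl
  have hcomm : ∀ x y : Q, (x * y)⁻¹ * (y * x) ∈ N := by
    intro x y
    have := hQ.comm y⁻¹ (Subgroup.mem_top _) x⁻¹ (Subgroup.mem_top _)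
    have e : (x * y)⁻¹ * (y * x) = y⁻¹ * x⁻¹ * y⁻¹⁻¹ * x⁻¹⁻¹ := by group
    rw [e]; exact this
  have hexp : ∀ x : Q, x ^ p ∈ N := fun x => hQ.pow_p_mem (Subgroup.mem_top x)
  obtain ⟨W₀, hZW₀, hW₀inv, hCW₀, hsup⟩ :=
    Cfsg.Agent.Lib.helper23.exists_invariant_supplement N (Inv.zp hfz) p hcomm hexp hcop C hCinv
  set W := W₀ ⊓ X with hW
  have hZW : N ≤ W := le_inf hZW₀ hX.1
  have hWinv : Inv A W := Inv.inf hW₀inv hXinv
  have hWX : W ≤ X := inf_le_right
  have hCW : C ⊓ W = N := by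
    apply le_antisymm
    · intro g hg
      rw [Subgroup.mem_inf] at hg
      exact hCW₀ (Subgroup.mem_inf.mpr ⟨hg.1, (Subgroup.mem_inf.mp hg.2).1⟩)
    · exact le_inf hZC hZW
  have hCn : C.Normal := normal_of_le hQ hZC
  have hWn : W.Normal := normal_of_le hQ hZW
  have hYn : Y.Normal := normal_of_le hQ hZY
  have hCWX : C ⊔ W = X := by
    apply le_antisymm (sup_le hCX hWX)
    intro x hx
    have hx' : x ∈ C ⊔ W₀ := by rw [hsup]; exact Subgroup.mem_top x
    obtain ⟨c, hc, w, hw, rfl⟩ := Subgroup.mem_sup_of_normal_left.mp hx'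
    refine Subgroup.mul_mem_sup hc (Subgroup.mem_inf.mpr ⟨hw, ?_⟩)
    have : w = c⁻¹ * (c * w) := by group
    rw [this]
    exact X.mul_mem (X.inv_mem (hCX hc)) hx
  -- |X| p = |C| |W|
  have hprod1 := card_sup_mul_card_inf C W
  rw [hCWX, hCW, hcardN] at hprod1
  have hmeas1 := card_mul_le hQ hz X Y hZY
  rw [← hC] at hmeas1
  have hCpos : 0 < Nat.card C := Nat.card_pos
  have hWY : Nat.card W ≤ Nat.card Y := by
    have : Nat.card C * Nat.card W ≤ Nat.card C * Nat.card Y := by rw [← hprod1]; exact hmeas1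
    exact Nat.le_of_mul_le_mul_left this hCpos
  -- C_Y(W) = Z
  have hYcW : Y ⊓ Subgroup.centralizer (W : Set Q) ≤ N := by
    intro u hu
    rw [Subgroup.mem_inf] at hu
    apply hX.2 u (hYX hu.1)
    rw [← hCWX]
    apply comm_sup
    · intro c hc
      have := mem_cent_iff.mp (Subgroup.mem_inf.mp hc).2 u hu.1
      exact this.symm
    · exact mem_cent_iff.mp hu.2
  have hmeas2 := card_mul_le hQ hz Y W hZW
  have hYW : Nat.card Y ≤ Nat.card W := by
    have h1 : Nat.card ↥(Y ⊓ Subgroup.centralizer (W : Set Q)) ≤ p := by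
      rw [← hcardN]; exact Subgroup.card_le_of_le hYcW
    have h2 : Nat.card Y * p ≤ p * Nat.card W := hmeas2.trans (Nat.mul_le_mul_right _ h1)
    rw [mul_comm] at h2
    exact Nat.le_of_mul_le_mul_left h2 hppos
  have hcardW : Nat.card W = Nat.card Y := le_antisymm hWY hYW
  -- X₁
  have hYWinf : Y ⊓ W = N := by
    apply le_antisymm
    · rw [← hCW]; exact inf_le_inf_right W hYC
    · exact le_inf hZY hZW
  refine ⟨Y ⊔ W, hYinv.sup hWinv, ⟨hZY.trans le_sup_left, ?_⟩, sup_le hYX hWX, le_sup_left, ?_⟩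
  · intro u hu hucomm
    obtain ⟨y, hy, w, hw, rfl⟩ := Subgroup.mem_sup_of_normal_right.mp hu
    -- w centralizes Y
    have hwC : w ∈ C := by
      refine Subgroup.mem_inf.mpr ⟨hWX hw, mem_cent_iff.mpr ?_⟩
      intro v hv
      have h1 := hucomm v (le_sup_left (b := W) hv)
      have h2 := hYab y hy v hv
      have e1 : w * v = y⁻¹ * (y * w * v) := by group
      rw [e1, h1]
      have e2 : y⁻¹ * (v * (y * w)) = y⁻¹ * (v * y) * w := by group
      rw [e2, ← h2]
      group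
    have hwN : w ∈ N := by rw [← hCW]; exact Subgroup.mem_inf.mpr ⟨hwC, hw⟩
    have huY : y * w ∈ Y := Y.mul_mem hy (hZY hwN)
    apply hX.2 _ (hYX huY)
    rw [← hCWX]
    apply comm_sup
    · intro c hc
      have := mem_cent_iff.mp (Subgroup.mem_inf.mp hc).2 _ huY
      exact this.symm
    · intro v hv
      exact hucomm v (le_sup_right (a := Y) hv)
  · have := card_sup_mul_card_inf Y W
    rw [hYWinf, hcardN, hcardW] at this
    exact this

set_option maxHeartbeats 1600000 in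
/-- the main induction -/
theorem main_ind [Finite Q] [Finite A] [hp : Fact p.Prime] (hQ : XCond p (⊤ : Subgroup Q) z)
    (hz : z ≠ 1) (a₀ : A) (hgen : ∀ b : A, b ∈ Subgroup.zpowers a₀)
    (hfz : ∀ a : A, a • z = z)
    (hfree : ∀ a : A, a ≠ 1 → ∀ x : Q, a • x = x → x ∈ Subgroup.zpowers z)
    (hcop : (Nat.card A).Coprime p) :
    ∀ n : ℕ, ∀ X : Subgroup Q, Nat.card X ≤ n → Inv A X → ND z X →
      ∃ m : ℕ, Nat.card X = p ^ (2 * m + 1) ∧ Good (Nat.card A) p m := by
  set N := Subgroup.zpowers z with hN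
  have hcardN : Nat.card N = p := hQ.card_zp hz
  have hppos : 0 < p := hp.out.pos
  have hp2 : 2 ≤ p := hp.out.two_le
  have hNinv : Inv A N := Inv.zp hfz
  intro n
  induction n with
  | zero =>
    intro X hXn
    have : 0 < Nat.card X := Nat.card_pos
    omega
  | succ n ih =>
    intro X hXn hXinv hX
    by_cases hXN : X = N
    · refine ⟨0, ?_, Good.zero _ _⟩
      rw [hXN, hcardN, mul_zero, zero_add, pow_one]
    -- a minimal invariant subgroup above `N`
    let S : Set (Subgroup Q) := {Y | Inv A Y ∧ N ≤ Y ∧ Y ≤ X ∧ Y ≠ N}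
    have hSne : S.Nonempty := ⟨X, hXinv, hX.1, le_rfl, hXN⟩
    obtain ⟨Y, ⟨hYinv, hZY, hYX, hYN⟩, hYmin⟩ :=
      (InvImage.wf (fun Y : Subgroup Q => Nat.card Y) Nat.lt_wfRel.wf).has_min S hSne
    have hmin : ∀ Y' : Subgroup Q, Inv A Y' → N ≤ Y' → Y' ≤ Y → Y' = N ∨ Y' = Y := by
      intro Y' h1 h2 h3
      by_cases h4 : Y' = N
      · exact Or.inl h4
      · right
        have h5 : ¬ Nat.card Y' < Nat.card Y := hYmin Y' ⟨h1, h2, h3.trans hYX, h4⟩
        exact Subgroup.eq_of_le_of_card_ge h3 (by omega)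
    have hYcard : p * p ≤ Nat.card Y := by
      have := mul_card_le_of_lt hQ hZY (Ne.symm hYN)
      rwa [hcardN] at this
    have hXle : Nat.card Y ≤ Nat.card X := Subgroup.card_le_of_le hYX
    -- the centre of Y
    have hC₀inv : Inv A (Y ⊓ Subgroup.centralizer (Y : Set Q)) := hYinv.inf hYinv.cent
    rcases hmin _ hC₀inv (le_inf hZY (zp_le_cent hQ Y)) inf_le_left with hC₀ | hC₀
    · -- Y nondegenerate
      have hYnd : ND z Y := by
        refine ⟨hZY, fun g hg hcomm => ?_⟩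
        have : g ∈ Y ⊓ Subgroup.centralizer (Y : Set Q) :=
          Subgroup.mem_inf.mpr ⟨hg, mem_cent_iff.mpr hcomm⟩
        rw [hC₀] at this
        exact this
      by_cases hYeqX : Y = X
      · -- irreducible case
        subst hYeqX
        obtain ⟨x₁, hx₁Y, hx₁⟩ : ∃ x ∈ Y, x ∉ N := by
          by_contra hcon
          push Not at hcon
          exact hYN (le_antisymm hcon hZY)
        obtain ⟨m, hm, hm'⟩ := base_sub hQ hz a₀ hfz hYinv hYnd x₁ hx₁Y hx₁
          (fun Y' h1 h2 h3 => hmin Y' (inv_of_gen a₀ hgen h3) h1 h2)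
        refine ⟨m, hm, ?_⟩
        have hb := eq_one_of_congr hQ hfz hfree hcop (a₀ ^ (p ^ m + 1)) x₁ hx₁ (hm' x₁ hx₁Y)
        have hord : orderOf a₀ = Nat.card A := orderOf_eq_card_of_forall_mem_zpowers hgen
        apply good_of_dvd_add
        rw [← hord]
        exact orderOf_dvd_of_pow_eq_one hb
      · -- split off Y
        obtain ⟨hX₂nd, hX₂card⟩ := split hQ hz hX hYnd hYX
        set X₂ := X ⊓ Subgroup.centralizer (Y : Set Q) with hX₂
        have hX₂inv : Inv A X₂ := hXinv.inf hYinv.cent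
        have hYlt : Nat.card Y < Nat.card X := by
          by_contra hcon
          exact hYeqX (Subgroup.eq_of_le_of_card_ge hYX (by omega))
        have hX₂pos : 0 < Nat.card X₂ := Nat.card_pos
        have hX₂lt : Nat.card X₂ < Nat.card X := by
          have h1 : p * p * Nat.card X₂ ≤ p * Nat.card X := by
            rw [← hX₂card]; exact Nat.mul_le_mul_right _ hYcard
          have h2 : p * Nat.card X₂ ≤ Nat.card X := by
            rw [mul_assoc] at h1
            exact Nat.le_of_mul_le_mul_left h1 hppos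
          have h3 : 2 * Nat.card X₂ ≤ p * Nat.card X₂ := Nat.mul_le_mul_right _ hp2
          omega
        obtain ⟨m₁, hm₁, hg₁⟩ := ih Y (by omega) hYinv hYnd
        obtain ⟨m₂, hm₂, hg₂⟩ := ih X₂ (by omega) hX₂inv hX₂nd
        exact ⟨m₁ + m₂, card_combine hppos hm₁ hm₂ hX₂card, hg₁.add hg₂⟩
    · -- Y abelian
      have hYab : ∀ u ∈ Y, ∀ v ∈ Y, u * v = v * u := by
        intro u hu v hv
        have : u ∈ Y ⊓ Subgroup.centralizer (Y : Set Q) := by rw [hC₀]; exact hu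
        exact mem_cent_iff.mp (Subgroup.mem_inf.mp this).2 v hv
      obtain ⟨X₁, hX₁inv, hX₁nd, hX₁X, hYX₁, hX₁card⟩ :=
        hyperbolic hQ hz hfz hcop hXinv hX hYinv hZY hYX hYab
      obtain ⟨e, he⟩ := ((isPGroup hQ).to_subgroup Y).exists_card_eq
      have he1 : 1 ≤ e := by
        rcases Nat.eq_zero_or_pos e with h0 | h0
        · exfalso
          rw [h0, pow_zero] at he
          have : 4 ≤ p * p := Nat.mul_le_mul hp2 hp2
          omega
        · exact h0
      obtain ⟨d, rfl⟩ : ∃ d, e = d + 1 := ⟨e - 1, by omega⟩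
      have hX₁c : Nat.card X₁ = p ^ (2 * d + 1) := by
        have : Nat.card X₁ * p = p ^ (2 * d + 1) * p := by
          rw [hX₁card, he, ← pow_add, ← pow_succ]
          congr 1; ring
        exact Nat.eq_of_mul_eq_mul_right hppos this
      have hgd : Good (Nat.card A) p d := by
        apply good_of_dvd_sub hppos hcop
        have := free_dvd hfz hfree hYinv hZY
        rwa [he, hcardN] at this
      by_cases hX₁eq : X₁ = X
      · exact ⟨d, by rw [← hX₁eq, hX₁c], hgd⟩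
      · obtain ⟨hX₂nd, hX₂card⟩ := split hQ hz hX hX₁nd hX₁X
        set X₂ := X ⊓ Subgroup.centralizer (X₁ : Set Q) with hX₂
        have hX₂inv : Inv A X₂ := hXinv.inf hX₁inv.cent
        have hX₂pos : 0 < Nat.card X₂ := Nat.card_pos
        have hX₁ge : p * p ≤ Nat.card X₁ := hYcard.trans (Subgroup.card_le_of_le hYX₁)
        have hX₂lt : Nat.card X₂ < Nat.card X := by
          have h1 : p * p * Nat.card X₂ ≤ p * Nat.card X := by
            rw [← hX₂card]; exact Nat.mul_le_mul_right _ hX₁ge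
          have h2 : p * Nat.card X₂ ≤ Nat.card X := by
            rw [mul_assoc] at h1
            exact Nat.le_of_mul_le_mul_left h1 hppos
          have h3 : 2 * Nat.card X₂ ≤ p * Nat.card X₂ := Nat.mul_le_mul_right _ hp2
          omega
        obtain ⟨m₂, hm₂, hg₂⟩ := ih X₂ (by omega) hX₂inv hX₂nd
        exact ⟨d + m₂, card_combine hppos hX₁c hm₂ hX₂card, hgd.add hg₂⟩

/-- Cyclic `p'`-group acting on an extraspecial-like group with all fixed points central. -/
theorem main [Finite Q] [Finite A] [hp : Fact p.Prime] (hQ : XCond p (⊤ : Subgroup Q) z)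
    (hz : z ≠ 1) (a₀ : A) (hgen : ∀ b : A, b ∈ Subgroup.zpowers a₀)
    (hfz : ∀ a : A, a • z = z)
    (hfree : ∀ a : A, a ≠ 1 → ∀ x : Q, a • x = x → x ∈ Subgroup.zpowers z)
    (hcop : (Nat.card A).Coprime p) (n : ℕ) (hn : Nat.card Q = p ^ (2 * n + 1)) :
    Nat.card A ∣ p ^ n + 1 ∨ Nat.card A ∣ p ^ n - 1 := by
  have hND : ND z (⊤ : Subgroup Q) :=
    ⟨le_top, fun g _ hg => hQ.cent g (Subgroup.mem_top _) hg⟩
  have hInv : Inv A (⊤ : Subgroup Q) := fun _ _ _ => Subgroup.mem_top _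
  obtain ⟨m, hm, hg⟩ := main_ind hQ hz a₀ hgen hfz hfree hcop _ ⊤ le_rfl hInv hND
  rw [Subgroup.card_top, hn] at hm
  have : 2 * n + 1 = 2 * m + 1 := Nat.pow_right_injective hp.out.two_le hm
  have hnm : n = m := by omega
  rw [hnm]
  exact hg.dvd hp.out.pos

end Action

end Cfsg.Agent.Lib.helper17.SympMain
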