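import Mathlib
import Cfsg.Agent.Lib.helper3.T2E.Defs3

/-!
# T2E (S2108), row R6 `cone_wk` (helper17): the cones `InCone a b ·` are stable under the simple reflections
`wk k` of the twisted Weyl group `W(F₄)`.

`pv2 (wk k r) = pv2 r - ℓ_k (pv2 r) • v_k` with `v_k` the sum of the simple roots of the `k`-th orbit and
`ℓ_k (v) = ∑ i, v i * A (j_k) i` (`j_k` the first simple root of the orbit, `A` the Cartan matrix): a linear map, checked
on the 72 roots by kernel evaluation; linear maps preserve the relation `pv2 c = x * pv2 a + y * pv2 b`.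
-/

set_option autoImplicit false

namespace Cfsg.Agent.Lib.helper3.T2E

open Cfsg.Lie Cfsg.Lie.ChevalleyDatum Matrix
open Cfsg.Agent.Lib.helper8 Cfsg.Agent.Lib.Helper10.TEM

/-- the sum `v_k` of the simple roots of the `k`-th orbit, in coordinates -/
def t2er6h17_V (k i : ℕ) : ℤ :=
  (([[0, 1, 0, 0, 0, 0], [0, 0, 0, 1, 0, 0], [0, 0, 1, 0, 1, 0], [1, 0, 0, 0, 0, 1]] :
    List (List ℤ)).getD k []).getD i 0

/-- the row of the Cartan matrix of the first simple root of the `k`-th orbit -/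
def t2er6h17_A (k i : ℕ) : ℤ :=
  (([[0, 2, 0, -1, 0, 0], [0, -1, -1, 2, -1, 0], [-1, 0, 2, -1, 0, 0], [2, 0, -1, 0, 0, 0]] :
    List (List ℤ)).getD k []).getD i 0

theorem t2er6h17_refl : ∀ k < 4, ∀ r < 72, ∀ i < 6,
    pv2 (wk k r) i = pv2 r i -
      (pv2 r 0 * t2er6h17_A k 0 + pv2 r 1 * t2er6h17_A k 1 + pv2 r 2 * t2er6h17_A k 2 +
        pv2 r 3 * t2er6h17_A k 3 + pv2 r 4 * t2er6h17_A k 4 + pv2 r 5 * t2er6h17_A k 5) *
          t2er6h17_V k i := by
  decide +kernel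

theorem t2er6h17_lt : ∀ k < 4, ∀ r < 72, wk k r < 72 := by
  decide +kernel

-- ROW R6
theorem cone_wk : ∀ k < 4, ∀ a < 72, ∀ b < 72, ∀ c, InCone a b c →
    InCone (wk k a) (wk k b) (wk k c) := by
  intro k hk a ha b hb c hc
  obtain ⟨hc72, x, hx, y, hy, h⟩ := hc
  refine ⟨t2er6h17_lt k hk c hc72, x, hx, y, hy, fun i hi => ?_⟩
  have e1 := t2er6h17_refl k hk c hc72 i hi
  have e2 := t2er6h17_refl k hk a ha i hi
  have e3 := t2er6h17_refl k hk b hb i hi
  have h0 := h 0 (by norm_num)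
  have h1 := h 1 (by norm_num)
  have h2 := h 2 (by norm_num)
  have h3 := h 3 (by norm_num)
  have h4 := h 4 (by norm_num)
  have h5 := h 5 (by norm_num)
  have hi' := h i hi
  linear_combination e1 - x * e2 - y * e3 + hi' -
    t2er6h17_V k i * (t2er6h17_A k 0 * h0 + t2er6h17_A k 1 * h1 + t2er6h17_A k 2 * h2 +
      t2er6h17_A k 3 * h3 + t2er6h17_A k 4 * h4 + t2er6h17_A k 5 * h5)

end Cfsg.Agent.Lib.helper3.T2E
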