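import Mathlib
import Cfsg.Agent.Lib.helper3.T2E.Defs3

/-!
# T2E (S2108), row R9 `pair_table` (helper17): every independent pair of positive twisted roots is the image, under a
word in the simple reflections of `W(F₄)`, of one of the 18 representative pairs `repPairs` (certificates `pairCert`,
checked by kernel evaluation).
-/

set_option autoImplicit false

namespace Cfsg.Agent.Lib.helper3.T2E

open Cfsg.Lie Cfsg.Lie.ChevalleyDatum Matrix
open Cfsg.Agent.Lib.helper8 Cfsg.Agent.Lib.Helper10.TEM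

/-- the boolean check of the certificate `(i, l)` at the pair `(a, b)` -/
def t2er9h17_chk1 (a b i : ℕ) (l : List ℕ) : Bool :=
  decide (i < 18) && l.all (fun k => decide (k < 4)) &&
    (decide (wl l (repPairs.getD i (0, 0)).1 = a) || decide (wl l (repPairs.getD i (0, 0)).1 = h8sE6 a)) &&
    (decide (wl l (repPairs.getD i (0, 0)).2 = b) || decide (wl l (repPairs.getD i (0, 0)).2 = h8sE6 b))

/-- the boolean check of the table `pairCert` at the pair `(a, b)` -/
def t2er9h17_chk (a b : ℕ) : Bool :=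
  match pairCert.find? (fun e => decide (e.1 = min a (h8sE6 a)) && decide (e.2.1 = min b (h8sE6 b))) with
  | some e => t2er9h17_chk1 a b e.2.2.1 e.2.2.2
  | none => false

theorem t2er9h17_mem : ∀ i < 18, repPairs.getD i (0, 0) ∈ repPairs := by
  decide

theorem t2er9h17_of_chk1 (a b i : ℕ) (l : List ℕ) (h : t2er9h17_chk1 a b i l = true) :
    ∃ p ∈ repPairs, ∃ l : List ℕ, (∀ k ∈ l, k < 4) ∧ (wl l p.1 = a ∨ wl l p.1 = h8sE6 a) ∧
      (wl l p.2 = b ∨ wl l p.2 = h8sE6 b) := by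
  unfold t2er9h17_chk1 at h
  simp only [Bool.and_eq_true, Bool.or_eq_true, decide_eq_true_eq, List.all_eq_true] at h
  obtain ⟨⟨⟨hi, hl⟩, h1⟩, h2⟩ := h
  exact ⟨_, t2er9h17_mem i hi, l, hl, h1, h2⟩

theorem t2er9h17_of_chk (a b : ℕ) (h : t2er9h17_chk a b = true) :
    ∃ p ∈ repPairs, ∃ l : List ℕ, (∀ k ∈ l, k < 4) ∧ (wl l p.1 = a ∨ wl l p.1 = h8sE6 a) ∧
      (wl l p.2 = b ∨ wl l p.2 = h8sE6 b) := by
  unfold t2er9h17_chk at h
  split at h
  · exact t2er9h17_of_chk1 a b _ _ h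
  · exact absurd h (by simp)

theorem t2er9h17_all : ∀ a < 72, 36 ≤ a → ∀ b < 72, 36 ≤ b → Indep a b → t2er9h17_chk a b = true := by
  decide +kernel

-- ROW R9
theorem pair_table : ∀ a, 36 ≤ a → a < 72 → ∀ b, 36 ≤ b → b < 72 → Indep a b →
    ∃ p ∈ repPairs, ∃ l : List ℕ, (∀ k ∈ l, k < 4) ∧ (wl l p.1 = a ∨ wl l p.1 = h8sE6 a) ∧
      (wl l p.2 = b ∨ wl l p.2 = h8sE6 b) := by
  intro a ha ha' b hb hb' hab
  exact t2er9h17_of_chk a b (t2er9h17_all a ha' ha b hb' hb hab)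

end Cfsg.Agent.Lib.helper3.T2E
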