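import Cfsg.Agent.Lib.helper17.TS2C1A2core
import Cfsg.Agent.Lib.Lead.TS2SQZ
import Cfsg.Agent.Lib.Helper19.TS2C1A2B

/-!
# TS2 / C1A2 (helper17): `c1A_two`, verbatim vs `Helper27/TS2/Skel.lean.txt`
(= `ts2c1a2_core` + `sqz_kron` (Lead.TS2SQZ) + `c1A_two_B` (Helper19.TS2C1A2B)).
-/

set_option autoImplicit false
set_option linter.unusedSectionVars false
set_option linter.unusedVariables false

namespace Cfsg.Agent.Lib.Helper21.TS

open Matrix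
open scoped Kronecker
open Cfsg.Agent.Lib.helper7.TP

variable {b : ℕ} {F : Type*} [Field F]
variable {J1 : Matrix (Fin 2) (Fin 2) F} {J2 : Matrix (Fin b) (Fin b) F}
  {M : Subgroup (Matrix.GeneralLinearGroup (Fin 2 × Fin b) F)}

/-- C1A2 [M]. `a = 2`: C1 inside `M` on the `A` side. -/
theorem c1A_two (C : Ctx J1 J2) (hb : 7 ≤ b) (hT0 : T0 J1 J2 ≤ M) (hMS : M ≤ SpV J1 J2)
    (hL : LamF J1 M) {u : Fin 2 → F} (hu : u ≠ 0) {c : F} (hc : c ≠ 0)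
    (x : Matrix.GeneralLinearGroup (Fin 2 × Fin b) F)
    (hx : (x : Matrix (Fin 2 × Fin b) (Fin 2 × Fin b) F) = XAm J1 u (c • (1 : Matrix (Fin b) (Fin b) F)))
    (v : Matrix.GeneralLinearGroup (Fin 2 × Fin b) F) (hv : v ∈ M) (ht : v * x * v⁻¹ ∈ T0 J1 J2) :
    ∃ u' : Fin 2 → F, u' ≠ 0 ∧ ∀ z : Fin b → F, ∃ z' : Fin b → F,
      (v : Matrix (Fin 2 × Fin b) (Fin 2 × Fin b) F) *ᵥ ten u z = ten u' z' :=
  ts2c1a2_core (fun t ht hsq => sqz_kron C.two (by norm_num) (by omega) t ht hsq)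
    (fun {u} hu {c} hc x hx v hv N hN ht => c1A_two_B C hb hT0 hMS hL hu hc x hx v hv N hN ht)
    C (by omega) hu hc x hx v hv ht

end Cfsg.Agent.Lib.Helper21.TS
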