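import Cfsg.Agent.Lib.helper17.TS4NT4core
import Cfsg.Agent.Lib.Helper16.TS4UFPcore
import Cfsg.Agent.Lib.Helper21.TS4C1A
import Cfsg.Agent.Lib.Helper28.TS4MEET
import Cfsg.Agent.Lib.Helper29.TS4GEN
import Cfsg.Agent.Lib.helper6.TS4BURN

/-!
# TS4 / NT4 (helper17): `nt_world4`, verbatim vs `helper6/TS4/Skel.lean.txt`
(= `ts4nt4_core` + `ts4ufp_core` (Helper16) + `c1A_of_ntsA` (Helper21) + `meetA_of_ufpA` (Helper28) + `genA_of_meetA` (Helper29)
+ `burn_false` (helper6)).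
-/

set_option autoImplicit false
set_option linter.unusedSectionVars false
set_option linter.unusedVariables false

namespace Cfsg.Agent.Lib.Helper21.TS

open Matrix
open scoped Kronecker
open Cfsg.Agent.Lib.helper7.TP

variable {a b : ℕ} {F : Type*} [Field F]
variable {J1 : Matrix (Fin a) (Fin a) F} {J2 : Matrix (Fin b) (Fin b) F}

/-- NT4: the NT world for `4 ≤ a`. -/
theorem nt_world4 [Fintype F] (C : Ctx J1 J2) (ha : 4 ≤ a) (hb : 3 ≤ b)
    (M : Subgroup (Matrix.GeneralLinearGroup (Fin a × Fin b) F)) (hT0 : T0 J1 J2 ≤ M)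
    (hMS : M ≤ SpV J1 J2) (hN : NtsA J1 M) (hS : StabA M) : M ≤ T0 J1 J2 :=
  ts4nt4_core (by omega) M hMS
    (ts4ufp_core C M hMS hS
      (fun m hm u c hu hc ht => c1A_of_ntsA C (by omega) hb M hT0 hMS hN m hm u c hu hc ht))
    (fun p _ _ hU g hg u₀ u hu₀ hu => meetA_of_ufpA p C M hT0 hMS hU g hg u₀ u hu₀ hu)
    (fun g hg hgK u₀ hu₀ hME => genA_of_meetA C ha M hS g hg hgK u₀ hu₀ hME)
    (fun p _ _ g hg u₀ hu₀ hG => burn_false p C (by omega) (by omega) M hT0 hMS hS g hg u₀ hu₀ hG)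

end Cfsg.Agent.Lib.Helper21.TS
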