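import Cfsg.Agent.Lib.helper4.TSD.Defs
import Cfsg.Agent.Lib.Helper16.JS1

/-!
# Project TSD (S5980), row SKEW, second copy (helper17): a skew-symmetric matrix (`2 ≠ 0`) has even rank.
Wrapper of `Cfsg.Agent.Lib.Helper16.JS.even_rank_of_alt` (alternating matrices have even rank).
-/

set_option autoImplicit false

namespace Cfsg.Agent.Lib.helper4.TSD

open Matrix
open scoped Kronecker

variable {F : Type*} [Field F]

/-- SKEW (second copy, exact statement of `tsd_skew_rank_even`). -/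
theorem tsdskew_h17_rank_even (h2 : (2 : F) ≠ 0) {n : ℕ} (M : Matrix (Fin n) (Fin n) F) (hM : Mᵀ = -M) :
    Even M.rank := by
  apply Cfsg.Agent.Lib.Helper16.JS.even_rank_of_alt M
  intro v
  have h1 : v ⬝ᵥ M *ᵥ v = -(v ⬝ᵥ M *ᵥ v) := by
    calc v ⬝ᵥ M *ᵥ v = (v ᵥ* M) ⬝ᵥ v := Matrix.dotProduct_mulVec v M v
      _ = (Mᵀ *ᵥ v) ⬝ᵥ v := by rw [Matrix.mulVec_transpose]
      _ = ((-M) *ᵥ v) ⬝ᵥ v := by rw [hM]
      _ = -((M *ᵥ v) ⬝ᵥ v) := by rw [Matrix.neg_mulVec, neg_dotProduct]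
      _ = -(v ⬝ᵥ M *ᵥ v) := by rw [dotProduct_comm]
  have h3 : (2 : F) * (v ⬝ᵥ M *ᵥ v) = 0 := by
    rw [two_mul]
    nth_rewrite 1 [h1]
    exact neg_add_cancel _
  rcases mul_eq_zero.mp h3 with h | h
  · exact absurd h h2
  · exact h

end Cfsg.Agent.Lib.helper4.TSD
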