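import Mathlib

set_option autoImplicit false

namespace Cfsg.Agent.Lib.helper17

/-- A maximal subgroup of a finite `p`-group has index `p`. -/
theorem index_of_isCoatom_of_isPGroup {P : Type*} [Group P] [Finite P] {p : ℕ} [hp : Fact p.Prime]
    (hP : IsPGroup p P) {M : Subgroup P} (hM : IsCoatom M) : M.index = p := by
  have hnil : Group.IsNilpotent P := hP.isNilpotent
  have hMn : M.Normal := Subgroup.NormalizerCondition.normal_of_coatom M Group.normalizerCondition_of_isNilpotent hM
  have hQ : IsPGroup p (P ⧸ M) := hP.to_quotient M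
  have hnt : Nontrivial (P ⧸ M) := by
    rw [← Finite.one_lt_card_iff_nontrivial, ← Subgroup.index_eq_card]
    have h1 : M.index ≠ 1 := fun h => hM.1 (Subgroup.index_eq_one.mp h)
    have h0 : M.index ≠ 0 := Subgroup.index_ne_zero_of_finite
    omega
  obtain ⟨n, hn0, hn⟩ := (hQ.nontrivial_iff_card).mp hnt
  have hdvd : p ∣ Nat.card (P ⧸ M) := by
    rw [hn]; exact dvd_pow_self p hn0.ne'
  obtain ⟨gbar, hg⟩ := exists_prime_orderOf_dvd_card' p hdvd
  obtain ⟨g, rfl⟩ := QuotientGroup.mk'_surjective M gbar
  have hgM : g ∉ M := by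
    intro h
    have : (QuotientGroup.mk' M) g = 1 := (QuotientGroup.eq_one_iff g).mpr h
    rw [this, orderOf_one] at hg
    exact hp.out.one_lt.ne hg
  have hlt : M < (Subgroup.zpowers ((QuotientGroup.mk' M) g)).comap (QuotientGroup.mk' M) := by
    refine lt_of_le_of_ne ?_ ?_
    · intro m hm
      rw [Subgroup.mem_comap]
      have : (QuotientGroup.mk' M) m = 1 := (QuotientGroup.eq_one_iff m).mpr hm
      rw [this]
      exact Subgroup.one_mem _
    · intro h
      apply hgM
      rw [h, Subgroup.mem_comap]
      exact Subgroup.mem_zpowers _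
  have htop := hM.2 _ hlt
  have htop' : Subgroup.zpowers ((QuotientGroup.mk' M) g) = ⊤ := by
    rw [eq_top_iff]
    intro x _
    obtain ⟨y, rfl⟩ := QuotientGroup.mk'_surjective M x
    have : y ∈ (Subgroup.zpowers ((QuotientGroup.mk' M) g)).comap (QuotientGroup.mk' M) := by
      rw [htop]; exact Subgroup.mem_top y
    exact this
  rw [Subgroup.index_eq_card, ← Nat.card_congr (Subgroup.topEquiv (G := P ⧸ M)).toEquiv, ← htop',
    Nat.card_zpowers]
  exact hg

/-- The sign homomorphism attached to a subgroup of index 2. -/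
noncomputable def signHomOfIndexTwo {P : Type*} [Group P] (M : Subgroup P) (h : M.index = 2) : P →* ℤˣ := by
  classical
  exact
  { toFun := fun x => if x ∈ M then 1 else -1
    map_one' := by simp [M.one_mem]
    map_mul' := by
      intro a b
      by_cases ha : a ∈ M <;> by_cases hb : b ∈ M <;>
        simp [ha, hb, Subgroup.mul_mem_iff_of_index_two h] }

theorem signHomOfIndexTwo_apply_of_mem {P : Type*} [Group P] (M : Subgroup P) (h : M.index = 2) {x : P}
    (hx : x ∈ M) : signHomOfIndexTwo M h x = 1 := by
  classical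
  simp [signHomOfIndexTwo, hx]

theorem signHomOfIndexTwo_apply_of_not_mem {P : Type*} [Group P] (M : Subgroup P) (h : M.index = 2) {x : P}
    (hx : x ∉ M) : signHomOfIndexTwo M h x = -1 := by
  classical
  simp [signHomOfIndexTwo, hx]

/-- A product of signs. -/
theorem prod_units_int {ι : Type*} [Fintype ι] (t : ι → ℤˣ) :
    ∏ i, t i = (-1) ^ Nat.card {i // t i = -1} := by
  classical
  have h1 : ∀ i, t i = if t i = -1 then -1 else 1 := by
    intro i
    rcases Int.units_eq_one_or (t i) with h | h
    · rw [h]; simp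
    · rw [h]; simp
  have h2 : ∏ i, t i = ∏ i, (if t i = -1 then (-1 : ℤˣ) else 1) := Finset.prod_congr rfl (fun i _ => h1 i)
  rw [h2, Finset.prod_ite, Finset.prod_const, Finset.prod_const_one, mul_one,
    Nat.card_eq_fintype_card, Fintype.card_subtype]

end Cfsg.Agent.Lib.helper17
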