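import Mathlib
import Cfsg.Agent.Lib.helper17.TransferTwo
import Cfsg.Agent.Lib.helper17.PRed6

set_option autoImplicit false

namespace Cfsg.Agent.Lib.helper17

variable {G : Type*} [Group G]

/-- The value of `ϕ` at the conjugate `x⁻¹ z x` when it lies in `S`, and `1` otherwise. -/
noncomputable def conjVal (S : Subgroup G) (ϕ : ↥S →* ℤˣ) (z x : G) : ℤˣ := by
  classical
  exact if h : x⁻¹ * z * x ∈ S then ϕ ⟨x⁻¹ * z * x, h⟩ else 1

theorem conjVal_of_mem (S : Subgroup G) (ϕ : ↥S →* ℤˣ) (z x : G) (h : x⁻¹ * z * x ∈ S) :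
    conjVal S ϕ z x = ϕ ⟨x⁻¹ * z * x, h⟩ := by
  classical
  unfold conjVal
  rw [dif_pos h]

theorem conjVal_of_not_mem (S : Subgroup G) (ϕ : ↥S →* ℤˣ) (z x : G) (h : x⁻¹ * z * x ∉ S) :
    conjVal S ϕ z x = 1 := by
  classical
  unfold conjVal
  rw [dif_neg h]

theorem mem_of_conjVal_eq_neg_one {S : Subgroup G} {ϕ : ↥S →* ℤˣ} {z x : G}
    (h : conjVal S ϕ z x = -1) : x⁻¹ * z * x ∈ S := by
  by_contra hn
  rw [conjVal_of_not_mem S ϕ z x hn] at h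
  exact absurd h (by decide)

theorem conjVal_mul_right (S : Subgroup G) (ϕ : ↥S →* ℤˣ) (z x : G) {s : G} (hs : s ∈ S) :
    conjVal S ϕ z (x * s) = conjVal S ϕ z x := by
  have e : (x * s)⁻¹ * z * (x * s) = s⁻¹ * (x⁻¹ * z * x) * s := by group
  by_cases h : x⁻¹ * z * x ∈ S
  · have h' : (x * s)⁻¹ * z * (x * s) ∈ S := by
      rw [e]; exact S.mul_mem (S.mul_mem (S.inv_mem hs) h) hs
    rw [conjVal_of_mem S ϕ z x h, conjVal_of_mem S ϕ z (x * s) h']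
    have : (⟨(x * s)⁻¹ * z * (x * s), h'⟩ : ↥S) = (⟨s, hs⟩ : ↥S)⁻¹ * ⟨x⁻¹ * z * x, h⟩ * ⟨s, hs⟩ :=
      Subtype.ext e
    rw [this, map_mul, map_mul, map_inv, mul_comm, ← mul_assoc, mul_inv_cancel, one_mul]
  · have h' : (x * s)⁻¹ * z * (x * s) ∉ S := by
      intro h'
      apply h
      have e' : x⁻¹ * z * x = s * ((x * s)⁻¹ * z * (x * s)) * s⁻¹ := by group
      rw [e']; exact S.mul_mem (S.mul_mem hs h') (S.inv_mem hs)
    rw [conjVal_of_not_mem S ϕ z x h, conjVal_of_not_mem S ϕ z (x * s) h']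

theorem conjVal_mul_left (S : Subgroup G) (ϕ : ↥S →* ℤˣ) (z x : G) {s : G} (hs : s * z = z * s) :
    conjVal S ϕ z (s * x) = conjVal S ϕ z x := by
  have e : (s * x)⁻¹ * z * (s * x) = x⁻¹ * z * x := by
    have : (s * x)⁻¹ * z * (s * x) = x⁻¹ * (s⁻¹ * (z * s)) * x := by group
    rw [this, ← hs]; group
  unfold conjVal
  rw [e]

theorem conjVal_out_smul (S : Subgroup G) (ϕ : ↥S →* ℤˣ) (z : G) (hzc : ∀ s ∈ S, s * z = z * s)
    (s : ↥S) (c : G ⧸ S) : conjVal S ϕ z (s • c).out = conjVal S ϕ z c.out := by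
  have h1 : s • c = ((s : G) * c.out : G) := by
    conv_lhs => rw [← QuotientGroup.out_eq' c]
    rfl
  obtain ⟨h, hh⟩ := QuotientGroup.mk_out_eq_mul S ((s : G) * c.out)
  rw [h1, hh, conjVal_mul_right S ϕ z _ h.2, conjVal_mul_left S ϕ z _ (hzc s s.2)]

theorem smul_eq_iff_conj_mem (S : Subgroup G) (z : G) (c : G ⧸ S) :
    z • c = c ↔ c.out⁻¹ * z * c.out ∈ S := by
  conv_lhs => rw [← QuotientGroup.out_eq' c]
  have : z • ((c.out : G) : G ⧸ S) = ((z * c.out : G) : G ⧸ S) := rfl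
  rw [this, eq_comm, QuotientGroup.eq, mul_assoc]

end Cfsg.Agent.Lib.helper17
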