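import Mathlib
import Cfsg.Agent.Lib.helper17.TransferTwo2

set_option autoImplicit false

namespace Cfsg.Agent.Lib.helper17

variable {G : Type*} [Group G]

open MulAction in
/-- The cosets `c` with `conjVal c.out = -1` form an `S`-invariant set. -/
def negCosets (S : Subgroup G) (ϕ : ↥S →* ℤˣ) (z : G) (hzc : ∀ s ∈ S, s * z = z * s) :
    SubMulAction ↥S (G ⧸ S) where
  carrier := {c | conjVal S ϕ z c.out = -1}
  smul_mem' := by
    intro s c hc
    rw [Set.mem_ofPred_eq] at hc ⊢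
    rw [conjVal_out_smul S ϕ z hzc, hc]

theorem mem_negCosets (S : Subgroup G) (ϕ : ↥S →* ℤˣ) (z : G) (hzc : ∀ s ∈ S, s * z = z * s)
    (c : G ⧸ S) : c ∈ negCosets S ϕ z hzc ↔ conjVal S ϕ z c.out = -1 := Iff.rfl

/-- The number of cosets with `conjVal = -1` is odd. -/
theorem odd_card_negCosets [Finite G] (S : Sylow 2 G) (ϕ : ↥(S : Subgroup G) →* ℤˣ) (z : G)
    (hzS : z ∈ (S : Subgroup G)) (hzc : ∀ s ∈ (S : Subgroup G), s * z = z * s)
    (hN : ∀ g ∈ Subgroup.normalizer ((S : Subgroup G) : Set G), g * z * g⁻¹ = z)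
    (hϕ : ϕ ⟨z, hzS⟩ = -1) :
    Odd (Nat.card {c : G ⧸ (S : Subgroup G) // conjVal (S : Subgroup G) ϕ z c.out = -1}) := by
  have hp : IsPGroup 2 ↥(S : Subgroup G) := S.2
  have h1 := hp.card_modEq_card_fixedPoints ↥(negCosets (S : Subgroup G) ϕ z hzc)
  have h2 := hp.card_modEq_card_fixedPoints (G ⧸ (S : Subgroup G))
  -- fixed cosets have `conjVal = -1`
  have hfix : ∀ c : G ⧸ (S : Subgroup G), c ∈ MulAction.fixedPoints ↥(S : Subgroup G) (G ⧸ (S : Subgroup G)) →
      conjVal (S : Subgroup G) ϕ z c.out = -1 := by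
    intro c hc
    have hle : (S : Subgroup G) ≤ cj c.out (S : Subgroup G) := by
      intro s hs
      rw [mem_cj]
      have := hc ⟨s, hs⟩
      have h' : s • c = c := this
      exact (smul_eq_iff_conj_mem (S : Subgroup G) s c).mp h'
    have hnorm : c.out ∈ Subgroup.normalizer ((S : Subgroup G) : Set G) :=
      cj_eq_self_iff.mp (cj_eq_of_le_cj hle)
    have hz := hN _ (Subgroup.inv_mem _ hnorm)
    rw [inv_inv] at hz
    have hmem : c.out⁻¹ * z * c.out ∈ (S : Subgroup G) := by rw [hz]; exact hzS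
    rw [conjVal_of_mem _ ϕ z _ hmem, ← hϕ]
    congr 1
    exact Subtype.ext hz
  have h3 : Nat.card (MulAction.fixedPoints ↥(S : Subgroup G) ↥(negCosets (S : Subgroup G) ϕ z hzc)) =
      Nat.card (MulAction.fixedPoints ↥(S : Subgroup G) (G ⧸ (S : Subgroup G))) := by
    apply Nat.card_congr
    refine ⟨fun c => ⟨c.1.1, fun s => ?_⟩, fun c => ⟨⟨c.1, hfix c.1 c.2⟩, fun s => ?_⟩, fun c => rfl, fun c => rfl⟩
    · have := c.2 s
      exact congrArg Subtype.val this
    · apply Subtype.ext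
      exact c.2 s
  have h4 : ¬ 2 ∣ Nat.card (G ⧸ (S : Subgroup G)) := by
    rw [← Subgroup.index_eq_card]
    exact S.not_dvd_index
  have h5 : Nat.card ↥(negCosets (S : Subgroup G) ϕ z hzc) =
      Nat.card {c : G ⧸ (S : Subgroup G) // conjVal (S : Subgroup G) ϕ z c.out = -1} := rfl
  rw [← h5, Nat.odd_iff]
  rw [h3] at h1
  have h6 := h1.trans h2.symm
  unfold Nat.ModEq at h6
  omega

end Cfsg.Agent.Lib.helper17
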