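import Mathlib
import Cfsg.Agent.Lib.helper17.TransferTwo3

set_option autoImplicit false

namespace Cfsg.Agent.Lib.helper17

variable {G : Type*} [Group G]

open MulAction in
theorem transfer_eq_neg_one [Finite G] (S : Sylow 2 G) (ϕ : ↥(S : Subgroup G) →* ℤˣ) (z : G)
    (hzS : z ∈ (S : Subgroup G)) (hzc : ∀ s ∈ (S : Subgroup G), s * z = z * s) (hz2 : z * z = 1)
    (hN : ∀ g ∈ Subgroup.normalizer ((S : Subgroup G) : Set G), g * z * g⁻¹ = z)
    (hϕ : ϕ ⟨z, hzS⟩ = -1) : MonoidHom.transfer ϕ z = -1 := by
  classical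
  have : Fintype (Quotient (orbitRel (Subgroup.zpowers z) (G ⧸ (S : Subgroup G)))) := Fintype.ofFinite _
  rw [MonoidHom.transfer_eq_prod_quotient_orbitRel_zpowers_quot, prod_units_int]
  apply Odd.neg_one_pow
  -- Claim A
  have hA : ∀ q : Quotient (orbitRel (Subgroup.zpowers z) (G ⧸ (S : Subgroup G))),
      ϕ ⟨q.out.out⁻¹ * z ^ Function.minimalPeriod (z • ·) q.out * q.out.out,
        QuotientGroup.out_conj_pow_minimalPeriod_mem (S : Subgroup G) z q.out⟩ = -1 ↔
      conjVal (S : Subgroup G) ϕ z q.out.out = -1 := by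
    intro q
    have hper : Function.IsPeriodicPt (z • ·) 2 q.out := by
      change (z • ·)^[2] q.out = q.out
      simp only [Function.iterate_succ, Function.iterate_zero, Function.comp_apply, id_eq]
      rw [smul_smul, hz2, one_smul]
    have hdvd : Function.minimalPeriod (z • ·) q.out ∣ 2 := hper.minimalPeriod_dvd
    by_cases hfix : z • q.out = q.out
    · have hn : Function.minimalPeriod (z • ·) q.out = 1 :=
        Function.minimalPeriod_eq_one_iff_isFixedPt.mpr hfix
      have hmem := (smul_eq_iff_conj_mem (S : Subgroup G) z q.out).mp hfix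
      rw [conjVal_of_mem _ ϕ z _ hmem]
      have : (⟨q.out.out⁻¹ * z ^ Function.minimalPeriod (z • ·) q.out * q.out.out,
        QuotientGroup.out_conj_pow_minimalPeriod_mem (S : Subgroup G) z q.out⟩ : ↥(S : Subgroup G)) =
        ⟨q.out.out⁻¹ * z * q.out.out, hmem⟩ := by
        apply Subtype.ext
        simp only [hn, pow_one]
      rw [this]
    · have hn1 : Function.minimalPeriod (z • ·) q.out ≠ 1 := by
        intro h
        exact hfix (Function.minimalPeriod_eq_one_iff_isFixedPt.mp h)
      have hn : Function.minimalPeriod (z • ·) q.out = 2 := by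
        rcases (Nat.dvd_prime Nat.prime_two).mp hdvd with h | h
        · exact absurd h hn1
        · exact h
      have hnm : q.out.out⁻¹ * z * q.out.out ∉ (S : Subgroup G) :=
        fun h => hfix ((smul_eq_iff_conj_mem (S : Subgroup G) z q.out).mpr h)
      rw [conjVal_of_not_mem _ ϕ z _ hnm]
      have : (⟨q.out.out⁻¹ * z ^ Function.minimalPeriod (z • ·) q.out * q.out.out,
        QuotientGroup.out_conj_pow_minimalPeriod_mem (S : Subgroup G) z q.out⟩ : ↥(S : Subgroup G)) = 1 := by
        apply Subtype.ext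
        simp only [hn, pow_two, hz2, mul_one, inv_mul_cancel, Subgroup.coe_one]
      rw [this, map_one]
  have hB : Nat.card {q : Quotient (orbitRel (Subgroup.zpowers z) (G ⧸ (S : Subgroup G))) //
      ϕ ⟨q.out.out⁻¹ * z ^ Function.minimalPeriod (z • ·) q.out * q.out.out,
        QuotientGroup.out_conj_pow_minimalPeriod_mem (S : Subgroup G) z q.out⟩ = -1} =
      Nat.card {c : G ⧸ (S : Subgroup G) // conjVal (S : Subgroup G) ϕ z c.out = -1} := by
    apply Nat.card_congr
    refine Equiv.ofBijective (fun q => ⟨q.1.out, (hA q.1).mp q.2⟩) ⟨?_, ?_⟩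
    · intro q1 q2 h
      apply Subtype.ext
      have : q1.1.out = q2.1.out := congrArg Subtype.val h
      exact Quotient.out_injective this
    · intro c
      have hmem := mem_of_conjVal_eq_neg_one c.2
      have hfix : z • c.1 = c.1 := (smul_eq_iff_conj_mem (S : Subgroup G) z c.1).mpr hmem
      have hout : (Quotient.mk'' c.1 : Quotient (orbitRel (Subgroup.zpowers z) (G ⧸ (S : Subgroup G)))).out = c.1 := by
        have hrel := Quotient.mk_out (s := orbitRel (Subgroup.zpowers z) (G ⧸ (S : Subgroup G))) c.1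
        have hrel' : (Quotient.mk'' c.1 : Quotient (orbitRel (Subgroup.zpowers z) (G ⧸ (S : Subgroup G)))).out ∈
            orbit (Subgroup.zpowers z) c.1 := hrel
        obtain ⟨g, hg⟩ := hrel'
        rw [← hg]
        have hstab : Subgroup.zpowers z ≤ stabilizer G c.1 := by
          rw [Subgroup.zpowers_le]
          exact hfix
        exact hstab g.2
      refine ⟨⟨Quotient.mk'' c.1, (hA _).mpr ?_⟩, ?_⟩
      · rw [hout]; exact c.2
      · apply Subtype.ext
        exact hout
  rw [hB]
  exact odd_card_negCosets S ϕ z hzS hzc hN hϕ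

end Cfsg.Agent.Lib.helper17
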